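import Cfsg.Agent.H19.NilpotentStar

/-!
The characters of a nilpotent block, for a given defect group.
-/

set_option autoImplicit false
set_option linter.unusedSectionVars false
set_option linter.style.haveILetI false

open Cfsg

namespace H19.NilpotentMain

universe u

variable {G : Type u} [Group G] [Fintype G] {p : ℕ} [hp : Fact p.Prime] {M : Ideal AlgInt}
  [hMp : M.IsPrime] [CharP (H20.k M) p] [IsAlgClosed (H20.k M)]

/-- The parametrisation by the characters of a defect group. -/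
theorem exists_param (hM : IsPModular p M) {B : Set (IrrCharacter G)}
    (hnil : IsNilpotentBlock p M B) {P : Subgroup G} (hP : IsDefectGroup p M B P) :
    ∃ χ ∈ B, blockHeight p B (χ : G → ℂ) = 0 ∧ ∃ Ψ : IrrCharacter P → IrrCharacter G,
      Function.Injective Ψ ∧ (∀ η, Ψ η ∈ B) ∧ (∀ ψ ∈ B, ∃ η, Ψ η = ψ) ∧
      ∀ η : IrrCharacter P, ∃ d : ℕ, d = charDegree (η : P → ℂ) ∧ 0 < d ∧
        charDegree (Ψ η : G → ℂ) = d * charDegree (χ : G → ℂ) ∧
        ∀ g : G, pRegularPart p (Ψ η : G → ℂ) g = (d : ℂ) * pRegularPart p (χ : G → ℂ) g := by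
  classical
  haveI : ∀ x : G, Fintype (Subgroup.centralizer ({x} : Set G)) := fun x => Fintype.ofFinite _
  haveI : ∀ x : G, Fintype {e : Set (IrrCharacter (Subgroup.centralizer ({x} : Set G))) //
      IsPBlock M e} := fun x => Fintype.ofFinite _
  obtain ⟨f, hf⟩ := H23.exists_maxPair_defect hnil.1 hM hP
  obtain ⟨e, he, rfl⟩ := H23.exists_of_isPair hf.1
  obtain ⟨χ, hχ, h0, Ψ, hinj, hmem, hsurj, hreg⟩ :=
    NilpotentStar.main hM (H23.isMaximalBrauerPair_of hnil.1 he hf) hnil
  refine ⟨χ, hχ, h0, Ψ, hinj, hmem, hsurj, fun η => ?_⟩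
  obtain ⟨d, hd, -⟩ := H16.char_one_nat (H12.isCharacter_irr η)
  obtain ⟨m, hm, -⟩ := H16.char_one_nat (H12.isCharacter_irr χ)
  have hd0 : 0 < d := Nat.pos_of_ne_zero fun h => H12.irr_apply_one_ne_zero η (by
    rw [hd, h, Nat.cast_zero])
  have hdeg : charDegree (η : P → ℂ) = d := by simp [charDegree, hd]
  have hdegχ : charDegree (χ : G → ℂ) = m := by simp [charDegree, hm]
  refine ⟨d, hdeg.symm, hd0, ?_, fun g => by rw [hreg η g, hd]⟩
  have h1 := hreg η 1
  have hp1 : ¬ p ∣ orderOf (1 : G) := by rw [orderOf_one]; exact hp.out.not_dvd_one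
  rw [H22.pRegularPart_of_not_dvd _ hp1, H22.pRegularPart_of_not_dvd _ hp1, hd, hm,
    ← Nat.cast_mul] at h1
  rw [hdegχ]
  simp only [charDegree, h1, Complex.natCast_re, Nat.floor_natCast]

end H19.NilpotentMain
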