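import Cfsg.Agent.H19.GaloisAvg
import Cfsg.Agent.H20.Block

set_option autoImplicit false
set_option linter.unusedSectionVars false

/-!
Integer polynomials at roots of unity of two-power order modulo a maximal ideal above `2`:
divisibility and Galois averages.
-/

open Cfsg Polynomial
open scoped ComplexConjugate

namespace H19.Dyadic

variable {M : Ideal AlgInt} [hMp : M.IsPrime]

/-- Half of the order. -/
theorem two_pow_succ_half (a : ℕ) : (2 : ℕ) ^ (a + 1) = 2 * 2 ^ a := by ring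

theorem pow_half_eq_neg_one {a : ℕ} {ζ : ℂ} (hζ : IsPrimitiveRoot ζ (2 ^ (a + 1))) :
    ζ ^ 2 ^ a = -1 :=
  (hζ.pow (by positivity) (by ring)).eq_neg_one_of_two_right

theorem odd_of_mem_units {a j : ℕ} (hj : j ∈ H19.units' (2 ^ (a + 1))) : Odd j := by
  rw [Nat.odd_iff]
  have h := (H19.mem_units'.1 hj).2
  rw [Nat.coprime_pow_left_iff (by omega)] at h
  have := (Nat.Prime.coprime_iff_not_dvd Nat.prime_two).1 h
  omega

/-- The sum of the odd powers of a root vanishes. -/
theorem sum_units_pow {a : ℕ} {ζ : ℂ} (hζ : IsPrimitiveRoot ζ (2 ^ (a + 1))) {i : ℕ} (hi : 0 < i)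
    (hi' : i < 2 ^ a) : ∑ j ∈ H19.units' (2 ^ (a + 1)), (ζ ^ j) ^ i = 0 := by
  have hset : H19.units' (2 ^ (a + 1)) = (Finset.range (2 ^ a)).image (fun t => 2 * t + 1) := by
    ext j
    simp only [Finset.mem_image, Finset.mem_range, H19.mem_units']
    constructor
    · intro hj
      obtain ⟨t, rfl⟩ := odd_of_mem_units (H19.mem_units'.2 hj)
      exact ⟨t, by rw [two_pow_succ_half] at hj; omega, rfl⟩
    · rintro ⟨t, ht, rfl⟩
      refine ⟨by rw [two_pow_succ_half]; omega, ?_⟩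
      rw [Nat.coprime_pow_left_iff (by omega), Nat.Prime.coprime_iff_not_dvd Nat.prime_two]
      omega
  rw [hset, Finset.sum_image (fun x _ y _ h => by simpa using h)]
  set w := ζ ^ (2 * i) with hw
  have hw1 : w ≠ 1 := by
    intro h
    have := hζ.dvd_of_pow_eq_one _ h
    have := Nat.le_of_dvd (by omega) this
    rw [two_pow_succ_half] at this
    omega
  have hwn : w ^ 2 ^ a = 1 := by
    rw [hw, ← pow_mul, show 2 * i * 2 ^ a = 2 ^ (a + 1) * i by ring, pow_mul, hζ.pow_eq_one, one_pow]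
  calc ∑ t ∈ Finset.range (2 ^ a), (ζ ^ (2 * t + 1)) ^ i
      = ζ ^ i * ∑ t ∈ Finset.range (2 ^ a), w ^ t := by
        rw [Finset.mul_sum]
        refine Finset.sum_congr rfl fun t _ => ?_
        rw [hw, ← pow_mul, ← pow_mul, ← pow_add]
        ring_nf
    _ = 0 := by rw [geom_sum_eq hw1, hwn, sub_self, zero_div, mul_zero]

/-- An integer polynomial of small degree vanishing at the root is zero. -/
theorem eq_zero_of_degree_lt {a : ℕ} {ζ : ℂ} (hζ : IsPrimitiveRoot ζ (2 ^ (a + 1))) {P : ℤ[X]}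
    (hP : P.degree < ((2 ^ a : ℕ) : WithBot ℕ)) (h : aeval ζ P = 0) : P = 0 := by
  by_contra hne
  have hpos : 0 < 2 ^ (a + 1) := by positivity
  have hint := hζ.isIntegral hpos
  have hdvd := minpoly.isIntegrallyClosed_dvd hint h
  rw [← cyclotomic_eq_minpoly hζ hpos] at hdvd
  have := natDegree_le_of_dvd hdvd hne
  rw [natDegree_cyclotomic, Nat.totient_prime_pow Nat.prime_two (by omega)] at this
  have h2 : P.natDegree < 2 ^ a := (natDegree_lt_iff_degree_lt hne).2 hP
  simp only [Nat.add_sub_cancel, show (2 - 1 : ℕ) = 1 from rfl, mul_one] at this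
  omega

theorem aeval_conj_eq {n : ℕ} (hn : 0 < n) {ζ μ : ℂ} (hζ : IsPrimitiveRoot ζ n)
    (hμ : IsPrimitiveRoot μ n) {P Q : ℤ[X]} (h : aeval ζ P = aeval ζ Q) :
    aeval μ P = aeval μ Q := by
  by_contra hne
  have := H19.aeval_ne_zero_of_conj hn hμ hζ (P - Q) (by rw [map_sub]; exact sub_ne_zero.2 hne)
  rw [map_sub, h, sub_self] at this
  exact this rfl

/-- The reduced representative. -/
theorem exists_reduced (a : ℕ) (P : ℤ[X]) :
    ∃ Q : ℤ[X], Q.degree < ((2 ^ a : ℕ) : WithBot ℕ) ∧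
      ∀ μ : ℂ, IsPrimitiveRoot μ (2 ^ (a + 1)) → aeval μ Q = aeval μ P := by
  have hmon : ((X : ℤ[X]) ^ 2 ^ a + Polynomial.C 1).Monic := monic_X_pow_add_C 1 (by positivity)
  refine ⟨P %ₘ (X ^ 2 ^ a + Polynomial.C 1), ?_, fun μ hμ => ?_⟩
  · refine (degree_modByMonic_lt _ hmon).trans_le (le_of_eq ?_)
    rw [degree_X_pow_add_C (by positivity)]
  · refine (aeval_modByMonic_eq_self_of_root ?_)
    simp [pow_half_eq_neg_one hμ]

theorem memRing_aeval {ζ : ℂ} (hζ : MemLocalRing M ζ) (P : ℤ[X]) :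
    MemLocalRing M (aeval ζ P) := by
  rw [aeval_eq_sum_range]
  refine H20.memRing_sum _ _ fun i _ => ?_
  rw [zsmul_eq_mul]
  exact H20.memRing_mul (H20.memRing_intCast _) (pow_mem (S := H20.O M) hζ i)

theorem memRing_zeta {a : ℕ} {ζ : ℂ} (hζ : IsPrimitiveRoot ζ (2 ^ (a + 1))) :
    MemLocalRing M ζ :=
  H20.memRing_of_pow_eq_one (by positivity) hζ.pow_eq_one

theorem memIdeal_zeta_sub_one (hM : IsPModular 2 M) {a : ℕ} {ζ : ℂ}
    (hζ : IsPrimitiveRoot ζ (2 ^ (a + 1))) : MemLocalIdeal M (ζ - 1) := by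
  haveI : Fact (Nat.Prime 2) := ⟨Nat.prime_two⟩
  have h := H20.red_eq_one_of_pow_p_pow hM (w := (⟨ζ, memRing_zeta hζ⟩ : H20.O M)) (j := a + 1)
    (Subtype.ext (by simpa using hζ.pow_eq_one))
  rw [← map_one (H20.red M), H20.red_eq_red_iff] at h
  exact h

/-- Values at the root are congruent to values at one. -/
theorem memIdeal_aeval_sub_eval (hM : IsPModular 2 M) {a : ℕ} {ζ : ℂ}
    (hζ : IsPrimitiveRoot ζ (2 ^ (a + 1))) (P : ℤ[X]) :
    MemLocalIdeal M (aeval ζ P - ((P.eval 1 : ℤ) : ℂ)) := by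
  obtain ⟨V, hV⟩ : (X - Polynomial.C 1) ∣ P - Polynomial.C (P.eval 1) := by
    rw [dvd_iff_isRoot]; simp
  have h := congrArg (aeval ζ) hV
  simp only [map_sub, map_mul, aeval_X, map_one, aeval_C, algebraMap_int_eq, eq_intCast,
    map_intCast] at h
  rw [h, mul_comm]
  exact H20.memIdeal_mul (memRing_aeval (memRing_zeta hζ) V) (memIdeal_zeta_sub_one hM hζ)

theorem exists_unit_poly (a : ℕ) :
    ∃ R : ℤ[X], (1 - X) ^ 2 ^ a = 1 + X ^ 2 ^ a + 2 * R ∧ R.eval 1 = -1 := by
  suffices h : ∃ R : ℤ[X], (1 - X) ^ 2 ^ a = 1 + X ^ 2 ^ a + 2 * R by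
    obtain ⟨R, hR⟩ := h
    refine ⟨R, hR, ?_⟩
    have := congrArg (Polynomial.eval (1 : ℤ)) hR
    simp at this
    linarith
  induction a with
  | zero => exact ⟨-X, by ring⟩
  | succ a ih =>
    obtain ⟨R, hR⟩ := ih
    refine ⟨X ^ 2 ^ a + 2 * R * (1 + X ^ 2 ^ a) + 2 * R ^ 2, ?_⟩
    rw [pow_succ, pow_mul, hR, pow_mul]
    ring

/-- Divisibility of values by powers of two. -/
theorem exists_eq_two_pow_mul (hM : IsPModular 2 M) {a : ℕ} {ζ : ℂ}
    (hζ : IsPrimitiveRoot ζ (2 ^ (a + 1))) (h : ℕ) (P : ℤ[X])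
    (hP : MemLocalRing M (aeval ζ P / (2 : ℂ) ^ h)) :
    ∃ Q : ℤ[X], aeval ζ P = (2 : ℂ) ^ h * aeval ζ Q := by
  set φ := 2 ^ a with hφ
  have hneg : ζ ^ φ = -1 := pow_half_eq_neg_one hζ
  have hπ : MemLocalIdeal M (1 - ζ) := by
    have := H20.memIdeal_mul (H20.memRing_neg (H20.memRing_natCast 1)) (memIdeal_zeta_sub_one hM hζ)
    convert this using 1
    push_cast
    ring
  obtain ⟨R, hR, hR1⟩ := exists_unit_poly a
  set U := aeval ζ R with hU
  have hpow : (1 - ζ) ^ φ = 2 * U := by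
    have := congrArg (aeval ζ) hR
    simp only [map_pow, map_sub, map_add, map_mul, map_one, map_ofNat, aeval_X] at this
    rw [this, hneg, add_neg_cancel, zero_add]
  have hUn : ¬ MemLocalIdeal M U := by
    intro hI
    apply H20.not_memIdeal_one (M := M)
    have h1 := H20.memIdeal_add (memIdeal_aeval_sub_eval hM hζ R)
      (H20.memIdeal_mul (H20.memRing_neg (H20.memRing_natCast 1)) hI)
    convert h1 using 1
    rw [hR1, ← hU]
    push_cast
    ring
  obtain ⟨hU0, hUi⟩ := H20.inv_memRing (memRing_aeval (memRing_zeta hζ) R) hUn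
  have hπ0 : (1 - ζ) ≠ 0 := by
    intro h0
    rw [h0, zero_pow (by positivity)] at hpow
    exact hU0 (by simpa using hpow.symm)
  have two_eq : (2 : ℂ) = (1 - ζ) * ∑ i ∈ Finset.range φ, ζ ^ i := by
    rw [mul_comm, geom_sum_mul_neg, hneg]
    norm_num
  have key : ∀ (i : ℕ) (P : ℤ[X]), MemLocalRing M (aeval ζ P / (1 - ζ) ^ i) →
      ∃ Q : ℤ[X], aeval ζ P = (1 - ζ) ^ i * aeval ζ Q := by
    intro i
    induction i with
    | zero => exact fun P _ => ⟨P, by simp⟩
    | succ i ih =>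
      intro P hP
      obtain ⟨Q, hQ⟩ := ih P (by
        have h1 := H20.memRing_mul (H20.memRing_of_memIdeal hπ) hP
        convert h1 using 1
        field_simp
        ring)
      have hQI : MemLocalIdeal M (aeval ζ Q) := by
        have h1 : MemLocalIdeal M (aeval ζ P / (1 - ζ) ^ (i + 1) * (1 - ζ)) :=
          H20.memIdeal_mul hP hπ
        convert h1 using 1
        rw [hQ]
        field_simp
        ring
      have heven : MemLocalIdeal M ((Q.eval 1 : ℤ) : ℂ) := by
        have h1 := H20.memIdeal_add hQI (H20.memIdeal_mul (H20.memRing_neg (H20.memRing_natCast 1))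
          (memIdeal_aeval_sub_eval hM hζ Q))
        convert h1 using 1
        push_cast
        ring
      obtain ⟨m, hm⟩ := (H20.intCast_memIdeal_iff hM _).1 heven
      obtain ⟨V, hV⟩ : (X - Polynomial.C 1) ∣ Q - Polynomial.C (Q.eval 1) := by
        rw [dvd_iff_isRoot]; simp
      refine ⟨Polynomial.C m * ∑ t ∈ Finset.range φ, X ^ t - V, ?_⟩
      have hQ' := congrArg (aeval ζ) hV
      simp only [map_sub, map_mul, aeval_X, map_one, aeval_C, algebraMap_int_eq, eq_intCast,
        map_intCast] at hQ'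
      simp only [map_sub, map_mul, map_sum, map_pow, aeval_X, aeval_C, algebraMap_int_eq,
        eq_intCast, map_intCast]
      rw [hQ, pow_succ, mul_assoc]
      congr 1
      rw [mul_sub, mul_left_comm, ← two_eq]
      rw [hm] at hQ'
      push_cast at hQ'
      linear_combination hQ'
  obtain ⟨Q, hQ⟩ := key (φ * h) P (by
    have h1 := H20.memRing_mul (pow_mem (S := H20.O M) hUi h) hP
    convert h1 using 1
    rw [pow_mul, hpow, mul_pow, inv_pow, hU]
    field_simp)
  refine ⟨R ^ h * Q, ?_⟩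
  rw [hQ, map_mul, map_pow, ← hU, pow_mul, hpow, mul_pow, mul_assoc]

/-- The average of a real value divisible by `2^h`, with the parity of the quotient. -/
theorem exists_avg (hM : IsPModular 2 M) {a : ℕ} {ζ : ℂ}
    (hζ : IsPrimitiveRoot ζ (2 ^ (a + 1))) (h : ℕ) (P : ℤ[X])
    (hP : MemLocalRing M (aeval ζ P / (2 : ℂ) ^ h)) (hreal : conj (aeval ζ P) = aeval ζ P) :
    ∃ c : ℤ, ∑ j ∈ H19.units' (2 ^ (a + 1)), aeval (ζ ^ j) P =
        ((2 ^ a : ℕ) : ℂ) * ((2 : ℂ) ^ h * (c : ℂ)) ∧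
      MemLocalIdeal M (aeval ζ P / (2 : ℂ) ^ h - (c : ℂ)) := by
  classical
  have hpos : 0 < 2 ^ (a + 1) := by positivity
  set φ := 2 ^ a with hφ
  have hφpos : 0 < φ := by positivity
  obtain ⟨Q0, hQ0⟩ := exists_eq_two_pow_mul hM hζ h P hP
  obtain ⟨Q, hdeg, hQ⟩ := exists_reduced a Q0
  have hQev : ∀ μ : ℂ, aeval μ Q = ∑ i ∈ Finset.range φ, (Q.coeff i : ℂ) * μ ^ i := by
    intro μ
    by_cases hQ0' : Q = 0
    · simp [hQ0']
    rw [aeval_eq_sum_range' ((natDegree_lt_iff_degree_lt hQ0').2 hdeg)]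
    simp [zsmul_eq_mul, hφ]
  have h2 : (2 : ℂ) ^ h ≠ 0 := pow_ne_zero _ two_ne_zero
  have hQreal : conj (aeval ζ Q) = aeval ζ Q := by
    rw [hQ ζ hζ]
    rw [hQ0, map_mul, map_pow, map_ofNat] at hreal
    exact mul_left_cancel₀ h2 hreal
  set e : ℕ → ℤ := fun i => if i = 0 then Q.coeff 0 else -Q.coeff (φ - i)
  set W : ℤ[X] := ∑ i ∈ Finset.range φ, Polynomial.C (Q.coeff i - e i) * X ^ i with hW
  have hWc : ∀ i, i < φ → W.coeff i = Q.coeff i - e i := by
    intro i hi
    rw [hW, finsetSum_coeff, Finset.sum_congr rfl fun k _ => coeff_C_mul_X_pow _ k i,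
      Finset.sum_ite_eq, if_pos (Finset.mem_range.2 hi)]
  have hWdeg : W.degree < ((φ : ℕ) : WithBot ℕ) := by
    refine (degree_sum_le _ _).trans_lt ?_
    rw [Finset.sup_lt_iff (WithBot.bot_lt_coe _)]
    exact fun i hi => (degree_C_mul_X_pow_le _ _).trans_lt (by exact_mod_cast Finset.mem_range.1 hi)
  have hinv : conj ζ * ζ = 1 := by
    rw [mul_comm, Complex.mul_conj', Complex.norm_eq_one_of_pow_eq_one hζ.pow_eq_one hpos.ne']
    norm_num
  have hconj : conj (aeval ζ Q) = ∑ i ∈ Finset.range φ, (e i : ℂ) * ζ ^ i := by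
    rw [hQev, map_sum]
    refine Finset.sum_nbij' (fun i => if i = 0 then 0 else φ - i)
      (fun i => if i = 0 then 0 else φ - i) ?_ ?_ ?_ ?_ ?_
    · intro i hi
      simp only [Finset.coe_range, Set.mem_Iio, Finset.mem_range] at *
      split_ifs <;> omega
    · intro i hi
      simp only [Finset.coe_range, Set.mem_Iio, Finset.mem_range] at *
      split_ifs <;> omega
    · intro i hi
      simp only [Finset.coe_range, Set.mem_Iio, Finset.mem_range] at *
      split_ifs <;> omega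
    · intro i hi
      simp only [Finset.coe_range, Set.mem_Iio, Finset.mem_range] at *
      split_ifs <;> omega
    · intro i hi
      simp only [Finset.mem_range] at hi
      rw [map_mul, map_intCast, map_pow]
      by_cases hi0 : i = 0
      · subst hi0; simp [e]
      · rw [if_neg hi0]
        have h1 : conj ζ ^ i = -ζ ^ (φ - i) := by
          have hz : ζ ^ (φ - i) * ζ ^ i = -1 := by
            rw [← pow_add, Nat.sub_add_cancel hi.le]; exact pow_half_eq_neg_one hζ
          have hc : conj ζ ^ i * ζ ^ i = 1 := by rw [← mul_pow, hinv, one_pow]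
          have hne : ζ ^ i ≠ 0 := pow_ne_zero _ (hζ.ne_zero hpos.ne')
          exact mul_right_cancel₀ hne (by rw [hc, neg_mul, hz, neg_neg])
        rw [h1]
        simp only [e, if_neg (show φ - i ≠ 0 by omega), Nat.sub_sub_self hi.le]
        push_cast
        ring
  have hW0 : W = 0 := by
    refine eq_zero_of_degree_lt hζ hWdeg ?_
    rw [hW, map_sum]
    simp only [map_mul, map_sub, aeval_C, algebraMap_int_eq, eq_intCast, map_pow, aeval_X,
      map_intCast, Int.cast_sub, sub_mul, Finset.sum_sub_distrib]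
    rw [← hconj, hQreal, ← hQev, sub_self]
  have hpair : ∀ i, 0 < i → i < φ → Q.coeff i + Q.coeff (φ - i) = 0 := by
    intro i hi hi'
    have h1 := hWc i hi'
    rw [hW0, coeff_zero] at h1
    simp only [e, if_neg hi.ne'] at h1
    linarith
  have hev1 : Q.eval 1 = Q.coeff 0 := by
    by_cases hQ0' : Q = 0
    · simp [hQ0']
    rw [eval_eq_sum_range' ((natDegree_lt_iff_degree_lt hQ0').2 hdeg)]
    simp only [one_pow, mul_one]
    rw [← Finset.sum_range_add_sum_Ico _ (show 1 ≤ φ from hφpos), Finset.sum_range_one]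
    have hflip : ∑ i ∈ Finset.Ico 1 φ, Q.coeff i = ∑ i ∈ Finset.Ico 1 φ, Q.coeff (φ - i) := by
      refine Finset.sum_nbij' (fun i => φ - i) (fun i => φ - i) ?_ ?_ ?_ ?_ ?_
      · intro i hi; simp only [Finset.coe_Ico, Set.mem_Ico, Finset.mem_Ico] at *; omega
      · intro i hi; simp only [Finset.coe_Ico, Set.mem_Ico, Finset.mem_Ico] at *; omega
      · intro i hi; simp only [Finset.coe_Ico, Set.mem_Ico, Finset.mem_Ico] at *; omega
      · intro i hi; simp only [Finset.coe_Ico, Set.mem_Ico, Finset.mem_Ico] at *; omega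
      · intro i hi; simp only [Finset.mem_Ico] at hi; rw [Nat.sub_sub_self hi.2.le]
    have hz : ∑ i ∈ Finset.Ico 1 φ, (Q.coeff i + Q.coeff (φ - i)) = 0 :=
      Finset.sum_eq_zero fun i hi => hpair i (by simp at hi; omega) (by simp at hi; omega)
    rw [Finset.sum_add_distrib, ← hflip] at hz
    omega
  refine ⟨Q.coeff 0, ?_, ?_⟩
  · have hval : ∀ j ∈ H19.units' (2 ^ (a + 1)),
        aeval (ζ ^ j) P = (2 : ℂ) ^ h * aeval (ζ ^ j) Q := by
      intro j hj
      have hμ : IsPrimitiveRoot (ζ ^ j) (2 ^ (a + 1)) :=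
        hζ.pow_of_coprime j (H19.mem_units'.1 hj).2.symm
      rw [hQ _ hμ]
      have := aeval_conj_eq hpos hζ hμ (P := P) (Q := 2 ^ h * Q0) (by simp [hQ0, map_ofNat])
      simpa [map_ofNat] using this
    rw [Finset.sum_congr rfl hval, ← Finset.mul_sum]
    simp only [hQev]
    rw [Finset.sum_comm, Finset.sum_eq_single 0]
    · simp only [pow_zero, mul_one, Finset.sum_const, H19.card_units', nsmul_eq_mul]
      rw [Nat.totient_prime_pow Nat.prime_two (by omega)]
      simp only [Nat.add_sub_cancel, show (2 - 1 : ℕ) = 1 from rfl, mul_one]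
      ring
    · intro i hi hi0
      rw [← Finset.mul_sum, sum_units_pow hζ (Nat.pos_of_ne_zero hi0) (Finset.mem_range.1 hi),
        mul_zero]
    · exact fun hh => absurd (Finset.mem_range.2 hφpos) hh
  · rw [hQ0, mul_div_cancel_left₀ _ h2, ← hQ ζ hζ, ← hev1]
    exact memIdeal_aeval_sub_eval hM hζ Q

end H19.Dyadic
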