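import Cfsg.Agent.H19.MajorRankTwo
import Cfsg.Agent.H19.Dyadic

set_option autoImplicit false
set_option linter.unusedSectionVars false

/-!
Major subsections of `2`-blocks whose rank, or corank, is at most three.

The diagonal contributions have integral Galois averages whose parity is known.
-/

open Cfsg Polynomial
open scoped ComplexConjugate

namespace H19.MajorTwo

open H19.MajorBound H19.RankTwo

universe u

/-- The weighted count for an integral hermitian projection with dyadic valuations. -/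
theorem dyadic_count {ι : Type*} {M : Ideal AlgInt} [M.IsPrime] (hM : IsPModular 2 M)
    {a : ℕ} {ζ : ℂ} (hζ : IsPrimitiveRoot ζ (2 ^ (a + 1))) (S : Finset ι) (h : ι → ℕ) (d : ℕ)
    (r : ℤ) (hr : r ≤ 3) (P : ι → ι → ℤ[X]) (i₀ : ι) (hi₀ : i₀ ∈ S) (h₀ : h i₀ = 0)
    (herm : ∀ j ∈ H19.units' (2 ^ (a + 1)), ∀ i ∈ S, ∀ k ∈ S,
      conj (aeval (ζ ^ j) (P i k)) = aeval (ζ ^ j) (P k i))
    (hrow : ∀ j ∈ H19.units' (2 ^ (a + 1)), ∀ i ∈ S,
      ∑ k ∈ S, aeval (ζ ^ j) (P i k) * aeval (ζ ^ j) (P k i) = (2 : ℂ) ^ d * aeval (ζ ^ j) (P i i))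
    (htr : ∀ j ∈ H19.units' (2 ^ (a + 1)),
      ∑ i ∈ S, aeval (ζ ^ j) (P i i) = (2 : ℂ) ^ d * (r : ℂ))
    (hval : ∀ i ∈ S, ∀ k ∈ S, MemLocalRing M (aeval ζ (P i k) / (2 : ℂ) ^ h i) ∧
      (MemLocalIdeal M (aeval ζ (P i k) / (2 : ℂ) ^ h i) ↔ h k ≠ 0)) :
    ∑ i ∈ S, (if h i = 0 then 3 else 2 * 2 ^ h i) ≤ 3 * 2 ^ d := by
  classical
  set U := H19.units' (2 ^ (a + 1)) with hU
  have hpos : 0 < 2 ^ (a + 1) := by positivity
  have h1 : 1 ∈ U := by
    rw [hU, H19.mem_units']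
    refine ⟨?_, Nat.coprime_one_right _⟩
    exact Nat.one_lt_two_pow (by omega)
  have hφ : U.card = 2 ^ a := by
    rw [hU, H19.card_units', Nat.totient_prime_pow Nat.prime_two (by omega)]
    simp
  have hex : ∀ i ∈ S, ∃ c : ℤ, ∑ j ∈ U, aeval (ζ ^ j) (P i i) =
      ((2 ^ a : ℕ) : ℂ) * ((2 : ℂ) ^ h i * (c : ℂ)) ∧
      MemLocalIdeal M (aeval ζ (P i i) / (2 : ℂ) ^ h i - (c : ℂ)) := fun i hi =>
    Dyadic.exists_avg hM hζ (h i) _ (hval i hi i hi).1 (by
      have := herm 1 h1 i hi i hi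
      rwa [pow_one] at this)
  choose! c hc hcM using hex
  have hnorm : ∀ i ∈ S, ∑ j ∈ U, ∑ k ∈ S, ‖aeval (ζ ^ j) (P i k)‖ ^ 2 =
      (2 : ℝ) ^ d * ((2 ^ a : ℕ) : ℝ) * ((2 : ℝ) ^ h i * (c i : ℝ)) := by
    intro i hi
    apply Complex.ofReal_injective
    push_cast
    rw [show (2 : ℂ) ^ d * (2 : ℂ) ^ a * ((2 : ℂ) ^ h i * (c i : ℂ)) =
      (2 : ℂ) ^ d * (((2 ^ a : ℕ) : ℂ) * ((2 : ℂ) ^ h i * (c i : ℂ))) by push_cast; ring,
      ← hc i hi, Finset.mul_sum]
    refine Finset.sum_congr rfl fun j hj => ?_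
    rw [← hrow j hj i hi]
    refine Finset.sum_congr rfl fun k hk => ?_
    rw [← herm j hj i hi k hk, Complex.mul_conj']
  have hlow : ∀ i ∈ S, ∀ k ∈ S, h i = 0 →
      ((2 ^ a : ℕ) : ℝ) * ((2 : ℝ) ^ h k) ^ 2 ≤ ∑ j ∈ U, ‖aeval (ζ ^ j) (P i k)‖ ^ 2 := by
    intro i hi k hk hi0
    obtain ⟨Q, hQ⟩ := Dyadic.exists_eq_two_pow_mul hM hζ (h k) _ (hval k hk i hi).1
    have hne : aeval ζ Q ≠ 0 := by
      intro h0
      apply fun hI => (hval k hk i hi).2.1 hI hi0
      rw [hQ, h0, mul_zero, zero_div]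
      exact H20.memIdeal_zero
    have hsum : ∑ j ∈ U, ‖aeval (ζ ^ j) (P i k)‖ ^ 2 =
        ((2 : ℝ) ^ h k) ^ 2 * ∑ j ∈ U, ‖aeval (ζ ^ j) Q‖ ^ 2 := by
      rw [Finset.mul_sum]
      refine Finset.sum_congr rfl fun j hj => ?_
      have hμ : IsPrimitiveRoot (ζ ^ j) (2 ^ (a + 1)) :=
        hζ.pow_of_coprime j (H19.mem_units'.1 hj).2.symm
      have e := Dyadic.aeval_conj_eq hpos hζ hμ (P := P k i) (Q := 2 ^ h k * Q)
        (by simp [hQ, map_ofNat])
      rw [← herm j hj k hk i hi, Complex.norm_conj, e]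
      simp [map_ofNat, mul_pow]
    rw [hsum, mul_comm]
    refine mul_le_mul_of_nonneg_left ?_ (by positivity)
    rw [← hφ, hU, H19.card_units']
    exact H19.totient_le_sum_normSq hpos hζ Q hne
  have hcpos : ∀ i ∈ S, 0 < c i := by
    intro i hi
    have hne : aeval ζ (P i i₀) ≠ 0 := by
      intro h0
      apply fun hI => (hval i hi i₀ hi₀).2.1 hI h₀
      rw [h0, zero_div]
      exact H20.memIdeal_zero
    have hlt : (0 : ℝ) < ∑ j ∈ U, ∑ k ∈ S, ‖aeval (ζ ^ j) (P i k)‖ ^ 2 := by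
      refine lt_of_lt_of_le ?_ (Finset.sum_le_sum fun j _ =>
        Finset.single_le_sum (f := fun k => ‖aeval (ζ ^ j) (P i k)‖ ^ 2)
          (fun k _ => sq_nonneg _) hi₀)
      refine lt_of_lt_of_le ?_ (H19.totient_le_sum_normSq hpos hζ _ hne)
      exact_mod_cast Nat.totient_pos.2 hpos
    rw [hnorm i hi] at hlt
    have h2 : (0 : ℝ) < (c i : ℝ) := by
      by_contra hneg
      have : (2 : ℝ) ^ d * ((2 ^ a : ℕ) : ℝ) * ((2 : ℝ) ^ h i * (c i : ℝ)) ≤ 0 :=
        mul_nonpos_of_nonneg_of_nonpos (by positivity)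
          (mul_nonpos_of_nonneg_of_nonpos (by positivity) (not_lt.1 hneg))
      linarith
    exact_mod_cast h2
  have hpar : ∀ i ∈ S, (2 : ℤ) ∣ c i ↔ h i ≠ 0 := by
    intro i hi
    rw [← (hval i hi i hi).2]
    constructor
    · intro hd2
      have := H20.memIdeal_add (hcM i hi) ((H20.intCast_memIdeal_iff hM _).2 (by exact_mod_cast hd2))
      rwa [sub_add_cancel] at this
    · intro hI
      have := H20.memIdeal_add hI (H20.memIdeal_mul (H20.memRing_neg (H20.memRing_natCast 1)) (hcM i hi))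
      have h2 : MemLocalIdeal M ((c i : ℤ) : ℂ) := by
        convert this using 1
        push_cast
        ring
      exact_mod_cast (H20.intCast_memIdeal_iff hM _).1 h2
  by_cases hone : ∃ i ∈ S, h i = 0 ∧ c i = 1
  · obtain ⟨i, hi, hi0, hci⟩ := hone
    have hbig := Finset.sum_le_sum fun k hk => hlow i hi k hk hi0
    rw [Finset.sum_comm (s := S) (t := U), hnorm i hi, hi0, hci, ← Finset.mul_sum] at hbig
    simp only [Int.cast_one, pow_zero, mul_one] at hbig
    have ha : (0 : ℝ) < ((2 ^ a : ℕ) : ℝ) := by positivity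
    rw [mul_comm ((2 : ℝ) ^ d)] at hbig
    have hnat : ∑ k ∈ S, (2 ^ h k) ^ 2 ≤ 2 ^ d := by
      exact_mod_cast le_of_mul_le_mul_left hbig ha
    refine le_trans ?_ (Nat.mul_le_mul_left 3 hnat)
    rw [Finset.mul_sum]
    refine Finset.sum_le_sum fun k _ => ?_
    split_ifs with hk
    · simp [hk]
    · rw [sq]
      exact Nat.mul_le_mul (by omega) (Nat.le_mul_self _)
  · simp only [not_exists, not_and] at hone
    have htot : ∑ i ∈ S, (2 : ℤ) ^ h i * c i = (2 : ℤ) ^ d * r := by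
      have e : ((2 ^ a : ℕ) : ℂ) * ((∑ i ∈ S, (2 : ℤ) ^ h i * c i : ℤ) : ℂ) =
          ((2 ^ a : ℕ) : ℂ) * (((2 : ℤ) ^ d * r : ℤ) : ℂ) := by
        push_cast
        rw [Finset.mul_sum]
        calc ∑ i ∈ S, (2 : ℂ) ^ a * ((2 : ℂ) ^ h i * (c i : ℂ))
            = ∑ i ∈ S, ∑ j ∈ U, aeval (ζ ^ j) (P i i) := by
              refine Finset.sum_congr rfl fun i hi => ?_
              rw [hc i hi]; push_cast; ring
          _ = (2 : ℂ) ^ a * ((2 : ℂ) ^ d * (r : ℂ)) := by
              rw [Finset.sum_comm, Finset.sum_congr rfl htr, Finset.sum_const, hφ, nsmul_eq_mul]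
              push_cast; ring
      exact_mod_cast mul_left_cancel₀ (Nat.cast_ne_zero.2 (by positivity)) e
    have key : ((∑ i ∈ S, (if h i = 0 then 3 else 2 * 2 ^ h i) : ℕ) : ℤ) ≤
        ∑ i ∈ S, (2 : ℤ) ^ h i * c i := by
      rw [Nat.cast_sum]
      refine Finset.sum_le_sum fun i hi => ?_
      have hp' := hcpos i hi
      by_cases hk : h i = 0
      · rw [if_pos hk, hk, pow_zero, one_mul]
        have := hone i hi hk
        have h2 : ¬ (2 : ℤ) ∣ c i := fun hd2 => (hpar i hi).1 hd2 hk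
        omega
      · rw [if_neg hk]
        obtain ⟨t, ht⟩ := (hpar i hi).2 hk
        push_cast
        rw [ht]
        have : (0 : ℤ) < 2 ^ h i := by positivity
        have ht1 : 1 ≤ t := by omega
        nlinarith
    have h3 : (2 : ℤ) ^ d * r ≤ (2 : ℤ) ^ d * 3 := mul_le_mul_of_nonneg_left hr (by positivity)
    rw [htot] at key
    have := key.trans h3
    rw [mul_comm ((2 : ℤ) ^ d) 3] at this
    exact_mod_cast this

variable {G : Type u} [Group G] [Fintype G] {p : ℕ} [hp : Fact p.Prime] {M : Ideal AlgInt}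
  [hMp : M.IsPrime]

theorem conj_contrib (H : Subgroup G) [Fintype H] (z : H) (b : Set (IrrCharacter H)) (j : ℕ)
    (χ ψ : IrrCharacter G) : conj (contrib p H z b j χ ψ) = contrib p H z b j ψ χ := by
  simp only [contrib, map_sum, map_mul, map_pow, conj_mult, Complex.conj_conj, H22.conj_Delta]
  rw [Finset.sum_comm]
  exact Finset.sum_congr rfl fun θ _ => Finset.sum_congr rfl fun θ' _ => by ring

theorem sum_contrib_mul (hM : IsPModular p M) {B : Set (IrrCharacter G)} (hB : IsPBlock M B)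
    {u : G} (hu : ∃ k : ℕ, orderOf u = p ^ k) (H : Subgroup G) [Fintype H]
    (hH : H = Subgroup.centralizer ({u} : Set G))
    {b : Set (IrrCharacter H)} (hind : IsInducedBlock M H b B)
    {z : H} (hz : z ∈ Subgroup.center H) {j : ℕ} (hzu : ((z ^ j : H) : G) = u)
    (χ : IrrCharacter G) :
    ∑ ψ ∈ H22.blockFinset B, contrib p H z b j χ ψ * contrib p H z b j ψ χ =
      contrib p H z b j χ χ := by
  classical
  have e1 : ∀ ψ : IrrCharacter G, contrib p H z b j χ ψ =
      ∑ θ ∈ H22.blockFinset b, mult H χ θ * eps z θ ^ j * conj (loc p H z b j ψ θ) := by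
    intro ψ
    rw [← conj_contrib H z b j ψ χ, contrib_eq_sum_loc, map_sum]
    refine Finset.sum_congr rfl fun θ _ => ?_
    rw [map_mul, map_mul, conj_mult, Complex.conj_conj]
  calc ∑ ψ ∈ H22.blockFinset B, contrib p H z b j χ ψ * contrib p H z b j ψ χ
      = ∑ ψ ∈ H22.blockFinset B, (∑ θ ∈ H22.blockFinset b,
          mult H χ θ * eps z θ ^ j * conj (loc p H z b j ψ θ)) *
          ∑ θ' ∈ H22.blockFinset b, mult H χ θ' * conj (eps z θ' ^ j) * loc p H z b j ψ θ' :=
        Finset.sum_congr rfl fun ψ _ => by rw [e1, contrib_eq_sum_loc]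
    _ = contrib p H z b j χ χ := by
        simp only [Finset.sum_mul_sum, contrib]
        rw [Finset.sum_comm]
        refine Finset.sum_congr rfl fun θ _ => ?_
        rw [Finset.sum_comm]
        refine Finset.sum_congr rfl fun θ' hθ' => ?_
        rw [H22.Delta_comm p θ θ', ← sum_loc_pair hM hB hu H hH hind hz hzu (θ₂ := θ)
          (H22.mem_blockFinset.1 hθ'), Finset.mul_sum]
        exact Finset.sum_congr rfl fun ψ _ => by ring

theorem memRing_secFun (hM : IsPModular p M) (H : Subgroup G) [Fintype H] (u : G)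
    (χ : IrrCharacter G) (θ : IrrCharacter H) :
    MemLocalRing M (secFun p H u χ θ) ∧ MemLocalRing M (conj (secFun p H u χ θ)) := by
  classical
  have hc : ∀ x : ℂ, IsIntegral ℤ x → IsIntegral ℤ (conj x) := fun x hx =>
    hx.map (RingHom.toIntAlgHom (starRingEnd ℂ))
  have hpr : ∀ g : H, IsIntegral ℤ
      (pRegularPart p (fun c : H => centralChar (χ : G → ℂ) (u * (c : G))) g) := by
    intro g
    rw [H22.pRegularPart_apply]
    split
    · exact isIntegral_zero
    · exact H20.isIntegral_centralChar χ _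
  have hθ : ∀ g : H, IsIntegral ℤ ((θ : H → ℂ) g) := fun g =>
    H12.IsCharacter.isIntegral (H12.isCharacter_irr θ) g
  constructor
  · exact H20.memRing_mul (H20.inv_natCast_memRing hM H22.ordCompl_not_dvd)
      (H20.memRing_sum _ _ fun C _ => H20.memRing_mul (H20.memRing_of_isIntegral (hpr _))
        (H20.memRing_of_isIntegral (hc _ (hθ _))))
  · rw [secFun, map_mul, map_inv₀, Complex.conj_natCast, map_sum]
    refine H20.memRing_mul (H20.inv_natCast_memRing hM H22.ordCompl_not_dvd)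
      (H20.memRing_sum _ _ fun C _ => ?_)
    rw [map_mul, Complex.conj_conj]
    exact H20.memRing_mul (H20.memRing_of_isIntegral (hc _ (hpr _)))
      (H20.memRing_of_isIntegral (hθ _))

/-- The valuations of the scaled contributions of a major subsection. -/
theorem contrib_valuation (hM : IsPModular p M) {B : Set (IrrCharacter G)}
    {y : G} {a : ℕ} (hy : orderOf y = p ^ a) (C : Subgroup G) [Fintype C]
    (hC : C = Subgroup.centralizer ({y} : Set G))
    {b : Set (IrrCharacter C)} (hind : IsInducedBlock M C b B)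
    (hd : blockDefect p b = blockDefect p B)
    {z : C} (hz : z ∈ Subgroup.center C) (hzy : (z : G) = y)
    {χ ψ : IrrCharacter G} (hχ : χ ∈ B) (hψ : ψ ∈ B) :
    MemLocalRing M ((p : ℂ) ^ blockDefect p B * contrib p C z b 1 χ ψ /
        (p : ℂ) ^ blockHeight p B (χ : G → ℂ)) ∧
      (MemLocalIdeal M ((p : ℂ) ^ blockDefect p B * contrib p C z b 1 χ ψ /
        (p : ℂ) ^ blockHeight p B (χ : G → ℂ)) ↔ blockHeight p B (ψ : G → ℂ) ≠ 0) := by
  classical
  have hb := hind.1
  have hB := hind.2.1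
  have hzord : orderOf z = p ^ a := by rw [← hy, ← hzy, Subgroup.orderOf_coe]
  have hzu : ((z ^ 1 : C) : G) = y := by rw [pow_one, hzy]
  set W : IrrCharacter G → IrrCharacter G → ℂ := fun χ ψ =>
    ∑ θ ∈ H22.blockFinset b, mult C ψ θ * conj (eps z θ) * secFun p C y χ θ with hWdef
  have hform : ∀ {χ ψ : IrrCharacter G}, χ ∈ B →
      (p : ℂ) ^ blockDefect p B * contrib p C z b 1 χ ψ = (H22.mdeg p B χ : ℂ) * W χ ψ := by
    intro χ ψ hχ
    rw [contrib_eq_sum_loc, Finset.mul_sum, hWdef, Finset.mul_sum]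
    refine Finset.sum_congr rfl fun θ hθ => ?_
    have := pow_mul_loc_eq (p := p) hM ⟨a, hy⟩ C hC hb hz hzu hχ (H22.mem_blockFinset.1 hθ)
    rw [pow_one]
    linear_combination (mult C ψ θ * conj (eps z θ)) * this
  have heps : ∀ θ : IrrCharacter C, MemLocalRing M (eps z θ) ∧ MemLocalRing M (conj (eps z θ)) :=
    fun θ => ⟨H20.memRing_of_pow_eq_one (orderOf_pos z) (eps_pow_orderOf hz θ),
      H20.memRing_of_pow_eq_one (orderOf_pos z) (by rw [← map_pow, eps_pow_orderOf hz θ, map_one])⟩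
  have hWR : ∀ χ ψ, MemLocalRing M (W χ ψ) ∧ MemLocalRing M (conj (W χ ψ)) := by
    intro χ ψ
    constructor
    · exact H20.memRing_sum _ _ fun θ _ => H20.memRing_mul
        (H20.memRing_mul (memRing_mult C ψ θ) (heps θ).2) (memRing_secFun hM C y χ θ).1
    · simp only [hWdef, map_sum, map_mul, conj_mult, Complex.conj_conj]
      exact H20.memRing_sum _ _ fun θ _ => H20.memRing_mul
        (H20.memRing_mul (memRing_mult C ψ θ) (heps θ).1) (memRing_secFun hM C y χ θ).2
  have hWc : ∀ {χ χ' : IrrCharacter G}, χ ∈ B → χ' ∈ B → ∀ ψ,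
      MemLocalIdeal M (W χ ψ - W χ' ψ) := by
    intro χ χ' hχ hχ' ψ
    simp only [hWdef, ← Finset.sum_sub_distrib]
    refine Finset.sum_induction _ (MemLocalIdeal M) (fun _ _ => H20.memIdeal_add)
      H20.memIdeal_zero fun θ _ => ?_
    rw [← mul_sub]
    exact H20.memIdeal_mul (H20.memRing_mul (memRing_mult C ψ θ) (heps θ).2)
      (secFun_congr hM hB y C hχ hχ' θ)
  obtain ⟨χ₀, hχ₀, he0⟩ := H22.exists_height_zero (p := p) (H20.block_nonempty hB)
  have h00 : blockHeight p B (χ₀ : G → ℂ) = 0 := Nat.sub_eq_zero_of_le he0.le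
  have hm0 : ¬ p ∣ H22.mdeg p B χ₀ := (H22.not_dvd_mdeg_iff hχ₀).2 h00
  have hW0 : MemLocalIdeal M (W χ₀ ψ) ↔ blockHeight p B (ψ : G → ℂ) ≠ 0 := by
    constructor
    · intro hI h0
      refine contrib_not_memIdeal hM C hind hd hz hzord hχ₀ hψ h00 h0 ?_
      rw [hd, hform hχ₀]
      exact H20.memIdeal_mul (H20.memRing_natCast _) hI
    · intro h0
      have hI : MemLocalIdeal M ((p : ℂ) ^ blockDefect p B * contrib p C z b 1 χ₀ ψ) := by
        have e := congrArg conj (hform (ψ := χ₀) hψ)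
        simp only [map_mul, map_pow, Complex.conj_natCast, conj_contrib] at e
        rw [e, mul_comm]
        refine H20.memIdeal_mul (hWR ψ χ₀).2 ((H20.natCast_memIdeal_iff hM _).2 ?_)
        by_contra hndvd
        exact h0 ((H22.not_dvd_mdeg_iff hψ).1 hndvd)
      rw [hform hχ₀] at hI
      have hne : (H22.mdeg p B χ₀ : ℂ) ≠ 0 := by exact_mod_cast (H22.mdeg_pos hχ₀).ne'
      have := H20.memIdeal_mul (H20.inv_natCast_memRing hM hm0) hI
      rwa [← mul_assoc, inv_mul_cancel₀ hne, one_mul] at this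
  have hWχ : MemLocalIdeal M (W χ ψ) ↔ blockHeight p B (ψ : G → ℂ) ≠ 0 := by
    rw [← hW0]
    constructor
    · intro hI
      have := H20.memIdeal_add (hWc hχ₀ hχ ψ) hI
      rwa [sub_add_cancel] at this
    · intro hI
      have := H20.memIdeal_add (hWc hχ hχ₀ ψ) hI
      rwa [sub_add_cancel] at this
  set h := blockHeight p B (χ : G → ℂ)
  obtain ⟨k, hk⟩ : p ^ h ∣ H22.mdeg p B χ := by
    rw [hp.out.pow_dvd_iff_le_factorization (H22.mdeg_pos hχ).ne', H22.mdeg_factorization hχ]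
  have hkp : ¬ p ∣ k := by
    rintro ⟨t, rfl⟩
    have : p ^ (h + 1) ∣ H22.mdeg p B χ := ⟨t, by rw [hk]; ring⟩
    rw [hp.out.pow_dvd_iff_le_factorization (H22.mdeg_pos hχ).ne', H22.mdeg_factorization hχ] at this
    omega
  have e : (p : ℂ) ^ blockDefect p B * contrib p C z b 1 χ ψ / (p : ℂ) ^ h = (k : ℂ) * W χ ψ := by
    rw [hform hχ, hk]
    push_cast
    rw [mul_assoc, mul_div_cancel_left₀ _ (H22.pow_p_ne_zero (p := p) h)]
  rw [e]
  refine ⟨H20.memRing_mul (H20.memRing_natCast k) (hWR χ ψ).1, ?_⟩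
  rw [← hWχ]
  refine ⟨fun hI => ?_, fun hI => H20.memIdeal_mul (H20.memRing_natCast k) hI⟩
  have hk0 : (k : ℂ) ≠ 0 := by
    exact_mod_cast fun h0 : k = 0 => hkp (by rw [h0]; exact dvd_zero p)
  have := H20.memIdeal_mul (H20.inv_natCast_memRing hM hkp) hI
  rwa [← mul_assoc, inv_mul_cancel₀ hk0, one_mul] at this

open Polynomial in
theorem exists_poly_contrib' (hM : IsPModular p M) (H : Subgroup G) [Fintype H]
    {b : Set (IrrCharacter H)} (hb : IsPBlock M b) {z : H}
    {n : ℕ} (hnpos : 0 < n) (he : ∀ θ : IrrCharacter H, eps z θ ^ n = 1)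
    {ζ : ℂ} (hζ : IsPrimitiveRoot ζ n) (χ ψ : IrrCharacter G) :
    ∃ P : ℤ[X], ∀ j : ℕ,
      (p : ℂ) ^ blockDefect p b * contrib p H z b j χ ψ = aeval (ζ ^ j) P := by
  classical
  haveI : NeZero n := ⟨hnpos.ne'⟩
  have he2 : ∀ θ : IrrCharacter H, ∃ e, e < n ∧ ζ ^ e = eps z θ := fun θ =>
    hζ.eq_pow_of_pow_eq_one (he θ)
  choose e hen he' using he2
  have hconjζ : conj ζ = ζ ^ (n - 1) := by
    rw [← Complex.inv_eq_conj (Complex.norm_eq_one_of_pow_eq_one hζ.pow_eq_one hnpos.ne')]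
    refine inv_eq_of_mul_eq_one_right ?_
    rw [← pow_succ', Nat.sub_add_cancel hnpos, hζ.pow_eq_one]
  obtain ⟨z', hz', -⟩ := H22.exists_isDeltaMatrix (p := p) hM hb
  choose f hf using fun θ : IrrCharacter H => mult_nat H χ θ
  choose g hg using fun θ : IrrCharacter H => mult_nat H ψ θ
  refine ⟨∑ θ ∈ H22.blockFinset b, ∑ θ' ∈ H22.blockFinset b,
    C ((f θ : ℤ) * (g θ' : ℤ) * z' θ θ') * X ^ (e θ + (n - 1) * e θ'), fun j => ?_⟩
  rw [contrib, Finset.mul_sum, map_sum]
  refine Finset.sum_congr rfl fun θ hθ => ?_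
  rw [Finset.mul_sum, map_sum]
  refine Finset.sum_congr rfl fun θ' _ => ?_
  rw [map_mul, aeval_C, aeval_X_pow, algebraMap_int_eq, eq_intCast, hf, hg, ← he', ← he',
    map_pow, map_pow, hconjζ]
  push_cast
  rw [hz' θ (H22.mem_blockFinset.1 hθ) θ']
  ring

/-- The weighted count for a major subsection of rank, or corank, at most three. -/
theorem weighted_count_le {M : Ideal AlgInt} [M.IsPrime] (hM : IsPModular 2 M)
    {B : Set (IrrCharacter G)} {y : G} (hy : ∃ k : ℕ, orderOf y = 2 ^ k) (C : Subgroup G)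
    [Fintype C] (hC : C = Subgroup.centralizer ({y} : Set G))
    {b : Set (IrrCharacter C)} (hind : IsInducedBlock M C b B)
    (hd : blockDefect 2 b = blockDefect 2 B)
    (hl : blockRank 2 b ≤ 3 ∨ (0 < blockDefect 2 B ∧ Nat.card B ≤ blockRank 2 b + 3)) :
    ∑ χ ∈ H22.blockFinset B, (if blockHeight 2 B (χ : G → ℂ) = 0 then 3
      else 2 * 2 ^ blockHeight 2 B (χ : G → ℂ)) ≤ 3 * 2 ^ blockDefect 2 B := by
  classical
  haveI : Fact (Nat.Prime 2) := ⟨Nat.prime_two⟩
  obtain ⟨a, ha⟩ := hy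
  have hb := hind.1
  have hB := hind.2.1
  let z : C := ⟨y, hC ▸ Subgroup.mem_centralizer_singleton_iff.2 rfl⟩
  have hz : z ∈ Subgroup.center C :=
    Subgroup.mem_center_iff.2 fun c =>
      Subtype.ext (Subgroup.mem_centralizer_singleton_iff.1 (hC.le c.2))
  have hzord : orderOf z = 2 ^ a := by rw [← ha]; exact (Subgroup.orderOf_coe z).symm
  have hn : 0 < 2 ^ (a + 1) := by positivity
  obtain ⟨ζ, hζ⟩ := H19.exists_root (2 ^ (a + 1)) hn.ne'
  have he : ∀ θ : IrrCharacter C, eps z θ ^ 2 ^ (a + 1) = 1 := fun θ => by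
    rw [pow_succ, pow_mul, ← hzord, eps_pow_orderOf hz θ, one_pow]
  set d := blockDefect 2 B with hdd
  choose P hP using fun χ ψ : IrrCharacter G =>
    exists_poly_contrib' (p := 2) hM C hb hn he hζ χ ψ
  rw [hd] at hP
  set S := H22.blockFinset B
  have hsec : ∀ j ∈ H19.units' (2 ^ (a + 1)), (∃ k : ℕ, orderOf (y ^ j) = 2 ^ k) ∧
      C = Subgroup.centralizer ({y ^ j} : Set G) := by
    intro j hj
    constructor
    · obtain ⟨k, -, hk⟩ := (Nat.dvd_prime_pow Nat.prime_two).1 (ha ▸ orderOf_pow_dvd (x := y) j)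
      exact ⟨k, hk⟩
    · have hjc : Nat.Coprime j (orderOf y) := by
        rw [ha]
        exact Nat.Coprime.pow_right _ ((Nat.Prime.coprime_iff_not_dvd Nat.prime_two).2
          (by have := Nat.odd_iff.1 (Dyadic.odd_of_mem_units hj); omega)).symm
      obtain ⟨m, hm⟩ := exists_pow_eq_self_of_coprime (n := j) (x := y) hjc
      rw [hC]
      ext c
      simp only [Subgroup.mem_centralizer_singleton_iff]
      refine ⟨fun h => (Commute.pow_right h j).eq, fun h => ?_⟩
      have := Commute.pow_right (show Commute c (y ^ j) from h) m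
      rwa [hm] at this
  have herm : ∀ (j : ℕ) (χ ψ : IrrCharacter G),
      conj (aeval (ζ ^ j) (P χ ψ)) = aeval (ζ ^ j) (P ψ χ) := fun j χ ψ => by
    rw [← hP, ← hP, map_mul, map_pow, Complex.conj_natCast, conj_contrib]
  have hrow : ∀ j ∈ H19.units' (2 ^ (a + 1)), ∀ χ ∈ S,
      ∑ ψ ∈ S, aeval (ζ ^ j) (P χ ψ) * aeval (ζ ^ j) (P ψ χ) =
        (2 : ℂ) ^ d * aeval (ζ ^ j) (P χ χ) := by
    intro j hj χ _
    simp only [← hP]
    rw [← sum_contrib_mul (p := 2) hM hB (hsec j hj).1 C (hsec j hj).2 hind hz (j := j) rfl χ,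
      Finset.mul_sum, Finset.mul_sum]
    exact Finset.sum_congr rfl fun ψ _ => by push_cast; ring
  have htr : ∀ j ∈ H19.units' (2 ^ (a + 1)),
      ∑ χ ∈ S, aeval (ζ ^ j) (P χ χ) = (2 : ℂ) ^ d * (blockRank 2 b : ℂ) := by
    intro j hj
    simp only [← hP]
    rw [← sum_normSq_contrib (p := 2) hM hB (hsec j hj).1 C (hsec j hj).2 hind hz (j := j) rfl,
      Finset.mul_sum]
    refine Finset.sum_congr rfl fun χ _ => ?_
    simp only [conj_contrib, sum_contrib_mul (p := 2) hM hB (hsec j hj).1 C (hsec j hj).2 hind hz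
      (j := j) rfl χ]
    push_cast
    rfl
  have hval : ∀ χ ∈ S, ∀ ψ ∈ S,
      MemLocalRing M (aeval ζ (P χ ψ) / (2 : ℂ) ^ blockHeight 2 B (χ : G → ℂ)) ∧
      (MemLocalIdeal M (aeval ζ (P χ ψ) / (2 : ℂ) ^ blockHeight 2 B (χ : G → ℂ)) ↔
        blockHeight 2 B (ψ : G → ℂ) ≠ 0) := by
    intro χ hχ ψ hψ
    have h1 := contrib_valuation (p := 2) hM ha C hC hind hd hz rfl
      (H22.mem_blockFinset.1 hχ) (H22.mem_blockFinset.1 hψ)
    have h2 := hP χ ψ 1
    rw [pow_one] at h2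
    rw [h2] at h1
    simpa only [Nat.cast_ofNat] using h1
  obtain ⟨χ₀, hχ₀, he0⟩ := H22.exists_height_zero (p := 2) (H20.block_nonempty hB)
  have h00 : blockHeight 2 B (χ₀ : G → ℂ) = 0 := Nat.sub_eq_zero_of_le he0.le
  rcases hl with hl | ⟨hdpos, hl⟩
  · exact dyadic_count hM hζ S (fun χ => blockHeight 2 B (χ : G → ℂ)) d (blockRank 2 b : ℤ)
      (by exact_mod_cast hl) P χ₀ (H22.mem_blockFinset.2 hχ₀) h00
      (fun j _ χ _ ψ _ => herm j χ ψ) hrow (fun j hj => by exact_mod_cast htr j hj) hval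
  · rw [H22.natCard_block] at hl
    change S.card ≤ _ at hl
    refine dyadic_count hM hζ S (fun χ => blockHeight 2 B (χ : G → ℂ)) d
      ((S.card : ℤ) - (blockRank 2 b : ℤ)) (by omega)
      (fun χ ψ => Polynomial.C (if χ = ψ then (2 : ℤ) ^ d else 0) - P χ ψ)
      χ₀ (H22.mem_blockFinset.2 hχ₀) h00 ?_ ?_ ?_ ?_
    · intro j _ χ _ ψ _
      simp only [map_sub, aeval_C, algebraMap_int_eq, eq_intCast, map_intCast, herm, eq_comm (a := χ)]
    · intro j hj χ hχ
      simp only [map_sub, aeval_C, algebraMap_int_eq, eq_intCast, map_intCast, sub_mul, mul_sub,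
        Finset.sum_sub_distrib, hrow j hj χ hχ, apply_ite (Int.cast : ℤ → ℂ), Int.cast_pow,
        Int.cast_ofNat, Int.cast_zero, ite_mul, mul_ite, zero_mul, mul_zero, Finset.sum_ite_eq,
        Finset.sum_ite_eq', hχ, if_true, map_pow, map_ofNat, map_zero]
      ring
    · intro j hj
      simp only [map_sub, aeval_C, algebraMap_int_eq, eq_intCast, map_intCast, if_true,
        Finset.sum_sub_distrib, htr j hj, Finset.sum_const, nsmul_eq_mul]
      push_cast
      ring
    · intro χ hχ ψ hψ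
      obtain ⟨h1, h2⟩ := hval χ hχ ψ hψ
      simp only [map_sub, aeval_C, algebraMap_int_eq, eq_intCast, map_intCast, sub_div]
      set A := (((if χ = ψ then (2 : ℤ) ^ d else 0 : ℤ)) : ℂ) / (2 : ℂ) ^ blockHeight 2 B (χ : G → ℂ)
        with hAdef
      set X' := aeval ζ (P χ ψ) / (2 : ℂ) ^ blockHeight 2 B (χ : G → ℂ)
      have hA : MemLocalIdeal M A := by
        have hle := H22.blockHeight_le hM hB (H22.mem_blockFinset.1 hχ)
        rw [← hdd] at hle
        rw [hAdef]
        split_ifs with hc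
        · obtain ⟨t, ht⟩ : ∃ t, d = blockHeight 2 B (χ : G → ℂ) + (t + 1) :=
            ⟨d - blockHeight 2 B (χ : G → ℂ) - 1, by omega⟩
          rw [ht]
          push_cast
          rw [pow_add, mul_div_cancel_left₀ _ (pow_ne_zero _ two_ne_zero), pow_succ]
          have h2' := H20.memIdeal_mul
            (pow_mem (S := H20.O M) (H20.memRing_natCast (M := M) 2) t)
            (H20.memIdeal_p (p := 2) hM)
          exact_mod_cast h2'
        · simpa using H20.memIdeal_zero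
      refine ⟨?_, ?_⟩
      · rw [sub_eq_add_neg]
        exact H20.memRing_add (H20.memRing_of_memIdeal hA) (H20.memRing_neg h1)
      · rw [← h2]
        constructor
        · intro hI
          have := H20.memIdeal_add hA (H20.memIdeal_mul (H20.memRing_neg (H20.memRing_natCast 1)) hI)
          convert this using 1
          push_cast
          ring
        · intro hI
          have := H20.memIdeal_add hA (H20.memIdeal_mul (H20.memRing_neg (H20.memRing_natCast 1)) hI)
          convert this using 1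
          push_cast
          ring

end H19.MajorTwo
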