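import Cfsg.Agent.H12.Transport
import Cfsg.Agent.H12.Integral
import Cfsg.Agent.H12.Linear
import Cfsg.Agent.H22.ValueMod
import Cfsg.Agent.H25.Galois
import Cfsg.Agent.H14.DetChar
import Mathlib

set_option autoImplicit false
set_option linter.unusedSectionVars false

/-!
No non-abelian simple group has all nonlinear irreducible degrees prime.
-/

open Cfsg
open scoped ComplexConjugate commutatorElement

namespace H19.PrimeDeg

universe u

variable {S : Type u} [Group S] [Fintype S] [IsSimpleGroup S]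

theorem eq_one_of_eq_degree (χ : IrrCharacter S) (hχ : χ ≠ H12.oneIrr S) {g : S}
    (h : (χ : S → ℂ) g = (χ : S → ℂ) 1) : g = 1 := by
  have hn := H12.charKer_normal (H12.isCharacter_irr χ)
  rcases hn.eq_bot_or_eq_top with hb | ht
  · have hg : g ∈ H12.charKer (χ : S → ℂ) (H12.isCharacter_irr χ) := (H12.mem_charKer _).mpr h
    rwa [hb, Subgroup.mem_bot] at hg
  · exfalso
    have hconst : (χ : S → ℂ) = (χ : S → ℂ) 1 • (H12.oneIrr S : S → ℂ) := funext fun x => by
      rw [Pi.smul_apply, H12.oneIrr_apply, smul_eq_mul, mul_one]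
      exact (H12.mem_charKer (H12.isCharacter_irr χ)).mp (ht ▸ Subgroup.mem_top x)
    have h1 : classInner (χ : S → ℂ) (H12.oneIrr S : S → ℂ) = (χ : S → ℂ) 1 := by
      conv_lhs => rw [hconst]
      rw [H12.classInner_smul_left, H12.classInner_irr_self, mul_one]
    rw [H12.classInner_irr_ne hχ] at h1
    exact H12.irr_apply_one_ne_zero χ h1.symm

theorem commutator_top (hna : ¬ IsMulCommutative S) : commutator S = ⊤ := by
  rcases (Subgroup.commutator_normal (⊤ : Subgroup S) ⊤).eq_bot_or_eq_top with h | h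
  · exact absurd (⟨⟨fun a b => by
      have hm : ⁅a, b⁆ ∈ (⊥ : Subgroup S) :=
        h ▸ Subgroup.commutator_mem_commutator (Subgroup.mem_top a) (Subgroup.mem_top b)
      exact commutatorElement_eq_one_iff_mul_comm.mp (Subgroup.mem_bot.mp hm)⟩⟩ : IsMulCommutative S) hna
  · exact h

theorem eq_one_of_norm_eq (hna : ¬ IsMulCommutative S) (χ : IrrCharacter S) (hχ : χ ≠ H12.oneIrr S)
    {g : S} (h : ‖(χ : S → ℂ) g‖ = (H12.degree (χ : S → ℂ) : ℝ)) : g = 1 := by
  obtain ⟨n, ρ, hρ, hρχ⟩ := χ.2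
  rw [← hρχ, H12.degree_character] at h
  obtain ⟨ω, hω⟩ := H12.exists_scalar_of_norm_eq ρ g h
  have hcenter : g ∈ Subgroup.center S := by
    rw [Subgroup.mem_center_iff]
    intro x
    have hc : ρ x * ρ g = ρ g * ρ x := by
      rw [hω]
      exact LinearMap.ext fun v => by simp
    have hc' : ρ (x * g * (g * x)⁻¹) = 1 := by
      rw [map_mul ρ (x * g), map_mul ρ x g, hc, ← map_mul ρ g x, ← map_mul, mul_inv_cancel, map_one]
    have := eq_one_of_eq_degree χ hχ (g := x * g * (g * x)⁻¹) (by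
      rw [← hρχ]
      show LinearMap.trace ℂ _ (ρ _) = LinearMap.trace ℂ _ (ρ 1)
      rw [hc', map_one ρ])
    exact mul_inv_eq_one.mp this
  rcases (inferInstance : (Subgroup.center S).Normal).eq_bot_or_eq_top with hb | ht
  · rwa [hb, Subgroup.mem_bot] at hcenter
  · exact absurd ⟨⟨fun a b => Subgroup.mem_center_iff.mp (ht ▸ Subgroup.mem_top b) a⟩⟩ hna

theorem burnside (hna : ¬ IsMulCommutative S) (χ : IrrCharacter S) (hχ : χ ≠ H12.oneIrr S) {g : S}
    (hg : g ≠ 1) (hcop : Nat.Coprime (H12.degree (χ : S → ℂ)) (Subgroup.centralizer ({g} : Set S)).index) :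
    (χ : S → ℂ) g = 0 := by
  obtain ⟨n, ρ, hρ, hρχ⟩ := χ.2
  haveI := hρ
  rw [← hρχ, H12.degree_character] at hcop
  rcases H12.character_eq_zero_or_norm_eq ρ g hcop with h | h
  · rw [← hρχ]; exact h
  · exact absurd (eq_one_of_norm_eq hna χ hχ (by rw [← hρχ, H12.degree_character]; exact h)) hg

theorem ne_zero_of_prime_power {q i : ℕ} (hq : q.Prime) (χ : IrrCharacter S) {g : S}
    (hg : orderOf g = q ^ i) (hd : ¬ q ∣ H12.degree (χ : S → ℂ)) : (χ : S → ℂ) g ≠ 0 := by
  intro h0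
  obtain ⟨M, hM⟩ := H22.exists_isPModular q hq
  haveI : M.IsPrime := H20.isPrime_of_modular hM
  have h := H22.memIdeal_apply_sub_one hM (H12.isCharacter_irr χ) hg
  rw [h0, zero_sub, H12.irr_apply_one] at h
  apply hd
  rw [← H20.natCast_memIdeal_iff hM]
  simpa using H20.memIdeal_mul (H20.memRing_of_isIntegral (isIntegral_one.neg : IsIntegral ℤ (-1 : ℂ))) h

theorem degree_ne_two (hna : ¬ IsMulCommutative S) (χ : IrrCharacter S) (hχ : χ ≠ H12.oneIrr S) :
    H12.degree (χ : S → ℂ) ≠ 2 := by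
  intro hd
  haveI : Fact (Nat.Prime 2) := ⟨Nat.prime_two⟩
  obtain ⟨t, ht⟩ := exists_prime_orderOf_dvd_card' (G := S) 2 (hd ▸ H12.irr_degree_dvd_card χ)
  obtain ⟨n, ρ, hρ, hρχ⟩ := χ.2
  have hn : n = 2 := by
    rw [← hd, ← hρχ, H12.degree_character, Module.finrank_fin_fun]
  subst hn
  have ht2 : ρ t * ρ t = 1 := by
    rw [← map_mul, ← sq, show t ^ 2 = 1 from ht ▸ pow_orderOf_eq_one t, map_one]
  have hdet : LinearMap.det (ρ t) = 1 := by
    have hk : t ∈ (H14.detHom ρ).ker :=
      (Abelianization.commutator_subset_ker (H14.detHom ρ)) ((commutator_top hna).symm ▸ Subgroup.mem_top t)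
    have := congrArg Units.val (MonoidHom.mem_ker.mp hk)
    rwa [H14.detHom_apply, Units.val_one] at this
  set A := LinearMap.toMatrix' (ρ t) with hA
  have hA2 : A * A = 1 := by
    rw [hA, ← LinearMap.toMatrix'_mul, ht2, LinearMap.toMatrix'_one]
  have hAd : A.det = 1 := by rw [hA, LinearMap.det_toMatrix', hdet]
  have htr : (χ : S → ℂ) t = A 0 0 + A 1 1 := by
    rw [← hρχ, hA]
    show LinearMap.trace ℂ _ (ρ t) = _
    rw [LinearMap.trace_eq_matrix_trace ℂ (Pi.basisFun ℂ (Fin 2)), Matrix.trace_fin_two]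
    simp [LinearMap.toMatrix_eq_toMatrix']
  rw [Matrix.det_fin_two] at hAd
  have e00 := congrFun (congrFun hA2 0) 0
  have e11 := congrFun (congrFun hA2 1) 1
  simp only [Matrix.mul_apply, Fin.sum_univ_two, Matrix.one_apply_eq] at e00 e11
  have hsq : ((χ : S → ℂ) t) ^ 2 = 4 := by
    rw [htr]
    linear_combination e00 + e11 + 2 * hAd
  have hnorm : ‖(χ : S → ℂ) t‖ = (H12.degree (χ : S → ℂ) : ℝ) := by
    have h4 : ‖(χ : S → ℂ) t‖ ^ 2 = 4 := by rw [← norm_pow, hsq]; simp
    rw [hd]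
    push_cast
    nlinarith [norm_nonneg ((χ : S → ℂ) t)]
  have h1 := eq_one_of_norm_eq hna χ hχ hnorm
  rw [h1, orderOf_one] at ht
  omega

theorem card_sylow (hna : ¬ IsMulCommutative S) {p : ℕ} [hp : Fact p.Prime] (χ : IrrCharacter S)
    (hχ : χ ≠ H12.oneIrr S) (hd : H12.degree (χ : S → ℂ) = p) (P : Sylow p S) :
    Nat.card (P : Subgroup S) = p := by
  classical
  have hpS : p ∣ Nat.card S := hd ▸ H12.irr_degree_dvd_card χ
  haveI hPnt : Nontrivial (P : Subgroup S) :=
    Subgroup.nontrivial_iff_ne_bot _ |>.mpr (Sylow.ne_bot_of_dvd_card P hpS)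
  haveI : Fintype (P : Subgroup S) := Fintype.ofFinite _
  set f : ↥(P : Subgroup S) → ℂ := fun a => (χ : S → ℂ) a with hf
  have hfc : IsCharacter (P : Subgroup S) f := H12.IsCharacter.res (H12.isCharacter_irr χ) _
  have hvan : ∀ a : (P : Subgroup S), a ≠ 1 →
      (∀ b : (P : Subgroup S), (b : S) * (a : S) = (a : S) * b) → f a = 0 := by
    intro a ha hcomm
    refine burnside hna χ hχ (fun h => ha (Subtype.ext h)) ?_
    rw [hd]
    refine (hp.out.coprime_iff_not_dvd.mpr fun hdvd => P.not_dvd_index (hdvd.trans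
      (Subgroup.index_dvd_of_le ?_)))
    intro b hb
    exact Subgroup.mem_centralizer_singleton_iff.mpr (hcomm ⟨b, hb⟩)
  -- all constituents are linear
  obtain ⟨m, hm⟩ := H12.IsCharacter.exists_mult hfc
  have h1 : p = ∑ θ, m θ * H12.degree (θ : ↥(P : Subgroup S) → ℂ) := by
    have h := congrFun hm 1
    simp only [hf, Finset.sum_apply, Pi.smul_apply, smul_eq_mul, OneMemClass.coe_one, H12.irr_apply_one,
      hd] at h
    exact_mod_cast h
  have hlin : ∀ θ, m θ ≠ 0 → H12.degree (θ : ↥(P : Subgroup S) → ℂ) = 1 := by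
    intro θ hθ
    by_contra hne
    obtain ⟨i, -, hi⟩ := (Nat.dvd_prime_pow hp.out).mp
      ((IsPGroup.iff_card.mp P.isPGroup').choose_spec ▸ H12.irr_degree_dvd_card θ)
    have hge : p ≤ H12.degree (θ : ↥(P : Subgroup S) → ℂ) := by
      rw [hi] at hne ⊢
      exact Nat.le_self_pow (fun h => hne (by rw [h, pow_zero])) p
    have hle := Finset.single_le_sum (f := fun θ => m θ * H12.degree (θ : ↥(P : Subgroup S) → ℂ))
      (fun _ _ => Nat.zero_le _) (Finset.mem_univ θ)
    rw [← h1] at hle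
    have hm1 : 1 ≤ m θ := Nat.pos_of_ne_zero hθ
    have hmθ : m θ = 1 ∧ H12.degree (θ : ↥(P : Subgroup S) → ℂ) = p := by
      constructor <;> nlinarith [hp.out.pos]
    have hrest : ∀ θ', θ' ≠ θ → m θ' = 0 := by
      intro θ' hne'
      by_contra h0
      rw [← Finset.add_sum_erase _ _ (Finset.mem_univ θ), hmθ.1, hmθ.2, one_mul] at h1
      have := (Finset.sum_eq_zero_iff).mp (by omega :
        ∑ x ∈ Finset.univ.erase θ, m x * H12.degree (x : ↥(P : Subgroup S) → ℂ) = 0) θ'
        (Finset.mem_erase.mpr ⟨hne', Finset.mem_univ _⟩)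
      rcases Nat.mul_eq_zero.mp this with h | h
      · exact h0 h
      · exact (H12.irr_degree_pos θ').ne' h
    have hfθ : f = (θ : ↥(P : Subgroup S) → ℂ) := by
      rw [hm, Finset.sum_eq_single θ (fun b _ hb => by rw [hrest b hb]; simp) (by simp), hmθ.1]
      simp
    haveI := IsPGroup.center_nontrivial (P.isPGroup' : IsPGroup p (P : Subgroup S))
    obtain ⟨⟨z, hz⟩, hz1⟩ := exists_ne (1 : Subgroup.center (P : Subgroup S))
    have hzcomm : ∀ b : (P : Subgroup S), b * z = z * b := fun b => Subgroup.mem_center_iff.mp hz b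
    have h0 := hvan z (fun h => hz1 (Subtype.ext h)) fun b => congrArg Subtype.val (hzcomm b)
    rw [hfθ] at h0
    obtain ⟨d, π, hπ, hπθ⟩ := θ.2
    haveI := hπ
    obtain ⟨c, hc⟩ := H12.exists_scalar_of_commute π (π z) (fun b => by rw [← map_mul, ← map_mul, hzcomm])
    have hd0 : Module.finrank ℂ (Fin d → ℂ) ≠ 0 := (H12.finrank_pos_of_isIrreducible π).ne'
    rw [← hπθ] at h0
    have h0' : c * (Module.finrank ℂ (Fin d → ℂ) : ℂ) = 0 := by
      have : LinearMap.trace ℂ _ (π z) = 0 := h0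
      rw [hc, map_smul, LinearMap.trace_one, smul_eq_mul] at this
      exact this
    rcases mul_eq_zero.mp h0' with h | h
    · have hone : π z * π z⁻¹ = 1 := by rw [← map_mul, mul_inv_cancel, map_one]
      rw [hc, h, zero_smul, zero_mul] at hone
      have := congrArg (LinearMap.trace ℂ (Fin d → ℂ)) hone
      rw [map_zero, LinearMap.trace_one] at this
      exact hd0 (Nat.cast_eq_zero.mp this.symm)
    · exact hd0 (Nat.cast_eq_zero.mp h)
  -- hence abelian
  have hab : ∀ a b : (P : Subgroup S), a * b = b * a := by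
    intro a b
    apply Subtype.ext
    have hfc1 : f (a * b * a⁻¹ * b⁻¹) = f 1 := by
      rw [hm]
      simp only [Finset.sum_apply, Pi.smul_apply, smul_eq_mul]
      refine Finset.sum_congr rfl fun θ _ => ?_
      by_cases h0 : m θ = 0
      · simp [h0]
      · obtain ⟨l, hl⟩ := H12.exists_monoidHom_of_apply_one_eq_one (H12.isCharacter_irr θ)
          (by rw [H12.irr_apply_one, hlin θ h0, Nat.cast_one])
        rw [← hl]
        simp only [map_mul, map_inv, map_one]
        rw [mul_comm (l a), mul_assoc (l b), mul_inv_cancel, mul_one, mul_inv_cancel]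
    have := eq_one_of_eq_degree χ hχ hfc1
    simp only [Subgroup.coe_mul, InvMemClass.coe_inv] at this ⊢
    rwa [← commutatorElement_def, commutatorElement_eq_one_iff_mul_comm] at this
  -- regular restriction
  obtain ⟨k, hk⟩ := H12.IsCharacter.classInner_nat hfc (H12.isCharacter_irr (H12.oneIrr _))
  rw [H12.classInner_def, Finset.sum_eq_single (1 : (P : Subgroup S)) (fun a _ ha => by
    rw [hvan a ha (fun b => congrArg Subtype.val (hab b a)), zero_mul]) (by simp)] at hk
  simp only [hf, OneMemClass.coe_one, H12.irr_apply_one, hd, H12.oneIrr_apply, map_one, mul_one] at hk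
  have hP0 : (Nat.card (P : Subgroup S) : ℂ) ≠ 0 := Nat.cast_ne_zero.mpr Nat.card_pos.ne'
  have hk' : p = Nat.card (P : Subgroup S) * k := by
    rw [inv_mul_eq_iff_eq_mul₀ hP0] at hk
    exact_mod_cast hk
  exact ((Nat.dvd_prime hp.out).mp ⟨k, hk'⟩).resolve_left Finite.one_lt_card.ne'

section Mult

variable {p : ℕ} [hp : Fact p.Prime]

/-- A power of `x` indexed by residues. -/
def zpw (x : S) (a : ZMod p) : S := x ^ a.val

theorem zpw_mul {x : S} (hx : x ^ p = 1) (a b : ZMod p) : zpw x (a * b) = zpw x a ^ b.val := by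
  rw [zpw, zpw, ← pow_mul, ZMod.val_mul]
  exact (pow_eq_pow_mod _ hx).symm

theorem zpw_injective {x : S} (hx : orderOf x = p) : Function.Injective (zpw (p := p) x) := by
  intro a b h
  exact ZMod.val_injective p (pow_injOn_Iio_orderOf (hx.symm ▸ ZMod.val_lt a) (hx.symm ▸ ZMod.val_lt b) h)

variable {ζ : ℂ} (hζ : IsPrimitiveRoot ζ p)

/-- The standard additive character. -/
noncomputable def ech : AddChar (ZMod p) ℂ := AddChar.zmodChar p hζ.pow_eq_one

theorem ech_sum (c : ZMod p) : ∑ a : ZMod p, ech hζ (a * c) = if c = 0 then (p : ℂ) else 0 := by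
  simp only [ech]
  rw [AddChar.sum_mulShift c (AddChar.zmodChar_primitive_of_primitive_root p hζ), ZMod.card]
  split_ifs <;> simp

theorem conj_ech (a : ZMod p) : conj (ech hζ a) = ech hζ (-a) := by
  rw [AddChar.map_neg_eq_inv]
  refine H12.conj_eq_inv_of_pow_eq_one hp.out.ne_zero ?_
  rw [ech, AddChar.zmodChar_apply, ← pow_mul, mul_comm, pow_mul, hζ.pow_eq_one, one_pow]

/-- Multiplicity of the eigenvalue `ζ^u` of `x`. -/
noncomputable def mult (x : S) (f : S → ℂ) (u : ZMod p) : ℂ :=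
  (p : ℂ)⁻¹ * ∑ a : ZMod p, f (zpw x a) * ech hζ (-(a * u))

theorem mult_eq_card {ι : Type*} [Fintype ι] (x : S) (f : S → ℂ) (ν : ι → ZMod p)
    (hf : ∀ a : ZMod p, f (zpw x a) = ∑ i, ech hζ (a * ν i)) (u : ZMod p) :
    mult hζ x f u = ((Finset.univ.filter fun i => ν i = u).card : ℂ) := by
  classical
  rw [mult]
  simp only [hf, Finset.sum_mul]
  rw [Finset.sum_comm]
  have h : ∀ i, ∑ a : ZMod p, ech hζ (a * ν i) * ech hζ (-(a * u)) = if ν i = u then (p : ℂ) else 0 := by
    intro i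
    rw [Finset.sum_congr rfl fun a _ => show ech hζ (a * ν i) * ech hζ (-(a * u)) = ech hζ (a * (ν i - u)) by
      rw [← AddChar.map_add_eq_mul]; congr 1; ring, ech_sum]
    simp only [sub_eq_zero]
  simp only [h, ← Finset.sum_filter, Finset.sum_const, nsmul_eq_mul]
  rw [mul_comm, mul_assoc, mul_inv_cancel₀ (Nat.cast_ne_zero.mpr hp.out.ne_zero), mul_one]

/-- Eigenvalue exponents of `x` in a character, and their behaviour under powers. -/
theorem exists_exponents {x : S} (hx : orderOf x = p) (χ : IrrCharacter S) :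
    ∃ ν : Fin (H12.degree (χ : S → ℂ)) → ZMod p, ∀ k : ℕ, ∀ a : ZMod p,
      (χ : S → ℂ) (zpw x a ^ k) = ∑ i, ech hζ (a * ((k : ZMod p) * ν i)) := by
  obtain ⟨d, ρ, hρ, hρχ⟩ := χ.2
  have hdeg : H12.degree (χ : S → ℂ) = Module.finrank ℂ (Fin d → ℂ) := by
    rw [← hρχ, H12.degree_character]
  obtain ⟨μ, h1, h2, -⟩ := H12.exists_char_eigenvalues ρ x
  haveI : NeZero p := ⟨hp.out.ne_zero⟩
  choose e he he' using fun i => hζ.eq_pow_of_pow_eq_one (show μ i ^ p = 1 by rw [← hx]; exact h1 i)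
  refine ⟨fun i => (e (Fin.cast hdeg i) : ZMod p), fun k a => ?_⟩
  rw [show (χ : S → ℂ) (zpw x a ^ k) = ρ.character (zpw x a ^ k) from (congrFun hρχ _).symm, zpw, ← pow_mul, h2]
  refine (Fintype.sum_equiv (finCongr hdeg) _ _ fun i => ?_).symm
  rw [ech, AddChar.zmodChar_apply, finCongr_apply, ← he' (Fin.cast hdeg i), ← pow_mul,
    show (a * ((k : ZMod p) * (e (Fin.cast hdeg i) : ZMod p))) =
      ((e (Fin.cast hdeg i) * (a.val * k) : ℕ) : ZMod p) by
    push_cast [ZMod.natCast_zmod_val]; ring, ZMod.val_natCast]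
  exact (pow_eq_pow_mod _ hζ.pow_eq_one).symm

theorem zpw_one (x : S) : zpw (p := p) x 1 = x := by
  rw [zpw, ZMod.val_one, pow_one]

open scoped Classical in
/-- Self-centralisation bounds the spread of multiplicities. -/
theorem sum_diff_sq_le {x : S} (hx : orderOf x = p)
    (hC : ∀ a : ZMod p, a ≠ 0 → Nat.card ↥(Subgroup.centralizer ({zpw x a} : Set S)) = p)
    {u v : ZMod p} (hu : u ≠ 0) (hv : v ≠ 0) :
    ∑ χ : IrrCharacter S, ‖mult hζ x (χ : S → ℂ) u - mult hζ x (χ : S → ℂ) v‖ ^ 2 ≤ 2 := by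
  have hxp : x ^ p = 1 := hx ▸ pow_orderOf_eq_one x
  set δ : ZMod p → ℂ := fun a => ech hζ (-(a * u)) - ech hζ (-(a * v)) with hδ
  have hδ0 : δ 0 = 0 := by simp [hδ]
  have hdiff : ∀ χ : IrrCharacter S, mult hζ x (χ : S → ℂ) u - mult hζ x (χ : S → ℂ) v =
      (p : ℂ)⁻¹ * ∑ a, (χ : S → ℂ) (zpw x a) * δ a := fun χ => by
    simp only [mult, hδ, mul_sub, Finset.sum_sub_distrib]
  let E : Finset (ZMod p) := Finset.univ.filter fun k => k ≠ 0 ∧ IsConj x (zpw x k)
  have hcol : ∀ a b : ZMod p, a ≠ 0 → b ≠ 0 →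
      ∑ χ : IrrCharacter S, (χ : S → ℂ) (zpw x a) * conj ((χ : S → ℂ) (zpw x b)) =
        if b * a⁻¹ ∈ E then (p : ℂ) else 0 := by
    intro a b ha hb
    rw [H12.column_orthogonality, hC a ha]
    have key : IsConj (zpw x a) (zpw x b) ↔ b * a⁻¹ ∈ E := by
      simp only [E, Finset.mem_filter, Finset.mem_univ, true_and, ne_eq, mul_eq_zero, inv_eq_zero, hb, ha,
        or_self, not_false_iff]
      constructor
      · intro h
        obtain ⟨c, hc⟩ := isConj_iff.mp h
        refine isConj_iff.mpr ⟨c, ?_⟩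
        have := congrArg (fun y => y ^ (a⁻¹).val) hc
        simp only [conj_pow, ← zpw_mul hxp, mul_inv_cancel₀ ha, zpw_one] at this
        exact this
      · intro h
        obtain ⟨c, hc⟩ := isConj_iff.mp h
        refine isConj_iff.mpr ⟨c, ?_⟩
        have := congrArg (fun y => y ^ a.val) hc
        simp only [conj_pow, ← zpw_mul hxp, mul_assoc b, inv_mul_cancel₀ ha, mul_one] at this
        exact this
    by_cases h : b * a⁻¹ ∈ E
    · rw [if_pos h, if_pos (key.mpr h)]
    · rw [if_neg h, if_neg (mt key.mp h)]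
  have hS : ((∑ χ : IrrCharacter S, ‖mult hζ x (χ : S → ℂ) u - mult hζ x (χ : S → ℂ) v‖ ^ 2 : ℝ) : ℂ) =
      (p : ℂ)⁻¹ * ∑ k ∈ E, ∑ a, δ a * conj (δ (k * a)) := by
    push_cast
    simp only [← Complex.mul_conj', hdiff, map_mul, map_inv₀, map_natCast, map_sum, Finset.mul_sum,
      Finset.sum_mul]
    rw [Finset.sum_comm]
    have hinner : ∀ b : ZMod p, ∑ χ : IrrCharacter S, ∑ a : ZMod p,
        (p : ℂ)⁻¹ * ((χ : S → ℂ) (zpw x a) * δ a) *
          ((p : ℂ)⁻¹ * (conj ((χ : S → ℂ) (zpw x b)) * conj (δ b))) =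
        ∑ a : ZMod p, if b * a⁻¹ ∈ E ∧ a ≠ 0 then (p : ℂ)⁻¹ * (δ a * conj (δ b)) else 0 := by
      intro b
      rw [Finset.sum_comm]
      refine Finset.sum_congr rfl fun a _ => ?_
      have hfac : ∑ χ : IrrCharacter S, (p : ℂ)⁻¹ * ((χ : S → ℂ) (zpw x a) * δ a) *
          ((p : ℂ)⁻¹ * (conj ((χ : S → ℂ) (zpw x b)) * conj (δ b))) =
          (p : ℂ)⁻¹ * (p : ℂ)⁻¹ * (δ a * conj (δ b)) *
            ∑ χ : IrrCharacter S, (χ : S → ℂ) (zpw x a) * conj ((χ : S → ℂ) (zpw x b)) := by
        rw [Finset.mul_sum]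
        exact Finset.sum_congr rfl fun χ _ => by ring
      rw [hfac]
      by_cases ha : a = 0
      · subst ha
        rw [hδ0, if_neg (fun h => h.2 rfl)]
        simp
      by_cases hb : b = 0
      · subst hb
        rw [hδ0, if_neg (fun h => (Finset.mem_filter.mp h.1).2.1 (zero_mul _))]
        simp
      rw [hcol a b ha hb]
      by_cases h : b * a⁻¹ ∈ E
      · rw [if_pos h, if_pos ⟨h, ha⟩]
        field_simp [Nat.cast_ne_zero.mpr hp.out.ne_zero]
      · rw [if_neg h, if_neg (fun h' => h h'.1), mul_zero]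
    rw [Finset.sum_congr rfl fun b _ => hinner b, Finset.sum_comm]
    conv_rhs => rw [Finset.sum_comm]
    refine Finset.sum_congr rfl fun a _ => ?_
    by_cases ha : a = 0
    · subst ha
      simp [hδ0]
    refine (Finset.sum_bij_ne_zero (fun k _ _ => k * a) (fun _ _ _ => Finset.mem_univ _) ?_ ?_ ?_).symm
    · intro k _ _ k' _ _ h
      exact mul_right_cancel₀ ha h
    · intro b _ hb
      have hcond : b * a⁻¹ ∈ E ∧ a ≠ 0 := by
        by_contra h
        rw [if_neg h] at hb
        exact hb rfl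
      rw [if_pos hcond] at hb
      exact ⟨b * a⁻¹, hcond.1, by rwa [inv_mul_cancel_right₀ ha], inv_mul_cancel_right₀ ha b⟩
    · intro k hk _
      rw [mul_inv_cancel_right₀ ha, if_pos ⟨hk, ha⟩]
  have hval : ∀ k : ZMod p, ∑ a, δ a * conj (δ (k * a)) =
      (p : ℂ) * ((if k * u = u then 1 else 0) + (if k * v = v then 1 else 0) -
        (if k * v = u then 1 else 0) - (if k * u = v then 1 else 0)) := by
    intro k
    simp only [hδ, map_sub, conj_ech, neg_neg, sub_mul, mul_sub, Finset.sum_sub_distrib]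
    have key : ∀ c d : ZMod p, ∑ a, ech hζ (-(a * c)) * ech hζ (k * a * d) =
        (p : ℂ) * (if k * d = c then 1 else 0) := by
      intro c d
      rw [Finset.sum_congr rfl fun a _ => show ech hζ (-(a * c)) * ech hζ (k * a * d) = ech hζ (a * (k * d - c)) by
        rw [← AddChar.map_add_eq_mul]; congr 1; ring, ech_sum]
      simp only [sub_eq_zero, mul_ite, mul_one, mul_zero]
    rw [key, key, key, key]
    ring
  have hle : ∑ χ : IrrCharacter S, ‖mult hζ x (χ : S → ℂ) u - mult hζ x (χ : S → ℂ) v‖ ^ 2 =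
      ∑ k ∈ E, (((if k * u = u then 1 else 0) + (if k * v = v then 1 else 0) -
        (if k * v = u then 1 else 0) - (if k * u = v then 1 else 0)) : ℝ) := by
    apply Complex.ofReal_injective
    rw [hS]
    simp only [hval, ← Finset.mul_sum]
    rw [← mul_assoc, inv_mul_cancel₀ (Nat.cast_ne_zero.mpr hp.out.ne_zero), one_mul]
    push_cast
    refine Finset.sum_congr rfl fun k _ => ?_
    split_ifs <;> simp
  rw [hle]
  calc ∑ k ∈ E, (((if k * u = u then 1 else 0) + (if k * v = v then 1 else 0) -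
        (if k * v = u then 1 else 0) - (if k * u = v then 1 else 0)) : ℝ)
      ≤ ∑ k ∈ E, (if k = 1 then (2 : ℝ) else 0) := by
        refine Finset.sum_le_sum fun k _ => ?_
        by_cases h : k = 1
        · subst h
          simp only [one_mul, if_true]
          split_ifs <;> norm_num
        · rw [if_neg h, if_neg (fun e => h ((mul_eq_right₀ hu).mp e)), if_neg (fun e => h ((mul_eq_right₀ hv).mp e))]
          split_ifs <;> norm_num
    _ ≤ 2 := by
        rw [Finset.sum_ite_eq']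
        split_ifs <;> norm_num

end Mult

open scoped Classical in
/-- No non-abelian simple group has all nonlinear degrees prime. -/
theorem false_of_prime_degrees (hna : ¬ IsMulCommutative S)
    (hd : ∀ χ : IrrCharacter S, χ ≠ H12.oneIrr S → (H12.degree (χ : S → ℂ)).Prime) : False := by
  obtain ⟨χ₀, hχ₀⟩ : ∃ χ : IrrCharacter S, χ ≠ H12.oneIrr S := by
    by_contra h
    push Not at h
    have h1 := H12.sum_degree_sq_nat (G := S)
    rw [Finset.sum_eq_single (H12.oneIrr S) (fun b _ hb => absurd (h b) hb) (by simp)] at h1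
    have hone : H12.degree ((H12.oneIrr S : IrrCharacter S) : S → ℂ) = 1 := by
      have := H12.irr_apply_one (H12.oneIrr S)
      rw [H12.oneIrr_apply] at this
      exact_mod_cast this.symm
    rw [hone, one_pow] at h1
    haveI := (Nat.card_eq_one_iff_unique.mp h1.symm).1
    exact hna ⟨⟨fun a b => Subsingleton.elim _ _⟩⟩
  obtain ⟨χp, hχp, hmax⟩ := Finset.exists_max_image (Finset.univ.filter fun χ => χ ≠ H12.oneIrr S)
    (fun χ : IrrCharacter S => H12.degree (χ : S → ℂ))
    ⟨χ₀, Finset.mem_filter.mpr ⟨Finset.mem_univ _, hχ₀⟩⟩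
  simp only [Finset.mem_filter, Finset.mem_univ, true_and] at hχp hmax
  set p := H12.degree (χp : S → ℂ) with hpdef
  haveI hp : Fact p.Prime := ⟨hd χp hχp⟩
  have hp2 : p ≠ 2 := degree_ne_two hna χp hχp
  obtain ⟨P⟩ : Nonempty (Sylow p S) := inferInstance
  have hPc := card_sylow hna χp hχp rfl P
  have hnotsq : ¬ p ^ 2 ∣ Nat.card S := by
    intro h
    obtain ⟨Q, hQ⟩ := Sylow.exists_subgroup_card_pow_prime p h
    obtain ⟨R, hR⟩ := (IsPGroup.of_card hQ).exists_le_sylow
    have h1 := Subgroup.card_dvd_of_le hR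
    rw [hQ, card_sylow hna χp hχp rfl R] at h1
    have := Nat.le_of_dvd hp.out.pos h1
    nlinarith [hp.out.two_le]
  obtain ⟨x, hx⟩ := exists_prime_orderOf_dvd_card' (G := S) p (H12.irr_degree_dvd_card χp)
  have hxp : x ^ p = 1 := hx ▸ pow_orderOf_eq_one x
  obtain ⟨ζ, hζ⟩ : ∃ ζ : ℂ, IsPrimitiveRoot ζ p := ⟨_, Complex.isPrimitiveRoot_exp p hp.out.ne_zero⟩
  -- self-centralising
  have hC : ∀ y : S, orderOf y = p → Nat.card ↥(Subgroup.centralizer ({y} : Set S)) = p := by
    intro y hy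
    by_contra hne
    set C := Subgroup.centralizer ({y} : Set S)
    have hyC : y ∈ C := Subgroup.mem_centralizer_singleton_iff.mpr rfl
    have hpC : p ∣ Nat.card C := hy ▸ Subgroup.orderOf_dvd_natCard C hyC
    obtain ⟨c, hc⟩ := hpC
    obtain ⟨q, hq, hqc⟩ := Nat.exists_prime_and_dvd (show c ≠ 1 from fun h => hne (by rw [hc, h, mul_one]))
    have hqp : q ≠ p := fun h => hnotsq (by
      rw [sq]
      exact (Nat.mul_dvd_mul_left p (h ▸ hqc)).trans (hc ▸ Subgroup.card_subgroup_dvd_card C))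
    haveI : Fact q.Prime := ⟨hq⟩
    obtain ⟨d, hd'⟩ := exists_prime_orderOf_dvd_card' (G := C) q (hc ▸ hqc.mul_left p)
    have hdo : orderOf (d : S) = q := by rw [Subgroup.orderOf_coe]; exact hd'
    have hd1 : (d : S) ≠ 1 := fun h => by rw [h, orderOf_one] at hdo; exact hq.one_lt.ne hdo
    have h0 := burnside hna χp hχp hd1 (by
      refine hp.out.coprime_iff_not_dvd.mpr fun h => hnotsq ?_
      have hyd : y ∈ Subgroup.centralizer ({(d : S)} : Set S) :=
        Subgroup.mem_centralizer_singleton_iff.mpr (Subgroup.mem_centralizer_singleton_iff.mp d.2).symm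
      rw [sq, ← Subgroup.index_mul_card (Subgroup.centralizer ({(d : S)} : Set S))]
      exact Nat.mul_dvd_mul h (hy ▸ Subgroup.orderOf_dvd_natCard _ hyd))
    exact ne_zero_of_prime_power hq χp (i := 1) (by rw [pow_one]; exact hdo)
      (fun h => hqp ((Nat.prime_dvd_prime_iff_eq hq hp.out).mp h)) h0
  have hCz : ∀ a : ZMod p, a ≠ 0 → Nat.card ↥(Subgroup.centralizer ({zpw x a} : Set S)) = p := by
    intro a ha
    refine hC _ (orderOf_eq_prime (by rw [zpw, ← pow_mul, mul_comm, pow_mul, hxp, one_pow]) fun h => ha ?_)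
    exact zpw_injective hx (h.trans (by rw [zpw, ZMod.val_zero, pow_zero]))
  have hx1 : x ≠ 1 := fun h => by rw [h, orderOf_one] at hx; exact hp.out.one_lt.ne hx
  -- the nonvanishing characters
  have hA : ∀ χ : IrrCharacter S, χ ≠ H12.oneIrr S → (χ : S → ℂ) x ≠ 0 →
      H12.degree (χ : S → ℂ) + 2 ≤ p := by
    intro χ hχ hne
    have hr := hd χ hχ
    have h2 := degree_ne_two hna χ hχ
    have hle := hmax χ hχ
    have hneq : H12.degree (χ : S → ℂ) ≠ p := fun h => hne (burnside hna χ hχ hx1 (by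
      rw [h]
      refine hp.out.coprime_iff_not_dvd.mpr fun hdv => hnotsq ?_
      rw [sq, ← Subgroup.index_mul_card (Subgroup.centralizer ({x} : Set S)), hC x hx]
      exact Nat.mul_dvd_mul hdv dvd_rfl))
    have o1 := hr.odd_of_ne_two h2
    have o2 := hp.out.odd_of_ne_two hp2
    obtain ⟨i, hi⟩ := o1
    obtain ⟨j, hj⟩ := o2
    omega
  obtain ⟨g, hg⟩ := IsCyclic.exists_generator (α := (ZMod p)ˣ)
  have hconj : ∀ (χ : IrrCharacter S) (j : (ZMod p)ˣ), ∃ χ' : IrrCharacter S,
      H12.degree (χ' : S → ℂ) = H12.degree (χ : S → ℂ) ∧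
      ∀ u, mult hζ x (χ' : S → ℂ) ((j : ZMod p) * u) = mult hζ x (χ : S → ℂ) u := by
    intro χ j
    have hcop : p.Coprime (Nat.card S / p) := hp.out.coprime_iff_not_dvd.mpr fun h => hnotsq (by
      rw [sq]
      exact Nat.mul_dvd_of_dvd_div (hx ▸ orderOf_dvd_natCard x) h)
    obtain ⟨k, hk1, hk2⟩ := Nat.chineseRemainder hcop (j : ZMod p).val 1
    have hkp : (k : ZMod p) = j := by
      rw [(ZMod.natCast_eq_natCast_iff _ _ _).mpr hk1, ZMod.natCast_zmod_val]
    have hk : k.Coprime (Nat.card S) := by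
      rw [← Nat.mul_div_cancel' (hx ▸ orderOf_dvd_natCard x : p ∣ Nat.card S)]
      refine Nat.Coprime.mul_right ?_ (by rw [Nat.Coprime, hk2.gcd_eq]; exact Nat.gcd_one_left _)
      refine (hp.out.coprime_iff_not_dvd.mpr fun h => ?_).symm
      exact j.ne_zero (hkp ▸ (ZMod.natCast_eq_zero_iff k p).mpr h)
    refine ⟨⟨_, H25.isIrrCharacter_comp_pow χ.2 hk⟩, by show _ = _; unfold H12.degree; simp, fun u => ?_⟩
    obtain ⟨ν, hν⟩ := exists_exponents hζ hx χ
    rw [mult_eq_card hζ x _ (fun i => (j : ZMod p) * ν i) (fun a => by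
        show (χ : S → ℂ) (zpw x a ^ k) = _
        rw [hν k a, hkp]),
      mult_eq_card hζ x _ ν (fun a => by
        have h := hν 1 a
        rw [pow_one] at h
        simpa using h)]
    simp only [mul_right_inj' j.ne_zero]
  have hnat : ∀ (χ : IrrCharacter S) (u : ZMod p), ∃ m : ℕ, mult hζ x (χ : S → ℂ) u = m := by
    intro χ u
    obtain ⟨ν, hν⟩ := exists_exponents hζ hx χ
    exact ⟨_, mult_eq_card hζ x _ ν (fun a => by
      have h := hν 1 a
      rw [pow_one] at h
      simpa using h) u⟩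
  choose m hm using hnat
  have hpair : ∀ χ : IrrCharacter S, χ ≠ H12.oneIrr S → (χ : S → ℂ) x ≠ 0 →
      ∃ a b : IrrCharacter S, a ≠ b ∧ H12.degree (a : S → ℂ) = H12.degree (χ : S → ℂ) ∧
        H12.degree (b : S → ℂ) = H12.degree (χ : S → ℂ) ∧ m a g ≠ m a 1 ∧ m b g ≠ m b 1 := by
    intro χ hχ hne
    have hA' := hA χ hχ hne
    obtain ⟨ν, hν⟩ := exists_exponents hζ hx χ
    have hcard : ∀ u, m χ u = (Finset.univ.filter fun i => ν i = u).card := fun u => by
      have h1 := hm χ u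
      rw [mult_eq_card hζ x _ ν (fun a => by
        have h := hν 1 a
        rw [pow_one] at h
        simpa using h) u] at h1
      exact_mod_cast h1.symm
    have hnon : ∃ u : (ZMod p)ˣ, m χ ((g * u : (ZMod p)ˣ) : ZMod p) ≠ m χ u := by
      by_contra hcon
      push Not at hcon
      have hall : ∀ u : (ZMod p)ˣ, m χ u = m χ ((1 : (ZMod p)ˣ) : ZMod p) := by
        intro u
        obtain ⟨n, rfl⟩ := mem_powers_iff_mem_zpowers.mpr (hg u)
        induction n with
        | zero => simp only [pow_zero]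
        | succ n ih => simp only [pow_succ'] at ih ⊢; rw [hcon, ih]
      set b := m χ ((1 : (ZMod p)ˣ) : ZMod p) with hb
      have hsum : ∑ u : ZMod p, m χ u = H12.degree (χ : S → ℂ) := by
        simp only [hcard]
        rw [← Finset.card_eq_sum_card_fiberwise (fun i _ => Finset.mem_univ (ν i)), Finset.card_univ,
          Fintype.card_fin]
      rw [← Finset.add_sum_erase _ _ (Finset.mem_univ (0 : ZMod p)),
        Finset.sum_congr rfl fun u hu => show m χ u = b from hall (Units.mk0 u (Finset.ne_of_mem_erase hu)),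
        Finset.sum_const, Finset.card_erase_of_mem (Finset.mem_univ _), Finset.card_univ, ZMod.card,
        smul_eq_mul] at hsum
      have hb0 : b = 0 := by
        by_contra h
        have : p - 1 ≤ (p - 1) * b := Nat.le_mul_of_pos_right _ (Nat.pos_of_ne_zero h)
        have := hp.out.two_le
        omega
      have hν0 : ∀ i, ν i = 0 := by
        intro i
        by_contra h
        have h' : m χ (ν i) = 0 := (hall (Units.mk0 _ h)).trans hb0
        rw [hcard, Finset.card_eq_zero, Finset.filter_eq_empty_iff] at h'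
        exact h' (Finset.mem_univ i) rfl
      refine hx1 (eq_one_of_eq_degree χ hχ ?_)
      have h1 := hν 1 (1 : ZMod p)
      rw [pow_one, zpw_one] at h1
      rw [h1, H12.irr_apply_one]
      simp [hν0]
    set δ : (ZMod p)ˣ → ℤ := fun u => (m χ ((g * u : (ZMod p)ˣ) : ZMod p) : ℤ) - m χ u with hδ
    have hzero : ∑ u, δ u = 0 := by
      rw [Finset.sum_sub_distrib, sub_eq_zero]
      exact Fintype.sum_equiv (Equiv.mulLeft g) _ _ fun u => rfl
    have hnz : ∃ u ∈ (Finset.univ : Finset (ZMod p)ˣ), δ u ≠ 0 := by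
      obtain ⟨u, hu⟩ := hnon
      exact ⟨u, Finset.mem_univ _, sub_ne_zero.mpr (by exact_mod_cast hu)⟩
    obtain ⟨w₁, hw₁⟩ : ∃ w, 0 < δ w := by
      by_contra hcon
      push Not at hcon
      obtain ⟨u, -, hu⟩ := hnz
      exact hu ((Finset.sum_eq_zero_iff_of_nonpos fun w _ => hcon w).mp hzero u (Finset.mem_univ _))
    obtain ⟨w₂, hw₂⟩ : ∃ w, δ w < 0 := by
      by_contra hcon
      push Not at hcon
      obtain ⟨u, -, hu⟩ := hnz
      exact hu ((Finset.sum_eq_zero_iff_of_nonneg fun w _ => hcon w).mp hzero u (Finset.mem_univ _))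
    have hshift : ∀ w, ∃ a : IrrCharacter S, H12.degree (a : S → ℂ) = H12.degree (χ : S → ℂ) ∧
        (m a g : ℤ) - m a 1 = δ w := by
      intro w
      obtain ⟨a, ha, ham⟩ := hconj χ w⁻¹
      refine ⟨a, ha, ?_⟩
      have h1 := ham ((g * w : (ZMod p)ˣ) : ZMod p)
      have h2 := ham (w : ZMod p)
      rw [← Units.val_mul, inv_mul_cancel, Units.val_one, hm, hm, Nat.cast_inj] at h2
      rw [← Units.val_mul, show w⁻¹ * (g * w) = g by rw [mul_comm g w, inv_mul_cancel_left], hm, hm,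
        Nat.cast_inj] at h1
      simp only [hδ, h1, h2]
    obtain ⟨a, ha, ha'⟩ := hshift w₁
    obtain ⟨b, hb, hb'⟩ := hshift w₂
    refine ⟨a, b, fun h => ?_, ha, hb, fun h => ?_, fun h => ?_⟩
    · rw [h, hb'] at ha'; omega
    · rw [h, sub_self] at ha'; omega
    · rw [h, sub_self] at hb'; omega
  -- all of them have the same degree
  have hsame : ∀ χ χ' : IrrCharacter S, χ ≠ H12.oneIrr S → (χ : S → ℂ) x ≠ 0 → χ' ≠ H12.oneIrr S →
      (χ' : S → ℂ) x ≠ 0 → H12.degree (χ : S → ℂ) = H12.degree (χ' : S → ℂ) := by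
    intro χ χ' h1 h2 h3 h4
    by_contra hne
    obtain ⟨a, b, hab, hda, hdb, hma, hmb⟩ := hpair χ h1 h2
    obtain ⟨a', b', hab', hda', hdb', hma', hmb'⟩ := hpair χ' h3 h4
    have hd1 : a ≠ a' := fun h => hne (by rw [← hda, h, hda'])
    have hd2 : a ≠ b' := fun h => hne (by rw [← hda, h, hdb'])
    have hd3 : b ≠ a' := fun h => hne (by rw [← hdb, h, hda'])
    have hd4 : b ≠ b' := fun h => hne (by rw [← hdb, h, hdb'])
    have hle := sum_diff_sq_le hζ hx hCz (u := (g : ZMod p)) (v := 1) g.ne_zero one_ne_zero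
    have hone : ∀ c : IrrCharacter S, m c g ≠ m c 1 →
        (1 : ℝ) ≤ ‖mult hζ x (c : S → ℂ) g - mult hζ x (c : S → ℂ) 1‖ ^ 2 := by
      intro c hc
      rw [hm, hm, show ((m c g : ℂ) - (m c 1 : ℂ)) = (((m c g : ℤ) - m c 1 : ℤ) : ℂ) by push_cast; ring,
        Complex.norm_intCast]
      have hz : ((m c g : ℤ) - m c 1) ≠ 0 := sub_ne_zero.mpr (fun h => hc (Nat.cast_inj.mp h))
      have h1 : (1 : ℝ) ≤ |(((m c g : ℤ) - m c 1 : ℤ) : ℝ)| := by
        rw [← Int.cast_abs]
        exact_mod_cast Int.one_le_abs hz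
      nlinarith
    have hsub := Finset.sum_le_sum_of_subset_of_nonneg (ι := IrrCharacter S) (s := {a, b, a', b'})
      (t := Finset.univ) (Finset.subset_univ _)
      (f := fun c : IrrCharacter S => ‖mult hζ x (c : S → ℂ) g - mult hζ x (c : S → ℂ) 1‖ ^ 2) (fun _ _ _ => by positivity)
    rw [Finset.sum_insert (by simp [hab, hd1, hd2]), Finset.sum_insert (by simp [hd3, hd4]),
      Finset.sum_insert (by simp [hab']), Finset.sum_singleton] at hsub
    linarith [hone a hma, hone b hmb, hone a' hma', hone b' hmb']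
  -- the final integrality contradiction
  have hcol := H12.column_orthogonality x (1 : S)
  rw [if_neg (fun h => hx1 (isConj_one_left.mp h)), ← Finset.add_sum_erase _ _ (Finset.mem_univ (H12.oneIrr S)),
    H12.oneIrr_apply, H12.oneIrr_apply, map_one, one_mul] at hcol
  by_cases hex : ∃ χ : IrrCharacter S, χ ≠ H12.oneIrr S ∧ (χ : S → ℂ) x ≠ 0
  · obtain ⟨χ₁, h1, h2⟩ := hex
    set r := H12.degree (χ₁ : S → ℂ) with hr
    set T := ∑ χ ∈ Finset.univ.erase (H12.oneIrr S), (χ : S → ℂ) x with hT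
    have hsum : ∑ χ ∈ Finset.univ.erase (H12.oneIrr S), (χ : S → ℂ) x * conj ((χ : S → ℂ) 1) =
        (r : ℂ) * T := by
      rw [hT, Finset.mul_sum]
      refine Finset.sum_congr rfl fun χ hχ => ?_
      by_cases h0 : (χ : S → ℂ) x = 0
      · simp [h0]
      · rw [H12.irr_apply_one, hsame χ χ₁ (Finset.ne_of_mem_erase hχ) h0 h1 h2, Complex.conj_natCast, mul_comm]
    rw [hsum] at hcol
    have hint : IsIntegral ℤ T :=
      IsIntegral.sum _ fun χ _ => H12.IsCharacter.isIntegral (H12.isCharacter_irr χ) x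
    have hr0 : (r : ℂ) ≠ 0 := Nat.cast_ne_zero.mpr (hd χ₁ h1).ne_zero
    have hTq : ((((-1 : ℚ) / r : ℚ)) : ℂ) = T := by
      push_cast
      rw [div_eq_iff hr0]
      linear_combination -hcol
    obtain ⟨z, hz⟩ := H12.exists_int_of_isIntegral_rat (hTq ▸ hint)
    have hrq : (r : ℚ) ≠ 0 := Nat.cast_ne_zero.mpr (hd χ₁ h1).ne_zero
    rw [eq_div_iff hrq] at hz
    have hz' : z * (r : ℤ) = -1 := by exact_mod_cast hz
    have hdvd : (r : ℤ) ∣ 1 := ⟨-z, by rw [mul_neg, mul_comm, hz']; norm_num⟩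
    exact (hd χ₁ h1).ne_one (Nat.dvd_one.mp (by exact_mod_cast hdvd))
  · push Not at hex
    rw [Finset.sum_eq_zero (fun χ hχ => by rw [hex χ (Finset.ne_of_mem_erase hχ), zero_mul]), add_zero] at hcol
    exact one_ne_zero hcol

end H19.PrimeDeg
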