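import Cfsg.Agent.H19.AbelianSum
import Cfsg.Agent.H12.InvConstituents

/-!
**Watanabe**: a block with abelian defect group and the block below it of the centraliser of an
element fixed by the inertial group have the same rank and the same number of characters.
-/

set_option autoImplicit false
set_option linter.unusedSectionVars false
set_option linter.style.haveILetI false

open Cfsg Finset
open scoped MonoidAlgebra

namespace H19.Watanabe

universe u

/-- Linear characters separate the cosets. -/
theorem coset_sum_eq {A : Type u} [Group A] [Fintype A] (hA : ∀ a b : A, a * b = b * a)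
    (K : Subgroup A) [Fintype K] (F : A → ℂ)
    (h : ∀ l : A →* ℂˣ, (∀ y ∈ K, l y = 1) → (∃ a, l a ≠ 1) → ∑ a : A, F a * (l a : ℂ) = 0)
    (u : A) : ∑ y : K, F (u * y) = ∑ y : K, F (y : A) := by
  classical
  letI : CommGroup A := { (inferInstance : Group A) with mul_comm := hA }
  haveI : Fintype (A ⧸ K) := Fintype.ofFinite _
  haveI : Fintype (A ⧸ K →* ℂˣ) := Fintype.ofFinite _
  -- the fibre sums
  let Φ : A ⧸ K → ℂ := fun q => ∑ a ∈ univ.filter (fun a : A => (a : A ⧸ K) = q), F a
  have hΦ : ∀ a : A, Φ (a : A ⧸ K) = ∑ y : K, F (a * y) := by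
    intro a
    refine (sum_bij (fun (y : K) _ => a * (y : A)) (fun y _ => ?_) (fun y _ z _ h => ?_)
      (fun b hb => ?_) fun _ _ => rfl).symm
    · exact mem_filter.2 ⟨mem_univ _, (QuotientGroup.eq.2 (by simp)).symm⟩
    · exact Subtype.ext (mul_left_cancel h)
    · exact ⟨⟨a⁻¹ * b, QuotientGroup.eq.1 (mem_filter.1 hb).2.symm⟩, mem_univ _,
        mul_inv_cancel_left a b⟩
  have horth : ∀ m : A ⧸ K →* ℂˣ, m ≠ 1 → ∑ q, Φ q * (m q : ℂ) = 0 := by
    intro m hm
    have hl : ∑ a : A, F a * ((m.comp (QuotientGroup.mk' K)) a : ℂ) = 0 := by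
      refine h _ (fun y hy => ?_) ?_
      · rw [MonoidHom.comp_apply, QuotientGroup.mk'_apply, (QuotientGroup.eq_one_iff y).2 hy,
          map_one]
      · by_contra hc
        push Not at hc
        exact hm (QuotientGroup.monoidHom_ext K (MonoidHom.ext hc))
    rw [← hl, ← sum_fiberwise_of_maps_to (g := fun a : A => (a : A ⧸ K)) (t := univ)
      fun _ _ => mem_univ _]
    refine sum_congr rfl fun q _ => ?_
    rw [sum_mul]
    refine sum_congr rfl fun a ha => ?_
    rw [MonoidHom.comp_apply, QuotientGroup.mk'_apply, (mem_filter.1 ha).2]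
  have hsum0 : ∀ m : A ⧸ K →* ℂˣ, m ≠ 1 → ∑ q, (m q : ℂ) = 0 := by
    intro m hm
    obtain ⟨r, hr⟩ : ∃ r, m r ≠ 1 := by
      by_contra hc
      push Not at hc
      exact hm (MonoidHom.ext hc)
    have h2 : (m r : ℂ) * ∑ q, (m q : ℂ) = ∑ q, (m q : ℂ) := by
      rw [mul_sum, ← Equiv.sum_comp (Equiv.mulLeft r) (fun q => (m q : ℂ))]
      exact sum_congr rfl fun q _ => by simp
    by_contra h0
    exact hr (Units.ext (by simpa using (mul_eq_right₀ h0).1 h2))
  let d : A ⧸ K → ℂ := fun q => (Nat.card (A ⧸ K) : ℂ) * Φ q - ∑ r, Φ r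
  have hd : ∀ m : A ⧸ K →* ℂˣ, ∑ q, d q * (m q : ℂ) = 0 := by
    intro m
    simp only [d, sub_mul, sum_sub_distrib, mul_assoc, ← mul_sum]
    by_cases hm : m = 1
    · subst hm
      simp [Nat.card_eq_fintype_card, mul_comm]
    · rw [horth m hm, hsum0 m hm, mul_zero, mul_zero, sub_zero]
  have hspan : Submodule.span ℂ (Set.range fun m : A ⧸ K →* ℂˣ =>
      ((Units.coeHom ℂ).comp m : A ⧸ K → ℂ)) = ⊤ := by
    refine LinearIndependent.span_eq_top_of_card_eq_finrank' ?_ ?_
    · exact (linearIndependent_monoidHom (A ⧸ K) ℂ).comp _ fun m m' hmm =>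
        MonoidHom.ext fun q => Units.ext (DFunLike.congr_fun hmm q)
    · have hcomm : commutator (A ⧸ K) = ⊥ := by
        rw [commutator_def, Subgroup.commutator_eq_bot_iff_le_centralizer]
        exact fun a _ => Subgroup.mem_centralizer_iff.2 fun b _ => mul_comm b a
      rw [Module.finrank_pi, ← Nat.card_eq_fintype_card, H12.card_monoidHom_units, hcomm,
        Subgroup.index_bot, Nat.card_eq_fintype_card]
  have hd0 : ∀ q, d q = 0 := by
    intro q
    let L : (A ⧸ K → ℂ) →ₗ[ℂ] ℂ :=
      { toFun := fun f => ∑ r, d r * f r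
        map_add' := fun f g => by simp [mul_add, sum_add_distrib]
        map_smul' := fun a f => by simp [mul_sum, mul_left_comm] }
    have hL : L = 0 := LinearMap.ext_on_range hspan fun m => hd m
    have := LinearMap.congr_fun hL (Pi.single q 1)
    simpa [L, Pi.single_apply] using this
  have hc : (Nat.card (A ⧸ K) : ℂ) ≠ 0 := Nat.cast_ne_zero.2 Nat.card_pos.ne'
  have hconst : Φ (u : A ⧸ K) = Φ ((1 : A) : A ⧸ K) := by
    refine mul_left_cancel₀ hc ?_
    have h1 := hd0 (u : A ⧸ K)
    have h2 := hd0 ((1 : A) : A ⧸ K)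
    simp only [d] at h1 h2
    linear_combination h1 - h2
  rw [hΦ, hΦ] at hconst
  simpa using hconst

variable {p : ℕ} [hp : Fact p.Prime]

section Coprime

variable {G : Type u} [Group G] [Finite G] {P T : Subgroup G}

/-- The commutators of `T` with `P`. -/
def commSub (P T : Subgroup G) : Subgroup P :=
  Subgroup.closure {z : P | ∃ t ∈ T, ∃ x : P, (z : G) = (x : G)⁻¹ * (t * (x : G) * t⁻¹)}

/-- A coprime action has no fixed point among the commutators. -/
theorem eq_one_of_fixed (hab : ∀ x ∈ P, ∀ y ∈ P, x * y = y * x) (hPp : IsPGroup p P)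
    (hTN : T ≤ Subgroup.normalizer (P : Set G))
    (hpC : ∀ S : Subgroup G, IsPGroup p S → S ≤ T → S ≤ Subgroup.centralizer (P : Set G))
    {y : P} (hy : y ∈ commSub P T) (hfix : ∀ t ∈ T, t * (y : G) * t⁻¹ = y) : y = 1 := by
  classical
  letI : CommGroup P :=
    { (inferInstance : Group P) with mul_comm := fun a b => Subtype.ext (hab a a.2 b b.2) }
  set C := (Subgroup.centralizer (P : Set G)).subgroupOf T with hC
  haveI : C.Normal := ⟨fun a ha t => by
    rw [hC, Subgroup.mem_subgroupOf, Subgroup.mem_centralizer_iff] at ha ⊢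
    intro x hx
    have hx' : (t : G)⁻¹ * x * (t : G) ∈ P := (Subgroup.mem_normalizer_iff''.1 (hTN t.2) x).1 hx
    have h := ha _ hx'
    push_cast
    calc x * ((t : G) * (a : G) * (t : G)⁻¹)
        = (t : G) * ((t : G)⁻¹ * x * (t : G) * (a : G)) * (t : G)⁻¹ := by group
      _ = (t : G) * ((a : G) * ((t : G)⁻¹ * x * (t : G))) * (t : G)⁻¹ := by rw [h]
      _ = _ := by group⟩
  haveI : Fintype (T ⧸ C) := Fintype.ofFinite _
  have hmem : ∀ (t : T) (x : P), (t : G) * (x : G) * (t : G)⁻¹ ∈ P := fun t x =>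
    (Subgroup.mem_normalizer_iff.1 (hTN t.2) _).1 x.2
  let act : T ⧸ C → P → P := Quotient.lift (fun t x => (⟨(t : G) * (x : G) * (t : G)⁻¹, hmem t x⟩ : P))
    fun a b hab' => funext fun x => Subtype.ext (by
      rw [← Quotient.eq_iff_equiv] at hab'
      have hm := Subgroup.mem_subgroupOf.1 (QuotientGroup.eq.1 hab')
      simp only [Subgroup.coe_mul, Subgroup.coe_inv] at hm
      have hc := Subgroup.mem_centralizer_iff.1 hm (x : G) x.2
      show (a : G) * (x : G) * (a : G)⁻¹ = (b : G) * (x : G) * (b : G)⁻¹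
      calc (a : G) * (x : G) * (a : G)⁻¹
          = (a : G) * ((x : G) * ((a : G)⁻¹ * (b : G))) * (b : G)⁻¹ := by group
        _ = (a : G) * (((a : G)⁻¹ * (b : G)) * (x : G)) * (b : G)⁻¹ := by rw [hc]
        _ = _ := by group)
  let N : P →* P :=
    { toFun := fun x => ∏ q : T ⧸ C, act q x
      map_one' := prod_eq_one fun q _ => by
        induction q using Quotient.inductionOn with
        | h t => exact Subtype.ext (show (t : G) * 1 * (t : G)⁻¹ = 1 by group)
      map_mul' := fun a b => by
        rw [← prod_mul_distrib]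
        refine prod_congr rfl fun q _ => ?_
        induction q using Quotient.inductionOn with
        | h t => exact Subtype.ext (show (t : G) * ((a : G) * (b : G)) * (t : G)⁻¹ =
            (t : G) * (a : G) * (t : G)⁻¹ * ((t : G) * (b : G) * (t : G)⁻¹) by group) }
  have hker : commSub P T ≤ N.ker := by
    rw [commSub, Subgroup.closure_le]
    rintro z ⟨t, ht, x, hz⟩
    rw [SetLike.mem_coe, MonoidHom.mem_ker]
    have hz' : z = x⁻¹ * ⟨t * (x : G) * t⁻¹, hmem ⟨t, ht⟩ x⟩ := Subtype.ext hz
    rw [hz', map_mul, map_inv, inv_mul_eq_one]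
    show ∏ q : T ⧸ C, act q x = ∏ q : T ⧸ C, act q ⟨t * (x : G) * t⁻¹, _⟩
    rw [← Equiv.prod_comp (Equiv.mulRight ((⟨t, ht⟩ : T) : T ⧸ C))]
    refine prod_congr rfl fun q _ => ?_
    induction q using Quotient.inductionOn with
    | h s => exact Subtype.ext (show ((s * ⟨t, ht⟩ : T) : G) * (x : G) * ((s * ⟨t, ht⟩ : T) : G)⁻¹ =
        (s : G) * (t * (x : G) * t⁻¹) * (s : G)⁻¹ by push_cast; group)
  have hNy : N y = y ^ Fintype.card (T ⧸ C) := by
    show ∏ q : T ⧸ C, act q y = _
    rw [prod_congr rfl (g := fun _ => y) fun q _ => ?_, prod_const, card_univ]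
    induction q using Quotient.inductionOn with
    | h t => exact Subtype.ext (hfix t t.2)
  have hye : y ^ Fintype.card (T ⧸ C) = 1 := hNy.symm.trans (MonoidHom.mem_ker.1 (hker hy))
  -- the quotient has order prime to `p`
  have hnd : ¬ p ∣ Fintype.card (T ⧸ C) := by
    intro hd
    obtain ⟨q, hq⟩ := exists_prime_orderOf_dvd_card' (G := T ⧸ C) p
      (by rwa [Nat.card_eq_fintype_card])
    obtain ⟨t, rfl⟩ := QuotientGroup.mk'_surjective C q
    obtain ⟨a, b, hab', ⟨n, hn⟩, hb, haz, hbz⟩ := H5.exists_p_decomposition (p := p) (t : G)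
    have hz : Subgroup.zpowers (t : G) ≤ T := Subgroup.zpowers_le.2 t.2
    have haC : a ∈ Subgroup.centralizer (P : Set G) := by
      refine hpC (Subgroup.zpowers a) (fun w => ?_) (Subgroup.zpowers_le.2 (hz haz))
        (Subgroup.mem_zpowers a)
      obtain ⟨i, hi⟩ := Subgroup.mem_zpowers_iff.1 w.2
      exact ⟨n, Subtype.ext (by rw [Subgroup.coe_pow, ← hi, ← zpow_natCast, ← zpow_mul, mul_comm,
        zpow_mul, zpow_natCast, hn, one_zpow, Subgroup.coe_one])⟩
    have htb : QuotientGroup.mk' C t = QuotientGroup.mk' C (⟨b, hz hbz⟩ : T) := by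
      have h : t = (⟨a, hz haz⟩ : T) * ⟨b, hz hbz⟩ := Subtype.ext hab'
      rw [h, map_mul, QuotientGroup.mk'_apply C ⟨a, hz haz⟩,
        (QuotientGroup.eq_one_iff _).2 (Subgroup.mem_subgroupOf.2 haC), one_mul]
    have hdvd : orderOf (QuotientGroup.mk' C t) ∣ orderOf b := by
      rw [htb]
      refine (orderOf_map_dvd _ _).trans ?_
      rw [← Subgroup.orderOf_coe]
    rw [hq] at hdvd
    exact hp.out.coprime_iff_not_dvd.1 hb.symm hdvd
  obtain ⟨k, hk⟩ := IsPGroup.iff_orderOf.1 hPp y
  have h2 := Nat.dvd_gcd (orderOf_dvd_of_pow_eq_one hye) (hk ▸ dvd_rfl : orderOf y ∣ p ^ k)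
  rw [Nat.Coprime.gcd_eq_one (((hp.out.coprime_iff_not_dvd).2 hnd).symm.pow_right k), Nat.dvd_one,
    orderOf_eq_one_iff] at h2
  exact h2

end Coprime

variable {M : Ideal AlgInt} [hMp : M.IsPrime] [CharP (H20.k M) p] [IsAlgClosed (H20.k M)]

theorem centralizer_zpowers_sup {G : Type u} [Group G] [Fintype G] (x v : G) :
    Subgroup.centralizer ((Subgroup.zpowers x ⊔ Subgroup.zpowers v : Subgroup G) : Set G) =
      Subgroup.centralizer ({x} : Set G) ⊓ Subgroup.centralizer ({v} : Set G) := by
  refine le_antisymm (le_inf ?_ ?_) ?_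
  · rw [← H17.Major.centralizer_zpowers_eq]
    exact H23.centralizer_anti le_sup_left
  · rw [← H17.Major.centralizer_zpowers_eq]
    exact H23.centralizer_anti le_sup_right
  · rw [Subgroup.le_centralizer_iff, sup_le_iff, Subgroup.zpowers_le, Subgroup.zpowers_le]
    exact ⟨Subgroup.mem_centralizer_iff.2 fun g hg => Subgroup.mem_centralizer_singleton_iff.1 hg.1,
      Subgroup.mem_centralizer_iff.2 fun g hg => Subgroup.mem_centralizer_singleton_iff.1 hg.2⟩

section Step

variable {G : Type u} [Group G] [Fintype G] {P : Subgroup G} {B : Set (IrrCharacter G)}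
  {c : Set (IrrCharacter (Subgroup.centralizer (P : Set G)))}

/-- The data of the centraliser of `x` seen as a group of its own. -/
theorem local_data (hM : IsPModular p M) (hB : IsPBlock M B)
    (hab : ∀ a ∈ P, ∀ b ∈ P, a * b = b * a) (hc : IsPBlock M c)
    (hmax : H23.IsMax p (H23.eB M B) P (H23.eG M (Subgroup.centralizer (P : Set G)) c))
    {K : Subgroup G} [Fintype K] {x : G} (hKx : K = Subgroup.centralizer ({x} : Set G))
    (hx : x ∈ P) {f : Set (IrrCharacter K)}
    (hf : IsInducedBlockIn M K (Subgroup.centralizer (P : Set G)) c f) :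
    ∃ c' : Set (IrrCharacter (Subgroup.centralizer ((P.subgroupOf K : Subgroup K) : Set K))),
      IsPBlock M c' ∧
      H23.IsMax p (H23.eB M f) (P.subgroupOf K)
        (H23.eG M (Subgroup.centralizer ((P.subgroupOf K : Subgroup K) : Set K)) c') ∧
      IsInducedBlock M (Subgroup.centralizer ((P.subgroupOf K : Subgroup K) : Set K)) c' f ∧
      IsDefectGroup p M f (P.subgroupOf K) ∧
      (∀ g : K, g ∈ H23.stab (P.subgroupOf K)
          (H23.eG M (Subgroup.centralizer ((P.subgroupOf K : Subgroup K) : Set K)) c') ↔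
        (g : G) ∈ H23.stab P (H23.eG M (Subgroup.centralizer (P : Set G)) c)) ∧
      ∀ v ∈ P, ∀ hv : v ∈ K, LocalRank.rk p M c' (Subgroup.centralizer ({(⟨v, hv⟩ : K)} : Set K)) =
        LocalRank.rk p M c (Subgroup.centralizer ({x} : Set G) ⊓
          Subgroup.centralizer ({v} : Set G)) := by
  subst hKx
  obtain ⟨f', -, hin, -, hdef, -⟩ := LocalRank.exists_local hM hB hab hc hmax hx
  have hCK : Subgroup.centralizer (P : Set G) ≤ Subgroup.centralizer ({x} : Set G) := fun a ha =>
    Subgroup.mem_centralizer_singleton_iff.2 (Subgroup.mem_centralizer_iff.1 ha x hx).symm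
  obtain rfl := LocalRank.inducedIn_unique hCK hin hf
  have hPK : P ≤ Subgroup.centralizer ({x} : Set G) := (AbelianLocal.le_centralizer hab).trans hCK
  have h := fun k : Subgroup.centralizer ({x} : Set G) => H21.mem_centralizer_subgroupOf hPK k
  have hab' : ∀ a ∈ P.subgroupOf (Subgroup.centralizer ({x} : Set G)),
      ∀ b ∈ P.subgroupOf (Subgroup.centralizer ({x} : Set G)), a * b = b * a :=
    fun a ha b hb => Subtype.ext (hab a ha b hb)
  have hc' := (Transport.isInducedBlock_pull_iff hCK h hin.1 f').2 hin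
  refine ⟨Transport.pull hCK h c, hc'.1, AbelianLocal.isMax_cent hM hin.2.1 hdef hab' hc', hc',
    hdef, fun g => ?_, fun v hv hvK => ?_⟩
  · rw [AbelianLocal.mem_stab_iff hc'.1, AbelianLocal.mem_stab_iff hc,
      Transport.stabilizesBlock_pull_iff,
      Transport.mem_normalizer_copy (C := P) hPK fun k => Subgroup.mem_subgroupOf]
  · have hQP : Subgroup.zpowers x ⊔ Subgroup.zpowers v ≤ P :=
      sup_le (Subgroup.zpowers_le.2 hx) (Subgroup.zpowers_le.2 hv)
    obtain ⟨g, hg⟩ := AbelianLocal.exists_inducedIn hM hmax.1.1 hab hQP hc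
    have hCJ : Subgroup.centralizer (P : Set G) ≤ Subgroup.centralizer ({x} : Set G) ⊓
        Subgroup.centralizer ({v} : Set G) := by
      rw [← centralizer_zpowers_sup]
      exact H23.centralizer_anti hQP
    have key : ∀ J : Subgroup G, J = Subgroup.centralizer ({x} : Set G) ⊓
        Subgroup.centralizer ({v} : Set G) → ∀ g : Set (IrrCharacter J),
        IsInducedBlockIn M J (Subgroup.centralizer (P : Set G)) c g →
        LocalRank.rk p M (Transport.pull hCK h c)
          (Subgroup.centralizer ({(⟨v, hvK⟩ : Subgroup.centralizer ({x} : Set G))} :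
            Set (Subgroup.centralizer ({x} : Set G)))) = LocalRank.rk p M c J := by
      rintro J rfl g hg
      refine LocalRank.rk_pull hCJ inf_le_left (fun k => ?_) h hg
      rw [Subgroup.mem_centralizer_singleton_iff, Subgroup.mem_inf,
        Subgroup.mem_centralizer_singleton_iff, Subtype.ext_iff]
      rw [Subgroup.mem_centralizer_singleton_iff]
      exact ⟨fun hk => ⟨Subgroup.mem_centralizer_singleton_iff.1 k.2, hk⟩, fun hk => hk.2⟩
    rw [key _ (centralizer_zpowers_sup x v) g hg, centralizer_zpowers_sup]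

/-- The rank and the count of the block below, given the smaller centralisers. -/
theorem step (hM : IsPModular p M) (hB : IsPBlock M B)
    (hab : ∀ a ∈ P, ∀ b ∈ P, a * b = b * a) (hc : IsPBlock M c)
    (hmax : H23.IsMax p (H23.eB M B) P (H23.eG M (Subgroup.centralizer (P : Set G)) c))
    {u : G} (hu : u ∈ P)
    (huT : ∀ t ∈ H23.stab P (H23.eG M (Subgroup.centralizer (P : Set G)) c), t * u * t⁻¹ = u)
    (hsmall : ∀ x ∈ P, x ∉ Subgroup.center G →
      LocalRank.rk p M c (Subgroup.centralizer ({x} : Set G)) =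
        LocalRank.rk p M c (Subgroup.centralizer ({x} : Set G) ⊓
          Subgroup.centralizer ({u} : Set G))) :
    blockRank p B = LocalRank.rk p M c (Subgroup.centralizer ({u} : Set G)) ∧
      ∀ f : Set (IrrCharacter (Subgroup.centralizer ({u} : Set G))),
        IsInducedBlockIn M (Subgroup.centralizer ({u} : Set G))
          (Subgroup.centralizer (P : Set G)) c f → Nat.card B = Nat.card f := by
  classical
  haveI : ∀ x : G, Fintype (Subgroup.centralizer ({x} : Set G)) := fun x => Fintype.ofFinite _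
  haveI : ∀ x : G, Fintype {e : Set (IrrCharacter (Subgroup.centralizer ({x} : Set G))) //
      IsPBlock M e} := fun x => Fintype.ofFinite _
  set T := H23.stab P (H23.eG M (Subgroup.centralizer (P : Set G)) c) with hT
  let L : G → ℕ := fun x => LocalRank.rk p M c (Subgroup.centralizer ({x} : Set G))
  let R : G → ℕ := fun x => LocalRank.rk p M c (Subgroup.centralizer ({x} : Set G) ⊓
    Subgroup.centralizer ({u} : Set G))
  have hL1 : L 1 = blockRank p B := LocalRank.rk_one hM hB hab hc hmax
  have htop : ∀ {x : G}, x ∈ Subgroup.center G → Subgroup.centralizer ({x} : Set G) = ⊤ :=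
    fun hx => eq_top_iff.2 fun g _ =>
      Subgroup.mem_centralizer_singleton_iff.2 (Subgroup.mem_center_iff.1 hx g)
  have hLcen : ∀ {x : G}, x ∈ Subgroup.center G → L x = L 1 := fun hx => by
    simp only [L, htop hx, htop (Subgroup.one_mem (Subgroup.center G))]
  -- the rank
  have hrank : L u = L 1 := by
    by_cases huZ : u ∈ Subgroup.center G
    · exact hLcen huZ
    haveI : Fintype (commSub P T) := Fintype.ofFinite _
    have hfixK : ∀ y ∈ commSub P T, (∀ t ∈ T, t * (y : G) * t⁻¹ = y) → y = 1 := fun y hy hf =>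
      eq_one_of_fixed (T := T) hab hmax.1.1 (fun g hg => hg.1)
        (fun S hS hST => AbelianLocal.pGroup_le_cent hB hab hmax hS hST) hy hf
    have hcenfix : ∀ {z : G}, z ∈ Subgroup.center G → ∀ t : G, t * z * t⁻¹ = z := fun hz t =>
      mul_inv_eq_iff_eq_mul.2 (Subgroup.mem_center_iff.1 hz t)
    let W : P → ℂ := fun a => (Nat.card (T ⊓ Subgroup.centralizer ({(a : G)} : Set G) :
      Subgroup G) : ℂ) * (L a : ℂ)
    have hcoset := coset_sum_eq (fun a b => Subtype.ext (hab a a.2 b b.2)) (commSub P T) W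
      (fun l hl hne => AbelianSum.sum_eq_zero_of_linear hM hB hab hc hmax l (fun t ht a ha hta => by
        have hmem : (⟨a, ha⟩ : P)⁻¹ * ⟨t * a * t⁻¹, hta⟩ ∈ commSub P T :=
          Subgroup.subset_closure ⟨t, ht, ⟨a, ha⟩, rfl⟩
        have h1 := hl _ hmem
        rw [map_mul, map_inv, inv_mul_eq_one] at h1
        exact h1.symm) hne) ⟨u, hu⟩
    have hw : ∀ y : G, T ⊓ Subgroup.centralizer ({u * y} : Set G) =
        T ⊓ Subgroup.centralizer ({y} : Set G) := by
      intro y
      ext t
      simp only [Subgroup.mem_inf, Subgroup.mem_centralizer_singleton_iff]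
      refine and_congr_right fun ht => ?_
      have htu : t * u = u * t := mul_inv_eq_iff_eq_mul.1 (huT t ht)
      constructor
      · intro h
        apply mul_left_cancel (a := u)
        calc u * (t * y) = t * (u * y) := by rw [← mul_assoc, ← htu, mul_assoc]
          _ = u * (y * t) := by rw [h, mul_assoc]
      · intro h
        calc t * (u * y) = u * (t * y) := by rw [← mul_assoc, htu, mul_assoc]
          _ = u * y * t := by rw [h, mul_assoc]
    have hR : ∀ y : G, R (u * y) = R y := by
      intro y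
      simp only [R]
      congr 1
      ext g
      simp only [Subgroup.mem_inf, Subgroup.mem_centralizer_singleton_iff]
      refine and_congr_left fun hg => ?_
      constructor
      · intro h
        apply mul_left_cancel (a := u)
        calc u * (g * y) = g * (u * y) := by rw [← mul_assoc, ← hg, mul_assoc]
          _ = u * (y * g) := by rw [h, mul_assoc]
      · intro h
        calc g * (u * y) = u * (g * y) := by rw [← mul_assoc, hg, mul_assoc]
          _ = u * y * g := by rw [h, mul_assoc]
    have hterm : ∀ y : commSub P T, y ≠ 1 → W (⟨u, hu⟩ * (y : P)) = W (y : P) := by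
      intro y hy
      have hy1 : ¬ ∀ t ∈ T, t * ((y : P) : G) * t⁻¹ = ((y : P) : G) := fun h =>
        hy (Subtype.ext (hfixK _ y.2 h))
      have hyZ : ((y : P) : G) ∉ Subgroup.center G := fun h => hy1 fun t _ => hcenfix h t
      have huyZ : u * ((y : P) : G) ∉ Subgroup.center G := fun h => hy1 fun t ht => by
        have h1 := hcenfix h t
        apply mul_left_cancel (a := u)
        calc u * (t * ((y : P) : G) * t⁻¹) = t * u * t⁻¹ * (t * ((y : P) : G) * t⁻¹) := by
              rw [huT t ht]
          _ = t * (u * ((y : P) : G)) * t⁻¹ := by group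
          _ = _ := h1
      simp only [W]
      rw [Subgroup.coe_mul, hw]
      congr 2
      show L (u * ((y : P) : G)) = L ((y : P) : G)
      simp only [L]
      rw [hsmall _ (mul_mem hu (y : P).2) huyZ, hsmall _ (y : P).2 hyZ]
      exact hR _
    have h0 := hcoset
    rw [← add_sum_erase _ _ (mem_univ (1 : commSub P T)),
      ← add_sum_erase _ (fun y : commSub P T => W (y : P)) (mem_univ (1 : commSub P T)),
      sum_congr rfl fun y hy => hterm y (mem_erase.1 hy).1] at h0
    have h1 := add_right_cancel h0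
    simp only [W, OneMemClass.coe_one, mul_one] at h1
    have hT1 : T ⊓ Subgroup.centralizer ({(u : G)} : Set G) =
        T ⊓ Subgroup.centralizer ({(1 : G)} : Set G) := by
      have := hw 1
      rwa [mul_one] at this
    rw [hT1] at h1
    exact_mod_cast mul_left_cancel₀ (Nat.cast_ne_zero.2 Nat.card_pos.ne') h1
  refine ⟨hL1 ▸ hrank.symm, fun f hf => ?_⟩
  -- the counts
  have hk := AbelianSum.natCard_eq hM hB hab hc hmax
  obtain ⟨c', hc', hmax', -, -, hstab, hrk⟩ := local_data hM hB hab hc hmax rfl hu hf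
  haveI : ∀ x : Subgroup.centralizer ({u} : Set G), Fintype (Subgroup.centralizer ({x} : Set _)) :=
    fun x => Fintype.ofFinite _
  haveI : ∀ x : Subgroup.centralizer ({u} : Set G),
      Fintype {e : Set (IrrCharacter (Subgroup.centralizer ({x} : Set _))) // IsPBlock M e} :=
    fun x => Fintype.ofFinite _
  have hPK : P ≤ Subgroup.centralizer ({u} : Set G) := fun a ha =>
    Subgroup.mem_centralizer_singleton_iff.2 (hab a ha u hu)
  have hk' := AbelianSum.natCard_eq hM hf.2.1
    (fun a ha b hb => Subtype.ext (hab a ha b hb)) hc' hmax'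
  have hTu : T ≤ Subgroup.centralizer ({u} : Set G) := fun t ht =>
    Subgroup.mem_centralizer_singleton_iff.2 (mul_inv_eq_iff_eq_mul.1 (huT t ht))
  have hcardT : Nat.card (H23.stab (P.subgroupOf (Subgroup.centralizer ({u} : Set G)))
      (H23.eG M (Subgroup.centralizer ((P.subgroupOf (Subgroup.centralizer ({u} : Set G)) :
        Subgroup _) : Set (Subgroup.centralizer ({u} : Set G)))) c')) = Nat.card T := by
    rw [← Subgroup.card_map_of_injective (Subgroup.centralizer ({u} : Set G)).subtype_injective]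
    congr 2
    refine le_antisymm ?_ fun t ht => ⟨⟨t, hTu ht⟩, (hstab _).2 ht, rfl⟩
    rintro _ ⟨g, hg, rfl⟩
    exact (hstab g).1 hg
  have hsum : ∑ v : P.subgroupOf (Subgroup.centralizer ({u} : Set G)),
      Nat.card (H23.stab (P.subgroupOf (Subgroup.centralizer ({u} : Set G)))
        (H23.eG M (Subgroup.centralizer ((P.subgroupOf (Subgroup.centralizer ({u} : Set G)) :
          Subgroup _) : Set (Subgroup.centralizer ({u} : Set G)))) c') ⊓
        Subgroup.centralizer ({(v : Subgroup.centralizer ({u} : Set G))} : Set _) : Subgroup _) *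
        LocalRank.rk p M c'
          (Subgroup.centralizer ({(v : Subgroup.centralizer ({u} : Set G))} : Set _)) =
      ∑ v : P, Nat.card (T ⊓ Subgroup.centralizer ({(v : G)} : Set G) : Subgroup G) * L v := by
    refine Fintype.sum_equiv (Subgroup.subgroupOfEquivOfLe hPK).toEquiv _ _ fun v => ?_
    obtain ⟨⟨v, hvK⟩, hv⟩ := v
    have hvP : v ∈ P := hv
    congr 1
    · rw [← Subgroup.card_map_of_injective (Subgroup.centralizer ({u} : Set G)).subtype_injective]
      congr 2
      refine le_antisymm ?_ fun t ht => ⟨⟨t, hTu ht.1⟩, ⟨(hstab _).2 ht.1, ?_⟩, rfl⟩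
      · rintro _ ⟨g, ⟨hg, hgv⟩, rfl⟩
        exact ⟨(hstab g).1 hg, Subgroup.mem_centralizer_singleton_iff.2
          (congrArg Subtype.val (Subgroup.mem_centralizer_singleton_iff.1 hgv))⟩
      · exact Subgroup.mem_centralizer_singleton_iff.2
          (Subtype.ext (Subgroup.mem_centralizer_singleton_iff.1 ht.2))
    · rw [hrk v hvP hvK, inf_comm]
      show R v = L v
      by_cases hvZ : v ∈ Subgroup.center G
      · rw [hLcen hvZ, ← hrank]
        simp only [R, L, htop hvZ, top_inf_eq]
      · exact (hsmall v hvP hvZ).symm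
  rw [hsum, hcardT] at hk'
  exact Nat.eq_of_mul_eq_mul_left Nat.card_pos (hk.symm.trans hk')

end Step

/-- **Watanabe.** -/
theorem main (hM : IsPModular p M) : ∀ (n : ℕ) (G : Type u) [Group G] [Fintype G],
    Nat.card G ≤ n → ∀ (B : Set (IrrCharacter G)) (P : Subgroup G)
    (c : Set (IrrCharacter (Subgroup.centralizer (P : Set G)))), IsPBlock M B →
    (∀ a ∈ P, ∀ b ∈ P, a * b = b * a) → IsPBlock M c →
    H23.IsMax p (H23.eB M B) P (H23.eG M (Subgroup.centralizer (P : Set G)) c) →
    ∀ u ∈ P, (∀ t ∈ H23.stab P (H23.eG M (Subgroup.centralizer (P : Set G)) c),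
      t * u * t⁻¹ = u) →
    blockRank p B = LocalRank.rk p M c (Subgroup.centralizer ({u} : Set G)) ∧
      ∀ f : Set (IrrCharacter (Subgroup.centralizer ({u} : Set G))),
        IsInducedBlockIn M (Subgroup.centralizer ({u} : Set G))
          (Subgroup.centralizer (P : Set G)) c f → Nat.card B = Nat.card f := by
  intro n
  induction n with
  | zero =>
    intro G _ _ hcard
    have : 0 < Nat.card G := Nat.card_pos
    omega
  | succ n ih =>
    intro G _ _ hcard B P c hB hab hc hmax u hu huT
    refine step hM hB hab hc hmax hu huT fun x hx hxZ => ?_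
    haveI := Fintype.ofFinite (Subgroup.centralizer ({x} : Set G))
    have hlt : Nat.card (Subgroup.centralizer ({x} : Set G)) < Nat.card G := by
      refine lt_of_le_of_ne (Subgroup.card_le_card_group _) fun h => hxZ ?_
      have htop := (Subgroup.card_eq_iff_eq_top _).1 h
      exact Subgroup.mem_center_iff.2 fun g =>
        Subgroup.mem_centralizer_singleton_iff.1 (htop ▸ Subgroup.mem_top g)
    obtain ⟨f, hind, hin, -, -, -⟩ := LocalRank.exists_local hM hB hab hc hmax hx
    obtain ⟨c', hc', hmax', -, -, hstab, hrk⟩ := local_data hM hB hab hc hmax rfl hx hin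
    have huK : u ∈ Subgroup.centralizer ({x} : Set G) :=
      Subgroup.mem_centralizer_singleton_iff.2 (hab u hu x hx)
    obtain ⟨h1, -⟩ := ih _ (by omega) f (P.subgroupOf (Subgroup.centralizer ({x} : Set G))) c'
      hin.2.1 (fun a ha b hb => Subtype.ext (hab a ha b hb)) hc' hmax' ⟨u, huK⟩ hu
      (fun t ht => Subtype.ext (huT t ((hstab t).1 ht)))
    rw [hrk u hu huK] at h1
    rw [← h1]
    exact LocalRank.rk_eq (fun a ha => Subgroup.mem_centralizer_singleton_iff.2
      (Subgroup.mem_centralizer_iff.1 ha x hx).symm) hin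

end H19.Watanabe
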