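import Cfsg.Agent.H12.Orth
import Cfsg.Agent.H13.AbelianDegree
import Cfsg.Agent.H14.Basic
import Cfsg.Agent.H19.GaloisAvg

set_option autoImplicit false

/-!
Characters on an abelian normal subgroup of prime power order and prime-to-p index.
-/

open Cfsg
open scoped ComplexConjugate

namespace H19

variable {V : Type*} [Group V] [Finite V]

/-- Irreducible characters of abelian groups are linear. -/
theorem irr_one_of_comm (hab : ∀ a b : V, a * b = b * a) (ψ : IrrCharacter V) : (ψ : V → ℂ) 1 = 1 := by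
  obtain ⟨n, ρ, hρ, hψ⟩ := ψ.2
  haveI := hρ
  have h1 := H13.finrank_le_index_of_abelian ρ ⊤ (fun a _ b _ => hab a b)
  have h2 := H12.finrank_pos_of_isIrreducible ρ
  rw [Subgroup.index_top] at h1
  rw [← hψ, Representation.char_one, show Module.finrank ℂ (Fin n → ℂ) = 1 by omega, Nat.cast_one]

theorem irr_mul_of_comm (hab : ∀ a b : V, a * b = b * a) (ψ : IrrCharacter V) (a b : V) :
    (ψ : V → ℂ) (a * b) = (ψ : V → ℂ) a * (ψ : V → ℂ) b :=
  H14.linear_char_mul (H12.isCharacter_irr ψ) (irr_one_of_comm hab ψ) a b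

variable {X : Type*} [Group X] [Finite X]

/-- A character is trivial on `V` iff constant on cosets. -/
theorem apply_mul_of_trivial {χ : X → ℂ} (hχ : IsCharacter X χ) {a : X} (ha : χ a = χ 1) (x : X) :
    χ (a * x) = χ x := by
  obtain ⟨n, ρ, rfl⟩ := hχ
  rw [Representation.char_one] at ha
  have h := (H12.character_eq_finrank_iff ρ a).mp ha
  simp only [Representation.character, map_mul, h]
  rfl

variable (N : Subgroup X) [N.Normal]

/-- Conjugate of an irreducible character of a normal subgroup. -/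
noncomputable def conjChar (x : X) (ψ : IrrCharacter ↥N) : IrrCharacter ↥N :=
  ⟨(ψ : N → ℂ) ∘ (MulAut.conjNormal x : MulAut N),
    H12.IsIrrCharacter.comp_surjective ψ.2 (f := (MulAut.conjNormal x : MulAut N).toMonoidHom)
      (MulAut.conjNormal x : MulAut N).surjective⟩

theorem conjChar_mul (x y : X) (ψ : IrrCharacter ↥N) :
    conjChar N (x * y) ψ = conjChar N y (conjChar N x ψ) := by
  apply Subtype.ext
  funext a
  show (ψ : N → ℂ) ((MulAut.conjNormal (x * y) : MulAut N) a) = _
  rw [map_mul]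
  rfl

theorem conjChar_one (ψ : IrrCharacter ↥N) : conjChar N 1 ψ = ψ := by
  apply Subtype.ext
  funext a
  show (ψ : N → ℂ) ((MulAut.conjNormal (1 : X) : MulAut N) a) = _
  rw [map_one]
  rfl

/-- Clifford for an abelian normal subgroup: values are a multiple of an orbit sum. -/
theorem exists_orbit_sum (hab : ∀ a b : N, a * b = b * a) (χ : IrrCharacter X) :
    ∃ (e : ℂ) (O : Finset (IrrCharacter ↥N)), O.card ∣ N.index ∧
      ∀ a : N, (χ : X → ℂ) a = e * ∑ ψ ∈ O, (ψ : N → ℂ) a := by
  classical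
  haveI := Fintype.ofFinite X
  haveI := Fintype.ofFinite N
  obtain ⟨d, ρ, hρ, hχρ⟩ := χ.2
  haveI := hρ
  set χV : N → ℂ := fun a => (χ : X → ℂ) a with hχV
  have hχVc : IsCharacter N χV := H12.IsCharacter.res (H12.isCharacter_irr χ) N
  set m : IrrCharacter ↥N → ℂ := fun ψ => classInner χV (ψ : N → ℂ) with hm
  have hexp : ∀ a, χV a = ∑ ψ, m ψ * (ψ : N → ℂ) a :=
    H12.classFunction_apply_eq_sum (H12.IsCharacter.isClassFunction hχVc)
  have hconj : ∀ (x : X) ψ, m (conjChar N x ψ) = m ψ := by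
    intro x ψ
    simp only [hm, classInner]
    congr 1
    refine Fintype.sum_equiv (MulAut.conjNormal x : MulAut N).toEquiv _ _ fun a => ?_
    have h1 : χV ((MulAut.conjNormal x : MulAut N) a) = χV a := by
      simp only [hχV, MulAut.conjNormal_apply]
      exact H12.irr_isClassFunction χ _ _
    show _ = χV ((MulAut.conjNormal x : MulAut N) a) * _
    rw [h1]
    rfl
  obtain ⟨ψ₀, hψ₀⟩ : ∃ ψ, m ψ ≠ 0 := by
    by_contra h
    push Not at h
    refine H12.irr_apply_one_ne_zero χ ?_
    simpa [hχV, h] using hexp 1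
  set O := (Finset.univ : Finset X).image (fun x => conjChar N x ψ₀) with hO
  refine ⟨m ψ₀, O, ?_, ?_⟩
  · let T : Subgroup X :=
      { carrier := {x | conjChar N x ψ₀ = ψ₀}
        one_mem' := conjChar_one N ψ₀
        mul_mem' := fun {x y} (hx : _ = _) (hy : _ = _) => by
          show _ = _
          rw [conjChar_mul, hx, hy]
        inv_mem' := fun {x} (hx : _ = _) => by
          show _ = _
          conv_lhs => rw [← hx]
          rw [← conjChar_mul, mul_inv_cancel, conjChar_one] }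
    have hNT : N ≤ T := fun x hx => by
      apply Subtype.ext
      funext a
      show (ψ₀ : N → ℂ) ((MulAut.conjNormal x : MulAut N) a) = _
      have : (MulAut.conjNormal x : MulAut N) a = ⟨x, hx⟩ * a * ⟨x, hx⟩⁻¹ :=
        Subtype.ext (by simp [MulAut.conjNormal_apply])
      rw [this, hab ⟨x, hx⟩ a, mul_inv_cancel_right]
    let f : X ⧸ T → O := Quotient.lift
      (fun x : X => (⟨conjChar N x⁻¹ ψ₀, Finset.mem_image_of_mem _ (Finset.mem_univ _)⟩ : O))
      (fun x y h => by
        have hxy : x⁻¹ * y ∈ T := QuotientGroup.leftRel_apply.mp h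
        apply Subtype.ext
        show conjChar N x⁻¹ ψ₀ = conjChar N y⁻¹ ψ₀
        have h' : conjChar N (x⁻¹ * y) ψ₀ = ψ₀ := hxy
        conv_rhs => rw [← h']
        rw [← conjChar_mul, mul_inv_cancel_right])
    have hf : Function.Bijective f := by
      constructor
      · rintro ⟨x⟩ ⟨y⟩ h
        have h' : conjChar N x⁻¹ ψ₀ = conjChar N y⁻¹ ψ₀ := congrArg Subtype.val h
        refine Quotient.sound (QuotientGroup.leftRel_apply.mpr ?_)
        show conjChar N (x⁻¹ * y) ψ₀ = ψ₀
        rw [conjChar_mul, h', ← conjChar_mul, inv_mul_cancel, conjChar_one]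
      · rintro ⟨ψ, hψ⟩
        obtain ⟨x, -, rfl⟩ := Finset.mem_image.mp hψ
        refine ⟨QuotientGroup.mk x⁻¹, ?_⟩
        apply Subtype.ext
        show conjChar N x⁻¹⁻¹ ψ₀ = _
        rw [inv_inv]
    have : O.card = T.index := by
      rw [Subgroup.index, Nat.card_eq_of_bijective f hf, Nat.card_eq_fintype_card, Fintype.card_coe]
    rw [this]
    exact Subgroup.index_dvd_of_le hNT
  set θ : N → ℂ := fun a => ∑ ψ ∈ O, (ψ : N → ℂ) a with hθ
  have hθinv : ∀ (x : X) (a : N), θ ((MulAut.conjNormal x : MulAut N) a) = θ a := by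
    intro x a
    simp only [hθ]
    refine Finset.sum_bij' (fun ψ _ => conjChar N x ψ) (fun ψ _ => conjChar N x⁻¹ ψ) ?_ ?_ ?_ ?_ ?_
    · intro ψ hψ
      obtain ⟨y, -, rfl⟩ := Finset.mem_image.mp hψ
      rw [← conjChar_mul]
      exact Finset.mem_image_of_mem _ (Finset.mem_univ _)
    · intro ψ hψ
      obtain ⟨y, -, rfl⟩ := Finset.mem_image.mp hψ
      rw [← conjChar_mul]
      exact Finset.mem_image_of_mem _ (Finset.mem_univ _)
    · intro ψ _; rw [← conjChar_mul, mul_inv_cancel, conjChar_one]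
    · intro ψ _; rw [← conjChar_mul, inv_mul_cancel, conjChar_one]
    · intro ψ _; rfl
  let f : X → ℂ := fun g => if h : g ∈ N then conj (θ ⟨g, h⟩) else 0
  have hf : IsClassFunction X f := by
    intro g h
    by_cases hg : g ∈ N
    · have hg' : h * g * h⁻¹ ∈ N := (inferInstance : N.Normal).conj_mem g hg h
      simp only [f, dif_pos hg, dif_pos hg']
      rw [← hθinv h ⟨g, hg⟩]
      congr 2
    · have hg' : h * g * h⁻¹ ∉ N := fun hm => hg (by
        simpa [mul_assoc] using (inferInstance : N.Normal).conj_mem _ hm h⁻¹)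
      simp only [f, dif_neg hg, dif_neg hg']
  obtain ⟨c, hc⟩ : ∃ c : ℂ, H12.avgOp ρ f = c • LinearMap.id :=
    H12.exists_scalar_of_commute ρ _ (fun h => H12.avgOp_comm ρ hf h)
  have hval : ∀ b : N, ∑ a : N, conj (θ a) * χV (a * b) = c * χV b := by
    intro b
    have := congrArg (fun T => LinearMap.trace ℂ (Fin d → ℂ) (T * ρ b)) hc
    have e1 : LinearMap.trace ℂ (Fin d → ℂ) ((c • LinearMap.id) * ρ b) = c * χV b := by
      rw [show ((c • LinearMap.id : Module.End ℂ (Fin d → ℂ)) * ρ b) = c • ρ b from rfl, map_smul,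
        hχV, ← hχρ]
      rfl
    rw [e1] at this
    rw [← this]
    simp only [H12.avgOp, Finset.sum_mul, map_sum, smul_mul_assoc, ← map_mul, map_smul, smul_eq_mul]
    have hs : ∑ g : X, f g * LinearMap.trace ℂ (Fin d → ℂ) (ρ (g * b)) =
        ∑ g ∈ Finset.univ.filter (fun g => g ∈ N), f g * LinearMap.trace ℂ (Fin d → ℂ) (ρ (g * b)) :=
      (Finset.sum_filter_of_ne fun g _ hne => by
        by_contra hg
        exact hne (by simp [f, hg])).symm
    rw [hs, Finset.sum_subtype (p := fun x => x ∈ N) _ (fun x => by simp) (fun g => f g * LinearMap.trace ℂ (Fin d → ℂ) (ρ (g * b)))]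
    refine Finset.sum_congr rfl fun a _ => ?_
    simp only [f, dif_pos a.2, hχV, ← hχρ]
    rfl
  have hsupp : ∀ ψ, c * m ψ = (if ψ ∈ O then (Nat.card N : ℂ) else 0) * m ψ := by
    intro ψ
    have hψ1 := irr_one_of_comm hab ψ
    have hmul := irr_mul_of_comm hab ψ
    have h2 : ∀ a : N, ∑ b : N, χV (a * b) * conj ((ψ : N → ℂ) b) =
        (ψ : N → ℂ) a * ∑ b : N, χV b * conj ((ψ : N → ℂ) b) := by
      intro a
      rw [Finset.mul_sum]
      refine Fintype.sum_equiv (Equiv.mulLeft a) _ _ fun b => ?_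
      rw [Equiv.coe_mulLeft, hmul a b, map_mul]
      have : (ψ : N → ℂ) a * conj ((ψ : N → ℂ) a) = 1 := by
        rw [← H12.irr_inv ψ a, ← hmul, mul_inv_cancel, hψ1]
      calc χV (a * b) * conj ((ψ : N → ℂ) b)
          = χV (a * b) * conj ((ψ : N → ℂ) b) * ((ψ : N → ℂ) a * conj ((ψ : N → ℂ) a)) := by
            rw [this, mul_one]
        _ = _ := by ring
    have h3 : ∑ b : N, (∑ a : N, conj (θ a) * χV (a * b)) * conj ((ψ : N → ℂ) b) =
        (∑ a : N, (ψ : N → ℂ) a * conj (θ a)) * ∑ b : N, χV b * conj ((ψ : N → ℂ) b) := by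
      simp only [Finset.sum_mul]
      rw [Finset.sum_comm]
      refine Finset.sum_congr rfl fun a _ => ?_
      simp only [mul_assoc, ← Finset.mul_sum]
      rw [h2]
      ring
    simp only [hval, mul_assoc, ← Finset.mul_sum] at h3
    have h4 : (∑ a : N, (ψ : N → ℂ) a * conj (θ a)) = if ψ ∈ O then (Nat.card N : ℂ) else 0 := by
      simp only [hθ, map_sum, Finset.mul_sum]
      rw [Finset.sum_comm]
      simp only [H12.sum_mul_conj_eq_card_mul, H12.classInner_irr, mul_ite, mul_one, mul_zero]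
      rw [Finset.sum_ite_eq]
    rw [h4, H12.sum_mul_conj_eq_card_mul] at h3
    have hc0 : (Nat.card N : ℂ) ≠ 0 := H12.card_ne_zero'
    have h5 : (Nat.card N : ℂ) * (c * m ψ) =
        (Nat.card N : ℂ) * ((if ψ ∈ O then (Nat.card N : ℂ) else 0) * m ψ) := by
      simp only [hm]
      linear_combination h3
    exact mul_left_cancel₀ hc0 h5
  have hψ₀O : ψ₀ ∈ O := Finset.mem_image.mpr ⟨1, Finset.mem_univ _, conjChar_one N ψ₀⟩
  have hcN : c = (Nat.card N : ℂ) := by
    have := hsupp ψ₀
    rw [if_pos hψ₀O] at this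
    exact mul_right_cancel₀ hψ₀ this
  intro a
  show χV a = _
  rw [hexp a, Finset.mul_sum]
  rw [← Finset.sum_subset (Finset.subset_univ O) (fun ψ _ hψ => ?_)]
  · refine Finset.sum_congr rfl fun ψ hψ => ?_
    obtain ⟨x, -, rfl⟩ := Finset.mem_image.mp hψ
    rw [hconj]
  · have := hsupp ψ
    rw [if_neg hψ, zero_mul, hcN, mul_eq_zero] at this
    rw [this.resolve_left H12.card_ne_zero', zero_mul]

/-- Characters do not vanish on an abelian normal p-subgroup of p'-index. -/
theorem char_apply_ne_zero {p : ℕ} [Fact p.Prime] (hp : IsPGroup p N) (hidx : ¬ p ∣ N.index)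
    (hab : ∀ a b : N, a * b = b * a) (χ : IrrCharacter X) (a : N) : (χ : X → ℂ) a ≠ 0 := by
  classical
  intro h0
  obtain ⟨e, O, hO, he⟩ := exists_orbit_sum N hab χ
  have h1 := he 1
  rw [Finset.sum_congr rfl (fun ψ _ => irr_one_of_comm hab ψ), Finset.sum_const, nsmul_one] at h1
  have h1' := H12.irr_apply_one_ne_zero χ
  rw [show ((1 : N) : X) = 1 from rfl] at h1
  rw [h1] at h1'
  have hne : e ≠ 0 := left_ne_zero_of_mul h1'
  rw [he a, mul_eq_zero] at h0
  have hsum := h0.resolve_left hne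
  obtain ⟨k, hk⟩ := (IsPGroup.iff_card).mp hp
  have hn : 0 < Nat.card N := Nat.card_pos
  obtain ⟨ζ, hζ⟩ := exists_root (Nat.card N) hn.ne'
  have hP : ∀ ψ : IrrCharacter ↥N, ∃ P : Polynomial ℤ, Polynomial.aeval ζ P = (ψ : N → ℂ) a ∧
      P.eval 1 = 1 := by
    intro ψ
    obtain ⟨P, hP⟩ := exists_poly (H12.isCharacter_irr ψ) hn.ne' hζ a pow_card_eq_one'
    refine ⟨P, by simpa using (hP 1).symm, ?_⟩
    have := hP 0
    rw [pow_zero, pow_zero, irr_one_of_comm hab ψ] at this
    have h' : ((P.eval 1 : ℤ) : ℂ) = ((1 : ℤ) : ℂ) := by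
      rw [Int.cast_one, this, Polynomial.aeval_def, ← map_one (algebraMap ℤ ℂ), Polynomial.eval₂_at_apply]
      simp
    exact_mod_cast h'
  choose P hPa hP1 using hP
  have hdvd : Polynomial.cyclotomic (Nat.card N) ℤ ∣ ∑ ψ ∈ O, P ψ := by
    rw [Polynomial.cyclotomic_eq_minpoly hζ hn]
    refine minpoly.isIntegrallyClosed_dvd (hζ.isIntegral hn) ?_
    rw [map_sum, Finset.sum_congr rfl fun ψ _ => hPa ψ, hsum]
  have hev := Polynomial.eval_dvd (x := (1 : ℤ)) hdvd
  rw [Polynomial.eval_finsetSum, Finset.sum_congr rfl (fun ψ _ => hP1 ψ), Finset.sum_const,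
    nsmul_one, hk] at hev
  rcases k with _ | k
  · rw [pow_zero, Polynomial.cyclotomic_one, Polynomial.eval_sub, Polynomial.eval_X, Polynomial.eval_one,
      sub_self, zero_dvd_iff] at hev
    have : O.card = 0 := by simpa using hev
    rw [this] at h1'
    simp at h1'
  · rw [Polynomial.eval_one_cyclotomic_prime_pow] at hev
    exact hidx ((Int.natCast_dvd_natCast.mp (by simpa using hev)).trans hO)

end H19
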