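import Mathlib

set_option autoImplicit false

/-!
Self-dual irreducible representations of abelian groups over finite fields.
-/

namespace H19.AbSelfDual

variable {F : Type*} [Field F] [Fintype F] {H : Type*} [CommGroup H] [Finite H]
variable {V : Type*} [AddCommGroup V] [Module F V] [FiniteDimensional F V]

theorem main (ρ : Representation F H V) (hfaith : Function.Injective ρ)
    (hirr : ∀ U : Submodule F V, (∀ h : H, ∀ u ∈ U, ρ h u ∈ U) → U = ⊥ ∨ U = ⊤) :
    (Module.finrank F V = 1 → (∃ B : LinearMap.BilinForm F V, B.Nondegenerate ∧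
        ∀ h : H, ∀ x y : V, B (ρ h x) (ρ h y) = B x y) → Nat.card H ≤ 2) ∧
      (2 ≤ Module.finrank F V → ((∃ B : LinearMap.BilinForm F V, B.Nondegenerate ∧
          ∀ h : H, ∀ x y : V, B (ρ h x) (ρ h y) = B x y) ↔
        (Even (Module.finrank F V) ∧ Nat.card H ∣ Fintype.card F ^ (Module.finrank F V / 2) + 1))) := by
  classical
  by_cases hV : Subsingleton V
  · have h0 : Module.finrank F V = 0 := Module.finrank_zero_of_subsingleton
    constructor <;> intro h <;> omega
  rw [not_subsingleton_iff_nontrivial] at hV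
  obtain ⟨v₀, hv₀⟩ := exists_ne (0 : V)
  set A : Subalgebra F (Module.End F V) := Algebra.adjoin F (Set.range ρ) with hA
  have hcommρ : ∀ a ∈ A, ∀ h : H, a * ρ h = ρ h * a := by
    intro a ha h
    refine Algebra.adjoin_induction (p := fun a _ => a * ρ h = ρ h * a) ?_ ?_ ?_ ?_ ha
    · rintro _ ⟨k, rfl⟩; rw [← map_mul, ← map_mul, mul_comm]
    · intro r; exact Algebra.commutes r (ρ h)
    · intro a b _ _ ha hb; rw [add_mul, mul_add, ha, hb]
    · intro a b _ _ ha hb; rw [mul_assoc, hb, ← mul_assoc, ha, mul_assoc]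
  letI : CommRing A := { (inferInstance : Ring A) with
    mul_comm := fun a b => by
      apply Subtype.ext
      obtain ⟨b, hb⟩ := b
      show (a : Module.End F V) * b = b * a
      refine Algebra.adjoin_induction (p := fun b _ => (a : Module.End F V) * b = b * a) ?_ ?_ ?_ ?_ hb
      · rintro _ ⟨k, rfl⟩; exact hcommρ a a.2 k
      · intro r; exact (Algebra.commutes r (a : Module.End F V)).symm
      · intro x y _ _ hx hy; rw [add_mul, mul_add, hx, hy]
      · intro x y _ _ hx hy; rw [mul_assoc, ← hy, ← mul_assoc, hx, mul_assoc] }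
  have hker : ∀ a : A, a ≠ 0 → ∀ v, (a : Module.End F V) v = 0 → v = 0 := by
    intro a ha v hv
    rcases hirr (LinearMap.ker (a : Module.End F V)) (fun h u hu => by
      rw [LinearMap.mem_ker] at hu ⊢
      rw [← Module.End.mul_apply, hcommρ a a.2 h, Module.End.mul_apply, hu, map_zero]) with h | h
    · exact LinearMap.ker_eq_bot'.mp h v hv
    · exact absurd (Subtype.ext (LinearMap.ker_eq_top.mp h)) ha
  haveI : Nontrivial A := ⟨⟨0, 1, fun h => hv₀ (by
    simpa using (LinearMap.congr_fun (congrArg Subtype.val h) v₀).symm)⟩⟩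
  haveI : NoZeroDivisors A := ⟨fun {a b} hab => by
    by_contra hne
    push Not at hne
    have h0 : (a : Module.End F V) ((b : Module.End F V) v₀) = 0 := by
      rw [← Module.End.mul_apply, ← Subalgebra.coe_mul, hab]; rfl
    exact hv₀ (hker b hne.2 v₀ (hker a hne.1 _ h0))⟩
  haveI : IsDomain A := NoZeroDivisors.to_isDomain A
  haveI : Finite V := Module.finite_of_finite F
  haveI : Finite (Module.End F V) := Finite.of_injective (fun f => (f : V → V)) DFunLike.coe_injective
  haveI : Fintype A := Fintype.ofFinite A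
  letI : Field A := Fintype.fieldOfDomain A
  haveI : Module.Finite F A := Module.Finite.of_finite
  let ev : A →ₗ[F] V :=
    { toFun := fun a => (a : Module.End F V) v₀
      map_add' := fun a b => rfl
      map_smul' := fun c a => rfl }
  let r : H →* A :=
    { toFun := fun h => ⟨ρ h, Algebra.subset_adjoin ⟨h, rfl⟩⟩
      map_one' := Subtype.ext (map_one ρ)
      map_mul' := fun x y => Subtype.ext (map_mul ρ x y) }
  have hr : Function.Injective r := fun x y h => hfaith (congrArg Subtype.val h)
  haveI : IsCyclic H := isCyclic_of_subgroup_isDomain r hr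
  have hevi : Function.Injective ev := by
    rw [← LinearMap.ker_eq_bot, LinearMap.ker_eq_bot']
    intro a ha
    by_contra hne
    exact hv₀ (hker a hne v₀ ha)
  have hevs : Function.Surjective ev := by
    rw [← LinearMap.range_eq_top]
    refine (hirr _ ?_).resolve_left fun h => hv₀ ?_
    · rintro h _ ⟨a, rfl⟩
      exact ⟨r h * a, rfl⟩
    · exact (Submodule.eq_bot_iff _).mp h v₀ ⟨1, rfl⟩
  let e : A ≃ₗ[F] V := LinearEquiv.ofBijective ev ⟨hevi, hevs⟩
  have hn : Module.finrank F A = Module.finrank F V := e.finrank_eq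
  have hscalar : Module.finrank F V = 1 → ∀ a : A, ∃ c : F, a = algebraMap F A c := by
    intro h1 a
    obtain ⟨c, hc⟩ := (finrank_eq_one_iff_of_nonzero' (1 : A) one_ne_zero).mp (hn.trans h1) a
    exact ⟨c, by rw [← hc, Algebra.algebraMap_eq_smul_one]⟩
  have hfwd : ∀ B : LinearMap.BilinForm F V, B.Nondegenerate →
      (∀ h : H, ∀ x y : V, B (ρ h x) (ρ h y) = B x y) →
      ∃ σ : A →ₐ[F] A, ∀ h, σ (r h) = r h⁻¹ := by
    intro B hB hinv
    have hex : ∀ a : A, ∃ b : A, ∀ x y, B ((a : Module.End F V) x) y = B x ((b : Module.End F V) y) := by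
      rintro ⟨a, ha⟩
      refine Algebra.adjoin_induction (p := fun a _ => ∃ b : A, ∀ x y, B (a x) y =
        B x ((b : Module.End F V) y)) ?_ ?_ ?_ ?_ ha
      · rintro _ ⟨k, rfl⟩
        refine ⟨r k⁻¹, fun x y => ?_⟩
        show _ = B x (ρ k⁻¹ y)
        rw [← hinv k x (ρ k⁻¹ y), ← Module.End.mul_apply, ← map_mul, mul_inv_cancel, map_one,
          Module.End.one_apply]
      · intro c; exact ⟨algebraMap F A c, fun x y => by simp [Module.algebraMap_end_apply]⟩
      · rintro a b _ _ ⟨a', ha⟩ ⟨b', hb⟩; exact ⟨a' + b', fun x y => by simp [ha, hb]⟩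
      · rintro a b _ _ ⟨a', ha⟩ ⟨b', hb⟩
        exact ⟨b' * a', fun x y => by simp [ha, hb]⟩
    choose τ hτ using hex
    have huniq : ∀ (a b : A), (∀ x y, B ((a : Module.End F V) x) y = B x ((b : Module.End F V) y)) →
        τ a = b := fun a b hab => Subtype.ext (LinearMap.ext fun y => sub_eq_zero.mp
      (hB.2 _ fun x => by rw [map_sub, ← hτ, ← hab, sub_self]))
    refine ⟨{ toFun := τ
              map_one' := huniq _ _ fun x y => by simp
              map_zero' := huniq _ _ fun x y => by simp
              map_add' := fun a b => huniq _ _ fun x y => by simp [hτ]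
              map_mul' := fun a b => huniq _ _ fun x y => by
                rw [mul_comm (τ a) (τ b)]; simp [hτ]
              commutes' := fun c => huniq _ _ fun x y => by simp [Module.algebraMap_end_apply] },
      fun h => huniq _ _ fun x y => ?_⟩
    show B (ρ h x) y = B x (ρ h⁻¹ y)
    rw [← hinv h x (ρ h⁻¹ y), ← Module.End.mul_apply, ← map_mul, mul_inv_cancel, map_one,
      Module.End.one_apply]
  have hext : ∀ σ σ' : A →ₐ[F] A, (∀ h, σ (r h) = σ' (r h)) → σ = σ' := by
    intro σ σ' h
    apply AlgHom.ext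
    rintro ⟨a, ha⟩
    refine Algebra.adjoin_induction (p := fun a ha => σ ⟨a, ha⟩ = σ' ⟨a, ha⟩) ?_ ?_ ?_ ?_ ha
    · rintro _ ⟨k, rfl⟩; exact h k
    · intro c; exact (σ.commutes c).trans (σ'.commutes c).symm
    · intro a b ha hb h1 h2
      show σ (⟨a, ha⟩ + ⟨b, hb⟩) = σ' (⟨a, ha⟩ + ⟨b, hb⟩)
      rw [map_add, map_add, h1, h2]
    · intro a b ha hb h1 h2
      show σ (⟨a, ha⟩ * ⟨b, hb⟩) = σ' (⟨a, ha⟩ * ⟨b, hb⟩)
      rw [map_mul, map_mul, h1, h2]
  refine ⟨?_, ?_⟩
  · rintro h1 ⟨B, hB, hinv⟩
    obtain ⟨σ, hσ⟩ := hfwd B hB hinv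
    have hsq : ∀ h : H, r h ^ 2 = 1 := fun h => by
      obtain ⟨c, hc⟩ := hscalar h1 (r h)
      have : r h⁻¹ = r h := by rw [← hσ h, hc, σ.commutes]
      rw [sq]
      nth_rewrite 2 [← this]
      rw [← map_mul, mul_inv_cancel, map_one]
    have : Nat.card H ≤ Nat.card ↥({1, -1} : Finset A) := Nat.card_le_card_of_injective
      (fun h => ⟨r h, by
        rw [Finset.mem_insert, Finset.mem_singleton]
        exact sq_eq_one_iff.mp (hsq h)⟩) (fun x y h => hr (congrArg Subtype.val h))
    refine this.trans ?_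
    rw [Nat.card_eq_fintype_card, Fintype.card_coe]
    exact Finset.card_le_two
  intro h2
  haveI : Algebra.IsAlgebraic F A := Algebra.IsAlgebraic.of_finite F A
  constructor
  · rintro ⟨B, hB, hinv⟩
    obtain ⟨σ, hσ⟩ := hfwd B hB hinv
    obtain ⟨⟨i, hi⟩, hfr⟩ := (FiniteField.bijective_frobeniusAlgEquivOfAlgebraic_pow F A).2
      (AlgEquiv.ofBijective σ (σ.bijective))
    simp only at hfr
    set Φ := FiniteField.frobeniusAlgEquivOfAlgebraic F A with hΦ
    have hi0 : i ≠ 0 := by
      rintro rfl
      have hsq : ∀ h : H, r h ^ 2 = 1 := fun h => by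
        have h' : r h = σ (r h) := by
          have := AlgEquiv.congr_fun hfr (r h)
          simpa using this
        rw [sq]
        nth_rewrite 2 [h']
        rw [hσ, ← map_mul, mul_inv_cancel, map_one]
      have hone : ∀ h : H, ∃ c : F, ρ h = algebraMap F (Module.End F V) c := fun h => by
        rcases sq_eq_one_iff.mp (hsq h) with h' | h'
        · exact ⟨1, by rw [map_one]; exact congrArg Subtype.val h'⟩
        · refine ⟨-1, ?_⟩
          rw [map_neg, map_one]
          exact congrArg Subtype.val h'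
      rcases hirr (F ∙ v₀) (fun h u hu => by
        obtain ⟨c, hc⟩ := hone h
        rw [hc, Module.algebraMap_end_apply]
        exact Submodule.smul_mem _ c hu) with h | h
      · exact hv₀ (Submodule.span_singleton_eq_bot.mp h)
      · have := finrank_span_singleton (K := F) hv₀
        rw [h, finrank_top] at this
        omega
    have hinvol : Φ ^ (2 * i) = 1 := by
      rw [two_mul, pow_add, hfr]
      have h' : σ.comp σ = AlgHom.id F A := hext _ _ fun h => by
        rw [AlgHom.comp_apply, hσ, hσ, inv_inv]; rfl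
      ext a
      exact congrArg Subtype.val (AlgHom.congr_fun h' a) ▸ rfl
    have hdvd : Module.finrank F V ∣ 2 * i := by
      rw [← hn, ← FiniteField.orderOf_frobeniusAlgEquivOfAlgebraic F A]
      exact orderOf_dvd_of_pow_eq_one hinvol
    rw [hn] at hi
    obtain ⟨k, hk⟩ := hdvd
    have hk1 : k = 1 := by
      rcases k with _ | _ | k
      · omega
      · rfl
      · nlinarith
    subst hk1
    rw [mul_one] at hk
    refine ⟨⟨i, by omega⟩, ?_⟩
    rw [show Module.finrank F V / 2 = i by omega, ← IsCyclic.exponent_eq_card]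
    refine Monoid.exponent_dvd_of_forall_pow_eq_one fun h => hr ?_
    rw [map_one, map_pow, pow_succ]
    have : r h ^ Fintype.card F ^ i = r h⁻¹ := by
      have := AlgEquiv.congr_fun hfr (r h)
      rw [AlgEquiv.coe_pow, hΦ, FiniteField.coe_frobeniusAlgEquivOfAlgebraic_iterate] at this
      exact this.trans (hσ h)
    rw [this, ← map_mul, inv_mul_cancel, map_one]
  · rintro ⟨⟨m, hm⟩, hdvd⟩
    rw [show Module.finrank F V / 2 = m by omega] at hdvd
    set σ : A ≃ₐ[F] A := FiniteField.frobeniusAlgEquivOfAlgebraic F A ^ m with hσdef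
    have hσ : ∀ h, r h * σ (r h) = 1 := by
      intro h
      rw [hσdef, AlgEquiv.coe_pow, FiniteField.coe_frobeniusAlgEquivOfAlgebraic_iterate]
      show r h * r h ^ Fintype.card F ^ m = 1
      rw [← pow_succ', ← map_pow]
      obtain ⟨c, hc⟩ := hdvd
      rw [hc, pow_mul, pow_card_eq_one', one_pow, map_one]
    refine ⟨(Algebra.traceForm F A).compl₁₂ e.symm.toLinearMap (σ.toLinearMap ∘ₗ e.symm.toLinearMap), ?_, ?_⟩
    · obtain ⟨hl, hrr⟩ := traceForm_nondegenerate F A
      constructor
      · intro x hx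
        refine e.symm.map_eq_zero_iff.mp (hl _ fun a => ?_)
        have := hx (e (σ.symm a))
        simpa using this
      · intro y hy
        refine e.symm.map_eq_zero_iff.mp (σ.map_eq_zero_iff.mp (hrr _ fun a => ?_))
        have := hy (e a)
        simpa using this
    · intro h x y
      have he : ∀ z, e.symm (ρ h z) = r h * e.symm z := fun z => by
        apply e.injective
        rw [e.apply_symm_apply]
        obtain ⟨a, rfl⟩ := hevs z
        rw [show e.symm (ev a) = a from e.symm_apply_apply a]
        rfl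
      show Algebra.trace F A (e.symm (ρ h x) * σ (e.symm (ρ h y))) =
        Algebra.trace F A (e.symm x * σ (e.symm y))
      rw [he, he, map_mul σ]
      congr 1
      calc r h * e.symm x * (σ (r h) * σ (e.symm y))
          = r h * σ (r h) * (e.symm x * σ (e.symm y)) := by ring
        _ = _ := by rw [hσ, one_mul]

end H19.AbSelfDual
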