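import Mathlib

set_option autoImplicit false

/-!
Fixed point indices for coprime actions of abelian groups.
-/

namespace H19

universe u

variable {H : Type*} [CommGroup H] [Finite H]

/-- Fixed points of an element. -/
def fixOne {V : Type*} [CommGroup V] (φ : H →* MulAut V) (h : H) : Subgroup V where
  carrier := {v | φ h v = v}
  one_mem' := map_one _
  mul_mem' := fun {a b} (ha : _ = _) (hb : _ = _) => by show _ = _; rw [map_mul, ha, hb]
  inv_mem' := fun {a} (ha : _ = _) => by show _ = _; rw [map_inv, ha]

theorem mem_fixOne {V : Type*} [CommGroup V] (φ : H →* MulAut V) (h : H) (v : V) :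
    v ∈ fixOne φ h ↔ φ h v = v := Iff.rfl

open scoped Classical in
/-- A family of subgroups controlling fixed-point indices from below. -/
theorem exists_series : ∀ (m : ℕ) (V : Type u) [CommGroup V] [Finite V] (φ : H →* MulAut V),
    Nat.card V ≤ m → (Nat.card V).Coprime (Nat.card H) →
    ∃ (r : ℕ) (K : Fin r → Subgroup H), (∀ h, (∀ i, h ∈ K i) → ∀ v, φ h v = v) ∧
      ∀ h, (∏ i, if h ∈ K i then 1 else (K i).index + 1) * Nat.card (fixOne φ h) ≤ Nat.card V := by
  intro m
  induction m with
  | zero => intro V _ _ φ hle _; exact absurd hle (by have := Nat.card_pos (α := V); omega)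
  | succ m ih =>
    intro V _ _ φ hle hcop
    by_cases htriv : Subsingleton V
    · exact ⟨0, Fin.elim0, fun h _ v => Subsingleton.elim _ _, fun h => by
        simpa using Nat.card_le_card_of_injective (fun v : fixOne φ h => (v : V)) Subtype.val_injective⟩
    rw [not_subsingleton_iff_nontrivial] at htriv
    obtain ⟨W, ⟨hW0, hWi⟩, hWmin⟩ := wellFounded_lt.has_min
      {W : Subgroup V | W ≠ ⊥ ∧ ∀ h, ∀ w ∈ W, φ h w ∈ W} ⟨⊤, top_ne_bot, fun _ _ _ => Subgroup.mem_top _⟩
    have hWmap : ∀ h, W.map (φ h).toMonoidHom = W := by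
      intro h
      refine le_antisymm (Subgroup.map_le_iff_le_comap.mpr fun w hw => hWi h w hw) fun w hw => ?_
      refine ⟨φ h⁻¹ w, hWi _ w hw, ?_⟩
      show φ h (φ h⁻¹ w) = w
      rw [← MulAut.mul_apply, ← map_mul, mul_inv_cancel, map_one, MulAut.one_apply]
    let ψ : H →* MulAut (V ⧸ W) :=
      { toFun := fun h => QuotientGroup.congr W W (φ h) (hWmap h)
        map_one' := by
          ext x
          induction x using QuotientGroup.induction_on with
          | _ v =>
            show (QuotientGroup.mk (φ 1 v) : V ⧸ W) = QuotientGroup.mk v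
            rw [map_one, MulAut.one_apply]
        map_mul' := fun a b => by
          ext x
          induction x using QuotientGroup.induction_on with
          | _ v =>
            show (QuotientGroup.mk (φ (a * b) v) : V ⧸ W) = QuotientGroup.mk (φ a (φ b v))
            rw [map_mul, MulAut.mul_apply] }
    have hcardVW : Nat.card V = Nat.card (V ⧸ W) * Nat.card W := Subgroup.card_eq_card_quotient_mul_card_subgroup W
    have hW1 : 1 < Nat.card W := (Subgroup.one_lt_card_iff_ne_bot W).mpr hW0
    have hlt : Nat.card (V ⧸ W) ≤ m := by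
      have := Nat.mul_le_mul_left (Nat.card (V ⧸ W)) hW1
      have := Nat.card_pos (α := V ⧸ W)
      omega
    obtain ⟨r, K, hKf, hKw⟩ := ih (V ⧸ W) ψ hlt
      (hcop.coprime_dvd_left ⟨Nat.card W, hcardVW⟩)
    let K₀ : Subgroup H :=
      { carrier := {h | ∀ w ∈ W, φ h w = w}
        one_mem' := fun w _ => by simp
        mul_mem' := fun {a b} ha hb w hw => by rw [map_mul, MulAut.mul_apply, hb w hw, ha w hw]
        inv_mem' := fun {a} ha w hw => by
          conv_lhs => rw [← ha w hw]
          rw [← MulAut.mul_apply, ← map_mul, inv_mul_cancel, map_one, MulAut.one_apply] }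
    have hfree : ∀ h ∉ K₀, fixOne φ h ⊓ W = ⊥ := by
      intro h hh
      by_contra hne
      refine hh fun w hw => ?_
      have hmem : fixOne φ h ⊓ W ∈ {W : Subgroup V | W ≠ ⊥ ∧ ∀ h, ∀ w ∈ W, φ h w ∈ W} := by
        refine ⟨hne, fun k u hu => ⟨?_, hWi k u hu.2⟩⟩
        show φ h (φ k u) = φ k u
        rw [← MulAut.mul_apply, ← map_mul, mul_comm, map_mul, MulAut.mul_apply, (hu.1 : φ h u = u)]
      have : fixOne φ h ⊓ W = W := (eq_or_lt_of_le inf_le_right).resolve_right (hWmin _ hmem)
      rw [← this] at hw
      exact hw.1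
    have hidx : K₀.index + 1 ≤ Nat.card W := by
      haveI : Nontrivial W := Finite.one_lt_card_iff_nontrivial.mp hW1
      obtain ⟨⟨w₀, hw₀⟩, hne⟩ := exists_ne (1 : W)
      have hne' : w₀ ≠ 1 := fun h => hne (Subtype.ext h)
      let f : Option (H ⧸ K₀) → W := fun o => o.elim 1 fun q => ⟨φ q.out w₀, hWi _ _ hw₀⟩
      have hf : Function.Injective f := by
        have hne1 : ∀ h : H, φ h w₀ ≠ 1 := fun h he => hne' (by
          have := (φ h).injective (he.trans (map_one _).symm)
          exact this)
        intro o o' he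
        rcases o with _ | q <;> rcases o' with _ | q'
        · rfl
        · exact absurd (congrArg Subtype.val he).symm (hne1 _)
        · exact absurd (congrArg Subtype.val he) (hne1 _)
        · have hee : φ q.out w₀ = φ q'.out w₀ := congrArg Subtype.val he
          have hfix : φ (q.out⁻¹ * q'.out) w₀ = w₀ := by
            rw [map_mul, MulAut.mul_apply, ← hee, ← MulAut.mul_apply, ← map_mul, inv_mul_cancel, map_one,
              MulAut.one_apply]
          have hmemK : q.out⁻¹ * q'.out ∈ K₀ := by
            by_contra hk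
            exact hne' ((Subgroup.eq_bot_iff_forall _).mp (hfree _ hk) w₀ ⟨hfix, hw₀⟩)
          rw [← QuotientGroup.out_eq' q, ← QuotientGroup.out_eq' q']
          exact congrArg some (QuotientGroup.eq.mpr hmemK)
      have := Nat.card_le_card_of_injective f hf
      rw [Finite.card_option] at this
      exact this
    refine ⟨r + 1, Fin.cons K₀ K, ?_, ?_⟩
    · intro h hh v
      have h0 : h ∈ K₀ := by simpa using hh 0
      have h1 : ∀ i, h ∈ K i := fun i => by simpa using hh i.succ
      have h2 : (QuotientGroup.mk (φ h v) : V ⧸ W) = QuotientGroup.mk v := hKf h h1 (QuotientGroup.mk v)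
      have hw : v⁻¹ * φ h v ∈ W := QuotientGroup.eq.mp h2.symm
      set w := v⁻¹ * φ h v with hwdef
      have hv : φ h v = v * w := by rw [hwdef, mul_inv_cancel_left]
      have hpow : ∀ k : ℕ, φ (h ^ k) v = v * w ^ k := by
        intro k
        induction k with
        | zero => simp
        | succ k ihk =>
          rw [pow_succ', map_mul, MulAut.mul_apply, ihk, map_mul, map_pow (φ h) w k, h0 w hw, hv, mul_assoc,
            ← pow_succ']
      have := hpow (Nat.card H)
      rw [pow_card_eq_one', map_one, MulAut.one_apply, eq_comm, mul_eq_left] at this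
      have hw1 : w = 1 := (powCoprime hcop).injective (by simpa [powCoprime] using this)
      rw [hv, hw1, mul_one]
    · intro h
      rw [Fin.prod_univ_succ]
      simp only [Fin.cons_zero, Fin.cons_succ]
      let g : fixOne φ h →* fixOne ψ h :=
        { toFun := fun v => ⟨QuotientGroup.mk (v : V), by
            rw [mem_fixOne]
            show (QuotientGroup.mk (φ h v) : V ⧸ W) = QuotientGroup.mk (v : V)
            rw [(v.2 : φ h v = v)]⟩
          map_one' := rfl
          map_mul' := fun a b => rfl }
      have hker : Nat.card g.ker ≤ Nat.card ↥(fixOne φ h ⊓ W) :=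
        Nat.card_le_card_of_injective
          (fun v : g.ker => (⟨(v.1 : V), v.1.2,
            (QuotientGroup.eq_one_iff _).mp (congrArg Subtype.val v.2)⟩ : ↥(fixOne φ h ⊓ W)))
          fun a b hab => Subtype.ext (Subtype.ext (congrArg (fun x : ↥(fixOne φ h ⊓ W) => (x : V)) hab))
      have hcard : Nat.card (fixOne φ h) ≤ Nat.card ↥(fixOne φ h ⊓ W) * Nat.card (fixOne ψ h) := by
        rw [Subgroup.card_eq_card_quotient_mul_card_subgroup g.ker, Nat.mul_comm]
        refine Nat.mul_le_mul hker ?_
        rw [Nat.card_congr (QuotientGroup.quotientKerEquivRange g).toEquiv]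
        exact Nat.card_le_card_of_injective (fun x => (x : fixOne ψ h)) Subtype.val_injective
      have h0w : (if h ∈ K₀ then 1 else K₀.index + 1) * Nat.card ↥(fixOne φ h ⊓ W) ≤ Nat.card W := by
        split_ifs with hh
        · rw [one_mul]
          exact Nat.card_le_card_of_injective (fun v : ↥(fixOne φ h ⊓ W) => (⟨v.1, v.2.2⟩ : W))
            fun a b hab => by
              exact Subtype.ext (congrArg (fun x : W => (x : V)) hab)
        · rw [hfree h hh, Subgroup.card_bot, mul_one]
          exact hidx
      calc _ ≤ ((if h ∈ K₀ then 1 else K₀.index + 1) * ∏ i, if h ∈ K i then 1 else (K i).index + 1) *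
            (Nat.card ↥(fixOne φ h ⊓ W) * Nat.card (fixOne ψ h)) := Nat.mul_le_mul_left _ hcard
        _ = ((if h ∈ K₀ then 1 else K₀.index + 1) * Nat.card ↥(fixOne φ h ⊓ W)) *
            ((∏ i, if h ∈ K i then 1 else (K i).index + 1) * Nat.card (fixOne ψ h)) := by ring
        _ ≤ Nat.card W * Nat.card (V ⧸ W) := Nat.mul_le_mul h0w (hKw h)
        _ = Nat.card V := by rw [hcardVW, Nat.mul_comm]

end H19
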