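import Cfsg.Agent.H19.GaloisAvg

set_option autoImplicit false

/-!
A tensor product quadratic form and its cyclotomic lower bound.
-/

open Polynomial
open scoped ComplexConjugate

namespace H19

/-- The kernel of the weight form. -/
def wKer {r : ℕ} (n : Fin r → ℕ) (a b : ∀ i, Fin (n i)) : ℂ :=
  ∏ i, (((n i : ℂ) + 1) * (if a i = b i then 1 else 0) - 1)

/-- The weight form. -/
noncomputable def wForm {r : ℕ} (n : Fin r → ℕ) (z w : (∀ i, Fin (n i)) → ℂ) : ℂ :=
  ∑ a, ∑ b, wKer n a b * (z a * conj (w b))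

theorem wForm_sub {r : ℕ} (n : Fin r → ℕ) (z w : (∀ i, Fin (n i)) → ℂ) :
    wForm n (z - w) (z - w) = wForm n z z + wForm n w w - (wForm n z w + wForm n w z) := by
  simp only [wForm, ← Finset.sum_add_distrib, ← Finset.sum_sub_distrib]
  refine Finset.sum_congr rfl fun a _ => Finset.sum_congr rfl fun b _ => ?_
  simp only [Pi.sub_apply, map_sub]
  ring

theorem wForm_zero {n : Fin 0 → ℕ} (z : (∀ i, Fin (n i)) → ℂ) :
    wForm n z z = (‖z default‖ ^ 2 : ℝ) := by
  simp [wForm, wKer, Complex.mul_conj, Complex.sq_norm]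

/-- The slice of `z` at first coordinate `x`. -/
def wSlice {r : ℕ} (n : Fin (r + 1) → ℕ) {α : Type*} (z : (∀ i, Fin (n i)) → α) (x : Fin (n 0)) :
    (∀ i, Fin ((Fin.tail n) i)) → α :=
  fun a => z (Fin.consEquiv (fun i => Fin (n i)) (x, a))

theorem wForm_succ {r : ℕ} (n : Fin (r + 1) → ℕ) (z : (∀ i, Fin (n i)) → ℂ) :
    2 * wForm n z z = 2 * ∑ x, wForm (Fin.tail n) (wSlice n z x) (wSlice n z x) +
      ∑ x, ∑ y, wForm (Fin.tail n) (wSlice n z x - wSlice n z y) (wSlice n z x - wSlice n z y) := by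
  set B : Fin (n 0) → Fin (n 0) → ℂ := fun x y => wForm (Fin.tail n) (wSlice n z x) (wSlice n z y) with hB
  have h1 : wForm n z z = ((n 0 : ℂ) + 1) * ∑ x, B x x - ∑ x, ∑ y, B x y := by
    have hk : ∀ x y (a b : ∀ i, Fin ((Fin.tail n) i)),
        wKer n (Fin.consEquiv (fun i => Fin (n i)) (x, a)) (Fin.consEquiv (fun i => Fin (n i)) (y, b)) =
          (((n 0 : ℂ) + 1) * (if x = y then 1 else 0) - 1) * wKer (Fin.tail n) a b := by
      intro x y a b
      simp only [wKer, Fin.prod_univ_succ, Fin.consEquiv_apply, Fin.tail]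
      congr 1
    have h2 : wForm n z z = ∑ x, ∑ y, (((n 0 : ℂ) + 1) * (if x = y then 1 else 0) - 1) * B x y := by
      unfold wForm
      simp only [← Equiv.sum_comp (Fin.consEquiv (fun i => Fin (n i))), Fintype.sum_prod_type, hk]
      refine Finset.sum_congr rfl fun x _ => ?_
      rw [Finset.sum_comm]
      refine Finset.sum_congr rfl fun y _ => ?_
      simp only [hB, wForm, wSlice, Finset.mul_sum]
      exact Finset.sum_congr rfl fun a _ => Finset.sum_congr rfl fun b _ => by erw [hk x y a b]; ring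
    rw [h2, Finset.mul_sum, ← Finset.sum_sub_distrib]
    refine Finset.sum_congr rfl fun x _ => ?_
    simp [sub_mul, Finset.sum_sub_distrib]
  have h3 : ∑ x, ∑ y, wForm (Fin.tail n) (wSlice n z x - wSlice n z y) (wSlice n z x - wSlice n z y) =
      2 * (n 0 : ℂ) * ∑ x, B x x - 2 * ∑ x, ∑ y, B x y := by
    simp only [wForm_sub, Finset.sum_sub_distrib, Finset.sum_add_distrib, ← hB]
    rw [Finset.sum_comm (f := fun x y => wForm (Fin.tail n) (wSlice n z y) (wSlice n z x))]
    simp only [Finset.sum_const, Finset.card_univ, Fintype.card_fin, nsmul_eq_mul, ← Finset.mul_sum, hB]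
    ring
  rw [h3, h1]
  ring

theorem wForm_re_nonneg {r : ℕ} (n : Fin r → ℕ) (z : (∀ i, Fin (n i)) → ℂ) : 0 ≤ (wForm n z z).re := by
  induction r with
  | zero => rw [wForm_zero, Complex.ofReal_re]; positivity
  | succ r ih =>
    have h := congrArg Complex.re (wForm_succ n z)
    simp only [Complex.add_re, Complex.re_sum, Complex.mul_re, Complex.re_ofNat, Complex.im_ofNat,
      zero_mul, sub_zero] at h
    have h1 : 0 ≤ ∑ x, (wForm (Fin.tail n) (wSlice n z x) (wSlice n z x)).re :=
      Finset.sum_nonneg fun x _ => ih _ _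
    have h2 : 0 ≤ ∑ x, ∑ y,
        (wForm (Fin.tail n) (wSlice n z x - wSlice n z y) (wSlice n z x - wSlice n z y)).re :=
      Finset.sum_nonneg fun x _ => Finset.sum_nonneg fun y _ => ih _ _
    linarith

/-- Values of a polynomial family at a point. -/
noncomputable def wEval {r : ℕ} {n : Fin r → ℕ} (D : (∀ i, Fin (n i)) → ℤ[X]) (μ : ℂ) :
    (∀ i, Fin (n i)) → ℂ :=
  fun a => aeval μ (D a)

/-- The cyclotomic lower bound for the weight form. -/
theorem wForm_lower {m : ℕ} (hm : 0 < m) {ζ : ℂ} (hζ : IsPrimitiveRoot ζ m) {r : ℕ} (n : Fin r → ℕ)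
    (D : (∀ i, Fin (n i)) → ℤ[X]) (hD : ∃ a, aeval ζ (D a) ≠ 0) :
    ((m.totient * ∏ i, n i : ℕ) : ℝ) ≤
      ∑ j ∈ units' m, (wForm n (wEval D (ζ ^ j)) (wEval D (ζ ^ j))).re := by
  classical
  induction r with
  | zero =>
    obtain ⟨a, ha⟩ := hD
    rw [Subsingleton.elim a default] at ha
    simp only [Finset.univ_eq_empty, Finset.prod_empty, mul_one, wForm_zero, Complex.ofReal_re, wEval]
    exact totient_le_sum_normSq hm hζ _ ha
  | succ r ih =>
    set S : Finset (Fin (n 0)) := Finset.univ.filter fun x => ∃ a, aeval ζ (wSlice n D x a) ≠ 0 with hS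
    set N : ℝ := ((m.totient * ∏ i, (Fin.tail n) i : ℕ) : ℝ) with hN
    have hN0 : 0 ≤ N := Nat.cast_nonneg _
    let T : Fin (n 0) → ℝ := fun x => ∑ j ∈ units' m,
      (wForm (Fin.tail n) (wEval (wSlice n D x) (ζ ^ j)) (wEval (wSlice n D x) (ζ ^ j))).re
    let P : Fin (n 0) → Fin (n 0) → ℝ := fun x y => ∑ j ∈ units' m,
      (wForm (Fin.tail n) (wEval (wSlice n D x - wSlice n D y) (ζ ^ j))
        (wEval (wSlice n D x - wSlice n D y) (ζ ^ j))).re
    have hT0 : ∀ x, 0 ≤ T x := fun x => Finset.sum_nonneg fun j _ => wForm_re_nonneg _ _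
    have hP0 : ∀ x y, 0 ≤ P x y := fun x y => Finset.sum_nonneg fun j _ => wForm_re_nonneg _ _
    have hT : ∀ x ∈ S, N ≤ T x := fun x hx => ih _ _ (Finset.mem_filter.mp hx).2
    have hPlow : ∀ x ∈ S, ∀ y ∈ Finset.univ \ S, N ≤ P x y ∧ N ≤ P y x := by
      intro x hx y hy
      obtain ⟨a, ha⟩ := (Finset.mem_filter.mp hx).2
      have hy' : aeval ζ (wSlice n D y a) = 0 := by
        by_contra h
        exact (Finset.mem_sdiff.mp hy).2 (Finset.mem_filter.mpr ⟨Finset.mem_univ _, a, h⟩)
      exact ⟨ih _ _ ⟨a, by simpa [hy'] using ha⟩, ih _ _ ⟨a, by simpa [hy'] using ha⟩⟩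
    have hmain : 2 * ∑ j ∈ units' m, (wForm n (wEval D (ζ ^ j)) (wEval D (ζ ^ j))).re =
        2 * ∑ x, T x + ∑ x, ∑ y, P x y := by
      have : ∀ j, 2 * (wForm n (wEval D (ζ ^ j)) (wEval D (ζ ^ j))).re =
          2 * ∑ x, (wForm (Fin.tail n) (wEval (wSlice n D x) (ζ ^ j)) (wEval (wSlice n D x) (ζ ^ j))).re +
          ∑ x, ∑ y, (wForm (Fin.tail n) (wEval (wSlice n D x - wSlice n D y) (ζ ^ j))
            (wEval (wSlice n D x - wSlice n D y) (ζ ^ j))).re := by
        intro j
        have h := congrArg Complex.re (wForm_succ n (wEval D (ζ ^ j)))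
        simp only [Complex.add_re, Complex.re_sum, Complex.mul_re, Complex.re_ofNat, Complex.im_ofNat,
          zero_mul, sub_zero] at h
        have e1 : ∀ x, wSlice n (wEval D (ζ ^ j)) x = wEval (wSlice n D x) (ζ ^ j) := fun x => rfl
        have e2 : ∀ x y, wEval (wSlice n D x) (ζ ^ j) - wEval (wSlice n D y) (ζ ^ j) =
            wEval (wSlice n D x - wSlice n D y) (ζ ^ j) := fun x y => by
          funext a; simp [wEval]
        simpa only [e1, e2] using h
      simp only [Finset.mul_sum, this, Finset.sum_add_distrib, T, P]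
      rw [Finset.sum_comm]
      congr 1
      rw [Finset.sum_comm]
      exact Finset.sum_congr rfl fun x _ => Finset.sum_comm
    have h1 : (S.card : ℝ) * N ≤ ∑ x, T x := by
      refine le_trans ?_ (Finset.sum_le_sum_of_subset_of_nonneg (Finset.subset_univ S) fun x _ _ => hT0 x)
      have := Finset.sum_le_sum hT
      rwa [Finset.sum_const, nsmul_eq_mul] at this
    have h2 : 2 * (S.card : ℝ) * (Finset.univ \ S).card * N ≤ ∑ x, ∑ y, P x y := by
      rw [← Finset.sum_sdiff (Finset.subset_univ S) (f := fun x => ∑ y, P x y)]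
      have ha : ∑ x ∈ Finset.univ \ S, ∑ y ∈ S, P x y ≤ ∑ x ∈ Finset.univ \ S, ∑ y, P x y :=
        Finset.sum_le_sum fun x _ =>
          Finset.sum_le_sum_of_subset_of_nonneg (Finset.subset_univ _) fun y _ _ => hP0 x y
      have hb : ∑ x ∈ S, ∑ y ∈ Finset.univ \ S, P x y ≤ ∑ x ∈ S, ∑ y, P x y :=
        Finset.sum_le_sum fun x _ =>
          Finset.sum_le_sum_of_subset_of_nonneg (Finset.subset_univ _) fun y _ _ => hP0 x y
      have ha' : ((Finset.univ \ S).card : ℝ) * ((S.card : ℝ) * N) ≤ ∑ x ∈ Finset.univ \ S, ∑ y ∈ S, P x y := by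
        have := Finset.sum_le_sum (s := Finset.univ \ S) (f := fun _ => ∑ _y ∈ S, N)
          (g := fun x => ∑ y ∈ S, P x y) fun x hx => Finset.sum_le_sum fun y hy => (hPlow y hy x hx).2
        simpa only [Finset.sum_const, nsmul_eq_mul] using this
      have hb' : (S.card : ℝ) * (((Finset.univ \ S).card : ℝ) * N) ≤ ∑ x ∈ S, ∑ y ∈ Finset.univ \ S, P x y := by
        have := Finset.sum_le_sum (s := S) (f := fun _ => ∑ _y ∈ Finset.univ \ S, N)
          (g := fun x => ∑ y ∈ Finset.univ \ S, P x y)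
          fun x hx => Finset.sum_le_sum fun y hy => (hPlow x hx y hy).1
        simpa only [Finset.sum_const, nsmul_eq_mul] using this
      linarith
    have hSpos : 1 ≤ S.card := by
      obtain ⟨a, ha⟩ := hD
      refine Finset.card_pos.mpr ⟨a 0, Finset.mem_filter.mpr ⟨Finset.mem_univ _, Fin.tail a, ?_⟩⟩
      have : Fin.consEquiv (fun i => Fin (n i)) (a 0, Fin.tail a) = a := Fin.cons_self_tail a
      simpa only [wSlice, this] using ha
    have hcard : S.card + (Finset.univ \ S).card = n 0 := by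
      have := Finset.card_sdiff_add_card_eq_card (Finset.subset_univ S)
      rw [Finset.card_univ, Fintype.card_fin] at this
      omega
    have hk : (n 0 : ℝ) ≤ (S.card : ℝ) + S.card * (Finset.univ \ S).card := by
      have hn0 : (n 0 : ℝ) = (S.card : ℝ) + (Finset.univ \ S).card := by exact_mod_cast hcard.symm
      rw [hn0]
      have h' : (1 : ℝ) ≤ S.card := by exact_mod_cast hSpos
      nlinarith [Nat.cast_nonneg (α := ℝ) (Finset.univ \ S).card]
    have hfin : ((m.totient * ∏ i, n i : ℕ) : ℝ) = (n 0 : ℝ) * N := by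
      rw [hN, Fin.prod_univ_succ]
      push_cast
      simp only [Fin.tail]
      ring
    rw [hfin]
    nlinarith

/-- Diagonalisation of the weight form by characters. -/
theorem wForm_fourier {r : ℕ} {H : Type*} [Group H] [Fintype H] (n : Fin r → ℕ) (K : Fin r → Subgroup H)
    [∀ i, DecidablePred (· ∈ K i)]
    (c : ∀ i, Fin (n i) → H → ℂ) (hmul : ∀ i a x y, c i a (x * y⁻¹) = c i a x * conj (c i a y))
    (hsum : ∀ i x, ∑ a, c i a x = if x ∈ K i then (n i : ℂ) else 0)
    (hsep : ∀ x, (∀ i, x ∈ K i) → x = 1) (f : H → ℂ) :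
    wForm n (fun a => ∑ x, f x * conj (∏ i, c i (a i) x)) (fun a => ∑ x, f x * conj (∏ i, c i (a i) x)) =
      (∏ i, (n i : ℂ)) * ∑ x, (∏ i, if x ∈ K i then (1 : ℂ) else (n i : ℂ) + 1) * (f x * conj (f x)) := by
  classical
  have hE : ∀ x y : H, ∑ a : ∀ i, Fin (n i), ∑ b : ∀ i, Fin (n i),
      wKer n a b * (conj (∏ i, c i (a i) x) * ∏ i, c i (b i) y) =
      if y = x then ∏ i, ((n i : ℂ) * if x ∈ K i then 1 else (n i : ℂ) + 1) else 0 := by
    intro x y
    have h1 : ∀ a b : ∀ i, Fin (n i), wKer n a b * (conj (∏ i, c i (a i) x) * ∏ i, c i (b i) y) =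
        ∏ i, (((n i : ℂ) + 1) * (if a i = b i then 1 else 0) - 1) * (conj (c i (a i) x) * c i (b i) y) := by
      intro a b
      rw [wKer, map_prod, ← Finset.prod_mul_distrib, ← Finset.prod_mul_distrib]
    simp only [h1]
    have h2 : ∀ a : ∀ i, Fin (n i), ∑ b : ∀ i, Fin (n i),
        ∏ i, (((n i : ℂ) + 1) * (if a i = b i then 1 else 0) - 1) * (conj (c i (a i) x) * c i (b i) y) =
        ∏ i, ∑ q, (((n i : ℂ) + 1) * (if a i = q then 1 else 0) - 1) * (conj (c i (a i) x) * c i q y) :=
      fun a => (Fintype.prod_sum (fun i q =>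
        (((n i : ℂ) + 1) * (if a i = q then 1 else 0) - 1) * (conj (c i (a i) x) * c i q y))).symm
    simp only [h2]
    rw [← Fintype.prod_sum (fun i p => ∑ q,
        (((n i : ℂ) + 1) * (if p = q then 1 else 0) - 1) * (conj (c i p x) * c i q y))]
    have hi : ∀ i, ∑ p, ∑ q, (((n i : ℂ) + 1) * (if p = q then 1 else 0) - 1) * (conj (c i p x) * c i q y) =
        ((n i : ℂ) + 1) * (if y * x⁻¹ ∈ K i then (n i : ℂ) else 0) -
          (if x ∈ K i then (n i : ℂ) else 0) * (if y ∈ K i then (n i : ℂ) else 0) := by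
      intro i
      have hx : ∑ p, conj (c i p x) = if x ∈ K i then (n i : ℂ) else 0 := by
        rw [← map_sum, hsum]; split_ifs <;> simp
      rw [← hsum i (y * x⁻¹), ← hx, ← hsum i y, Finset.mul_sum, Finset.sum_mul, ← Finset.sum_sub_distrib]
      refine Finset.sum_congr rfl fun p _ => ?_
      simp only [hmul, sub_mul, Finset.sum_sub_distrib, one_mul, Finset.mul_sum]
      congr 1
      rw [Finset.sum_eq_single p (fun q _ hq => by simp [Ne.symm hq]) (by simp)]
      simp [mul_comm]
    simp only [hi]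
    by_cases hyx : y = x
    · subst hyx
      rw [if_pos rfl]
      refine Finset.prod_congr rfl fun i _ => ?_
      rw [mul_inv_cancel, if_pos (K i).one_mem]
      split_ifs <;> ring
    · rw [if_neg hyx]
      obtain ⟨i, hi'⟩ : ∃ i, y * x⁻¹ ∉ K i := by
        by_contra hcon
        push Not at hcon
        exact hyx (mul_inv_eq_one.mp (hsep _ hcon))
      refine Finset.prod_eq_zero (Finset.mem_univ i) ?_
      rw [if_neg hi']
      by_cases hx : x ∈ K i
      · have hy : y ∉ K i := fun hy => hi' ((K i).mul_mem hy ((K i).inv_mem hx))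
        rw [if_neg hy]; ring
      · rw [if_neg hx]; ring
  have hswap : wForm n (fun a => ∑ x, f x * conj (∏ i, c i (a i) x))
        (fun a => ∑ x, f x * conj (∏ i, c i (a i) x)) =
      ∑ x, ∑ y, f x * conj (f y) * ∑ a : ∀ i, Fin (n i), ∑ b : ∀ i, Fin (n i),
        wKer n a b * (conj (∏ i, c i (a i) x) * ∏ i, c i (b i) y) := by
    simp only [wForm, map_sum, map_mul, Complex.conj_conj]
    have step : ∀ a b : ∀ i, Fin (n i),
        wKer n a b * ((∑ x, f x * conj (∏ i, c i (a i) x)) * ∑ y, conj (f y) * ∏ i, c i (b i) y) =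
        ∑ x, ∑ y, f x * conj (f y) * (wKer n a b * (conj (∏ i, c i (a i) x) * ∏ i, c i (b i) y)) := by
      intro a b
      rw [Finset.sum_mul_sum, Finset.mul_sum]
      refine Finset.sum_congr rfl fun x _ => ?_
      rw [Finset.mul_sum]
      exact Finset.sum_congr rfl fun y _ => by ring
    simp only [step]
    calc ∑ a : ∀ i, Fin (n i), ∑ b : ∀ i, Fin (n i), ∑ x, ∑ y,
          f x * conj (f y) * (wKer n a b * (conj (∏ i, c i (a i) x) * ∏ i, c i (b i) y))
        = ∑ x, ∑ a : ∀ i, Fin (n i), ∑ y, ∑ b : ∀ i, Fin (n i),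
          f x * conj (f y) * (wKer n a b * (conj (∏ i, c i (a i) x) * ∏ i, c i (b i) y)) := by
            rw [Finset.sum_comm (s := (Finset.univ : Finset H))]
            refine Finset.sum_congr rfl fun a _ => ?_
            rw [Finset.sum_comm]
            exact Finset.sum_congr rfl fun x _ => Finset.sum_comm
      _ = _ := by
            refine Finset.sum_congr rfl fun x _ => ?_
            rw [Finset.sum_comm]
            refine Finset.sum_congr rfl fun y _ => ?_
            rw [Finset.mul_sum]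
            exact Finset.sum_congr rfl fun a _ => by rw [Finset.mul_sum]
  rw [hswap, Finset.mul_sum]
  refine Finset.sum_congr rfl fun x _ => ?_
  rw [Finset.sum_eq_single x (fun y _ h => by rw [hE, if_neg h, mul_zero]) (by simp), hE,
    if_pos rfl, Finset.prod_mul_distrib]
  ring

end H19
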