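import Cfsg.Agent.H19.SplitChars
import Cfsg.Agent.H19.WeightForm
import Cfsg.Agent.H19.FixedSeries

set_option autoImplicit false

/-!
An abelian stabiliser bounds the class number of a split extension.
-/

open Cfsg
open scoped ComplexConjugate

namespace H19

variable {X : Type*} [Group X] [Finite X]

/-- The twisted average of a character over `H` is a character of the first factor. -/
theorem twistAvg_isCharacter {Z H : Type*} [Group Z] [Group H] [Fintype Z] [Fintype H]
    (hab : ∀ a b : Z, a * b = b * a) {Φ : Z × H → ℂ} (hΦ : IsCharacter (Z × H) Φ) {μ : H → ℂ}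
    (hμ : IsCharacter H μ) :
    IsCharacter Z (fun z => (Nat.card H : ℂ)⁻¹ * ∑ h, Φ (z, h) * conj (μ h)) := by
  rw [H12.isCharacter_iff]
  refine ⟨fun a b => by rw [hab b a, mul_inv_cancel_right], fun ψ => ?_⟩
  obtain ⟨k, hk⟩ := H12.IsCharacter.classInner_nat hΦ
    (H12.IsCharacter.mul (H12.IsCharacter.comp (H12.isCharacter_irr ψ) (MonoidHom.fst Z H))
      (H12.IsCharacter.comp hμ (MonoidHom.snd Z H)))
  refine ⟨k, ?_⟩
  rw [← hk]
  simp only [classInner, Fintype.sum_prod_type, Nat.card_prod, Nat.cast_mul, Finset.mul_sum, Finset.sum_mul,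
    Pi.mul_apply, Function.comp_apply, MonoidHom.coe_fst, MonoidHom.coe_snd, map_mul]
  refine Finset.sum_congr rfl fun z _ => Finset.sum_congr rfl fun h _ => ?_
  rw [mul_inv_rev]
  ring

open scoped Classical in
/-- Linear characters of a quotient, as functions on the group. -/
theorem exists_quot_chars {H : Type*} [CommGroup H] [Fintype H] (K : Subgroup H) :
    ∃ c : Fin K.index → H → ℂ, (∀ a, IsCharacter H (c a)) ∧
      (∀ a x y, c a (x * y⁻¹) = c a x * conj (c a y)) ∧
      (∀ x, ∑ a, c a x = if x ∈ K then (K.index : ℂ) else 0) := by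
  haveI := Fintype.ofFinite (H ⧸ K)
  have hone : ∀ ψ : IrrCharacter (H ⧸ K), (ψ : H ⧸ K → ℂ) 1 = 1 := irr_one_of_comm (fun a b => mul_comm a b)
  have hcard : Fintype.card (IrrCharacter (H ⧸ K)) = K.index := by
    rw [← Nat.card_eq_fintype_card, H12.card_irrCharacter, Subgroup.index]
    refine Nat.card_congr (Equiv.ofBijective ConjClasses.mk ⟨fun a b h => ?_, ConjClasses.mk_surjective⟩).symm
    exact isConj_iff_eq.mp (ConjClasses.mk_eq_mk_iff_isConj.mp h)
  let e := Fintype.equivFinOfCardEq hcard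
  refine ⟨fun a => (e.symm a : H ⧸ K → ℂ) ∘ QuotientGroup.mk' K,
    fun a => H12.IsCharacter.comp (H12.isCharacter_irr _) _, fun a x y => ?_, fun x => ?_⟩
  · simp only [Function.comp_apply, map_mul, map_inv]
    rw [irr_mul_of_comm (fun a b => mul_comm a b), H12.irr_inv]
  · have h := H12.regular_eq_sum (G := H ⧸ K) (QuotientGroup.mk' K x)
    simp only [hone, one_mul] at h
    simp only [Function.comp_apply]
    rw [← Equiv.sum_comp e]
    simp only [Equiv.symm_apply_apply]
    rw [h, Subgroup.index, QuotientGroup.mk'_apply]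
    by_cases hx : x ∈ K
    · rw [if_pos hx, if_pos ((QuotientGroup.eq_one_iff x).mpr hx)]
    · rw [if_neg hx, if_neg (fun h' => hx ((QuotientGroup.eq_one_iff x).mp h'))]

theorem isCharacter_prod {H : Type*} [Group H] {ι : Type*} [Fintype ι] (c : ι → H → ℂ)
    (hc : ∀ i, IsCharacter H (c i)) : IsCharacter H (fun h => ∏ i, c i h) := by
  classical
  have : ∀ s : Finset ι, IsCharacter H (∏ i ∈ s, c i) := fun s =>
    Finset.prod_induction _ (IsCharacter H) (fun a b => H12.IsCharacter.mul)
      (by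
        have := H12.isCharacter_irr (H12.oneIrr H)
        exact this) (fun i _ => hc i)
  have h := this Finset.univ
  rwa [show (∏ i, c i) = fun h => ∏ i, c i h from funext fun h => Finset.prod_apply h _ _] at h

variable (V : Subgroup X) [V.Normal] (G : Subgroup X)

open scoped Classical in
/-- Abelian stabiliser bound `k(VG) ≤ |V|`. -/
theorem classes_le_of_abelian_stab {p : ℕ} [hp : Fact p.Prime] (hexp : ∀ w ∈ V, w ^ p = 1)
    (hidx : ¬ p ∣ V.index) (hself : Subgroup.centralizer (V : Set X) = V)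
    (hGV : Subgroup.IsComplement' V G) (v : X) (hv : v ∈ V)
    (hH : ∀ a ∈ G ⊓ Subgroup.centralizer ({v} : Set X), ∀ b ∈ G ⊓ Subgroup.centralizer ({v} : Set X),
      a * b = b * a) :
    Nat.card (ConjClasses X) ≤ Nat.card V := by
  haveI := Fintype.ofFinite X
  haveI := Fintype.ofFinite G
  set H : Subgroup X := G ⊓ Subgroup.centralizer ({v} : Set X) with hHdef
  haveI := Fintype.ofFinite H
  letI : CommGroup H := { (inferInstance : Group H) with
    mul_comm := fun a b => Subtype.ext (hH a a.2 b b.2) }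
  have habV : ∀ a ∈ V, ∀ b ∈ V, a * b = b * a := fun a ha b hb => by
    have : a ∈ Subgroup.centralizer (V : Set X) := by rw [hself]; exact ha
    exact (Subgroup.mem_centralizer_iff.mp this b hb).symm
  letI : CommGroup V := { (inferInstance : Group V) with
    mul_comm := fun a b => Subtype.ext (habV a a.2 b b.2) }
  have hVp : IsPGroup p V := fun a => ⟨1, by
    apply Subtype.ext
    rw [pow_one]
    exact hexp a a.2⟩
  have hGcard : Nat.card G = V.index := hGV.symm.index_eq_card.symm
  have hcopG : (Nat.card G).Coprime p :=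
    (hp.out.coprime_iff_not_dvd.mpr (hGcard ▸ hidx)).symm
  have hHG : Nat.card H ∣ Nat.card G := Subgroup.card_dvd_of_le inf_le_left
  have hcopH : (Nat.card H).Coprime p := hcopG.coprime_dvd_left hHG
  obtain ⟨k, hk⟩ := IsPGroup.iff_card.mp hVp
  let φ : H →* MulAut V := (MulAut.conjNormal : X →* MulAut V).comp H.subtype
  obtain ⟨r, K, hKf, hKw⟩ := exists_series (Nat.card V) V φ le_rfl
    (by rw [hk]; exact hcopH.symm.pow_left k)
  choose c hcchar hcmul hcsum using fun i => exists_quot_chars (K i)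
  set n : Fin r → ℕ := fun i => (K i).index with hn
  have hsep : ∀ h : H, (∀ i, h ∈ K i) → h = 1 := by
    intro h hh
    have h1 := hKf h hh
    have hmem : (h : X) ∈ V := by
      rw [← hself, Subgroup.mem_centralizer_iff]
      intro w hw
      have := congrArg Subtype.val (h1 ⟨w, hw⟩)
      simp only [φ, MonoidHom.comp_apply, Subgroup.coe_subtype, MulAut.conjNormal_apply] at this
      exact ((mul_inv_eq_iff_eq_mul.mp this)).symm
    have : (h : X) ∈ V ⊓ G := ⟨hmem, h.2.1⟩
    rw [hGV.disjoint.eq_bot, Subgroup.mem_bot] at this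
    exact Subtype.ext this
  have hp0 : 0 < p := hp.out.pos
  obtain ⟨ζ, hζ⟩ := exists_root p hp0.ne'
  set Z : Subgroup X := Subgroup.zpowers v with hZ
  haveI := Fintype.ofFinite Z
  have hZab : ∀ a b : Z, a * b = b * a := fun a b => mul_comm' a b
  let mulHom : Z × H →* X := MonoidHom.mk' (fun q => (q.1 : X) * q.2) fun a b => by
    obtain ⟨i, hi⟩ := Subgroup.mem_zpowers_iff.mp b.1.2
    have hcm : Commute (a.2 : X) v := Subgroup.mem_centralizer_singleton_iff.mp a.2.2.2
    have : Commute (a.2 : X) (b.1 : X) := hi ▸ hcm.zpow_right i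
    calc ((a * b).1 : X) * ((a * b).2 : X) = (a.1 : X) * ((b.1 : X) * a.2) * b.2 := by
          simp [mul_assoc]
      _ = (a.1 : X) * ((a.2 : X) * b.1) * b.2 := by rw [this.eq]
      _ = _ := by simp [mul_assoc]
  -- Fourier coefficients as polynomials
  have hD : ∀ (χ : IrrCharacter X) (a : ∀ i, Fin (n i)), ∃ P : Polynomial ℤ, ∀ j : ℕ,
      Polynomial.aeval (ζ ^ j) P =
        (Nat.card H : ℂ)⁻¹ * ∑ h : H, (χ : X → ℂ) (v ^ j * h) * conj (∏ i, c i (a i) h) := by
    intro χ a
    obtain ⟨P, hP⟩ := exists_poly (twistAvg_isCharacter hZab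
      (H12.IsCharacter.comp (H12.isCharacter_irr χ) mulHom)
      (isCharacter_prod (fun i => c i (a i)) (fun i => hcchar i (a i)))) hp0.ne' hζ
      (⟨v, Subgroup.mem_zpowers v⟩ : Z) (Subtype.ext (by simpa using hexp v hv))
    refine ⟨P, fun j => ?_⟩
    rw [← hP j]
    rfl
  choose D hD using hD
  have hHne : (Nat.card H : ℂ) ≠ 0 := H12.card_ne_zero'
  have hform : ∀ (χ : IrrCharacter X) (j : ℕ), (wForm n (wEval (D χ) (ζ ^ j)) (wEval (D χ) (ζ ^ j))).re =
      (∏ i, (n i : ℝ)) / (Nat.card H : ℝ) ^ 2 *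
        ∑ h : H, (∏ i, if h ∈ K i then (1 : ℝ) else (n i : ℝ) + 1) * ‖(χ : X → ℂ) (v ^ j * h)‖ ^ 2 := by
    intro χ j
    have h1 : wEval (D χ) (ζ ^ j) = fun a => ∑ h : H,
        ((Nat.card H : ℂ)⁻¹ * (χ : X → ℂ) (v ^ j * h)) * conj (∏ i, c i (a i) h) := by
      funext a
      rw [wEval, hD, Finset.mul_sum]
      exact Finset.sum_congr rfl fun h _ => by ring
    rw [h1, wForm_fourier n K c hcmul hcsum hsep]
    have h2 : (∏ i, (n i : ℂ)) * ∑ x : H, (∏ i, if x ∈ K i then (1 : ℂ) else (n i : ℂ) + 1) *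
        ((Nat.card H : ℂ)⁻¹ * (χ : X → ℂ) (v ^ j * x) * conj ((Nat.card H : ℂ)⁻¹ * (χ : X → ℂ) (v ^ j * x))) =
        (((∏ i, (n i : ℝ)) / (Nat.card H : ℝ) ^ 2 *
          ∑ h : H, (∏ i, if h ∈ K i then (1 : ℝ) else (n i : ℝ) + 1) * ‖(χ : X → ℂ) (v ^ j * h)‖ ^ 2 : ℝ) : ℂ) := by
      push_cast
      rw [Finset.mul_sum, Finset.mul_sum]
      refine Finset.sum_congr rfl fun h _ => ?_
      have hite : ∀ i, (((if h ∈ K i then (1 : ℝ) else (n i : ℝ) + 1) : ℝ) : ℂ) =
          if h ∈ K i then (1 : ℂ) else (n i : ℂ) + 1 := fun i => by split_ifs <;> simp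
      simp only [hite, map_mul, map_inv₀, map_natCast]
      rw [← Complex.mul_conj']
      field_simp
    rw [h2, Complex.ofReal_re]
  have hne : ∀ χ : IrrCharacter X, ∃ a, Polynomial.aeval ζ (D χ a) ≠ 0 := by
    intro χ
    by_contra hcon
    push Not at hcon
    have hz : wEval (D χ) (ζ ^ 1) = fun _ => 0 := funext fun a => by simpa [wEval] using hcon a
    have h0 := hform χ 1
    rw [hz] at h0
    simp only [wForm, zero_mul, mul_zero, Finset.sum_const_zero, Complex.zero_re, pow_one] at h0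
    have hnpos : ∀ i, (0 : ℝ) < n i := fun i => by
      exact_mod_cast Nat.pos_of_ne_zero (K i).index_ne_zero_of_finite
    have hsum0 : ∑ h : H, (∏ i, if h ∈ K i then (1 : ℝ) else (n i : ℝ) + 1) * ‖(χ : X → ℂ) (v * h)‖ ^ 2 = 0 := by
      rcases mul_eq_zero.mp h0.symm with h | h
      · exact absurd h (ne_of_gt (div_pos (Finset.prod_pos fun i _ => hnpos i)
          (pow_pos (Nat.cast_pos.mpr Nat.card_pos) 2)))
      · exact h
    have h1 := (Finset.sum_eq_zero_iff_of_nonneg (fun h _ => mul_nonneg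
      (Finset.prod_nonneg fun i _ => by split_ifs <;> positivity) (by positivity))).mp hsum0 1 (Finset.mem_univ _)
    simp only [OneMemClass.one_mem, if_true, Finset.prod_const_one, one_mul, OneMemClass.coe_one, mul_one,
      ne_eq, OfNat.ofNat_ne_zero, not_false_eq_true, pow_eq_zero_iff, norm_eq_zero] at h1
    exact char_apply_ne_zero V hVp hidx (fun a b => Subtype.ext (habV a a.2 b b.2)) χ ⟨v, hv⟩ h1
  -- the centralisers
  have hcent : ∀ (j : ℕ) (_ : p.Coprime j) (h : H),
      Nat.card ↥(Subgroup.centralizer ({v ^ j * (h : X)} : Set X)) = Nat.card (fixOne φ h) * Nat.card H := by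
    intro j hj h
    have hvh : Commute v (h : X) := (Subgroup.mem_centralizer_singleton_iff.mp h.2.2).symm
    have hfix : ∀ a : V, a ∈ fixOne φ h ↔ Commute (h : X) (a : X) := fun a => by
      rw [mem_fixOne, Subtype.ext_iff]
      simp only [φ, MonoidHom.comp_apply, Subgroup.coe_subtype, MulAut.conjNormal_apply]
      rw [mul_inv_eq_iff_eq_mul]
      rfl
    obtain ⟨m, hm⟩ := exists_pow_eq_self_of_coprime (x := v) (n := j)
      (hj.symm.coprime_dvd_right (orderOf_dvd_of_pow_eq_one (hexp v hv)))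
    have hmem : ∀ x, x ∈ Subgroup.centralizer ({v ^ j * (h : X)} : Set X) ↔
        Commute x v ∧ Commute x (h : X) := by
      intro x
      rw [Subgroup.mem_centralizer_singleton_iff]
      constructor
      · intro hx
        have hx1 : Commute x ((v ^ j * (h : X)) ^ Nat.card H) := (show Commute x _ from hx).pow_right _
        have hhN : (h : X) ^ Nat.card H = 1 := by
          have : h ^ Nat.card H = 1 := pow_card_eq_one'
          exact congrArg Subtype.val this
        rw [(hvh.pow_left j).mul_pow, hhN, mul_one, ← pow_mul] at hx1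
        obtain ⟨m', hm'⟩ := exists_pow_eq_self_of_coprime (x := v) (n := j * Nat.card H)
          ((Nat.Coprime.mul_left hj.symm hcopH).coprime_dvd_right
            (orderOf_dvd_of_pow_eq_one (hexp v hv)))
        have hxv : Commute x v := hm' ▸ hx1.pow_right m'
        refine ⟨hxv, ?_⟩
        have := (hxv.pow_right j).inv_right.mul_right (show Commute x (v ^ j * (h : X)) from hx)
        rwa [inv_mul_cancel_left] at this
      · rintro ⟨h1, h2⟩
        exact (h1.pow_right j).mul_right h2
    rw [← Nat.card_prod]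
    symm
    refine Nat.card_eq_of_bijective (fun q => ⟨((q.1 : V) : X) * (q.2 : X), ?_⟩) ⟨?_, ?_⟩
    · have hq : Commute ((q.2 : H) : X) v := Subgroup.mem_centralizer_singleton_iff.mp q.2.2.2
      refine (hmem _).mpr ⟨?_, ?_⟩
      · exact (show Commute ((q.1 : V) : X) v from habV _ (q.1 : V).2 _ hv).mul_left hq
      · exact ((hfix _).mp q.1.2).symm.mul_left (hH _ q.2.2 _ h.2)
    · rintro ⟨a, g⟩ ⟨b, g'⟩ he
      have := hGV.1 (a₁ := ((a : V), (⟨g, g.2.1⟩ : G))) (a₂ := ((b : V), (⟨g', g'.2.1⟩ : G)))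
        (congrArg Subtype.val he)
      simp only [Prod.mk.injEq, Subtype.mk.injEq] at this
      exact Prod.ext (Subtype.ext this.1) (Subtype.ext this.2)
    · rintro ⟨x, hx⟩
      obtain ⟨⟨a, g⟩, rfl⟩ := (splitEquiv V G hGV).surjective x
      obtain ⟨h1, h2⟩ := (hmem _).mp hx
      rw [splitEquiv_apply] at h1 h2
      have hgv : Commute (g : X) v := by
        have := (show Commute (a : X) v from habV _ a.2 _ hv).inv_left.mul_left h1
        rwa [inv_mul_cancel_left] at this
      have hgH : (g : X) ∈ H := ⟨g.2, Subgroup.mem_centralizer_singleton_iff.mpr hgv⟩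
      have hgh : Commute (g : X) (h : X) := hH _ hgH _ h.2
      have hah : Commute (a : X) (h : X) := by
        have := h2.mul_left hgh.inv_left
        rwa [mul_inv_cancel_right] at this
      exact ⟨(⟨a, (hfix a).mpr hah.symm⟩, ⟨g, hgH⟩), rfl⟩
  -- assemble
  set W : H → ℝ := fun h => ∏ i, if h ∈ K i then (1 : ℝ) else (n i : ℝ) + 1 with hW
  have hW0 : ∀ h, 0 ≤ W h := fun h => Finset.prod_nonneg fun i _ => by split_ifs <;> positivity
  have htot : ∀ j ∈ units' p, ∑ χ : IrrCharacter X, ∑ h : H, W h * ‖(χ : X → ℂ) (v ^ j * h)‖ ^ 2 ≤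
      (Nat.card H : ℝ) ^ 2 * Nat.card V := by
    intro j hj
    rw [Finset.sum_comm]
    have hone : ∀ h : H, ∑ χ : IrrCharacter X, W h * ‖(χ : X → ℂ) (v ^ j * h)‖ ^ 2 ≤
        (Nat.card H : ℝ) * Nat.card V := by
      intro h
      rw [← Finset.mul_sum]
      have hcol := H12.column_orthogonality (v ^ j * (h : X)) (v ^ j * (h : X))
      rw [if_pos (IsConj.refl _), hcent j (mem_units'.mp hj).2 h] at hcol
      have hsq : ∑ χ : IrrCharacter X, ‖(χ : X → ℂ) (v ^ j * h)‖ ^ 2 =
          (Nat.card (fixOne φ h) : ℝ) * Nat.card H := by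
        have := congrArg Complex.re hcol
        simp only [Complex.re_sum, Complex.mul_conj, Complex.ofReal_re, Complex.natCast_re,
          Nat.cast_mul] at this
        simpa [Complex.sq_norm] using this
      rw [hsq]
      have hw : ((∏ i, if h ∈ K i then 1 else (K i).index + 1 : ℕ) : ℝ) = W h := by
        rw [hW, Nat.cast_prod]
        exact Finset.prod_congr rfl fun i _ => by split_ifs <;> simp [hn]
      have h3 : (((∏ i, if h ∈ K i then 1 else (K i).index + 1) * Nat.card (fixOne φ h) : ℕ) : ℝ) ≤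
          ((Nat.card V : ℕ) : ℝ) := Nat.cast_le.mpr (hKw h)
      rw [Nat.cast_mul, hw] at h3
      have hH0 : (0 : ℝ) ≤ Nat.card H := Nat.cast_nonneg _
      nlinarith
    refine (Finset.sum_le_sum fun h _ => hone h).trans (le_of_eq ?_)
    rw [Finset.sum_const, Finset.card_univ, nsmul_eq_mul, ← Nat.card_eq_fintype_card]
    ring
  have hlow : ∀ χ : IrrCharacter X, (p.totient : ℝ) * (Nat.card H : ℝ) ^ 2 ≤
      ∑ j ∈ units' p, ∑ h : H, W h * ‖(χ : X → ℂ) (v ^ j * h)‖ ^ 2 := by
    intro χ
    have h := wForm_lower hp0 hζ n (D χ) (hne χ)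
    simp only [hform, ← Finset.mul_sum] at h
    push_cast at h
    have hnpos : (0 : ℝ) < ∏ i, (n i : ℝ) := Finset.prod_pos fun i _ => by
      exact_mod_cast Nat.pos_of_ne_zero (K i).index_ne_zero_of_finite
    have hH2 : (0 : ℝ) < (Nat.card H : ℝ) ^ 2 := pow_pos (Nat.cast_pos.mpr Nat.card_pos) 2
    rw [div_mul_eq_mul_div, le_div_iff₀ hH2] at h
    refine le_of_mul_le_mul_left ?_ hnpos
    nlinarith [h]
  have hsum := Finset.sum_le_sum (s := (Finset.univ : Finset (IrrCharacter X))) fun χ _ => hlow χ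
  rw [Finset.sum_comm, Finset.sum_const, Finset.card_univ, nsmul_eq_mul, ← Nat.card_eq_fintype_card,
    H12.card_irrCharacter] at hsum
  have hup := Finset.sum_le_sum htot
  rw [Finset.sum_const, card_units', nsmul_eq_mul] at hup
  have hfin := hsum.trans hup
  have hpos : (0 : ℝ) < (p.totient : ℝ) * (Nat.card H : ℝ) ^ 2 :=
    mul_pos (Nat.cast_pos.mpr (Nat.totient_pos.mpr hp0)) (pow_pos (Nat.cast_pos.mpr Nat.card_pos) 2)
  have : (Nat.card (ConjClasses X) : ℝ) ≤ Nat.card V := by
    refine le_of_mul_le_mul_left ?_ hpos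
    linarith
  exact_mod_cast this

end H19
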