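import Cfsg.Agent.H19.StarSums
import Cfsg.Agent.H19.LocalRank

/-!
Blocks with an abelian defect group: `|T| k(B) = ∑_{u ∈ P} |T ∩ C(u)| l(b_u)`, and the same sum
weighted with a non-trivial `T`-stable linear character of `P` vanishes.
-/

set_option autoImplicit false
set_option linter.unusedSectionVars false
set_option linter.style.haveILetI false

open Cfsg Finset
open scoped MonoidAlgebra ComplexConjugate

namespace H19.AbelianSum

universe u

variable {G : Type u} [Group G] [Fintype G] {p : ℕ} [hp : Fact p.Prime] {M : Ideal AlgInt}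
  [hMp : M.IsPrime] [CharP (H20.k M) p] [IsAlgClosed (H20.k M)]

local notation "C[" x "]" => (Subgroup.centralizer ({x} : Set _))

variable [∀ x : G, Fintype C[x]]
  [∀ x : G, Fintype {e : Set (IrrCharacter C[x]) // IsPBlock M e}]
  {B : Set (IrrCharacter G)} {P : Subgroup G}
  {c : Set (IrrCharacter (Subgroup.centralizer (P : Set G)))}

local notation "f₀" => H23.eG M (Subgroup.centralizer (P : Set G)) c
local notation "T₀" => H23.stab P (H23.eG M (Subgroup.centralizer (P : Set G)) c)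

theorem exists_order_of_mem
    (hmax : H23.IsMax p (H23.eB M B) P f₀) {x : G} (hx : x ∈ P) : ∃ k : ℕ, orderOf x = p ^ k := by
  obtain ⟨k, hk⟩ := IsPGroup.iff_orderOf.1 hmax.1.1 ⟨x, hx⟩
  exact ⟨k, by rwa [Subgroup.orderOf_mk] at hk⟩

/-- Every subsection lies below a conjugate of the maximal pair. -/
theorem exists_conj_below (hM : IsPModular p M) (hB : IsPBlock M B)
    (hmax : H23.IsMax p (H23.eB M B) P f₀) {x : G} (hx : ∃ k : ℕ, orderOf x = p ^ k)
    {e : Set (IrrCharacter C[x])} (he : IsInducedBlock M C[x] e B) :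
    ∃ g : G, H23.Le p (H23.cjS g (Subgroup.zpowers x), H23.cj g (H23.eG M C[x] e)) (P, f₀) := by
  obtain ⟨k, hk⟩ := hx
  have hQp : IsPGroup p (Subgroup.zpowers x) := IsPGroup.of_card (n := k) (by rw [Nat.card_zpowers, hk])
  have hCz := H17.Major.centralizer_zpowers_eq x
  have hin : H23.InBlk (H23.eB M B) (Subgroup.zpowers x) (H23.eG M C[x] e) :=
    AbelianNilpotent.inBlk_of_induced hM hQp
      (Subgroup.zpowers_le.2 (Subgroup.mem_centralizer_singleton_iff.2 rfl)) hCz.le
      (hCz ▸ Subgroup.centralizer_le_normalizer _) he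
  have hpair : H23.IsPair p (Subgroup.zpowers x) (H23.eG M C[x] e) :=
    ⟨hQp, by rw [hCz]; exact H23.isBlk_eG he.1⟩
  exact H23.exists_conj_le p (H23.isBlk_eB hB) hmax hpair hin

/-- Conjugate subsections under `(P, c)` are conjugate in the stabiliser. -/
theorem exists_stab (hB : IsPBlock M B) (hab : ∀ a ∈ P, ∀ b ∈ P, a * b = b * a)
    (hmax : H23.IsMax p (H23.eB M B) P f₀) {x y g : G} {f f' : (H20.k M)[G]}
    (hf : H23.Le p (Subgroup.zpowers x, f) (P, f₀))
    (hf' : H23.Le p (Subgroup.zpowers y, f') (P, f₀))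
    (hg : g * x * g⁻¹ = y) (hgf : H23.cj g f = f') : ∃ t ∈ T₀, t * x * t⁻¹ = y := by
  have hDC : ∀ {z : G}, z ∈ P →
      P ≤ Subgroup.centralizer ((Subgroup.zpowers z : Subgroup G) : Set G) := fun hz =>
    (AbelianLocal.le_centralizer hab).trans (H23.centralizer_anti (Subgroup.zpowers_le.2 hz))
  obtain ⟨t, ht, htz⟩ := H17.Major.exists_stab_conj hB hmax hf hf'
    (hDC ((hf.le p) (Subgroup.mem_zpowers x))) (hDC ((hf'.le p) (Subgroup.mem_zpowers y))) (x := g)
    (by rw [H11.Star.cjS_zpowers, hg]) hgf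
  exact ⟨t, ht, (htz x (Subgroup.mem_zpowers x)).trans hg⟩

/-- Counting subsections through the elements of `P`. -/
theorem weighted_sum (hM : IsPModular p M) (hB : IsPBlock M B)
    (hab : ∀ a ∈ P, ∀ b ∈ P, a * b = b * a) (hc : IsPBlock M c)
    (hmax : H23.IsMax p (H23.eB M B) P f₀) [DecidablePred fun g : G => g ∈ P]
    [∀ x : G, DecidablePred fun e : StarSums.Blk M x => IsInducedBlock M C[x] e.1 B]
    (F : ∀ x : G, StarSums.Blk M x → ℂ) (φ : P → ℂ)
    (hF : ∀ (u : P) (g x : G) (e : StarSums.Blk M x) (b : Set (IrrCharacter C[(u : G)])),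
      g * (u : G) * g⁻¹ = x → IsInducedBlockIn M C[(u : G)] (Subgroup.centralizer (P : Set G)) c b →
      H23.Le p (Subgroup.zpowers (u : G), H23.eG M C[(u : G)] b) (P, f₀) →
      H23.eG M C[x] e.1 = H23.cj g (H23.eG M C[(u : G)] b) → F x e = φ u) :
    (Nat.card G : ℂ) * ∑ u : P, ((Nat.card (T₀ ⊓ C[(u : G)] : Subgroup G) : ℂ) *
        (LocalRank.rk p M c C[(u : G)] : ℂ)) * φ u =
      (Nat.card T₀ : ℂ) * ∑ x ∈ StarSums.pEls G p, (Nat.card C[x] : ℂ) *
        ∑ e ∈ univ.filter (fun e : StarSums.Blk M x => IsInducedBlock M C[x] e.1 B),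
          F x e * (blockRank p e.1 : ℂ) := by
  classical
  set T : Subgroup G := T₀ with hT
  choose bl hind hin hq hdef hle using fun u : P => LocalRank.exists_local hM hB hab hc hmax u.2
  have hCP : ∀ u : P, Subgroup.centralizer (P : Set G) ≤ C[(u : G)] := fun u a ha =>
    Subgroup.mem_centralizer_singleton_iff.2 (Subgroup.mem_centralizer_iff.1 ha u u.2).symm
  let J := Σ x : G, StarSums.Blk M x
  let JS : Finset J := (StarSums.pEls G p).sigma fun x =>
    univ.filter fun e : StarSums.Blk M x => IsInducedBlock M C[x] e.1 B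
  have hex : ∀ q : G × P, ∃ j : J, j ∈ JS ∧ j.1 = q.1 * (q.2 : G) * q.1⁻¹ ∧
      H23.eG M C[j.1] j.2.1 = H23.cj q.1 (H23.eG M C[(q.2 : G)] (bl q.2)) := by
    rintro ⟨g, u⟩
    have hu := exists_order_of_mem hmax u.2
    have hxo : ∃ k : ℕ, orderOf (g * (u : G) * g⁻¹) = p ^ k := by
      obtain ⟨k, hk⟩ := hu
      exact ⟨k, by rw [← hk]; exact (MulAut.conj g).orderOf_eq _⟩
    have hfp := H23.pair_cj p ((hle u).pair_left p hmax.1) g
    have hfin := H23.inBlk_cj (H23.cidem_eB (M := M) hB).fix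
      (((hle u).inBlk_iff p (H23.cidem_eB hB)).1 hmax.2.1) g
    rw [H11.Star.cjS_zpowers] at hfp hfin
    obtain ⟨b, hb, hbf⟩ := CyclicBlock.exists_subsection hM hB hxo hfp hfin
    exact ⟨⟨_, b, hb.1⟩,
      mem_sigma.2 ⟨StarSums.mem_pEls.2 hxo, mem_filter.2 ⟨mem_univ _, hb⟩⟩, rfl, hbf⟩
  choose Φ hΦS hΦ1 hΦ2 using hex
  -- the rank along a fibre
  have hval : ∀ q : G × P, (LocalRank.rk p M c C[(q.2 : G)] : ℂ) * φ q.2 =
      F (Φ q).1 (Φ q).2 * (blockRank p (Φ q).2.1 : ℂ) := by
    intro q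
    rw [hF q.2 q.1 _ (Φ q).2 (bl q.2) (hΦ1 q).symm (hin q.2) (hle q.2) (hΦ2 q),
      LocalRank.rk_eq (hCP q.2) (hin q.2),
      LocalRank.blockRank_cj (g := q.1) (H := C[(q.2 : G)]) (H' := C[(Φ q).1]) ?_ (hin q.2).2.1
        (Φ q).2.2 (hΦ2 q), mul_comm]
    rw [← H17.Major.centralizer_zpowers_eq, H23.cjS_centralizer, H11.Star.cjS_zpowers, ← hΦ1,
      H17.Major.centralizer_zpowers_eq]
  -- the weight of a fibre
  have hfib : ∀ j ∈ JS, ∑ q ∈ univ.filter (fun q : G × P => Φ q = j),
      Nat.card (T ⊓ C[(q.2 : G)] : Subgroup G) = Nat.card C[j.1] * Nat.card T := by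
    rintro ⟨x, e⟩ hj
    obtain ⟨hx, he⟩ := mem_sigma.1 hj
    have hind' : IsInducedBlock M C[x] e.1 B := (mem_filter.1 he).2
    obtain ⟨h, hh⟩ := exists_conj_below hM hB hmax (StarSums.mem_pEls.1 hx) hind'
    rw [H11.Star.cjS_zpowers] at hh
    have hu0 : h * x * h⁻¹ ∈ P := (hh.le p) (Subgroup.mem_zpowers _)
    set u0 : P := ⟨h * x * h⁻¹, hu0⟩ with hu0def
    have hb0 : H23.eG M C[(u0 : G)] (bl u0) = H23.cj h (H23.eG M C[x] e.1) :=
      H23.le_unique p hmax.1 (hle u0) hh
    set g0 := h⁻¹ with hg0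
    have hg0x : g0 * (u0 : G) * g0⁻¹ = x := by rw [hg0, hu0def]; group
    have hg0e : H23.cj g0 (H23.eG M C[(u0 : G)] (bl u0)) = H23.eG M C[x] e.1 := by
      rw [hb0, hg0, H23.cj_inv_cancel]
    have hchar : ∀ q : G × P, Φ q = ⟨x, e⟩ ↔ q.1 * (q.2 : G) * q.1⁻¹ = x ∧
        H23.cj q.1 (H23.eG M C[(q.2 : G)] (bl q.2)) = H23.eG M C[x] e.1 := by
      intro q
      constructor
      · intro hq
        have h1 := hΦ1 q
        have h2 := hΦ2 q
        rw [hq] at h1 h2
        exact ⟨h1.symm, h2.symm⟩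
      · rintro ⟨h1, h2⟩
        have key : ∀ j' : J, j'.1 = x → H23.eG M C[j'.1] j'.2.1 = H23.eG M C[x] e.1 →
            j' = ⟨x, e⟩ := by
          rintro ⟨x', e'⟩ e1 e2
          obtain rfl : x' = x := e1
          exact congrArg _ (Subtype.ext (H23.eG_injective e'.2 e.2 e2))
        exact key _ ((hΦ1 q).trans h1) ((hΦ2 q).trans h2)
    have hTP : ∀ t : T, ∀ v ∈ P, (t : G)⁻¹ * v * (t : G) ∈ P := fun t v hv =>
      (Subgroup.mem_normalizer_iff''.1 t.2.1 v).1 hv
    let ψ : C[(u0 : G)] × T → G × P := fun a =>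
      (g0 * (a.1 : G) * (a.2 : G), ⟨(a.2 : G)⁻¹ * (u0 : G) * (a.2 : G), hTP a.2 _ u0.2⟩)
    have hψmem : ∀ a, ψ a ∈ univ.filter (fun q : G × P => Φ q = ⟨x, e⟩) := by
      rintro ⟨a, t⟩
      refine mem_filter.2 ⟨mem_univ _, (hchar _).2 ⟨?_, ?_⟩⟩
      · have ha := Subgroup.mem_centralizer_singleton_iff.1 a.2
        calc g0 * (a : G) * (t : G) * ((t : G)⁻¹ * (u0 : G) * (t : G)) * (g0 * (a : G) * (t : G))⁻¹
            = g0 * ((a : G) * (u0 : G) * (a : G)⁻¹) * g0⁻¹ := by group
          _ = x := by rw [ha, mul_inv_cancel_right, hg0x]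
      · show H23.cj (g0 * (a : G) * (t : G)) _ = _
        rw [← H23.cj_cj, ← H23.cj_cj]
        have h1 := (hle (ψ (a, t)).2).cj p (t : G)
        rw [H23.cjS_eq_self t.2.1, t.2.2, H11.Star.cjS_zpowers,
          show (t : G) * ((t : G)⁻¹ * (u0 : G) * (t : G)) * (t : G)⁻¹ = (u0 : G) by group] at h1
        rw [← H23.le_unique p hmax.1 (hle u0) h1,
          H23.isFix_iff_cj.1 (H23.cidem_eG (M := M) (hin u0).2.1).fix _ a.2, hg0e]
    have hsize : ∀ q ∈ univ.filter (fun q : G × P => Φ q = ⟨x, e⟩),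
        (univ.filter fun a => ψ a = q).card = Nat.card (T ⊓ C[(q.2 : G)] : Subgroup G) := by
      rintro ⟨g, u⟩ hq
      obtain ⟨hgu, hge⟩ := (hchar _).1 (mem_filter.1 hq).2
      obtain ⟨t, ht, htu⟩ := exists_stab hB hab hmax (hle u) (hle u0) (g := g0⁻¹ * g)
        (by
          calc g0⁻¹ * g * (u : G) * (g0⁻¹ * g)⁻¹ = g0⁻¹ * (g * (u : G) * g⁻¹) * g0 := by group
            _ = g0⁻¹ * (g0 * (u0 : G) * g0⁻¹) * g0 := by rw [hgu, hg0x]
            _ = _ := by group)
        (by rw [← H23.cj_cj, hge, ← hg0e, H23.cj_inv_cancel])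
      have hgt : ∀ r ∈ T ⊓ C[(u : G)], g0⁻¹ * g * r⁻¹ * t⁻¹ ∈ C[(u0 : G)] := by
        intro r hr
        have hru := Subgroup.mem_centralizer_singleton_iff.1 hr.2
        rw [Subgroup.mem_centralizer_singleton_iff]
        calc g0⁻¹ * g * r⁻¹ * t⁻¹ * (u0 : G)
            = g0⁻¹ * g * r⁻¹ * t⁻¹ * (t * (u : G) * t⁻¹) := by rw [htu]
          _ = g0⁻¹ * g * (r⁻¹ * ((u : G) * r) * r⁻¹) * t⁻¹ := by group
          _ = g0⁻¹ * g * (r⁻¹ * (r * (u : G)) * r⁻¹) * t⁻¹ := by rw [hru]
          _ = g0⁻¹ * (g * (u : G) * g⁻¹) * g0 * (g0⁻¹ * g * r⁻¹ * t⁻¹) := by group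
          _ = g0⁻¹ * (g0 * (u0 : G) * g0⁻¹) * g0 * (g0⁻¹ * g * r⁻¹ * t⁻¹) := by rw [hgu, hg0x]
          _ = (u0 : G) * (g0⁻¹ * g * r⁻¹ * t⁻¹) := by group
      have key : ∀ a : C[(u0 : G)] × T, ψ a = (g, u) →
          t⁻¹ * (a.2 : G) ∈ T ⊓ C[(u : G)] := by
        rintro ⟨a, s⟩ has
        refine Subgroup.mem_inf.2 ⟨T.mul_mem (T.inv_mem ht) s.2, ?_⟩
        have hs : (s : G)⁻¹ * (u0 : G) * (s : G) = u :=
          congrArg (fun q : G × P => (q.2 : G)) has
        show t⁻¹ * (s : G) ∈ C[(u : G)]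
        rw [Subgroup.mem_centralizer_singleton_iff]
        calc t⁻¹ * (s : G) * (u : G) = t⁻¹ * (u0 : G) * (s : G) := by rw [← hs]; group
          _ = (u : G) * (t⁻¹ * (s : G)) := by rw [← htu]; group
      rw [← Fintype.card_subtype, ← Nat.card_eq_fintype_card]
      refine Nat.card_congr
        { toFun := fun a => ⟨t⁻¹ * (a.1.2 : G), key a.1 a.2⟩
          invFun := fun r => ⟨(⟨g0⁻¹ * g * (r : G)⁻¹ * t⁻¹, hgt r r.2⟩,
            ⟨t * (r : G), mul_mem ht r.2.1⟩), ?_⟩
          left_inv := ?_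
          right_inv := ?_ }
      · refine Prod.ext ?_ (Subtype.ext ?_)
        · show g0 * (g0⁻¹ * g * (r : G)⁻¹ * t⁻¹) * (t * (r : G)) = g
          group
        · show (t * (r : G))⁻¹ * (u0 : G) * (t * (r : G)) = u
          have hru := Subgroup.mem_centralizer_singleton_iff.1 r.2.2
          calc (t * (r : G))⁻¹ * (u0 : G) * (t * (r : G))
              = (r : G)⁻¹ * (t⁻¹ * (u0 : G) * t) * (r : G) := by group
            _ = (r : G)⁻¹ * ((u : G) * (r : G)) := by rw [← htu]; group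
            _ = u := by rw [← hru]; group
      · rintro ⟨⟨a, s⟩, has⟩
        have hg' : g0 * (a : G) * (s : G) = g := congrArg Prod.fst has
        refine Subtype.ext (Prod.ext (Subtype.ext ?_) (Subtype.ext ?_))
        · show g0⁻¹ * g * (t⁻¹ * (s : G))⁻¹ * t⁻¹ = a
          rw [← hg']; group
        · show t * (t⁻¹ * (s : G)) = s
          group
      · intro r
        exact Subtype.ext (show t⁻¹ * (t * (r : G)) = r by group)
    have hcardC : Nat.card C[(u0 : G)] = Nat.card C[x] := by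
      rw [show C[(u0 : G)] = H23.cjS h C[x] by
        rw [← H17.Major.centralizer_zpowers_eq, ← H17.Major.centralizer_zpowers_eq x,
          H23.cjS_centralizer, H11.Star.cjS_zpowers]]
      exact Subgroup.card_map_of_injective (MulAut.conj h).injective
    rw [← sum_congr rfl hsize, ← card_eq_sum_card_fiberwise (fun a _ => hψmem a), card_univ,
      ← Nat.card_eq_fintype_card, Nat.card_prod, hcardC]
  calc (Nat.card G : ℂ) * ∑ u : P, ((Nat.card (T ⊓ C[(u : G)] : Subgroup G) : ℂ) *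
        (LocalRank.rk p M c C[(u : G)] : ℂ)) * φ u
      = ∑ q : G × P, (Nat.card (T ⊓ C[(q.2 : G)] : Subgroup G) : ℂ) *
          (F (Φ q).1 (Φ q).2 * (blockRank p (Φ q).2.1 : ℂ)) := by
        simp only [← hval]
        rw [Fintype.sum_prod_type]
        simp only [sum_const, card_univ, nsmul_eq_mul, ← Nat.card_eq_fintype_card, mul_assoc]
    _ = ∑ j ∈ JS, ∑ q ∈ univ.filter (fun q : G × P => Φ q = j),
          (Nat.card (T ⊓ C[(q.2 : G)] : Subgroup G) : ℂ) *
            (F (Φ q).1 (Φ q).2 * (blockRank p (Φ q).2.1 : ℂ)) :=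
        (sum_fiberwise_of_maps_to (fun q _ => hΦS q) _).symm
    _ = ∑ j ∈ JS, (Nat.card T : ℂ) * ((Nat.card C[j.1] : ℂ) *
          (F j.1 j.2 * (blockRank p j.2.1 : ℂ))) := by
        refine sum_congr rfl fun j hj => ?_
        rw [sum_congr rfl fun q hq => by rw [(mem_filter.1 hq).2], ← sum_mul, ← Nat.cast_sum,
          hfib j hj, Nat.cast_mul]
        ring
    _ = _ := by
        rw [sum_sigma, mul_sum]
        refine sum_congr rfl fun x _ => ?_
        rw [mul_sum, mul_sum]

open Classical in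
/-- The extension by zero of a linear character of `P`. -/
noncomputable def ext0 (l : P →* ℂˣ) (g : G) : ℂ := if h : g ∈ P then (l ⟨g, h⟩ : ℂ) else 0

theorem ext0_of_mem (l : P →* ℂˣ) {g : G} (h : g ∈ P) : ext0 l g = (l ⟨g, h⟩ : ℂ) := dif_pos h

theorem ext0_mul_conj (l : P →* ℂˣ) {g : G} (h : g ∈ P) : ext0 l g * conj (ext0 l g) = 1 := by
  rw [ext0_of_mem l h, Complex.mul_conj]
  have hn : ‖(l ⟨g, h⟩ : ℂ)‖ = 1 := by
    refine Complex.norm_eq_one_of_pow_eq_one (n := orderOf (⟨g, h⟩ : P)) ?_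
      (orderOf_pos _).ne'
    rw [← Units.val_pow_eq_pow_val, ← map_pow, pow_orderOf_eq_one, map_one, Units.val_one]
  rw [Complex.normSq_eq_norm_sq, hn]
  simp

/-- The count of the members of `B`. -/
theorem natCard_eq (hM : IsPModular p M) (hB : IsPBlock M B)
    (hab : ∀ a ∈ P, ∀ b ∈ P, a * b = b * a) (hc : IsPBlock M c)
    (hmax : H23.IsMax p (H23.eB M B) P f₀) [DecidablePred fun g : G => g ∈ P] :
    ∑ u : P, (Nat.card (T₀ ⊓ C[(u : G)] : Subgroup G)) * LocalRank.rk p M c C[(u : G)] =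
      Nat.card T₀ * Nat.card B := by
  classical
  have h := weighted_sum hM hB hab hc hmax (fun _ _ => 1) (fun _ => 1) (fun _ _ _ _ _ _ _ _ _ => rfl)
  have hk : ∑ χ ∈ H22.blockFinset B, (Nat.card G : ℂ) * classInner (χ : G → ℂ) (χ : G → ℂ) =
      ∑ x ∈ StarSums.pEls G p, (Nat.card C[x] : ℂ) *
        ∑ e ∈ univ.filter (fun e : StarSums.Blk M x => IsInducedBlock M C[x] e.1 B),
          (1 : ℂ) * (blockRank p e.1 : ℂ) := by
    rw [sum_congr rfl fun χ _ => StarSums.inner_sectional hM (StarSums.sectional_self (M := M) χ)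
      (StarSums.sectional_self (M := M) χ), sum_comm]
    refine sum_congr rfl fun x hx => ?_
    rw [← mul_sum, sum_comm, sum_filter]
    congr 1
    refine sum_congr rfl fun e _ => ?_
    simp only [map_one, one_mul]
    split_ifs with he
    · rw [← Complex.ofReal_sum, StarSums.sum_nrm hM (StarSums.mem_pEls.1 hx) he]
      simp
    · rw [sum_eq_zero]
      intro χ hχ
      rw [StarSums.nrm_eq_zero hM (StarSums.mem_pEls.1 hx) hB (H22.mem_blockFinset.1 hχ) e.2 he,
        Complex.ofReal_zero]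
  simp only [mul_one] at h
  rw [← hk] at h
  simp only [H12.classInner_irr_self, mul_one, sum_const, nsmul_eq_mul] at h
  rw [← H22.natCard_block] at h
  have h' : (Nat.card G : ℂ) * ((∑ u : P, (Nat.card (T₀ ⊓ C[(u : G)] : Subgroup G)) *
      LocalRank.rk p M c C[(u : G)] : ℕ) : ℂ) = (Nat.card G : ℂ) *
        ((Nat.card T₀ * Nat.card B : ℕ) : ℂ) := by
    push_cast
    rw [h]
    ring
  exact_mod_cast mul_left_cancel₀ (H12.card_ne_zero' (G := G)) h'

/-- A non-trivial stable linear character annihilates the count. -/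
theorem sum_eq_zero_of_linear (hM : IsPModular p M) (hB : IsPBlock M B)
    (hab : ∀ a ∈ P, ∀ b ∈ P, a * b = b * a) (hc : IsPBlock M c)
    (hmax : H23.IsMax p (H23.eB M B) P f₀) [DecidablePred fun g : G => g ∈ P] (l : P →* ℂˣ)
    (hl : ∀ t ∈ T₀, ∀ (u : G) (hu : u ∈ P) (htu : t * u * t⁻¹ ∈ P),
      l ⟨t * u * t⁻¹, htu⟩ = l ⟨u, hu⟩) (hne : ∃ u : P, l u ≠ 1) :
    ∑ u : P, ((Nat.card (T₀ ⊓ C[(u : G)] : Subgroup G) : ℂ) *
      (LocalRank.rk p M c C[(u : G)] : ℂ)) * (l u : ℂ) = 0 := by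
  classical
  set η := ext0 l with hη
  have hst : H11.Star.Stable p P f₀ η := by
    intro x g f hf hgf
    rw [H11.Star.cjS_zpowers] at hgf
    obtain ⟨t, ht, htx⟩ := exists_stab hB hab hmax hf hgf rfl rfl
    have hx : x ∈ P := (hf.le p) (Subgroup.mem_zpowers x)
    have hy : g * x * g⁻¹ ∈ P := (hgf.le p) (Subgroup.mem_zpowers _)
    rw [hη, ext0_of_mem l hy, ext0_of_mem l hx, ← hl t ht x hx (htx ▸ hy)]
    congr 2
    exact Subtype.ext htx.symm
  have hηc : IsCharacter P (fun u : P => η u) := by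
    rw [show (fun u : P => η (u : G)) = fun u : P => (l u : ℂ) from
      funext fun u => ext0_of_mem l u.2]
    exact H12.isCharacter_monoidHom l
  let a : ∀ x : G, StarSums.Blk M x → ℂ := fun x e =>
    H11.Star.etaB p P f₀ η x (H23.eG M C[x] e.1)
  have hunit : ∀ (x : G) (e : StarSums.Blk M x), (∃ k : ℕ, orderOf x = p ^ k) →
      IsInducedBlock M C[x] e.1 B → a x e * conj (a x e) = 1 := by
    intro x e hx he
    obtain ⟨g, hg⟩ := exists_conj_below hM hB hmax hx he
    simp only [a]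
    rw [H11.Star.etaB_eq hst hg]
    exact ext0_mul_conj l ((hg.le p) ⟨x, Subgroup.mem_zpowers x, rfl⟩)
  -- the values below the maximal pair
  have hbelow : ∀ (u : P) (g x : G) (e : StarSums.Blk M x) (b : Set (IrrCharacter C[(u : G)])),
      g * (u : G) * g⁻¹ = x → IsInducedBlockIn M C[(u : G)] (Subgroup.centralizer (P : Set G)) c b →
      H23.Le p (Subgroup.zpowers (u : G), H23.eG M C[(u : G)] b) (P, f₀) →
      H23.eG M C[x] e.1 = H23.cj g (H23.eG M C[(u : G)] b) → a x e = (l u : ℂ) := by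
    intro u g x e b hx _ hle he
    simp only [a]
    have h1 : g⁻¹ * x * g⁻¹⁻¹ = (u : G) := by rw [← hx]; group
    rw [H11.Star.etaB_eq hst (g := g⁻¹) (by
      rw [H11.Star.cjS_zpowers, h1, he, H23.cj_inv_cancel]; exact hle), h1, hη,
      ext0_of_mem l u.2]
  have hstar : ∀ χ ∈ B, classInner (H11.Star.star P f₀ η χ p) (χ : G → ℂ) = 0 := by
    intro χ hχ
    set S := H11.Star.star P f₀ η χ p with hS
    have hSs : StarSums.Sectional p χ a S := StarSums.sectional_star χ
    have hgen : IsGeneralizedCharacter G S :=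
      H11.Star.gen_star hM (H23.isBlk_eB hB) hmax hst hηc
    have hself := StarSums.inner_sectional hM (StarSums.sectional_self (M := M) χ)
      (StarSums.sectional_self (M := M) χ)
    simp only [H12.classInner_irr_self, mul_one, map_one, one_mul] at hself
    have hnorm : classInner S S = 1 := by
      refine mul_left_cancel₀ (H12.card_ne_zero' (G := G)) ?_
      rw [StarSums.inner_sectional hM hSs hSs, mul_one, hself]
      refine sum_congr rfl fun x hx => congrArg _ (sum_congr rfl fun e _ => ?_)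
      by_cases he : IsInducedBlock M C[x] e.1 B
      · rw [hunit x e (StarSums.mem_pEls.1 hx) he, one_mul]
      · rw [StarSums.nrm_eq_zero hM (StarSums.mem_pEls.1 hx) hB hχ e.2 he]; simp
    -- no sign relates the star function to `χ`
    have hsign : ∀ s : ℝ, (s = 1 ∨ s = -1) →
        classInner S (χ : G → ℂ) = (s : ℂ) → ∀ (u : P), (l u : ℂ) = (s : ℂ) := by
      intro s hs hin u
      obtain ⟨b, hind, hinI, hq, -, hle⟩ := LocalRank.exists_local hM hB hab hc hmax u.2
      have hu := exists_order_of_mem hmax u.2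
      have h := StarSums.inner_sectional hM hSs (StarSums.sectional_self (M := M) χ)
      simp only [map_one, mul_one] at h
      rw [hin] at h
      have hre : ∑ x ∈ StarSums.pEls G p, (Nat.card C[x] : ℝ) *
          ∑ e : StarSums.Blk M x, (1 - s * (a x e).re) * StarSums.nrm p x e.1 χ = 0 := by
        have h1 := congrArg Complex.re h
        have h2 := congrArg Complex.re hself
        simp only [Complex.mul_re, Complex.natCast_re, Complex.natCast_im, Complex.ofReal_re,
          Complex.ofReal_im, Complex.re_sum, mul_zero, zero_mul, sub_zero] at h1 h2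
        simp only [sub_mul, one_mul, sum_sub_distrib, mul_sub, mul_assoc, ← mul_sum,
          mul_left_comm _ s]
        rw [← h1, ← h2]
        rcases hs with rfl | rfl <;> ring
      have hterm : ∀ x ∈ StarSums.pEls G p, ∀ e : StarSums.Blk M x,
          0 ≤ (1 - s * (a x e).re) * StarSums.nrm p x e.1 χ := by
        intro x hx e
        by_cases he : IsInducedBlock M C[x] e.1 B
        · refine mul_nonneg ?_ (StarSums.nrm_nonneg _ _ _)
          have h1 := congrArg Complex.re (hunit x e (StarSums.mem_pEls.1 hx) he)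
          simp only [Complex.mul_re, Complex.conj_re, Complex.conj_im, Complex.one_re] at h1
          rcases hs with rfl | rfl <;> nlinarith [mul_self_nonneg (a x e).im]
        · rw [StarSums.nrm_eq_zero hM (StarSums.mem_pEls.1 hx) hB hχ e.2 he, mul_zero]
      have h0 := (sum_eq_zero_iff_of_nonneg fun x hx =>
        mul_nonneg (Nat.cast_nonneg _) (sum_nonneg fun e _ => hterm x hx e)).1 hre u
        (StarSums.mem_pEls.2 hu)
      have hC : (Nat.card C[(u : G)] : ℝ) ≠ 0 := Nat.cast_ne_zero.2 Nat.card_pos.ne'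
      have h3 := (sum_eq_zero_iff_of_nonneg fun e _ =>
        hterm _ (StarSums.mem_pEls.2 hu) e).1 ((mul_eq_zero.1 h0).resolve_left hC)
          ⟨b, hind.1⟩ (mem_univ _)
      have h4 := (mul_eq_zero.1 h3).resolve_right (StarSums.nrm_pos hM hu hind hq hχ).ne'
      rw [hbelow u 1 u ⟨b, hind.1⟩ b (by simp) hinI hle (by simp)] at h4
      have h5 := ext0_mul_conj l u.2
      rw [ext0_of_mem l u.2] at h5
      have h6 := congrArg Complex.re h5
      simp only [Complex.mul_re, Complex.conj_re, Complex.conj_im, Complex.one_re] at h6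
      refine Complex.ext ?_ ?_
      · rw [Complex.ofReal_re]
        rcases hs with rfl | rfl <;> linarith
      · rw [Complex.ofReal_im]
        have : (l u : ℂ).re = 1 ∨ (l u : ℂ).re = -1 := by
          rcases hs with rfl | rfl
          · left; linarith
          · right; linarith
        refine mul_self_eq_zero.1 ?_
        rcases this with h7 | h7 <;> rw [h7] at h6 <;> linarith
    by_contra hne0
    rcases H16.norm_one hgen hnorm with hirr | hirr
    · by_cases heq : S = (χ : G → ℂ)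
      · obtain ⟨u, hu⟩ := hne
        refine hu (Units.ext ?_)
        rw [hsign 1 (Or.inl rfl) (by rw [heq, H12.classInner_irr_self]; simp) u]
        simp
      · exact hne0 (H12.classInner_irr_ne (χ := (⟨S, hirr⟩ : IrrCharacter G)) (ψ := χ)
          fun h => heq (congrArg Subtype.val h))
    · by_cases heq : -S = (χ : G → ℂ)
      · have h1 := hsign (-1) (Or.inr rfl) (by
          rw [show S = (-1 : ℂ) • (χ : G → ℂ) by rw [← heq]; simp, H12.classInner_smul_left,
            H12.classInner_irr_self]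
          simp) 1
        rw [map_one, Units.val_one] at h1
        norm_num at h1
      · refine hne0 ?_
        rw [show S = (-1 : ℂ) • (-S) by simp, H12.classInner_smul_left,
          H12.classInner_irr_ne (χ := (⟨-S, hirr⟩ : IrrCharacter G)) (ψ := χ)
            fun h => heq (congrArg Subtype.val h), mul_zero]
  have h := weighted_sum hM hB hab hc hmax a (fun u => (l u : ℂ)) hbelow
  have hk : ∑ χ ∈ H22.blockFinset B, (Nat.card G : ℂ) *
      classInner (H11.Star.star P f₀ η χ p) (χ : G → ℂ) =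
      ∑ x ∈ StarSums.pEls G p, (Nat.card C[x] : ℂ) *
        ∑ e ∈ univ.filter (fun e : StarSums.Blk M x => IsInducedBlock M C[x] e.1 B),
          a x e * (blockRank p e.1 : ℂ) := by
    rw [sum_congr rfl fun χ _ => StarSums.inner_sectional hM
      (StarSums.sectional_star (M := M) (P := P) (e₀ := f₀) (η := η) χ)
      (StarSums.sectional_self (M := M) χ), sum_comm]
    refine sum_congr rfl fun x hx => ?_
    rw [← mul_sum, sum_comm, sum_filter]
    congr 1
    refine sum_congr rfl fun e _ => ?_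
    simp only [map_one, mul_one]
    rw [← mul_sum]
    split_ifs with he
    · rw [← Complex.ofReal_sum, StarSums.sum_nrm hM (StarSums.mem_pEls.1 hx) he]
      simp [a]
    · rw [sum_eq_zero, mul_zero]
      intro χ hχ
      rw [StarSums.nrm_eq_zero hM (StarSums.mem_pEls.1 hx) hB (H22.mem_blockFinset.1 hχ) e.2 he,
        Complex.ofReal_zero]
  have hz : ∑ χ ∈ H22.blockFinset B, (Nat.card G : ℂ) *
      classInner (H11.Star.star P f₀ η χ p) (χ : G → ℂ) = 0 :=
    sum_eq_zero fun χ hχ => by rw [hstar χ (H22.mem_blockFinset.1 hχ), mul_zero]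
  rw [← hk, hz, mul_zero] at h
  exact (mul_eq_zero.1 h).resolve_left (H12.card_ne_zero' (G := G))

end H19.AbelianSum
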