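import Mathlib

set_option autoImplicit false

/-!
Counting commuting pairs in an extension with abelian normal subgroup.
-/

namespace H19

variable {X : Type*} [Group X] [Finite X]

/-- Class number times order is the number of commuting pairs, in subtype form. -/
theorem card_commPairs (X : Type*) [Group X] :
    Nat.card {p : X × X // p.1 * p.2 = p.2 * p.1} = Nat.card (ConjClasses X) * Nat.card X :=
  card_comm_eq_card_conjClasses_mul_card X

/-- An extension with abelian normal subgroup has at most as many commuting pairs as the split one. -/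
theorem commPairs_le_semidirect (V : Subgroup X) [V.Normal]
    (hab : ∀ a ∈ V, ∀ b ∈ V, a * b = b * a) (φ : X ⧸ V →* MulAut ↥V)
    (hφ : ∀ (x : X) (v : ↥V), ((φ (QuotientGroup.mk x) v : ↥V) : X) = x * v * x⁻¹) :
    Nat.card {p : X × X // p.1 * p.2 = p.2 * p.1} ≤
      Nat.card {p : SemidirectProduct ↥V (X ⧸ V) φ × SemidirectProduct ↥V (X ⧸ V) φ //
        p.1 * p.2 = p.2 * p.1} := by
  classical
  set T := {p : X × X // p.1 * p.2 = p.2 * p.1}
  haveI : Finite (SemidirectProduct ↥V (X ⧸ V) φ) := Finite.of_equiv _ SemidirectProduct.equivProd.symm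
  let pr : T → (X ⧸ V) × (X ⧸ V) := fun p => (QuotientGroup.mk p.1.1, QuotientGroup.mk p.1.2)
  have hbase : ∀ p : T, ∃ q : T, pr q = pr p := fun p => ⟨p, rfl⟩
  let sec : (X ⧸ V) × (X ⧸ V) → X × X := fun c =>
    if h : ∃ q : T, pr q = c then (Classical.choose h).1 else (1, 1)
  have hsec : ∀ p : T, (sec (pr p)).1 * (sec (pr p)).2 = (sec (pr p)).2 * (sec (pr p)).1 ∧
      (QuotientGroup.mk (sec (pr p)).1 : X ⧸ V) = QuotientGroup.mk p.1.1 ∧
      (QuotientGroup.mk (sec (pr p)).2 : X ⧸ V) = QuotientGroup.mk p.1.2 := by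
    intro p
    have hspec := Classical.choose_spec (hbase p)
    simp only [sec, dif_pos (hbase p)]
    exact ⟨(Classical.choose (hbase p)).2, congrArg Prod.fst hspec, congrArg Prod.snd hspec⟩
  have hmem : ∀ x y : X, (QuotientGroup.mk y : X ⧸ V) = QuotientGroup.mk x → x * y⁻¹ ∈ V := by
    intro x y h
    rw [← QuotientGroup.eq_one_iff]
    rw [QuotientGroup.mk_mul, QuotientGroup.mk_inv, h, mul_inv_cancel]
  let f : T → {p : SemidirectProduct ↥V (X ⧸ V) φ × SemidirectProduct ↥V (X ⧸ V) φ // p.1 * p.2 = p.2 * p.1} := fun p =>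
    ⟨(⟨⟨p.1.1 * (sec (pr p)).1⁻¹, hmem _ _ (hsec p).2.1⟩, QuotientGroup.mk p.1.1⟩,
      ⟨⟨p.1.2 * (sec (pr p)).2⁻¹, hmem _ _ (hsec p).2.2⟩, QuotientGroup.mk p.1.2⟩), by
      apply SemidirectProduct.ext
      · apply Subtype.ext
        obtain ⟨hc, h1, h2⟩ := hsec p
        simp only [SemidirectProduct.mul_left, Subgroup.coe_mul]
        have h1' := hφ (sec (pr p)).1 ⟨p.1.2 * (sec (pr p)).2⁻¹, hmem _ _ h2⟩
        have h2' := hφ (sec (pr p)).2 ⟨p.1.1 * (sec (pr p)).1⁻¹, hmem _ _ h1⟩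
        rw [h1] at h1'
        rw [h2] at h2'
        rw [h1', h2']
        have hinv : (sec (pr p)).1⁻¹ * (sec (pr p)).2⁻¹ = (sec (pr p)).2⁻¹ * (sec (pr p)).1⁻¹ := by
          rw [← mul_inv_rev, ← mul_inv_rev, hc]
        calc p.1.1 * (sec (pr p)).1⁻¹ * ((sec (pr p)).1 * (p.1.2 * (sec (pr p)).2⁻¹) * (sec (pr p)).1⁻¹)
            = p.1.1 * p.1.2 * ((sec (pr p)).2⁻¹ * (sec (pr p)).1⁻¹) := by group
          _ = p.1.2 * p.1.1 * ((sec (pr p)).1⁻¹ * (sec (pr p)).2⁻¹) := by rw [p.2, hinv]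
          _ = _ := by group
      · simp only [SemidirectProduct.mul_right]
        rw [← QuotientGroup.mk_mul, ← QuotientGroup.mk_mul, p.2]⟩
  refine Nat.card_le_card_of_injective f ?_
  intro p q h
  simp only [f, Subtype.mk.injEq, Prod.mk.injEq, SemidirectProduct.ext_iff] at h
  obtain ⟨⟨h1, h1'⟩, h2, h2'⟩ := h
  have hpr : pr p = pr q := Prod.ext h1' h2'
  rw [hpr] at h1 h2
  exact Subtype.ext (Prod.ext (mul_right_cancel h1) (mul_right_cancel h2))

/-- An extension with abelian normal subgroup has at most as many classes as the split one. -/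
theorem classes_le_semidirect (V : Subgroup X) [V.Normal]
    (hab : ∀ a ∈ V, ∀ b ∈ V, a * b = b * a) (φ : X ⧸ V →* MulAut ↥V)
    (hφ : ∀ (x : X) (v : ↥V), ((φ (QuotientGroup.mk x) v : ↥V) : X) = x * v * x⁻¹) :
    Nat.card (ConjClasses X) ≤ Nat.card (ConjClasses (SemidirectProduct ↥V (X ⧸ V) φ)) := by
  have h := commPairs_le_semidirect V hab φ hφ
  rw [card_commPairs, card_commPairs, SemidirectProduct.card,
    Subgroup.card_eq_card_quotient_mul_card_subgroup V, Nat.mul_comm (Nat.card ↥V) (Nat.card (X ⧸ V))] at h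
  exact Nat.le_of_mul_le_mul_right h (Nat.mul_pos Nat.card_pos Nat.card_pos)

end H19
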