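import Cfsg.Agent.H19.CommPairs

set_option autoImplicit false

/-!
Class number of a coprime split extension with abelian normal subgroup.
-/

namespace H19

section act

variable {U : Type*} [CommGroup U] [Finite U] {Q : Type*} [Group Q] [Finite Q]
variable (φ : Q →* MulAut U) (a b : Q)

/-- The obstruction map for lifting a commuting pair. -/
def liftMap : U × U →* U where
  toFun p := (p.1 * φ a p.2) / (p.2 * φ b p.1)
  map_one' := by simp
  map_mul' p q := by
    simp only [Prod.fst_mul, Prod.snd_mul, map_mul]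
    simp only [div_eq_mul_inv, mul_inv, mul_comm, mul_left_comm, mul_assoc]

/-- Common fixed points of two elements. -/
def fixPair : Subgroup U where
  carrier := {u | φ a u = u ∧ φ b u = u}
  one_mem' := by simp
  mul_mem' := by
    intro u v hu hv
    simp only [Set.mem_setOf_eq, map_mul] at *
    exact ⟨by rw [hu.1, hv.1], by rw [hu.2, hv.2]⟩
  inv_mem' := by
    intro u hu
    simp only [Set.mem_setOf_eq, map_inv] at *
    exact ⟨by rw [hu.1], by rw [hu.2]⟩

theorem mem_fixPair {u : U} : u ∈ fixPair φ a b ↔ φ a u = u ∧ φ b u = u := Iff.rfl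

/-- Coprime action: kernel of the obstruction map has order `|U| |C_U(a,b)|`. -/
theorem card_ker_liftMap (hcop : (Nat.card U).Coprime (Nat.card Q)) :
    Nat.card (liftMap φ a b).ker = Nat.card U * Nat.card (fixPair φ a b) := by
  classical
  set C := fixPair φ a b
  set W := (liftMap φ a b).range with hW
  set A := Subgroup.closure ({a, b} : Set Q) with hA
  haveI : Fintype A := Fintype.ofFinite _
  let e : U → U := fun u => ∏ x : A, φ (x : Q) u
  have ha : a ∈ A := Subgroup.subset_closure (by simp)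
  have hb : b ∈ A := Subgroup.subset_closure (by simp)
  have hdiff : ∀ x ∈ A, ∀ u, u / φ x u ∈ W := by
    intro x hx
    refine Subgroup.closure_induction (p := fun x _ => ∀ u, u / φ x u ∈ W) ?_ ?_ ?_ ?_ hx
    · intro y hy u
      rcases hy with rfl | hy
      · have : liftMap φ y b (1, u) ∈ W := ⟨_, rfl⟩
        simpa [liftMap] using W.inv_mem this
      · rw [Set.mem_singleton_iff] at hy
        subst hy
        have : liftMap φ a y (u, 1) ∈ W := ⟨_, rfl⟩
        simpa [liftMap] using this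
    · intro u; simp
    · intro x y _ _ hx hy u
      have h := W.mul_mem (hy u) (hx (φ y u))
      rwa [div_mul_div_cancel, ← MulAut.mul_apply, ← map_mul] at h
    · intro x _ hx u
      have h := W.inv_mem (hx (φ x⁻¹ u))
      rwa [← MulAut.mul_apply, ← map_mul, mul_inv_cancel, map_one, MulAut.one_apply, inv_div] at h
  have hfix : ∀ y ∈ A, ∀ u, φ y (e u) = e u := by
    intro y hy u
    simp only [e, map_prod, ← MulAut.mul_apply, ← map_mul]
    exact Fintype.prod_equiv (Equiv.mulLeft (⟨y, hy⟩ : A)) _ _ (fun x => rfl)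
  have hinv : ∀ y ∈ A, ∀ u, e (φ y u) = e u := by
    intro y hy u
    simp only [e, ← MulAut.mul_apply, ← map_mul]
    exact Fintype.prod_equiv (Equiv.mulRight (⟨y, hy⟩ : A)) _ _ (fun x => rfl)
  have hmul : ∀ u v, e (u * v) = e u * e v := fun u v => by
    simp [e, Finset.prod_mul_distrib]
  let E : U →* U := MonoidHom.mk' e hmul
  have hEW : W ≤ E.ker := by
    rintro _ ⟨p, rfl⟩
    rw [MonoidHom.mem_ker]
    show E (p.1 * φ a p.2 / (p.2 * φ b p.1)) = 1
    rw [map_div, map_mul, map_mul]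
    show e p.1 * e (φ a p.2) / (e p.2 * e (φ b p.1)) = 1
    rw [hinv a ha, hinv b hb, mul_comm, div_self']
  have hcopA : (Nat.card U).Coprime (Nat.card A) :=
    hcop.coprime_dvd_right A.card_subgroup_dvd_card
  have hEC : ∀ u ∈ C, e u = u ^ Nat.card A := by
    intro u hu
    have hall : ∀ x ∈ A, φ x u = u := by
      intro x hx
      refine Subgroup.closure_induction (p := fun x _ => φ x u = u) ?_ ?_ ?_ ?_ hx
      · intro y hy
        rcases hy with rfl | hy
        · exact hu.1
        · rw [Set.mem_singleton_iff] at hy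
          exact hy ▸ hu.2
      · simp
      · intro x y _ _ hx hy; rw [map_mul, MulAut.mul_apply, hy, hx]
      · intro x _ hx
        have h := congrArg (φ x⁻¹) hx
        rw [← MulAut.mul_apply, ← map_mul, inv_mul_cancel, map_one, MulAut.one_apply] at h
        exact h.symm
    simp only [e]
    rw [Finset.prod_congr rfl (fun (x : A) _ => hall x x.2), Finset.prod_const, Finset.card_univ,
      Nat.card_eq_fintype_card]
  have hdisj : C ⊓ W = ⊥ := by
    rw [eq_bot_iff]
    intro u hu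
    obtain ⟨huC, huW⟩ := Subgroup.mem_inf.mp hu
    have h1 : u ^ Nat.card A = 1 := by rw [← hEC u huC]; exact hEW huW
    have h2 : powCoprime hcopA u = powCoprime hcopA 1 := by simpa [powCoprime, Nat.card_eq_fintype_card] using h1
    exact Subgroup.mem_bot.mpr ((powCoprime hcopA).injective h2)
  have htop : C ⊔ W = ⊤ := by
    rw [eq_top_iff]
    intro u _
    obtain ⟨v, rfl⟩ := (powCoprime hcopA).surjective u
    have h : v ^ Nat.card A = e v * ∏ x : A, v / φ (x : Q) v := by
      simp only [e]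
      rw [← Finset.prod_mul_distrib, Finset.prod_congr rfl (fun (x : A) _ => mul_div_cancel (φ (x : Q) v) v),
        Finset.prod_const, Finset.card_univ, Nat.card_eq_fintype_card]
    rw [powCoprime, Equiv.coe_fn_mk, h]
    refine Subgroup.mul_mem_sup ⟨hfix a ha v, hfix b hb v⟩ ?_
    exact W.prod_mem (fun x _ => hdiff x x.2 v)
  have hcard : Nat.card C * Nat.card W = Nat.card U :=
    (Subgroup.isComplement'_of_disjoint_and_mul_eq_univ (disjoint_iff.mpr hdisj)
      (by rw [← Subgroup.normal_mul, htop]; simp)).card_mul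
  have h2 : Nat.card U * Nat.card U = Nat.card W * Nat.card (liftMap φ a b).ker := by
    rw [← Nat.card_prod, Subgroup.card_eq_card_quotient_mul_card_subgroup (liftMap φ a b).ker,
      Nat.card_congr (QuotientGroup.quotientKerEquivRange (liftMap φ a b)).toEquiv]
  refine Nat.eq_of_mul_eq_mul_left (Nat.card_pos (α := W)) ?_
  rw [← h2, Nat.mul_left_comm, Nat.mul_comm (Nat.card W), hcard]

end act

section split

variable {X : Type*} [Group X] [Finite X]

/-- `V` abelian normal with complement `G` of coprime order. -/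
theorem classes_mul_card_eq (V : Subgroup X) [V.Normal] (hab : ∀ a ∈ V, ∀ b ∈ V, a * b = b * a)
    (G : Subgroup X) (hGV : Subgroup.IsComplement' V G) (hcop : (Nat.card V).Coprime (Nat.card G)) :
    Nat.card (ConjClasses X) * Nat.card G =
      Nat.card {t : (G × G) × V // t.1.1 * t.1.2 = t.1.2 * t.1.1 ∧
        (t.1.1 : X) * t.2 = t.2 * t.1.1 ∧ (t.1.2 : X) * t.2 = t.2 * t.1.2} := by
  classical
  haveI := Fintype.ofFinite X
  letI : CommGroup V := { (inferInstance : Group V) with
    mul_comm := fun a b => Subtype.ext (hab a a.2 b b.2) }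
  let φ : G →* MulAut V := MonoidHom.comp (MulAut.conjNormal : X →* MulAut V) G.subtype
  set P := {c : G × G // c.1 * c.2 = c.2 * c.1} with hP
  have key : ∀ (v w : V) (a b : G), ((v : X) * a) * (w * b) = (w * b) * (v * a) ↔
      a * b = b * a ∧ (v, w) ∈ (liftMap φ a b).ker := by
    intro v w a b
    have h1 : ((v : X) * a) * (w * b) = ((v * φ a w : V) : X) * ((a * b : G) : X) := by
      simp [φ, MulAut.conjNormal_apply, mul_assoc]
    have h2 : ((w : X) * b) * (v * a) = ((w * φ b v : V) : X) * ((b * a : G) : X) := by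
      simp [φ, MulAut.conjNormal_apply, mul_assoc]
    rw [h1, h2, MonoidHom.mem_ker]
    show _ ↔ _ ∧ (v * φ a w) / (w * φ b v) = 1
    rw [div_eq_one]
    constructor
    · intro h
      have := hGV.1 (a₁ := (⟨_, (v * φ a w : V).2⟩, ⟨_, (a * b : G).2⟩))
        (a₂ := (⟨_, (w * φ b v : V).2⟩, ⟨_, (b * a : G).2⟩)) h
      exact ⟨Subtype.ext (congrArg (fun p => (p.2 : X)) this),
        Subtype.ext (congrArg (fun p => (p.1 : X)) this)⟩
    · rintro ⟨h, h'⟩
      rw [h, h']
  let E : V × G ≃ X := Equiv.ofBijective (fun p => (p.1 : X) * p.2) hGV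
  let F : (Σ c : P, (liftMap φ c.1.1 c.1.2).ker) → {p : X × X // p.1 * p.2 = p.2 * p.1} := fun s =>
    ⟨((s.2.1.1 : X) * s.1.1.1, (s.2.1.2 : X) * s.1.1.2),
      (key _ _ _ _).mpr ⟨s.1.2, s.2.2⟩⟩
  have hF : Function.Bijective F := by
    constructor
    · intro s s' h
      have h1 : ((s.2.1.1, s.1.1.1) : V × G) = (s'.2.1.1, s'.1.1.1) :=
        E.injective (congrArg (fun p => p.1.1) h)
      have h2 : ((s.2.1.2, s.1.1.2) : V × G) = (s'.2.1.2, s'.1.1.2) :=
        E.injective (congrArg (fun p => p.1.2) h)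
      obtain ⟨⟨⟨a, b⟩, hc⟩, ⟨⟨v, w⟩, hk⟩⟩ := s
      obtain ⟨⟨⟨a', b'⟩, hc'⟩, ⟨⟨v', w'⟩, hk'⟩⟩ := s'
      simp only [Prod.mk.injEq] at h1 h2
      obtain ⟨rfl, rfl⟩ := h1
      obtain ⟨rfl, rfl⟩ := h2
      rfl
    · rintro ⟨⟨x, y⟩, hxy⟩
      obtain ⟨⟨v, a⟩, rfl⟩ := E.surjective x
      obtain ⟨⟨w, b⟩, rfl⟩ := E.surjective y
      obtain ⟨hc, hk⟩ := (key v w a b).mp hxy
      exact ⟨⟨⟨(a, b), hc⟩, ⟨(v, w), hk⟩⟩, rfl⟩
  have h1 : Nat.card (ConjClasses X) * Nat.card X =
      Nat.card V * ∑ c : P, Nat.card (fixPair φ c.1.1 c.1.2) := by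
    rw [← card_commPairs, ← Nat.card_eq_of_bijective F hF, Nat.card_sigma, Finset.mul_sum]
    exact Finset.sum_congr rfl (fun c _ => card_ker_liftMap φ _ _ hcop)
  have h2 : ∑ c : P, Nat.card (fixPair φ c.1.1 c.1.2) =
      Nat.card {t : (G × G) × V // t.1.1 * t.1.2 = t.1.2 * t.1.1 ∧
        (t.1.1 : X) * t.2 = t.2 * t.1.1 ∧ (t.1.2 : X) * t.2 = t.2 * t.1.2} := by
    rw [← Nat.card_sigma]
    refine Nat.card_congr
      { toFun := fun s => ⟨(s.1.1, s.2.1), s.1.2, ?_, ?_⟩
        invFun := fun t => ⟨⟨t.1.1, t.2.1⟩, ⟨t.1.2, ?_, ?_⟩⟩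
        left_inv := fun s => rfl
        right_inv := fun t => rfl }
    · have := congrArg (Subtype.val) s.2.2.1
      simpa [φ, MulAut.conjNormal_apply, mul_inv_eq_iff_eq_mul] using this
    · have := congrArg (Subtype.val) s.2.2.2
      simpa [φ, MulAut.conjNormal_apply, mul_inv_eq_iff_eq_mul] using this
    · apply Subtype.ext
      simpa [φ, MulAut.conjNormal_apply, mul_inv_eq_iff_eq_mul] using t.2.2.1
    · apply Subtype.ext
      simpa [φ, MulAut.conjNormal_apply, mul_inv_eq_iff_eq_mul] using t.2.2.2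
  rw [← hGV.card_mul, h2, Nat.mul_left_comm] at h1
  exact Nat.eq_of_mul_eq_mul_left Nat.card_pos h1

/-- Counting commuting pairs with a fixed point, orbit by orbit. -/
theorem sum_orbit_reps (V : Subgroup X) [V.Normal] (G : Subgroup X)
    (S : Finset X) (hSV : ∀ s ∈ S, s ∈ V) (hrep : ∀ v ∈ V, ∃! s, s ∈ S ∧ ∃ g ∈ G, g * v * g⁻¹ = s) :
    Nat.card G * (∑ s ∈ S, Nat.card (ConjClasses ↥(G ⊓ Subgroup.centralizer ({s} : Set X)))) =
      Nat.card {t : (G × G) × V // t.1.1 * t.1.2 = t.1.2 * t.1.1 ∧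
        (t.1.1 : X) * t.2 = t.2 * t.1.1 ∧ (t.1.2 : X) * t.2 = t.2 * t.1.2} := by
  classical
  haveI := Fintype.ofFinite X
  let C : X → Subgroup X := fun v => G ⊓ Subgroup.centralizer ({v} : Set X)
  let R : S × G → V := fun p => ⟨(p.2 : X)⁻¹ * p.1 * p.2, by
    have := (inferInstance : V.Normal).conj_mem _ (hSV _ p.1.2) (p.2 : X)⁻¹
    simpa using this⟩
  have hmemC : ∀ (v x : X), x ∈ C v ↔ x ∈ G ∧ x * v = v * x := fun v x => by
    simp only [C, Subgroup.mem_inf, Subgroup.mem_centralizer_singleton_iff]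
  have hconj : ∀ (s : X) (g : X), g ∈ G →
      Nat.card (ConjClasses ↥(C s)) = Nat.card (ConjClasses ↥(C (g⁻¹ * s * g))) := by
    intro s g hg
    have e : ↥(C s) ≃* ↥(C (g⁻¹ * s * g)) :=
      { toFun := fun x => ⟨g⁻¹ * x * g, (hmemC _ _).mpr
          ⟨G.mul_mem (G.mul_mem (G.inv_mem hg) ((hmemC _ _).mp x.2).1) hg, by
            have := ((hmemC _ _).mp x.2).2
            calc g⁻¹ * x * g * (g⁻¹ * s * g) = g⁻¹ * (x * s) * g := by group
              _ = g⁻¹ * (s * x) * g := by rw [this]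
              _ = _ := by group⟩⟩
        invFun := fun x => ⟨g * x * g⁻¹, (hmemC _ _).mpr
          ⟨G.mul_mem (G.mul_mem hg ((hmemC _ _).mp x.2).1) (G.inv_mem hg), by
            have := ((hmemC _ _).mp x.2).2
            calc g * (x : X) * g⁻¹ * s = g * (x * (g⁻¹ * s * g)) * g⁻¹ := by group
              _ = g * ((g⁻¹ * s * g) * x) * g⁻¹ := by rw [this]
              _ = _ := by group⟩⟩
        left_inv := fun x => Subtype.ext (by group)
        right_inv := fun x => Subtype.ext (by group)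
        map_mul' := fun x y => Subtype.ext (by simp only [Subgroup.coe_mul]; group) }
    exact Nat.card_congr (Quotient.congr e.toEquiv (fun a b => ⟨fun h => e.toMonoidHom.map_isConj h,
      fun h => by
        have h' := e.symm.toMonoidHom.map_isConj (h : IsConj (e a) (e b))
        simp only [MulEquiv.coe_toMonoidHom, MulEquiv.coe_toEquiv, MulEquiv.toEquiv_eq_coe] at h'
        rw [e.symm_apply_apply, e.symm_apply_apply] at h'
        exact h'⟩))
  have hfib : ∀ v : V, Nat.card {p : S × G // R p = v} = Nat.card ↥(C v) := by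
    intro v
    obtain ⟨s, ⟨hs, g, hg, hgs⟩, huniq⟩ := hrep v v.2
    have hback : ∀ p : {p : S × G // R p = v}, g⁻¹ * p.1.2 ∈ C v ∧ (p.1.1 : X) = s := by
      intro p
      have hv : (p.1.2 : X)⁻¹ * p.1.1 * p.1.2 = (v : X) := congrArg Subtype.val p.2
      have hp : (p.1.1 : X) = (p.1.2 : X) * v * (p.1.2 : X)⁻¹ := by rw [← hv]; group
      have hps : (p.1.1 : X) = s := huniq _ ⟨p.1.1.2, p.1.2, p.1.2.2, hp.symm⟩
      refine ⟨(hmemC _ _).mpr ⟨G.mul_mem (G.inv_mem hg) p.1.2.2, ?_⟩, hps⟩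
      rw [hp, ← hgs, mul_inv_eq_iff_eq_mul] at hps
      calc g⁻¹ * p.1.2 * v = g⁻¹ * ((p.1.2 : X) * v) := by group
        _ = g⁻¹ * (g * v * g⁻¹ * p.1.2) := by rw [hps]
        _ = _ := by group
    refine Nat.card_congr
      { toFun := fun p => ⟨g⁻¹ * p.1.2, (hback p).1⟩
        invFun := fun c => ⟨(⟨s, hs⟩, ⟨g * c, G.mul_mem hg ((hmemC _ _).mp c.2).1⟩), ?_⟩
        left_inv := fun p => by
          refine Subtype.ext (Prod.ext (Subtype.ext (hback p).2.symm) (Subtype.ext ?_))
          show g * (g⁻¹ * (p.1.2 : X)) = p.1.2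
          group
        right_inv := fun c => Subtype.ext (by simp) }
    apply Subtype.ext
    show (g * c : X)⁻¹ * s * (g * c) = v
    rw [← hgs]
    calc (g * c : X)⁻¹ * (g * v * g⁻¹) * (g * c) = (c : X)⁻¹ * (v * c) := by group
      _ = (c : X)⁻¹ * (c * v) := by rw [((hmemC _ _).mp c.2).2]
      _ = v := by group
  have hsum : Nat.card G * (∑ s ∈ S, Nat.card (ConjClasses ↥(C s))) =
      ∑ v : V, Nat.card {q : ↥(C v) × ↥(C v) // q.1 * q.2 = q.2 * q.1} := by
    rw [← Finset.sum_coe_sort S, Finset.mul_sum]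
    have : ∀ s : S, Nat.card G * Nat.card (ConjClasses ↥(C (s : X))) =
        ∑ g : G, Nat.card (ConjClasses ↥(C ((g : X)⁻¹ * s * g))) := fun s => by
      rw [← Finset.sum_congr rfl (fun (g : G) _ => hconj (s : X) (g : X) g.2), Finset.sum_const, Finset.card_univ,
        smul_eq_mul, Nat.card_eq_fintype_card]
    rw [Finset.sum_congr rfl (fun s _ => this s),
      ← Fintype.sum_prod_type' (f := fun (s : S) (g : G) => Nat.card (ConjClasses ↥(C ((g : X)⁻¹ * s * g)))),
      ← Finset.sum_fiberwise Finset.univ R]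
    refine Finset.sum_congr rfl (fun v _ => ?_)
    rw [Finset.sum_congr rfl (g := fun _ => Nat.card (ConjClasses ↥(C (v : X)))) (fun p hp => by
      rw [← congrArg Subtype.val (Finset.mem_filter.mp hp).2]), Finset.sum_const, smul_eq_mul,
      card_commPairs, Nat.mul_comm]
    congr 1
    rw [← hfib v, Nat.card_eq_fintype_card, Fintype.card_subtype]
  rw [show (fun s : X => Nat.card (ConjClasses ↥(G ⊓ Subgroup.centralizer ({s} : Set X)))) =
      (fun s => Nat.card (ConjClasses ↥(C s))) from rfl, hsum, ← Nat.card_sigma]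
  refine Nat.card_congr
    { toFun := fun s => ⟨((⟨s.2.1.1.1, ((hmemC _ _).mp s.2.1.1.2).1⟩,
        ⟨s.2.1.2.1, ((hmemC _ _).mp s.2.1.2.2).1⟩), s.1),
        Subtype.ext (by simpa using congrArg Subtype.val s.2.2),
        ((hmemC _ _).mp s.2.1.1.2).2, ((hmemC _ _).mp s.2.1.2.2).2⟩
      invFun := fun t => ⟨t.1.2, ⟨(⟨t.1.1.1, (hmemC _ _).mpr ⟨t.1.1.1.2, t.2.2.1⟩⟩,
        ⟨t.1.1.2, (hmemC _ _).mpr ⟨t.1.1.2.2, t.2.2.2⟩⟩),
        Subtype.ext (by simpa using congrArg Subtype.val t.2.1)⟩⟩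
      left_inv := fun s => rfl
      right_inv := fun t => rfl }

end split

end H19
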