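import Cfsg.Agent.H12.Orth
import Cfsg.Agent.H19.GaloisAvg

set_option autoImplicit false

/-!
A character restricts reducibly to a normal subgroup iff it vanishes on some coset.
-/

open Cfsg
open scoped ComplexConjugate

namespace H19

variable {G : Type*} [Group G] [Fintype G]

/-- Nonzero values of a character, on a set stable under prime powers, average at least one in absolute value. -/
theorem card_le_sum_norm {χ : G → ℂ} (hχ : IsCharacter G χ) (S : Finset G)
    (hS : ∀ j : ℕ, (Nat.card G).Coprime j → ∀ g ∈ S, g ^ j ∈ S) (h : ∀ g ∈ S, χ g ≠ 0) :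
    (S.card : ℝ) ≤ ∑ g ∈ S, ‖χ g‖ := by
  classical
  have hn : 0 < Nat.card G := Nat.card_pos
  obtain ⟨ζ, hζ⟩ := exists_root (Nat.card G) hn.ne'
  have hperm : ∀ j ∈ units' (Nat.card G), ∑ g ∈ S, ‖χ (g ^ j)‖ = ∑ g ∈ S, ‖χ g‖ := by
    intro j hj
    have hc := (mem_units'.mp hj).2
    have himg : S.image (fun g => g ^ j) = S := Finset.eq_of_subset_of_card_le
      (Finset.image_subset_iff.mpr fun g hg => hS j hc g hg)
      (le_of_eq (Finset.card_image_of_injective S (powCoprime hc).injective).symm)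
    conv_rhs => rw [← himg]
    exact (Finset.sum_image (f := fun g => ‖χ g‖) (g := fun g : G => g ^ j)
      fun a _ b _ hab => (powCoprime hc).injective hab).symm
  have hone : ∀ g ∈ S, ((Nat.card G).totient : ℝ) ≤ ∑ j ∈ units' (Nat.card G), ‖χ (g ^ j)‖ := by
    intro g hg
    rw [← card_units']
    refine card_le_sum_of_one_le_prod _ _ (fun j hj => ?_) ?_
    · exact norm_pos_iff.mpr (char_pow_ne_zero hχ hn g pow_card_eq_one' (mem_units'.mp hj).2 (h g hg))
    · obtain ⟨P, hP⟩ := exists_poly hχ hn.ne' hζ g pow_card_eq_one'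
      have h0 : Polynomial.aeval ζ P ≠ 0 := by
        have := hP 1
        rw [pow_one, pow_one] at this
        rw [← this]; exact h g hg
      have h1 := one_le_prod_normSq hn hζ P h0
      have h2 : ∏ μ ∈ primitiveRoots (Nat.card G) ℂ, ‖Polynomial.aeval μ P‖ ^ 2 =
          (∏ j ∈ units' (Nat.card G), ‖χ (g ^ j)‖) ^ 2 := by
        rw [← Finset.prod_pow]
        symm
        refine Finset.prod_bij (fun j _ => ζ ^ j) ?_ ?_ ?_ (fun j _ => by rw [hP j])
        · intro j hj
          exact (mem_primitiveRoots hn).mpr (hζ.pow_of_coprime j (mem_units'.mp hj).2.symm)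
        · intro i hi j hj hij
          exact hζ.pow_inj (mem_units'.mp hi).1 (mem_units'.mp hj).1 hij
        · intro μ hμ
          haveI : NeZero (Nat.card G) := ⟨hn.ne'⟩
          obtain ⟨j, hjn, hjc, rfl⟩ := (IsPrimitiveRoot.isPrimitiveRoot_iff hζ).mp
            ((mem_primitiveRoots hn).mp hμ)
          exact ⟨j, mem_units'.mpr ⟨hjn, hjc.symm⟩, rfl⟩
      rw [h2] at h1
      have h3 : 0 ≤ ∏ j ∈ units' (Nat.card G), ‖χ (g ^ j)‖ :=
        Finset.prod_nonneg fun j _ => norm_nonneg _
      nlinarith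
  have h1 : ((Nat.card G).totient : ℝ) * S.card ≤ ((Nat.card G).totient : ℝ) * ∑ g ∈ S, ‖χ g‖ := by
    calc ((Nat.card G).totient : ℝ) * S.card = ∑ g ∈ S, ((Nat.card G).totient : ℝ) := by
          rw [Finset.sum_const, nsmul_eq_mul, mul_comm]
      _ ≤ ∑ g ∈ S, ∑ j ∈ units' (Nat.card G), ‖χ (g ^ j)‖ := Finset.sum_le_sum hone
      _ = ∑ j ∈ units' (Nat.card G), ∑ g ∈ S, ‖χ g‖ := by
          rw [Finset.sum_comm]; exact Finset.sum_congr rfl hperm
      _ = _ := by rw [Finset.sum_const, card_units', nsmul_eq_mul]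
  exact le_of_mul_le_mul_left h1 (by exact_mod_cast Nat.totient_pos.mpr hn)

/-- Membership in a subgroup only depends on the generated cyclic subgroup. -/
theorem pow_mem_iff (H : Subgroup G) {j : ℕ} (hj : (Nat.card G).Coprime j) (g : G) :
    g ^ j ∈ H ↔ g ∈ H := by
  refine ⟨fun h => ?_, fun h => H.pow_mem h j⟩
  obtain ⟨m, hm⟩ := exists_pow_eq_self_of_coprime (x := g)
    (hj.symm.coprime_dvd_right (orderOf_dvd_natCard g))
  rw [← hm]
  exact H.pow_mem h m

variable (N : Subgroup G) [Fintype N]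

/-- The average of a function over cosets of `N`. -/
noncomputable def cosetAvg (f : G → ℂ) : G → ℂ :=
  fun g => (Nat.card N : ℂ)⁻¹ * ∑ n : N, f ((n : G) * g)

theorem cosetAvg_idem (f : G → ℂ) : cosetAvg N (cosetAvg N f) = cosetAvg N f := by
  funext g
  have h : ∀ n : N, ∑ m : N, f ((m : G) * ((n : G) * g)) = ∑ m : N, f ((m : G) * g) := fun n =>
    Fintype.sum_equiv (Equiv.mulRight n) _ _ fun m => by
      simp [mul_assoc]
  simp only [cosetAvg, h]
  rw [Finset.sum_const, Finset.card_univ, nsmul_eq_mul, ← Nat.card_eq_fintype_card, ← mul_assoc,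
    ← mul_assoc]
  congr 1
  field_simp

variable [N.Normal]

theorem cosetAvg_isClassFunction {f : G → ℂ} (hf : IsClassFunction G f) :
    IsClassFunction G (cosetAvg N f) := by
  intro g h
  simp only [cosetAvg]
  congr 1
  refine Fintype.sum_equiv (MulAut.conjNormal (h⁻¹ : G) : MulAut N).toEquiv _ _ fun n => ?_
  show _ = f (((MulAut.conjNormal (h⁻¹ : G) : MulAut N) n : G) * g)
  rw [← hf (((MulAut.conjNormal (h⁻¹ : G) : MulAut N) n : G) * g) h]
  congr 1
  rw [MulAut.conjNormal_apply]
  group

/-- Averaging an irreducible character over cosets gives zero or the character. -/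
theorem cosetAvg_irr (ψ : IrrCharacter G) :
    cosetAvg N (ψ : G → ℂ) = 0 ∨ cosetAvg N (ψ : G → ℂ) = (ψ : G → ℂ) := by
  classical
  obtain ⟨n, ρ, hρ, hψ⟩ := ψ.2
  haveI := hρ
  let f : G → ℂ := fun g => if g ∈ N then (Nat.card N : ℂ)⁻¹ else 0
  have hf : IsClassFunction G f := fun g h => by
    have hiff : h * g * h⁻¹ ∈ N ↔ g ∈ N :=
      ⟨fun hm => by simpa [mul_assoc] using (inferInstance : N.Normal).conj_mem _ hm h⁻¹,
        fun hm => (inferInstance : N.Normal).conj_mem _ hm h⟩
    simp only [f, hiff]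
  obtain ⟨c, hc⟩ : ∃ c : ℂ, H12.avgOp ρ f = c • LinearMap.id :=
    H12.exists_scalar_of_commute ρ _ (fun h => H12.avgOp_comm ρ hf h)
  have hval : ∀ g, cosetAvg N (ψ : G → ℂ) g = c * (ψ : G → ℂ) g := by
    intro g
    rw [← hψ]
    have := congrArg (fun T => LinearMap.trace ℂ (Fin n → ℂ) (T * ρ g)) hc
    have e1 : LinearMap.trace ℂ (Fin n → ℂ) ((c • LinearMap.id) * ρ g) = c * ρ.character g := by
      rw [show ((c • LinearMap.id : Module.End ℂ (Fin n → ℂ)) * ρ g) = c • ρ g from rfl, map_smul]
      rfl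
    rw [e1] at this
    rw [← this]
    simp only [H12.avgOp, Finset.sum_mul, map_sum, smul_mul_assoc, ← map_mul, map_smul, smul_eq_mul]
    simp only [cosetAvg, f, ite_mul, zero_mul, Finset.mul_sum]
    rw [← Finset.sum_filter]
    exact (Finset.sum_subtype _ (fun x => by simp) (fun x => (Nat.card N : ℂ)⁻¹ * ρ.character (x * g))).symm
  have h2 := congrFun (cosetAvg_idem N (ψ : G → ℂ)) 1
  have h3 : cosetAvg N (cosetAvg N (ψ : G → ℂ)) 1 = c * (c * (ψ : G → ℂ) 1) := by
    conv_lhs => unfold cosetAvg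
    simp only [← hval]
    rw [hval]
    have : ∀ g, (Nat.card N : ℂ)⁻¹ * ∑ m : N, (ψ : G → ℂ) ((m : G) * g) = c * (ψ : G → ℂ) g := hval
    simp only [this]
    rw [← Finset.mul_sum, mul_left_comm, this]
  rw [h3, hval] at h2
  have hne := H12.irr_apply_one_ne_zero ψ
  have hcc : c * c = c := mul_right_cancel₀ hne (by rw [mul_assoc]; exact h2)
  rcases mul_left_eq_self₀.mp hcc with h | h
  · exact Or.inr (funext fun g => by rw [hval, h, one_mul])
  · exact Or.inl (funext fun g => by rw [hval, h, zero_mul]; rfl)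

theorem classInner_cosetAvg (f g : G → ℂ) :
    classInner (cosetAvg N f) g = classInner f (cosetAvg N g) := by
  simp only [classInner, cosetAvg, Finset.mul_sum, Finset.sum_mul, map_mul, map_inv₀, map_natCast,
    map_sum]
  rw [Finset.sum_comm]
  conv_rhs => rw [Finset.sum_comm]
  refine Fintype.sum_equiv (Equiv.inv N) _ _ fun n => ?_
  refine Fintype.sum_equiv (Equiv.mulLeft (n : G)) _ _ fun x => ?_
  simp only [Equiv.coe_mulLeft, Equiv.inv_apply, InvMemClass.coe_inv, inv_mul_cancel_left]
  ring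

/-- The averaged square of a character is a character. -/
theorem cosetAvg_sq_isCharacter {χ : G → ℂ} (hχ : IsCharacter G χ) :
    IsCharacter G (cosetAvg N (fun g => χ g * conj (χ g))) := by
  have hsq : IsCharacter G (fun g => χ g * conj (χ g)) :=
    H12.IsCharacter.mul hχ (H12.IsCharacter.star hχ)
  rw [H12.isCharacter_iff]
  refine ⟨cosetAvg_isClassFunction N (H12.IsCharacter.isClassFunction hsq), fun ψ => ?_⟩
  rw [classInner_cosetAvg]
  rcases cosetAvg_irr N ψ with h | h
  · exact ⟨0, by rw [h, H12.classInner_zero_right]; simp⟩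
  · rw [h]; exact H12.IsCharacter.classInner_nat hsq (H12.isCharacter_irr ψ)

/-- The restriction to a normal subgroup is reducible iff the character vanishes on some coset. -/
theorem not_irr_iff_vanish (χ : IrrCharacter G) :
    ¬ IsIrrCharacter ↥N (fun n : N => (χ : G → ℂ) n) ↔ ∃ x : G, ∀ n : N, (χ : G → ℂ) ((n : G) * x) = 0 := by
  classical
  have hχ := H12.isCharacter_irr χ
  set f := cosetAvg N (fun g => (χ : G → ℂ) g * conj ((χ : G → ℂ) g)) with hfdef
  have hf : IsCharacter G f := cosetAvg_sq_isCharacter N hχ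
  set r : G → ℝ := fun g => (Nat.card N : ℝ)⁻¹ * ∑ n : N, ‖(χ : G → ℂ) ((n : G) * g)‖ ^ 2 with hr
  have hfr : ∀ g, f g = (r g : ℂ) := fun g => by
    simp only [hfdef, cosetAvg, hr, Complex.mul_conj, Complex.sq_norm]
    push_cast
    rfl
  have hr0 : ∀ g, 0 ≤ r g := fun g => by positivity
  have hnorm : ∀ g, ‖f g‖ = r g := fun g => by
    rw [hfr, Complex.norm_real, Real.norm_eq_abs, abs_of_nonneg (hr0 g)]
  have hzero : ∀ g, f g = 0 ↔ ∀ n : N, (χ : G → ℂ) ((n : G) * g) = 0 := fun g => by
    rw [hfr, Complex.ofReal_eq_zero]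
    simp only [hr, mul_eq_zero, inv_eq_zero, Nat.cast_eq_zero, Nat.card_pos.ne', false_or]
    rw [Finset.sum_eq_zero_iff_of_nonneg (fun n _ => by positivity)]
    simp
  have hres : IsCharacter N (fun n : N => (χ : G → ℂ) n) := H12.IsCharacter.res hχ N
  have hone : f 1 = classInner (fun n : N => (χ : G → ℂ) n) (fun n : N => (χ : G → ℂ) n) := by
    simp [hfdef, cosetAvg, classInner]
  constructor
  · intro hred
    by_contra hcon
    push Not at hcon
    have hne : ∀ g, f g ≠ 0 := fun g h => by
      obtain ⟨n, hn⟩ := hcon g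
      exact hn ((hzero g).mp h n)
    obtain ⟨k, hk⟩ := H12.IsCharacter.classInner_nat hres hres
    have hk2 : 2 ≤ k := by
      rcases k with _ | _ | k
      · exact absurd (by rw [hone, hk]; simp) (hne 1)
      · exact absurd (H12.isIrrCharacter_of_classInner_self_eq_one hres (by simpa using hk)) hred
      · omega
    have h1 := card_le_sum_norm hf (Finset.univ.filter fun g => g ∉ N)
      (fun j hj g hg => by
        simp only [Finset.mem_filter, Finset.mem_univ, true_and] at hg ⊢
        rwa [pow_mem_iff N hj])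
      (fun g _ => hne g)
    simp only [hnorm] at h1
    have hN : ∀ g ∈ N, r g = k := fun g hg => by
      have : r g = r 1 := by
        simp only [hr, mul_one]
        congr 1
        exact Fintype.sum_equiv (Equiv.mulRight (⟨g, hg⟩ : N)) _ _ fun n => rfl
      rw [this]
      have := hfr 1
      rw [hone, hk] at this
      exact_mod_cast this.symm
    have htot : ∑ g : G, r g = (Nat.card G : ℝ) := by
      simp only [hr, ← Finset.mul_sum]
      have hrow : ∀ n : N, ∑ g : G, ‖(χ : G → ℂ) ((n : G) * g)‖ ^ 2 = (Nat.card G : ℝ) := fun n =>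
        (Fintype.sum_equiv (Equiv.mulLeft (n : G)) _ (fun g => ‖(χ : G → ℂ) g‖ ^ 2) fun g => rfl).trans
          (sum_normSq_irr χ (H12.classInner_irr_self χ))
      rw [Finset.sum_comm, Finset.sum_congr rfl (fun (n : N) _ => hrow n),
        Finset.sum_const, Finset.card_univ, nsmul_eq_mul, ← Nat.card_eq_fintype_card]
      field_simp
    have hsplit := Finset.sum_filter_add_sum_filter_not Finset.univ (fun g => g ∈ N) r
    rw [Finset.sum_congr rfl (fun g hg => hN g (Finset.mem_filter.mp hg).2), Finset.sum_const,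
      nsmul_eq_mul, htot] at hsplit
    have hcards : ((Finset.univ.filter fun g : G => g ∈ N).card : ℝ) +
        (Finset.univ.filter fun g : G => g ∉ N).card = (Nat.card G : ℝ) := by
      rw [← Nat.cast_add, Finset.card_filter_add_card_filter_not, Finset.card_univ,
        Nat.card_eq_fintype_card]
    have hpos : (1 : ℝ) ≤ (Finset.univ.filter fun g : G => g ∈ N).card := by
      exact_mod_cast Finset.card_pos.mpr ⟨1, by simp⟩
    have hk2' : (2 : ℝ) ≤ k := by exact_mod_cast hk2
    nlinarith
  · rintro ⟨x, hx⟩ hirr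
    have hk : classInner (fun n : N => (χ : G → ℂ) n) (fun n : N => (χ : G → ℂ) n) = 1 :=
      H12.classInner_irr_self ⟨_, hirr⟩
    obtain ⟨d, ρ, hρ⟩ := hf
    have hd : d = 1 := by
      have := congrFun hρ 1
      rw [hone, hk, Representation.char_one, Module.finrank_fin_fun] at this
      exact_mod_cast this
    obtain ⟨μ, h1, h2, -⟩ := H12.exists_char_eigenvalues ρ x
    have hx0 : ρ.character x = 0 := by rw [hρ]; exact (hzero x).mpr hx
    have h := h2 1
    simp only [pow_one] at h
    rw [hx0] at h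
    haveI : Subsingleton (Fin (Module.finrank ℂ (Fin d → ℂ))) := by
      rw [Module.finrank_fin_fun, hd]; infer_instance
    have i : Fin (Module.finrank ℂ (Fin d → ℂ)) := ⟨0, by rw [Module.finrank_fin_fun]; omega⟩
    rw [Fintype.sum_subsingleton _ i] at h
    have := h1 i
    rw [← h, zero_pow (orderOf_pos x).ne'] at this
    exact zero_ne_one this

end H19
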