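import Cfsg.Agent.H12.Orth
import Cfsg.Agent.H19.GaloisAvg

set_option autoImplicit false
set_option linter.unusedSectionVars false

/-!
Families of class functions with conjugate cyclotomic Fourier coefficients.
-/

open Cfsg Polynomial
open scoped ComplexConjugate

namespace H19

universe u

variable {H : Type u} [Group H] [Fintype H]

/-- `F j` has Fourier coefficients `P(ζ^j)` for integer polynomials `P`. -/
def CFam (ζ : ℂ) (F : ℕ → H → ℂ) : Prop :=
  (∀ j, IsClassFunction H (F j)) ∧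
    ∀ φ : IrrCharacter H, ∃ P : ℤ[X], ∀ j, classInner (F j) (φ : H → ℂ) = aeval (ζ ^ j) P

namespace CFam

variable {ζ : ℂ}

theorem ext' {F F' : ℕ → H → ℂ} (h : CFam ζ F) (he : ∀ j x, F j x = F' j x) : CFam ζ F' := by
  rwa [show F' = F from funext fun j => funext fun x => (he j x).symm]

theorem of_char {χ : H → ℂ} (hχ : IsCharacter H χ) : CFam ζ (fun _ => χ) :=
  ⟨fun _ => H12.IsCharacter.isClassFunction hχ, fun φ => by
    obtain ⟨m, hm⟩ := H12.IsCharacter.classInner_nat hχ (H12.isCharacter_irr φ)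
    exact ⟨C (m : ℤ), fun j => by simp [hm]⟩⟩

theorem add {F F' : ℕ → H → ℂ} (h : CFam ζ F) (h' : CFam ζ F') : CFam ζ (fun j => F j + F' j) :=
  ⟨fun j => H12.IsClassFunction.add (h.1 j) (h'.1 j), fun φ => by
    obtain ⟨P, hP⟩ := h.2 φ
    obtain ⟨Q, hQ⟩ := h'.2 φ
    exact ⟨P + Q, fun j => by rw [H12.classInner_add_left, hP, hQ, map_add]⟩⟩

theorem rootMul {F : ℕ → H → ℂ} (h : CFam ζ F) (t : ℕ) : CFam ζ (fun j => (ζ ^ j) ^ t • F j) :=
  ⟨fun j => H12.IsClassFunction.smul (h.1 j) _, fun φ => by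
    obtain ⟨P, hP⟩ := h.2 φ
    exact ⟨X ^ t * P, fun j => by rw [H12.classInner_smul_left, hP, map_mul, map_pow, aeval_X]⟩⟩

theorem intMul {F : ℕ → H → ℂ} (h : CFam ζ F) (z : ℤ) : CFam ζ (fun j => (z : ℂ) • F j) :=
  ⟨fun j => H12.IsClassFunction.smul (h.1 j) _, fun φ => by
    obtain ⟨P, hP⟩ := h.2 φ
    exact ⟨C z * P, fun j => by rw [H12.classInner_smul_left, hP, map_mul, aeval_C, eq_intCast]⟩⟩

theorem const (z : ℤ) : CFam ζ (fun _ (_ : H) => (z : ℂ)) :=
  ((of_char (χ := (H12.oneIrr H : H → ℂ)) (H12.isCharacter_irr _)).intMul z).ext'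
    fun j x => by simp [H12.oneIrr_apply]

theorem sum {ι : Type*} (s : Finset ι) {F : ι → ℕ → H → ℂ} (h : ∀ i ∈ s, CFam ζ (F i)) :
    CFam ζ (fun j => ∑ i ∈ s, F i j) := by
  classical
  induction s using Finset.induction_on with
  | empty => exact (const (H := H) (ζ := ζ) 0).ext' fun j x => by simp
  | @insert a s ha ih =>
    exact ((h a (Finset.mem_insert_self _ _)).add
      (ih fun i hi => h i (Finset.mem_insert_of_mem hi))).ext' fun j x => by
        simp [Finset.sum_insert ha]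

theorem mul {F F' : ℕ → H → ℂ} (h : CFam ζ F) (h' : CFam ζ F') : CFam ζ (fun j => F j * F' j) := by
  refine ⟨fun j x y => by simp only [Pi.mul_apply]; rw [h.1 j x y, h'.1 j x y], fun φ => ?_⟩
  choose P hP using h.2
  choose Q hQ using h'.2
  choose m hm using fun a : IrrCharacter H × IrrCharacter H =>
    H12.IsCharacter.classInner_nat
      (H12.IsCharacter.mul (H12.isCharacter_irr a.1) (H12.isCharacter_irr a.2)) (H12.isCharacter_irr φ)
  refine ⟨∑ a : IrrCharacter H × IrrCharacter H, P a.1 * Q a.2 * C (m a : ℤ), fun j => ?_⟩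
  have e : F j * F' j = ∑ a : IrrCharacter H × IrrCharacter H,
      (classInner (F j) (a.1 : H → ℂ) * classInner (F' j) (a.2 : H → ℂ)) •
        ((a.1 : H → ℂ) * (a.2 : H → ℂ)) := by
    funext x
    simp only [Pi.mul_apply, Finset.sum_apply, Pi.smul_apply, smul_eq_mul]
    rw [H12.classFunction_apply_eq_sum (h.1 j) x, H12.classFunction_apply_eq_sum (h'.1 j) x,
      Finset.sum_mul_sum, Fintype.sum_prod_type]
    exact Finset.sum_congr rfl fun a _ => Finset.sum_congr rfl fun b _ => by ring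
  show classInner (F j * F' j) _ = _
  rw [e, H12.classInner_sum_left, map_sum]
  refine Finset.sum_congr rfl fun a _ => ?_
  rw [H12.classInner_smul_left, hP, hQ, hm, map_mul, map_mul, aeval_C]
  simp

theorem poly {F : ℕ → H → ℂ} (h : CFam ζ F) (q : ℤ[X]) :
    CFam ζ (fun j x => aeval (F j x) q) := by
  induction q using Polynomial.induction_on' with
  | add a b ha hb => exact (ha.add hb).ext' fun j x => by simp
  | monomial k z =>
    induction k with
    | zero => exact (const (H := H) (ζ := ζ) z).ext' fun j x => by simp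
    | succ k ih =>
      exact (ih.mul h).ext' fun j x => by simp [pow_succ, mul_assoc]

/-- A family with values among finitely many nonzero integers has a scaled inverse. -/
theorem exists_inverse {F : ℕ → H → ℂ} (h : CFam ζ F) (S : Finset ℤ)
    (hv : ∀ j x, ∃ a ∈ S, F j x = (a : ℂ)) :
    ∃ E : ℕ → H → ℂ, CFam ζ E ∧ ∀ j x, E j x * F j x = ((∏ a ∈ S, a : ℤ) : ℂ) := by
  classical
  let P : ℤ[X] := ∏ a ∈ S, (X - C a)
  have h0 : P.coeff 0 = (-1) ^ S.card * ∏ a ∈ S, a := by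
    rw [coeff_zero_eq_eval_zero, eval_prod]
    simp only [eval_sub, eval_X, eval_C, zero_sub]
    rw [Finset.prod_neg]
  refine ⟨fun j x => aeval (F j x) (C (-((-1 : ℤ) ^ S.card)) * P.divX), h.poly _, fun j x => ?_⟩
  obtain ⟨a, ha, hFa⟩ := hv j x
  have hP0 : aeval (F j x) P = 0 := by
    rw [map_prod]
    exact Finset.prod_eq_zero ha (by simp [hFa])
  rw [← divX_mul_X_add P, map_add, map_mul, aeval_X, aeval_C, eq_intCast, h0] at hP0
  show aeval (F j x) (C (-((-1 : ℤ) ^ S.card)) * P.divX) * F j x = _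
  rw [map_mul, aeval_C, eq_intCast]
  have hsq : ((-1 : ℂ) ^ S.card) * ((-1 : ℂ) ^ S.card) = 1 := by
    rw [← mul_pow]; norm_num
  push_cast at hP0 ⊢
  linear_combination (-((-1 : ℂ) ^ S.card)) * hP0 + (∏ a ∈ S, (a : ℂ)) * hsq

end CFam

/-- Lower bound for conjugates of an integral element presented with a denominator. -/
theorem totient_le_sum_scaled {n : ℕ} (hn : 0 < n) {ζ : ℂ} (hζ : IsPrimitiveRoot ζ n) (P : ℤ[X])
    {z : ℤ} (hz : z ≠ 0) (hint : IsIntegral ℤ (aeval ζ P / (z : ℂ))) (h : aeval ζ P ≠ 0) :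
    (n.totient : ℝ) ≤ ∑ j ∈ units' n, ‖aeval (ζ ^ j) P / (z : ℂ)‖ ^ 2 := by
  have hconj : ∀ μ ∈ primitiveRoots n ℂ, IsIntegral ℤ (aeval μ P / (z : ℂ)) := by
    intro μ hμ
    have hμ' := (mem_primitiveRoots hn).mp hμ
    obtain ⟨m, hm, hm0⟩ := hint
    refine ⟨m, hm, ?_⟩
    let Q : ℚ[X] := (m.map (Int.castRingHom ℚ)).comp (C ((z : ℚ)⁻¹) * P.map (Int.castRingHom ℚ))
    have heval : ∀ w : ℂ, aeval w Q = eval₂ (algebraMap ℤ ℂ) (aeval w P / (z : ℂ)) m := by
      intro w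
      simp only [Q, aeval_comp, map_mul, aeval_C, map_inv₀, map_intCast]
      rw [show Int.castRingHom ℚ = algebraMap ℤ ℚ from rfl, aeval_map_algebraMap, aeval_map_algebraMap]
      rw [div_eq_inv_mul]
      rfl
    have h1 : minpoly ℚ ζ ∣ Q := minpoly.dvd ℚ ζ (by rw [heval]; exact hm0)
    rw [← cyclotomic_eq_minpoly_rat hζ hn, cyclotomic_eq_minpoly_rat hμ' hn] at h1
    obtain ⟨R, hR⟩ := h1
    rw [← heval, hR, map_mul, minpoly.aeval, zero_mul]
  have hne : ∀ μ ∈ primitiveRoots n ℂ, aeval μ P ≠ 0 := fun μ hμ =>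
    aeval_ne_zero_of_conj hn hζ ((mem_primitiveRoots hn).mp hμ) P h
  obtain ⟨w, hw⟩ : ∃ w : ℤ, ∏ μ ∈ primitiveRoots n ℂ, aeval μ P = (w : ℂ) := by
    refine ⟨resultant (cyclotomic n ℤ) P (cyclotomic n ℤ).natDegree P.natDegree, ?_⟩
    have hs : (cyclotomic n ℂ).Splits := IsAlgClosed.splits _
    have hres := resultant_eq_prod_eval (cyclotomic n ℂ) (P.map (Int.castRingHom ℂ)) P.natDegree
      (natDegree_map_le ..) hs
    rw [(cyclotomic.monic n ℂ).leadingCoeff, one_pow, one_mul] at hres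
    haveI : NeZero (n : ℂ) := ⟨Nat.cast_ne_zero.mpr hn.ne'⟩
    have hroots : (cyclotomic n ℂ).roots = (primitiveRoots n ℂ).val := cyclotomic.roots_eq_primitiveRoots_val
    rw [hroots, ← map_cyclotomic_int n ℂ, natDegree_map_eq_of_injective Int.cast_injective,
      resultant_map_map, eq_intCast] at hres
    rw [hres, Finset.prod_eq_multiset_prod]
    refine congrArg Multiset.prod (Multiset.map_congr rfl fun μ _ => ?_)
    simp [aeval_def, eval_map]
  have hprod : 1 ≤ ∏ μ ∈ primitiveRoots n ℂ, ‖aeval μ P / (z : ℂ)‖ ^ 2 := by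
    set q : ℚ := (w : ℚ) / (z : ℚ) ^ (primitiveRoots n ℂ).card with hq
    have hqv : ∏ μ ∈ primitiveRoots n ℂ, aeval μ P / (z : ℂ) = (q : ℂ) := by
      rw [Finset.prod_div_distrib, hw, Finset.prod_const, hq]
      push_cast
      rfl
    have hqi : IsIntegral ℤ (algebraMap ℚ ℂ q) := by
      rw [eq_ratCast, ← hqv]
      exact IsIntegral.prod _ fun μ hμ => hconj μ hμ
    obtain ⟨k, hk⟩ := IsIntegrallyClosed.isIntegral_iff.1
      ((isIntegral_algebraMap_iff (algebraMap ℚ ℂ).injective (B := ℂ)).1 hqi)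
    have hk0 : k ≠ 0 := by
      rintro rfl
      rw [map_zero] at hk
      rw [← hk, Rat.cast_zero] at hqv
      exact Finset.prod_ne_zero_iff.mpr (fun μ hμ => div_ne_zero (hne μ hμ) (Int.cast_ne_zero.mpr hz)) hqv
    rw [Finset.prod_pow, ← norm_prod, hqv, ← hk, eq_intCast, Rat.cast_intCast, Complex.norm_intCast]
    have : (1 : ℝ) ≤ |(k : ℝ)| := by exact_mod_cast Int.one_le_abs hk0
    nlinarith
  have hsum : ∑ j ∈ units' n, ‖aeval (ζ ^ j) P / (z : ℂ)‖ ^ 2 =
      ∑ μ ∈ primitiveRoots n ℂ, ‖aeval μ P / (z : ℂ)‖ ^ 2 := by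
    refine Finset.sum_bij (fun j _ => ζ ^ j) ?_ ?_ ?_ (fun j _ => rfl)
    · intro j hj
      exact (mem_primitiveRoots hn).mpr (hζ.pow_of_coprime j (mem_units'.mp hj).2.symm)
    · intro i hi j hj hij
      exact hζ.pow_inj (mem_units'.mp hi).1 (mem_units'.mp hj).1 hij
    · intro μ hμ
      haveI : NeZero n := ⟨hn.ne'⟩
      obtain ⟨j, hjn, hjc, rfl⟩ := (IsPrimitiveRoot.isPrimitiveRoot_iff hζ).mp
        ((mem_primitiveRoots hn).mp hμ)
      exact ⟨j, mem_units'.mpr ⟨hjn, hjc.symm⟩, rfl⟩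
  rw [hsum, ← hζ.card_primitiveRoots]
  refine card_le_sum_of_one_le_prod _ _ (fun μ hμ => ?_) hprod
  have := hne μ hμ
  exact pow_pos (norm_pos_iff.mpr (div_ne_zero this (Int.cast_ne_zero.mpr hz))) 2

end H19
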