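import Cfsg.Agent.H12.Equivalent
import Cfsg.Agent.H14.GallagherExt
import Mathlib

set_option autoImplicit false
set_option linter.unusedSectionVars false

/-!
Determinants of representations in terms of their irreducible constituents.
-/

open Cfsg Module

namespace H19

universe u

/-- The group of linear characters. -/
def Dual (G : Type u) [Group G] : Type u := G →* ℂˣ

namespace Dual

variable {G : Type u} [Group G]

noncomputable instance dualCommGroup : CommGroup (Dual G) := inferInstanceAs (CommGroup (G →* ℂˣ))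

instance dualFunLike : FunLike (Dual G) G ℂˣ := inferInstanceAs (FunLike (G →* ℂˣ) G ℂˣ)

instance dualMonoidHomClass : MonoidHomClass (Dual G) G ℂˣ :=
  inferInstanceAs (MonoidHomClass (G →* ℂˣ) G ℂˣ)

/-- A linear character as a homomorphism. -/
def toHom (ν : Dual G) : G →* ℂˣ := ν

/-- A homomorphism as a linear character. -/
def ofHom (f : G →* ℂˣ) : Dual G := f

theorem toHom_apply (ν : Dual G) (g : G) : ν.toHom g = ν g := rfl

theorem ofHom_apply (f : G →* ℂˣ) (g : G) : ofHom f g = f g := rfl

theorem mul_apply (ν μ : Dual G) (g : G) : (ν * μ) g = ν g * μ g := rfl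

theorem pow_apply (ν : Dual G) (k : ℕ) (g : G) : (ν ^ k) g = ν g ^ k := rfl

theorem one_apply (g : G) : (1 : Dual G) g = 1 := rfl

@[ext] theorem ext {ν μ : Dual G} (h : ∀ g, ν g = μ g) : ν = μ :=
  MonoidHom.ext h

end Dual

variable {G : Type u} [Group G] [Finite G]

/-- The determinant of a representation of an irreducible character, as a linear character. -/
noncomputable def detA (θ : IrrCharacter G) : Dual G :=
  Dual.ofHom <| Classical.choose (H14.detChar_hom θ.2)

theorem detA_apply (θ : IrrCharacter G) (g : G) :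
    (detA θ g : ℂ) = detChar (θ : G → ℂ) g :=
  (congrFun (Classical.choose_spec (H14.detChar_hom θ.2)) g).symm

theorem detA_eq_of_rep {V : Type*} [AddCommGroup V] [Module ℂ V] [FiniteDimensional ℂ V]
    (ρ : Representation ℂ G V) [ρ.IsIrreducible] (θ : IrrCharacter G)
    (h : ρ.character = (θ : G → ℂ)) : detA θ = Dual.ofHom (H14.detHom ρ) := by
  ext g
  rw [detA_apply, H14.detChar_eq ρ h, Dual.ofHom_apply, H14.detHom_apply]

theorem detA_linIrr (f : G →* ℂˣ) : detA (H12.linIrr f) = Dual.ofHom f := by
  haveI : (H12.linRep f).IsIrreducible :=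
    H12.isIrreducible_of_finrank_eq_one _ (Module.finrank_self ℂ)
  rw [detA_eq_of_rep (H12.linRep f) (H12.linIrr f) (H12.linRep_character f)]
  ext g
  rw [Dual.ofHom_apply, H14.detHom_apply]
  simp [H12.linRep, Dual.ofHom_apply]

/-- The determinant of the product with a linear character. -/
theorem exists_twist (θ : IrrCharacter G) (f : Dual G) :
    ∃ θ' : IrrCharacter G, (θ' : G → ℂ) 1 = (θ : G → ℂ) 1 ∧
      detA θ' = f ^ H12.degree (θ : G → ℂ) * detA θ := by
  obtain ⟨d, ρ, hρ, hρθ⟩ := θ.2
  haveI := hρ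
  haveI := H14.twistRep_isIrreducible f.toHom ρ
  refine ⟨⟨(H14.twistRep f.toHom ρ).character, H12.isIrrCharacter_character _⟩, ?_, ?_⟩
  · show (H14.twistRep f.toHom ρ).character 1 = (θ : G → ℂ) 1
    rw [H14.twistRep_character, Pi.mul_apply, hρθ, map_one, Units.val_one, one_mul]
  · rw [detA_eq_of_rep (H14.twistRep f.toHom ρ) _ rfl, detA_eq_of_rep ρ θ hρθ]
    refine Dual.ext fun g => ?_
    rw [Dual.ofHom_apply, H14.twistRep_det, Dual.mul_apply, Dual.pow_apply, Dual.ofHom_apply, Dual.toHom_apply]
    congr 2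
    rw [← hρθ, H12.degree_character]

theorem exists_det_decomp_aux (n : ℕ) : ∀ (V : Type) [AddCommGroup V] [Module ℂ V]
    [FiniteDimensional ℂ V] (ρ : Representation ℂ G V), finrank ℂ V = n →
    ∃ m : IrrCharacter G → ℕ, ρ.character = ∑ χ, (m χ : ℂ) • (χ : G → ℂ) ∧
      Dual.ofHom (H14.detHom ρ) = ∏ χ, detA χ ^ m χ := by
  induction n using Nat.strong_induction_on with
  | _ n ih =>
    intro V _ _ _ ρ hn
    classical
    by_cases hirr : ρ.IsIrreducible
    · refine ⟨fun χ => if χ = H12.irrOf ρ then 1 else 0, ?_, ?_⟩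
      · rw [Finset.sum_eq_single (H12.irrOf ρ) (fun χ _ hχ => by simp [hχ]) (by simp)]
        simp only [if_true, Nat.cast_one, one_smul]
        rfl
      · rw [Finset.prod_eq_single (H12.irrOf ρ) (fun χ _ hχ => by simp only [if_neg hχ]; exact pow_zero _)
          (fun h => absurd (Finset.mem_univ _) h)]
        simp only [if_true]
        exact ((pow_one _).trans (detA_eq_of_rep ρ (H12.irrOf ρ) rfl)).symm
    rcases subsingleton_or_nontrivial V with hV | hV
    · refine ⟨0, funext fun g => ?_, ?_⟩
      · have hg : ρ g = 0 := Subsingleton.elim _ _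
        simp [Representation.character, hg]
      · refine Dual.ext fun g => Units.ext ?_
        rw [Dual.ofHom_apply, H14.detHom_apply, LinearMap.det_eq_one_of_subsingleton]
        simp [Dual.one_apply]
    obtain ⟨a, b, hab, hla, hlb⟩ := H12.exists_proper_decomp ρ hirr
    obtain ⟨m₁, h₁, d₁⟩ := ih _ (hn ▸ hla) _ a.toRepresentation rfl
    obtain ⟨m₂, h₂, d₂⟩ := ih _ (hn ▸ hlb) _ b.toRepresentation rfl
    refine ⟨m₁ + m₂, ?_, ?_⟩
    · rw [H12.character_eq_add_of_isCompl ρ a b hab, h₁, h₂, ← Finset.sum_add_distrib]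
      simp [add_smul]
    · rw [Finset.prod_congr rfl fun (χ : IrrCharacter G) _ => show detA χ ^ (m₁ + m₂) χ =
        detA χ ^ m₁ χ * detA χ ^ m₂ χ from pow_add _ _ _, Finset.prod_mul_distrib, ← d₁, ← d₂]
      refine Dual.ext fun g => Units.ext ?_
      rw [Dual.mul_apply, Dual.ofHom_apply, Dual.ofHom_apply, Dual.ofHom_apply, Units.val_mul, H14.detHom_apply, H14.detHom_apply, H14.detHom_apply,
        ← LinearMap.det_prodMap, ← LinearMap.det_conj (LinearMap.prodMap (a.toRepresentation g) (b.toRepresentation g))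
          (Submodule.prodEquivOfIsCompl _ _ hab)]
      congr 1
      refine LinearMap.ext fun w => ?_
      obtain ⟨q, rfl⟩ := (Submodule.prodEquivOfIsCompl _ _ hab).surjective w
      obtain ⟨x, y⟩ := q
      simp [Subrepresentation.toRepresentation, LinearMap.restrict_apply]

/-- The determinant is the product over constituents, with multiplicities given by inner products. -/
theorem exists_det_decomp [Fintype G] {V : Type} [AddCommGroup V] [Module ℂ V]
    [FiniteDimensional ℂ V] (ρ : Representation ℂ G V) :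
    ∃ m : IrrCharacter G → ℕ, (∀ θ : IrrCharacter G, classInner ρ.character (θ : G → ℂ) = (m θ : ℂ)) ∧
      ρ.character 1 = ∑ θ, (m θ : ℂ) * (θ : G → ℂ) 1 ∧
      Dual.ofHom (H14.detHom ρ) = ∏ θ, detA θ ^ m θ := by
  obtain ⟨m, h1, h2⟩ := exists_det_decomp_aux _ V ρ rfl
  refine ⟨m, fun θ => by rw [h1, H12.classInner_sum_smul_irr (fun χ => (m χ : ℂ))], ?_, h2⟩
  have := congrFun h1 1
  simpa [Finset.sum_apply] using this

end H19
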