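import Mathlib

set_option autoImplicit false

/-!
Involutions intertwined by a linear equivalence of permutation modules have equally many fixed points.
-/

namespace H19

variable {F : Type*} [Field F] {I J : Type*} [Fintype I] [Fintype J]

/-- Functions invariant under a map. -/
def invFun' (F : Type*) [Field F] {I : Type*} (σ : I → I) : Submodule F (I → F) where
  carrier := {f | ∀ i, f (σ i) = f i}
  add_mem' := fun {a b} ha hb i => by simp [ha i, hb i]
  zero_mem' := fun i => rfl
  smul_mem' := fun c a ha i => by simp [ha i]

theorem two_mul_finrank_invFun (σ : I → I) (hσ : ∀ i, σ (σ i) = i) :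
    2 * Module.finrank F (invFun' F σ) = Fintype.card I + Nat.card {i : I // σ i = i} := by
  classical
  let e := Fintype.equivFin I
  let T : Finset I := Finset.univ.filter fun i => e i ≤ e (σ i)
  have hlin : Module.finrank F (invFun' F σ) = T.card := by
    let Φ : invFun' F σ →ₗ[F] (T → F) :=
      { toFun := fun f t => (f : I → F) t
        map_add' := fun a b => rfl
        map_smul' := fun c a => rfl }
    have hbij : Function.Bijective Φ := by
      constructor
      · intro f g h
        apply Subtype.ext
        funext i
        rcases le_total (e i) (e (σ i)) with hi | hi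
        · exact congrFun h ⟨i, Finset.mem_filter.mpr ⟨Finset.mem_univ _, hi⟩⟩
        · rw [← f.2 i, ← g.2 i]
          exact congrFun h ⟨σ i, Finset.mem_filter.mpr ⟨Finset.mem_univ _, by rwa [hσ]⟩⟩
      · intro f
        have hout : ∀ i, ¬ e i ≤ e (σ i) → e (σ i) ≤ e (σ (σ i)) := fun i h => by
          rw [hσ]; exact (not_le.mp h).le
        refine ⟨⟨fun i => if h : e i ≤ e (σ i) then f ⟨i, Finset.mem_filter.mpr ⟨Finset.mem_univ _, h⟩⟩
          else f ⟨σ i, Finset.mem_filter.mpr ⟨Finset.mem_univ _, hout i h⟩⟩, fun i => ?_⟩, ?_⟩
        · by_cases h1 : e i ≤ e (σ i) <;> by_cases h2 : e (σ i) ≤ e (σ (σ i))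
          · have heq : σ i = i := e.injective (le_antisymm (by rwa [hσ] at h2) h1)
            simp only [heq]
          · beta_reduce
            rw [dif_neg h2, dif_pos h1]
            exact congrArg f (Subtype.ext (hσ i))
          · beta_reduce
            rw [dif_neg h1, dif_pos h2]
          · exact absurd (hout i h1) h2
        · funext t
          exact dif_pos (Finset.mem_filter.mp t.2).2
    rw [(LinearEquiv.ofBijective Φ hbij).finrank_eq, Module.finrank_pi, Fintype.card_coe]
  have hcount : 2 * T.card = Fintype.card I + Nat.card {i : I // σ i = i} := by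
    have h1 : (T.image σ).card = T.card := Finset.card_image_of_injective _
      (Function.LeftInverse.injective hσ)
    have h2 : T ∪ T.image σ = Finset.univ := by
      refine Finset.eq_univ_of_forall fun i => ?_
      rcases le_total (e i) (e (σ i)) with hi | hi
      · exact Finset.mem_union_left _ (Finset.mem_filter.mpr ⟨Finset.mem_univ _, hi⟩)
      · exact Finset.mem_union_right _ (Finset.mem_image.mpr
          ⟨σ i, Finset.mem_filter.mpr ⟨Finset.mem_univ _, by rwa [hσ]⟩, hσ i⟩)
    have h3 : (T ∩ T.image σ).card = Nat.card {i : I // σ i = i} := by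
      rw [Nat.card_eq_fintype_card, Fintype.card_subtype]
      congr 1
      ext i
      simp only [T, Finset.mem_inter, Finset.mem_filter, Finset.mem_univ, true_and, Finset.mem_image]
      constructor
      · rintro ⟨ha, j, hj, rfl⟩
        rw [hσ] at ha
        rw [hσ]
        exact e.injective (le_antisymm hj ha)
      · intro h
        exact ⟨by rw [h], i, by rw [h], h⟩
    have h4 := Finset.card_union_add_card_inter T (T.image σ)
    rw [h1, h2, h3, Finset.card_univ] at h4
    omega
  rw [hlin, hcount]

/-- Mutually inverse (up to scalar) matrices commuting with involutions force equal fixed point counts. -/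
theorem card_fixed_eq_of_matrices (a : I → J → F) (b : J → I → F) (n : F) (hn : n ≠ 0)
    [DecidableEq I] [DecidableEq J]
    (hab : ∀ i i', ∑ j, a i j * b j i' = if i = i' then n else 0)
    (hba : ∀ j j', ∑ i, b j i * a i j' = if j = j' then n else 0)
    (σ : I → I) (τ : J → J) (hσ : ∀ i, σ (σ i) = i) (hτ : ∀ j, τ (τ j) = j)
    (ha : ∀ i j, a (σ i) (τ j) = a i j) :
    Nat.card {i : I // σ i = i} = Nat.card {j : J // τ j = j} := by
  let A : (J → F) →ₗ[F] (I → F) :=
    { toFun := fun f i => ∑ j, a i j * f j
      map_add' := fun f g => by funext i; simp [mul_add, Finset.sum_add_distrib]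
      map_smul' := fun c f => by funext i; simp [Finset.mul_sum, mul_left_comm] }
  let B : (I → F) →ₗ[F] (J → F) :=
    { toFun := fun f j => ∑ i, n⁻¹ * b j i * f i
      map_add' := fun f g => by funext i; simp [mul_add, Finset.sum_add_distrib]
      map_smul' := fun c f => by funext i; simp [Finset.mul_sum, mul_left_comm] }
  have hAB : ∀ f, A (B f) = f := by
    intro f; funext i
    show ∑ j, a i j * ∑ i', n⁻¹ * b j i' * f i' = f i
    simp only [Finset.mul_sum]
    rw [Finset.sum_comm]
    have : ∀ i', ∑ j, a i j * (n⁻¹ * b j i' * f i') = n⁻¹ * f i' * ∑ j, a i j * b j i' := fun i' => by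
      rw [Finset.mul_sum]; exact Finset.sum_congr rfl fun j _ => by ring
    simp only [this, hab]
    simp [mul_ite, mul_comm n⁻¹, mul_assoc, hn]
  have hBA : ∀ f, B (A f) = f := by
    intro f; funext j
    show ∑ i, n⁻¹ * b j i * ∑ j', a i j' * f j' = f j
    simp only [Finset.mul_sum]
    rw [Finset.sum_comm]
    have : ∀ j', ∑ i, n⁻¹ * b j i * (a i j' * f j') = n⁻¹ * f j' * ∑ i, b j i * a i j' := fun j' => by
      rw [Finset.mul_sum]; exact Finset.sum_congr rfl fun i _ => by ring
    simp only [this, hba]
    simp [mul_ite, mul_comm n⁻¹, mul_assoc, hn]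
  let E : (J → F) ≃ₗ[F] (I → F) := LinearEquiv.ofLinearMap A B (LinearMap.ext hAB) (LinearMap.ext hBA)
  have hcard : Fintype.card J = Fintype.card I := by
    have := E.finrank_eq
    rwa [Module.finrank_pi, Module.finrank_pi] at this
  have hA : ∀ f i, A (fun j => f (τ j)) i = A f (σ i) := by
    intro f i
    show ∑ j, a i j * f (τ j) = ∑ j, a (σ i) j * f j
    refine Fintype.sum_equiv (Equiv.mk τ τ hτ hτ) _ _ fun j => ?_
    show a i j * f (τ j) = a (σ i) (τ j) * f (τ j)
    rw [ha]
  have hmap : (invFun' F τ).map (E : (J → F) →ₗ[F] (I → F)) = invFun' F σ := by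
    ext g
    constructor
    · rintro ⟨f, hf, rfl⟩ i
      show A f (σ i) = A f i
      rw [← hA f i, show (fun j => f (τ j)) = f from funext hf]
    · intro hg
      refine ⟨B g, fun j => ?_, E.apply_symm_apply g⟩
      have h1 : A (fun j => B g (τ j)) = A (B g) := by
        funext i
        rw [hA, hAB]
        exact hg i
      exact congrFun (Function.LeftInverse.injective hBA h1) j
  have h := LinearEquiv.finrank_eq (E.submoduleMap (invFun' F τ))
  rw [hmap] at h
  have h1 := two_mul_finrank_invFun (F := F) σ hσ
  have h2 := two_mul_finrank_invFun (F := F) τ hτ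
  omega

end H19
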