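import Cfsg.Agent.H12.Orth
import Cfsg.Agent.H13.AbelianDegree

set_option autoImplicit false
set_option linter.unusedSectionVars false

/-!
Heisenberg groups of bilinear forms and their faithful irreducible characters.
-/

open Cfsg
open scoped ComplexConjugate

namespace H19

variable {p : ℕ} [Fact p.Prime] {U : Type*} [AddCommGroup U] [Module (ZMod p) U] [Finite U]

/-- The twisted product of a space with the prime field by a bilinear form. -/
@[ext] structure Heis (β : LinearMap.BilinForm (ZMod p) U) where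
  /-- Vector part. -/
  vec : U
  /-- Central part. -/
  cen : ZMod p

namespace Heis

variable {β : LinearMap.BilinForm (ZMod p) U}

instance heisMul : Mul (Heis β) := ⟨fun x y => ⟨x.vec + y.vec, x.cen + y.cen + β x.vec y.vec⟩⟩
instance heisOne : One (Heis β) := ⟨⟨0, 0⟩⟩
instance heisInv : Inv (Heis β) := ⟨fun x => ⟨-x.vec, -x.cen + β x.vec x.vec⟩⟩

@[simp] theorem mul_vec (x y : Heis β) : (x * y).vec = x.vec + y.vec := rfl
@[simp] theorem mul_cen (x y : Heis β) : (x * y).cen = x.cen + y.cen + β x.vec y.vec := rfl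
@[simp] theorem one_vec : (1 : Heis β).vec = 0 := rfl
@[simp] theorem one_cen : (1 : Heis β).cen = 0 := rfl
@[simp] theorem inv_vec (x : Heis β) : x⁻¹.vec = -x.vec := rfl
@[simp] theorem inv_cen (x : Heis β) : x⁻¹.cen = -x.cen + β x.vec x.vec := rfl

instance heisGroup : Group (Heis β) :=
  Group.ofLeftAxioms
    (fun x y z => by ext <;> simp [map_add, add_assoc, add_comm, add_left_comm])
    (fun x => by ext <;> simp)
    (fun x => by ext <;> simp [map_neg])

/-- As a set, vectors times scalars. -/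
def toProd : Heis β ≃ U × ZMod p where
  toFun x := (x.vec, x.cen)
  invFun x := ⟨x.1, x.2⟩
  left_inv _ := rfl
  right_inv _ := rfl

instance heisFinite : Finite (Heis β) := Finite.of_equiv _ toProd.symm

theorem card : Nat.card (Heis β) = Nat.card U * p := by
  rw [Nat.card_congr toProd, Nat.card_prod, Nat.card_zmod]

/-- The central generator. -/
def gen : Heis β := ⟨0, 1⟩

theorem gen_pow (a : ℕ) : (gen : Heis β) ^ a = ⟨0, (a : ZMod p)⟩ := by
  induction a with
  | zero => ext <;> simp
  | succ a ih => rw [pow_succ, ih]; ext <;> simp [gen]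

theorem gen_pow_eq_one : (gen : Heis β) ^ p = 1 := by
  rw [gen_pow]; ext <;> simp

theorem gen_comm (x : Heis β) : gen * x = x * gen := by
  ext <;> simp [gen, add_comm]

theorem gen_ne_one : (gen : Heis β) ≠ 1 := fun h => one_ne_zero (congrArg Heis.cen h)

theorem eq_gen_pow_mul (x : Heis β) : x = gen ^ x.cen.val * ⟨x.vec, 0⟩ := by
  rw [gen_pow, ZMod.natCast_zmod_val]
  ext <;> simp

theorem conj_eq (u w : U) :
    (⟨w, 0⟩ : Heis β) * ⟨u, 0⟩ * (⟨w, 0⟩ : Heis β)⁻¹ = gen ^ (β w u - β u w).val * ⟨u, 0⟩ := by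
  rw [gen_pow, ZMod.natCast_zmod_val]
  ext
  · simp
  · simp [map_add, map_neg]
    ring

/-- In an irreducible representation the central generator is a scalar. -/
theorem char_gen_mul (ψ : IrrCharacter (Heis β)) :
    ∃ c : ℂ, c ^ p = 1 ∧ ∀ x : Heis β, (ψ : Heis β → ℂ) (gen * x) = c * (ψ : Heis β → ℂ) x := by
  haveI := Fintype.ofFinite (Heis β)
  obtain ⟨n, ρ, hρ, hψ⟩ := ψ.2
  haveI := hρ
  obtain ⟨c, hc⟩ := H12.exists_scalar_of_commute ρ (ρ gen) (fun h => by rw [← map_mul, gen_comm, map_mul])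
  refine ⟨c, ?_, fun x => ?_⟩
  · have h := congrArg (fun T => T ^ p) hc
    simp only [← map_pow, gen_pow_eq_one, map_one, smul_pow, one_pow] at h
    have hnt := H12.nontrivial_of_isIrreducible ρ
    obtain ⟨v, hv⟩ := exists_ne (0 : Fin n → ℂ)
    have h2 := LinearMap.congr_fun h v
    simp only [Module.End.one_apply, LinearMap.smul_apply] at h2
    exact (smul_left_injective ℂ hv (by simpa using h2.symm) : c ^ p = 1)
  · rw [← hψ]
    show LinearMap.trace ℂ _ (ρ (gen * x)) = c * LinearMap.trace ℂ _ (ρ x)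
    rw [map_mul, hc, smul_mul_assoc, one_mul, map_smul, smul_eq_mul]

open scoped Classical in
/-- With nondegenerate commutator form, characters with nontrivial central value live on the centre
and have degree the square root of the order of the space. -/
theorem irr_structure [Fintype (Heis β)] (hnd : ∀ u, (∀ w, β w u - β u w = 0) → u = 0)
    (ψ : IrrCharacter (Heis β)) {c : ℂ} (hcp : c ^ p = 1) (hc : c ≠ 1)
    (hψ : ∀ x, (ψ : Heis β → ℂ) (gen * x) = c * (ψ : Heis β → ℂ) x) :
    (∀ x : Heis β, (ψ : Heis β → ℂ) x =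
      if x.vec = 0 then c ^ x.cen.val * (ψ : Heis β → ℂ) 1 else 0) ∧
      (H12.degree (ψ : Heis β → ℂ)) ^ 2 = Nat.card U := by
  classical
  haveI := Fintype.ofFinite U
  have hp : 0 < p := (Fact.out : p.Prime).pos
  have hpow : ∀ (a : ℕ) x, (ψ : Heis β → ℂ) (gen ^ a * x) = c ^ a * (ψ : Heis β → ℂ) x := by
    intro a x
    induction a with
    | zero => simp
    | succ a ih => rw [pow_succ', mul_assoc, hψ, ih, pow_succ', mul_assoc]
  have hvan : ∀ x : Heis β, (ψ : Heis β → ℂ) x =
      if x.vec = 0 then c ^ x.cen.val * (ψ : Heis β → ℂ) 1 else 0 := by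
    intro x
    split_ifs with hx
    · conv_lhs => rw [eq_gen_pow_mul x, hpow]
      rw [hx]
      rfl
    · obtain ⟨w, hw⟩ : ∃ w, β w x.vec - β x.vec w ≠ 0 := by
        by_contra h
        push Not at h
        exact hx (hnd _ h)
      conv_lhs => rw [eq_gen_pow_mul x, hpow]
      have h1 := H12.irr_isClassFunction ψ (⟨x.vec, 0⟩ : Heis β) ⟨w, 0⟩
      rw [conj_eq, hpow] at h1
      set k := (β w x.vec - β x.vec w).val with hk
      have hk0 : 0 < k ∧ k < p := ⟨Nat.pos_of_ne_zero fun h => hw ((ZMod.val_eq_zero _).mp h), ZMod.val_lt _⟩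
      have hck : c ^ k ≠ 1 := by
        intro h
        refine hc ?_
        have hprim : IsPrimitiveRoot c p := by
          rw [IsPrimitiveRoot.iff hp]
          refine ⟨hcp, fun l hl0 hlp hl => hc ?_⟩
          have : Nat.Coprime l p := ((Fact.out : p.Prime).coprime_iff_not_dvd.mpr
            (Nat.not_dvd_of_pos_of_lt hl0 hlp)).symm
          rw [← pow_one c, ← Nat.coprime_iff_gcd_eq_one.mp this]
          exact pow_gcd_eq_one.mpr ⟨hl, hcp⟩
        exact absurd h (hprim.pow_ne_one_of_pos_of_lt hk0.1.ne' hk0.2)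
      have h2 : (ψ : Heis β → ℂ) ⟨x.vec, 0⟩ = 0 := by
        by_contra hne
        exact hck (mul_right_cancel₀ hne (h1.trans (one_mul _).symm))
      rw [h2, mul_zero]
  refine ⟨hvan, ?_⟩
  have hnorm : ∀ x : Heis β, (ψ : Heis β → ℂ) x * conj ((ψ : Heis β → ℂ) x) =
      if x.vec = 0 then (ψ : Heis β → ℂ) 1 * (ψ : Heis β → ℂ) 1 else 0 := by
    intro x
    rw [hvan x]
    split_ifs with hx
    · rw [map_mul, map_pow, H12.irr_apply_one, Complex.conj_natCast,
        H12.conj_eq_inv_of_pow_eq_one hp.ne' hcp, inv_pow]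
      have : c ^ x.cen.val ≠ 0 := pow_ne_zero _ fun h => by
        rw [h, zero_pow hp.ne'] at hcp; exact zero_ne_one hcp
      field_simp
    · simp
  have hsum := H12.classInner_irr_self ψ
  rw [H12.classInner_def] at hsum
  simp only [hnorm] at hsum
  rw [← Equiv.sum_comp (toProd (β := β)).symm, Fintype.sum_prod_type] at hsum
  have h1 : ∀ u : U, ∀ a : ZMod p, ((toProd (β := β)).symm (u, a)).vec = u := fun _ _ => rfl
  simp only [h1, Finset.sum_const, Finset.card_univ, smul_ite, smul_zero, Finset.sum_ite_eq',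
    Finset.mem_univ, if_true, ZMod.card, nsmul_eq_mul, card, Nat.cast_mul, H12.irr_apply_one] at hsum
  have hU : (Nat.card U : ℂ) ≠ 0 := Nat.cast_ne_zero.mpr Nat.card_pos.ne'
  have hp' : (p : ℂ) ≠ 0 := Nat.cast_ne_zero.mpr hp.ne'
  field_simp at hsum
  have h2 : ((H12.degree (ψ : Heis β → ℂ)) ^ 2 : ℂ) = (Nat.card U : ℂ) := by linear_combination hsum
  exact_mod_cast h2

end Heis

end H19
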