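import Cfsg.Agent.H19.IBrCore
import Cfsg.Agent.H21.RegPart

/-!
# Irreducible Brauer characters of a block

`phi F p B c` for the classes `c` of primitive idempotents of the block `B`: on `p`-regular
elements every member of `B` is the combination of the `phi` with its decomposition numbers, the
`phi` are a basis of the span of the regular parts, dual to the projective characters `Phi`, and
integer combinations of the regular parts of the members of `B`.
-/

set_option autoImplicit false
set_option linter.unusedSectionVars false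
set_option linter.style.haveILetI false

open Cfsg Finset
open scoped MonoidAlgebra ComplexConjugate

namespace H19.IBr

universe u

variable {M : Ideal AlgInt} [hMp : M.IsPrime] {G : Type u} [Group G] [Fintype G]
variable (F : PD.Frame (MonoidAlgebra (H20.k M) G))

/-- The classes of the block. -/
abbrev CB (B : Set (IrrCharacter G)) : Type := {c : F.Cl // InBlk F B c}

noncomputable instance instFintypeCB (B : Set (IrrCharacter G)) : Fintype (CB F B) :=
  Fintype.ofFinite _

open Classical in
/-- Coordinates of the values at an element. -/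
noncomputable def vals (g : G) : F.Cl → ℂ :=
  if h : ∃ v : F.Cl → ℂ, ∀ χ : IrrCharacter G, (χ : G → ℂ) g = ∑ c, (dnum F χ c : ℂ) * v c then
    h.choose else 0

/-- The Brauer character of a class, extended by zero. -/
noncomputable def phi (p : ℕ) (B : Set (IrrCharacter G)) (c : CB F B) : G → ℂ :=
  pRegularPart p fun g => vals F g c.1

/-- The projective character of a class. -/
noncomputable def Phi (B : Set (IrrCharacter G)) (c : CB F B) : G → ℂ :=
  ∑ χ ∈ H22.blockFinset B, (dnum F χ c.1 : ℂ) • (χ : G → ℂ)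

variable [IsAlgClosed (H20.k M)] {p : ℕ} [hp : Fact p.Prime] {B : Set (IrrCharacter G)}

theorem sum_classes (hB : IsPBlock M B) {χ : IrrCharacter G} (hχ : χ ∈ B) (v : F.Cl → ℂ) :
    ∑ c, (dnum F χ c : ℂ) * v c = ∑ c : CB F B, (dnum F χ c.1 : ℂ) * v c.1 := by
  classical
  rw [← Finset.sum_subtype (univ.filter (InBlk F B)) (p := InBlk F B) (by simp)
    (fun c => (dnum F χ c : ℂ) * v c), sum_filter]
  refine sum_congr rfl fun c _ => ?_
  split_ifs with hc
  · rfl
  · rw [dnum_eq_zero F hB fun h => hc (h.1 hχ), Nat.cast_zero, zero_mul]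

/-- The members on regular elements. -/
theorem pRegularPart_eq (hM : IsPModular p M) (hB : IsPBlock M B) {χ : IrrCharacter G}
    (hχ : χ ∈ B) : pRegularPart p (χ : G → ℂ) = ∑ c : CB F B, (dnum F χ c.1 : ℂ) • phi F p B c := by
  classical
  funext g
  simp only [Finset.sum_apply, Pi.smul_apply, smul_eq_mul, phi]
  by_cases hg : p ∣ orderOf g
  · simp [H22.pRegularPart_of_dvd _ hg]
  · simp only [H22.pRegularPart_of_not_dvd _ hg]
    have h := exists_values F hM hg
    rw [show vals F g = h.choose from dif_pos h, h.choose_spec χ, sum_classes F hB hχ]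

/-- A square piece of the decomposition matrix with determinant prime to `p`. -/
theorem exists_selection (hM : IsPModular p M) (hB : IsPBlock M B) [DecidableEq (CB F B)] :
    ∃ s : CB F B → IrrCharacter G, (∀ a, s a ∈ B) ∧
      ¬ (p : ℤ) ∣ (Matrix.of fun a (b : CB F B) => (dnum F (s a) b.1 : ℤ)).det := by
  classical
  let Q : Matrix B (CB F B) (ZMod p) := Matrix.of fun χ b => (dnum F χ.1 b.1 : ZMod p)
  have hinj : Function.Injective Q.mulVec := by
    intro x y hxy
    funext c₀
    have hsub : ∀ χ : B, ∑ b, (dnum F χ.1 b.1 : ZMod p) * (x b - y b) = 0 := fun χ => by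
      have h := congrFun hxy χ
      simp only [Matrix.mulVec, dotProduct, Q, Matrix.of_apply] at h
      rw [← sub_eq_zero, ← sum_sub_distrib] at h
      rw [← h]
      exact sum_congr rfl fun b _ => by ring
    let z : F.Cl → ℤ := fun c => if hc : InBlk F B c then ((x ⟨c, hc⟩ - y ⟨c, hc⟩).val : ℤ) else 0
    have hd := dvd_of_forall_dvd F hM hB z (fun c hc => by simp [z, hc]) (fun χ hχ => ?_) c₀.1
    · rw [← ZMod.intCast_zmod_eq_zero_iff_dvd] at hd
      simpa [z, c₀.2, sub_eq_zero] using hd
    · rw [← ZMod.intCast_zmod_eq_zero_iff_dvd, ← hsub ⟨χ, hχ⟩, Int.cast_sum]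
      have e1 : ∑ b : CB F B, (dnum F χ b.1 : ZMod p) * (x b - y b) =
          ∑ c ∈ univ.filter (InBlk F B), ((z c * (dnum F χ c : ℤ) : ℤ) : ZMod p) := by
        rw [Finset.sum_subtype (univ.filter (InBlk F B)) (p := InBlk F B) (by simp)
          (fun c => ((z c * (dnum F χ c : ℤ) : ℤ) : ZMod p))]
        refine sum_congr rfl fun c _ => ?_
        simp [z, c.2, mul_comm]
      rw [e1, sum_filter]
      refine sum_congr rfl fun c _ => ?_
      split_ifs with hc
      · rfl
      · simp [z, hc]
  have hrank : Q.rank = Fintype.card (CB F B) := by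
    rw [Matrix.rank, LinearMap.finrank_range_of_inj hinj, Module.finrank_fintype_fun_eq_card]
  rw [← Matrix.rank_transpose, Matrix.rank_eq_finrank_span_cols] at hrank
  obtain ⟨v, hv, -, hvi⟩ :=
    Submodule.exists_fun_fin_finrank_span_eq (ZMod p) (Set.range Q.transpose.col)
  choose J hJ using hv
  let e : CB F B ≃ Fin (Module.finrank (ZMod p)
      (Submodule.span (ZMod p) (Set.range Q.transpose.col))) :=
    (Fintype.equivFin _).trans (finCongr hrank.symm)
  refine ⟨fun a => (J (e a)).1, fun a => (J (e a)).2, fun hdvd => ?_⟩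
  have hrows : LinearIndependent (ZMod p)
      ((Matrix.of fun a (b : CB F B) => (dnum F (J (e a)).1 b.1 : ℤ)).map (Int.castRingHom (ZMod p))).row := by
    have h := hvi.comp e e.injective
    rwa [show ((Matrix.of fun a (b : CB F B) => (dnum F (J (e a)).1 b.1 : ℤ)).map
        (Int.castRingHom (ZMod p))).row = v ∘ e from funext fun a => by
      rw [Function.comp_apply, ← hJ (e a)]
      funext b
      simp [Q, Matrix.row, Matrix.col]]
  have hu := (Matrix.isUnit_iff_isUnit_det _).1 (Matrix.linearIndependent_rows_iff_isUnit.1 hrows)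
  refine hu.ne_zero ?_
  rw [show ((Matrix.of fun a (b : CB F B) => (dnum F (J (e a)).1 b.1 : ℤ)).map (Int.castRingHom (ZMod p))) =
    (Int.castRingHom (ZMod p)).mapMatrix (Matrix.of fun a (b : CB F B) => (dnum F (J (e a)).1 b.1 : ℤ)) from rfl,
    ← RingHom.map_det, eq_intCast, ZMod.intCast_zmod_eq_zero_iff_dvd]
  exact hdvd

/-- The columns are independent. -/
theorem coord_unique (hM : IsPModular p M) (hB : IsPBlock M B) {x y : CB F B → ℂ}
    (h : ∀ χ ∈ B, ∑ c : CB F B, (dnum F χ c.1 : ℂ) * x c =
      ∑ c : CB F B, (dnum F χ c.1 : ℂ) * y c) : x = y := by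
  classical
  obtain ⟨s, hs, hdet⟩ := exists_selection F hM hB
  set D := Matrix.of fun a (b : CB F B) => (dnum F (s a) b.1 : ℤ) with hD
  have hu : IsUnit (D.map (Int.castRingHom ℂ)) := by
    rw [Matrix.isUnit_iff_isUnit_det, show (D.map (Int.castRingHom ℂ)) =
      (Int.castRingHom ℂ).mapMatrix D from rfl, ← RingHom.map_det, isUnit_iff_ne_zero, eq_intCast,
      Int.cast_ne_zero]
    exact fun h0 => hdet (h0 ▸ dvd_zero _)
  refine Matrix.mulVec_injective_iff_isUnit.2 hu ?_
  funext a
  simpa [Matrix.mulVec, dotProduct, D] using h (s a) (hs a)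

theorem phi_singular (c : CB F B) {g : G} (hg : p ∣ orderOf g) : phi F p B c g = 0 :=
  H22.pRegularPart_of_dvd _ hg

theorem phi_isClassFunction (hM : IsPModular p M) (hB : IsPBlock M B) (c : CB F B) :
    IsClassFunction G (phi F p B c) := by
  intro g h
  have key : (fun c : CB F B => phi F p B c (h * g * h⁻¹)) = fun c => phi F p B c g := by
    refine coord_unique F hM hB fun χ hχ => ?_
    have e := pRegularPart_eq F hM hB hχ
    have e1 := congrFun e (h * g * h⁻¹)
    have e2 := congrFun e g
    simp only [Finset.sum_apply, Pi.smul_apply, smul_eq_mul] at e1 e2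
    rw [← e1, ← e2]
    classical
    have ho : orderOf (h * g * h⁻¹) = orderOf g :=
      (SemiconjBy.orderOf_eq h (show SemiconjBy h g (h * g * h⁻¹) by simp [SemiconjBy])).symm
    simp only [H22.pRegularPart_apply, ho, H12.irr_isClassFunction χ g h]
  exact congrFun key c

open Classical in
theorem phi_one (hM : IsPModular p M) (hB : IsPBlock M B) (c : CB F B) :
    phi F p B c 1 = ((univ.filter fun l => F.cls l = c.1).card : ℂ) := by
  have key : (fun c : CB F B => phi F p B c 1) =
      fun c => ((univ.filter fun l => F.cls l = c.1).card : ℂ) := by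
    refine coord_unique F hM hB fun χ hχ => ?_
    have e := congrFun (pRegularPart_eq F hM hB hχ) 1
    simp only [Finset.sum_apply, Pi.smul_apply, smul_eq_mul] at e
    rw [← e, H22.pRegularPart_of_not_dvd _ (by rw [orderOf_one]; exact hp.out.not_dvd_one),
      apply_one_eq F χ]
    rw [show ∀ v : F.Cl → ℂ, ∑ c, v c * (dnum F χ c : ℂ) = ∑ c, (dnum F χ c : ℂ) * v c from
      fun v => sum_congr rfl fun c _ => mul_comm _ _, sum_classes F hB hχ]
  exact congrFun key c

/-- `phi` has positive integer degree. -/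
theorem exists_degree (hM : IsPModular p M) (hB : IsPBlock M B) (c : CB F B) :
    ∃ n : ℕ, 0 < n ∧ phi F p B c 1 = n := by
  classical
  exact ⟨_, card_pos.2 ⟨c.1.out, mem_filter.2 ⟨mem_univ _, F.cls_out _⟩⟩, phi_one F hM hB c⟩

/-- A nonzero multiple prime to `p` of every `phi` is an integral combination of regular parts. -/
theorem exists_int_comb (hM : IsPModular p M) (hB : IsPBlock M B) :
    ∃ Δ : ℤ, ¬ (p : ℤ) ∣ Δ ∧ ∀ c : CB F B, ∃ z : IrrCharacter G → ℤ,
      (Δ : ℂ) • phi F p B c =
        ∑ χ ∈ H22.blockFinset B, (z χ : ℂ) • pRegularPart p (χ : G → ℂ) := by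
  classical
  obtain ⟨s, hs, hdet⟩ := exists_selection F hM hB
  set D := Matrix.of fun a (b : CB F B) => (dnum F (s a) b.1 : ℤ) with hD
  refine ⟨D.det, hdet, fun c => ⟨fun χ => ∑ a ∈ univ.filter (fun a => s a = χ), D.adjugate c a, ?_⟩⟩
  simp only [Int.cast_sum, sum_smul]
  rw [sum_congr rfl (g := fun χ => ∑ a ∈ univ.filter (fun a => s a = χ),
    (D.adjugate c a : ℂ) • pRegularPart p ((s a : IrrCharacter G) : G → ℂ)) fun χ _ =>
      sum_congr rfl fun a ha => by rw [(mem_filter.1 ha).2],
    sum_fiberwise_of_maps_to fun a _ => H22.mem_blockFinset.2 (hs a)]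
  simp only [pRegularPart_eq F hM hB (hs _), smul_sum, smul_smul]
  rw [sum_comm, sum_congr rfl fun b _ => (sum_smul (s := univ)
    (f := fun a => (D.adjugate c a : ℂ) * (dnum F (s a) b.1 : ℂ))).symm]
  have hAD : ∀ b, ∑ a, (D.adjugate c a : ℂ) * (dnum F (s a) b.1 : ℂ) =
      if c = b then (D.det : ℂ) else 0 := fun b => by
    have h := congrFun (congrFun (Matrix.adjugate_mul D) c) b
    rw [Matrix.mul_apply, Matrix.smul_apply, Matrix.one_apply] at h
    have h' := congrArg (Int.cast (R := ℂ)) h
    simp only [Int.cast_sum, Int.cast_mul, D, Matrix.of_apply, Int.cast_natCast, smul_eq_mul,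
      mul_ite, mul_one, mul_zero, apply_ite (Int.cast (R := ℂ)), Int.cast_zero] at h'
    exact h'
  simp [hAD, ite_smul]

/-- The members of the span of the regular parts. -/
theorem phi_mem_regSpan (hM : IsPModular p M) (hB : IsPBlock M B) (c : CB F B) :
    phi F p B c ∈ H22.Sub.regSpan p B := by
  obtain ⟨Δ, hΔ, h⟩ := exists_int_comb F hM hB
  obtain ⟨z, hz⟩ := h c
  have hΔ0 : (Δ : ℂ) ≠ 0 := Int.cast_ne_zero.2 fun h0 => hΔ (h0 ▸ dvd_zero _)
  rw [← inv_smul_smul₀ hΔ0 (phi F p B c), hz]
  exact Submodule.smul_mem _ _ (Submodule.sum_mem _ fun χ hχ =>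
    Submodule.smul_mem _ _ (Submodule.subset_span ⟨χ, H22.mem_blockFinset.1 hχ, rfl⟩))

/-- The projective characters vanish off the regular elements. -/
theorem Phi_singular (hM : IsPModular p M) (hB : IsPBlock M B) (c : CB F B) {y : G}
    (hy : p ∣ orderOf y) : Phi F B c y = 0 := by
  classical
  obtain ⟨e, he, her⟩ := exists_lift (F.rep_prim c.1).idem
  let f : G → ℂ := fun g => ((univ.filter fun t : G => t * y * t⁻¹ = g).card : ℂ)
  have hf : IsClassFunction G f := fun g x => by
    simp only [f]
    congr 1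
    refine card_bij' (fun t _ => x⁻¹ * t) (fun t _ => x * t) ?_ ?_ (by simp) (by simp)
    · intro t ht
      simp only [mem_filter, mem_univ, true_and] at ht ⊢
      rw [show x⁻¹ * t * y * (x⁻¹ * t)⁻¹ = x⁻¹ * (t * y * t⁻¹) * x by group, ht]
      group
    · intro t ht
      simp only [mem_filter, mem_univ, true_and] at ht ⊢
      rw [show x * t * y * (x * t)⁻¹ = x * (t * y * t⁻¹) * x⁻¹ by group, ht]
  have hinner : ∀ χ : IrrCharacter G, classInner f (χ : G → ℂ) = conj ((χ : G → ℂ) y) := fun χ => by
    rw [H12.classInner_def]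
    simp only [f, card_eq_sum_ones, Nat.cast_sum, Nat.cast_one, sum_mul]
    rw [show ∑ g : G, ∑ t ∈ univ.filter (fun t : G => t * y * t⁻¹ = g), (1 : ℂ) * conj ((χ : G → ℂ) g) =
      ∑ t : G, conj ((χ : G → ℂ) y) from
        Eq.trans (sum_congr rfl fun g _ => sum_congr rfl (g := fun t => conj ((χ : G → ℂ) y)) fun t ht => by
          rw [one_mul, ← (mem_filter.1 ht).2, H12.irr_isClassFunction χ y t])
        (sum_fiberwise univ (fun t : G => t * y * t⁻¹) (fun _ => conj ((χ : G → ℂ) y)))]
    rw [sum_const, card_univ, nsmul_eq_mul, ← Nat.card_eq_fintype_card,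
      inv_mul_cancel_left₀ (H12.card_ne_zero' (G := G))]
  have h0 := H20.BasicAlg.chiLin_eq_of_regular hM he hf (f' := fun _ => 0) (fun _ _ => rfl)
    fun g hg => by
      simp only [f, Nat.cast_eq_zero, card_eq_zero, filter_eq_empty_iff]
      intro t _ ht
      refine hg ?_
      rwa [← ht, show orderOf (t * y * t⁻¹) = orderOf y from (SemiconjBy.orderOf_eq t
        (show SemiconjBy t y (t * y * t⁻¹) by simp [SemiconjBy])).symm]
  rw [H20.BasicAlg.sum_idem_classFunction e hf] at h0
  simp only [mul_zero, sum_const_zero] at h0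
  have h1 : conj (Phi F B c y) = 0 := by
    rw [← h0, Phi, Finset.sum_apply, map_sum, H22.blockFinset, sum_filter]
    refine sum_congr rfl fun χ _ => ?_
    rw [hinner, ← T_one_eq χ he her, dnum_spec]
    split_ifs with hχ
    · simp [mul_comm]
    · rw [dnum_eq_zero F hB fun h => hχ (h.2 c.2), Nat.cast_zero, mul_zero]
  simpa using h1

theorem classInner_irr_Phi {χ : IrrCharacter G} (hχ : χ ∈ B) (c : CB F B) :
    classInner (χ : G → ℂ) (Phi F B c) = (dnum F χ c.1 : ℂ) := by
  classical
  rw [← H12.conj_classInner, Phi, H12.classInner_sum_left, map_sum,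
    sum_eq_single χ (fun ψ _ hne => by
      rw [H12.classInner_smul_left, H12.classInner_irr_ne hne, mul_zero, map_zero])
      (fun h => absurd (H22.mem_blockFinset.2 hχ) h),
    H12.classInner_smul_left, H12.classInner_irr_self, mul_one, Complex.conj_natCast]

open Classical in
/-- Duality of `phi` and `Phi`. -/
theorem classInner_phi_Phi (hM : IsPModular p M) (hB : IsPBlock M B) (c b : CB F B) :
    classInner (phi F p B c) (Phi F B b) = if c = b then 1 else 0 := by
  have key : (fun c : CB F B => classInner (phi F p B c) (Phi F B b)) =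
      fun c => if c = b then 1 else 0 := by
    refine coord_unique F hM hB fun χ hχ => ?_
    simp only [mul_ite, mul_one, mul_zero, sum_ite_eq', mem_univ, if_true]
    rw [← classInner_irr_Phi F hχ b, sum_congr rfl fun c _ => (H12.classInner_smul_left _ _ _).symm,
      ← H12.classInner_sum_left, ← pRegularPart_eq F hM hB hχ, H12.classInner_def, H12.classInner_def]
    congr 1
    refine sum_congr rfl fun g _ => ?_
    by_cases hg : p ∣ orderOf g
    · simp [Phi_singular F hM hB b hg]
    · rw [H22.pRegularPart_of_not_dvd _ hg]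
  exact congrFun key c

theorem linearIndependent_phi (hM : IsPModular p M) (hB : IsPBlock M B) :
    LinearIndependent ℂ (phi F p B) := by
  classical
  rw [Fintype.linearIndependent_iff]
  intro x hx b
  have h := congrArg (fun f => classInner f (Phi F B b)) hx
  simp only [H12.classInner_sum_left, H12.classInner_smul_left, classInner_phi_Phi F hM hB,
    mul_ite, mul_one, mul_zero, sum_ite_eq', mem_univ, if_true, H12.classInner_zero_left] at h
  exact h

/-- The number of Brauer characters is the rank. -/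
theorem blockRank_eq (hM : IsPModular p M) (hB : IsPBlock M B) :
    blockRank p B = Fintype.card (CB F B) := by
  have h : H22.Sub.regSpan p B = Submodule.span ℂ (Set.range (phi F p B)) := by
    refine le_antisymm (Submodule.span_le.2 ?_) (Submodule.span_le.2 ?_)
    · rintro _ ⟨χ, hχ, rfl⟩
      show pRegularPart p (χ : G → ℂ) ∈ _
      rw [pRegularPart_eq F hM hB hχ]
      exact Submodule.sum_mem _ fun c _ => Submodule.smul_mem _ _ (Submodule.subset_span ⟨c, rfl⟩)
    · rintro _ ⟨c, rfl⟩
      exact phi_mem_regSpan F hM hB c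
  show Module.finrank ℂ (H22.Sub.regSpan p B) = _
  rw [h, finrank_span_eq_card (linearIndependent_phi F hM hB)]

/-- The degree of a projective character is divisible by the order of a Sylow subgroup. -/
theorem exists_Phi_degree (hM : IsPModular p M) (hB : IsPBlock M B) (c : CB F B) :
    ∃ n : ℕ, 0 < n ∧ Phi F B c 1 = ((p ^ (Nat.card G).factorization p * n : ℕ) : ℂ) := by
  classical
  let P : Sylow p G := default
  haveI : Fintype (P : Subgroup G) := Fintype.ofFinite _
  have hsum : ∀ h : (P : Subgroup G), Phi F B c h = if h = 1 then Phi F B c 1 else 0 := fun h => by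
    split_ifs with h1
    · rw [h1, Subgroup.coe_one]
    · refine Phi_singular F hM hB c ?_
      rw [Subgroup.orderOf_coe]
      obtain ⟨j, hj⟩ := IsPGroup.iff_orderOf.1 P.isPGroup' h
      rw [hj]
      refine dvd_pow_self p fun hj0 => h1 (orderOf_eq_one_iff.1 ?_)
      rw [hj, hj0, pow_zero]
  choose m hm using fun χ : IrrCharacter G => H12.IsCharacter.classInner_nat
    (H12.IsCharacter.res (H12.isCharacter_irr χ) (P : Subgroup G)) H12.isCharacter_one
  set n := ∑ χ ∈ H22.blockFinset B, dnum F χ c.1 * m χ with hn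
  have h1 : Phi F B c 1 = ((p ^ (Nat.card G).factorization p * n : ℕ) : ℂ) := by
    have hP : Nat.card (P : Subgroup G) = p ^ (Nat.card G).factorization p := P.card_eq_multiplicity
    have e : (n : ℂ) = (Nat.card (P : Subgroup G) : ℂ)⁻¹ * ∑ h : (P : Subgroup G), Phi F B c h := by
      simp only [hn, Nat.cast_sum, Nat.cast_mul, Phi, Finset.sum_apply, Pi.smul_apply, smul_eq_mul]
      rw [sum_comm (s := (univ : Finset (P : Subgroup G))), mul_sum]
      refine sum_congr rfl fun χ _ => ?_
      rw [← hm χ, H12.classInner_def, mul_sum, mul_sum, mul_sum]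
      exact sum_congr rfl fun h _ => by simp; ring
    rw [sum_congr rfl fun h _ => hsum h, sum_ite_eq', if_pos (mem_univ _)] at e
    rw [Nat.cast_mul, ← hP, e, mul_inv_cancel_left₀ (H12.card_ne_zero' (G := (P : Subgroup G)))]
  refine ⟨n, Nat.pos_of_ne_zero fun h0 => ?_, h1⟩
  rw [h0, mul_zero, Nat.cast_zero, Phi, Finset.sum_apply] at h1
  have h2 : ((∑ χ ∈ H22.blockFinset B, dnum F χ c.1 * charDegree (χ : G → ℂ) : ℕ) : ℂ) = 0 := by
    rw [← h1]
    push_cast
    exact sum_congr rfl fun χ _ => by rw [Pi.smul_apply, smul_eq_mul, H22.irr_one_eq_charDegree]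
  rw [Nat.cast_eq_zero, sum_eq_zero_iff] at h2
  have hz : ∀ χ ∈ B, dnum F χ c.1 = 0 := fun χ hχ =>
    (Nat.mul_eq_zero.1 (h2 χ (H22.mem_blockFinset.2 hχ))).resolve_right (H22.charDegree_pos χ).ne'
  have := congrFun (coord_unique F hM hB (x := fun b => if b = c then 1 else 0) (y := 0)
    fun χ hχ => by simp [hz χ hχ]) c
  simp at this

/-- The square sum of the degrees. -/
theorem sum_sq_eq (hM : IsPModular p M) (hB : IsPBlock M B) :
    ∑ χ ∈ H22.blockFinset B, (χ : G → ℂ) 1 * (χ : G → ℂ) 1 =
      ∑ c : CB F B, phi F p B c 1 * Phi F B c 1 := by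
  simp only [Phi, Finset.sum_apply, Pi.smul_apply, smul_eq_mul, mul_sum]
  rw [sum_comm]
  refine sum_congr rfl fun χ hχ => ?_
  have h := congrFun (pRegularPart_eq F hM hB (H22.mem_blockFinset.1 hχ)) 1
  simp only [Finset.sum_apply, Pi.smul_apply, smul_eq_mul] at h
  rw [H22.pRegularPart_of_not_dvd _ (by rw [orderOf_one]; exact hp.out.not_dvd_one)] at h
  conv_lhs => arg 1; rw [h]
  rw [sum_mul]
  exact sum_congr rfl fun c _ => by ring

/-- Inner products with the characters of a nilpotent `p`-prime subgroup are naturals. -/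
theorem classInner_phi_res (hM : IsPModular p M) (hB : IsPBlock M B) (R : Subgroup G) [Fintype R]
    (hR : ¬ p ∣ Nat.card R) [Group.IsNilpotent R] (ξ : IrrCharacter R) (c : CB F B) :
    ∃ n : ℕ, classInner (fun r : R => phi F p B c r) (ξ : R → ℂ) = n := by
  classical
  obtain ⟨m, hm⟩ := exists_mult_char F hM R hR ξ
  refine ⟨m c.1, ?_⟩
  have key : (fun c : CB F B => classInner (fun r : R => phi F p B c r) (ξ : R → ℂ)) =
      fun c => (m c.1 : ℂ) := by
    refine coord_unique F hM hB fun χ hχ => ?_
    rw [← sum_classes F hB hχ (fun c => (m c : ℂ)),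
      show ∑ c, (dnum F χ c : ℂ) * (m c : ℂ) = ∑ c, (m c : ℂ) * (dnum F χ c : ℂ) from
        sum_congr rfl fun c _ => mul_comm _ _, ← hm χ,
      sum_congr rfl fun c _ => (H12.classInner_smul_left _ _ _).symm, ← H12.classInner_sum_left]
    congr 1
    funext r
    have h := congrFun (pRegularPart_eq F hM hB hχ) (r : G)
    rw [H22.pRegularPart_of_not_dvd _ fun hd =>
      hR ((Subgroup.orderOf_coe r ▸ hd : p ∣ orderOf r).trans (orderOf_dvd_natCard r))] at h
    rw [h]
    simp
  exact congrFun key c

/-- `p ^ a` times a Brauer character is a generalized character. -/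
theorem isGeneralizedCharacter_tilde_phi (hM : IsPModular p M) (hB : IsPBlock M B) (c : CB F B) :
    IsGeneralizedCharacter G (H21.tilde p (phi F p B c)) := by
  classical
  have hcl := H21.isClassFunction_tilde p (phi_isClassFunction F hM hB c)
  refine H14.isGeneralizedCharacter_of_elementary _ hcl fun E ℓ hℓ hE => ?_
  haveI : Fintype E := Fintype.ofFinite E
  refine H12.isGeneralizedCharacter_iff.2 ⟨fun g h => hcl (g : G) (h : G), fun ξ => ?_⟩
  obtain ⟨R, hR, k, hk⟩ := H21.exists_regular_subgroup p hℓ hE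
  haveI : Fintype R := Fintype.ofFinite R
  haveI : Group.IsNilpotent E := H12.IsElementary.isNilpotent hℓ hE
  let R' : Subgroup G := R.map E.subtype
  haveI : Fintype R' := Fintype.ofFinite _
  let π : R ≃* R' := R.equivMapOfInjective E.subtype E.subtype_injective
  haveI : Group.IsNilpotent R' := Group.nilpotent_of_mulEquiv π
  have hR' : ¬ p ∣ Nat.card R' := by
    rw [← Nat.card_congr π.toEquiv]
    intro hd
    obtain ⟨x, hx⟩ := exists_prime_orderOf_dvd_card' p hd
    exact (hR x).1 x.2 (by rw [Subgroup.orderOf_coe, hx])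
  have hres : IsCharacter R' (fun r : R' => (ξ : E → ℂ) ((π.symm r : R) : E)) :=
    H12.IsCharacter.comp (H12.IsCharacter.res (H12.isCharacter_irr ξ) R) π.symm.toMonoidHom
  obtain ⟨mult, hmult⟩ := H12.IsCharacter.exists_mult hres
  choose n hn using fun θ => classInner_phi_res F hM hB R' hR' θ c
  set a := (Nat.card G).factorization p
  have hka : k ≤ a := by
    refine (hp.out.pow_dvd_iff_le_factorization Nat.card_pos.ne').1 ?_
    rw [← hk]
    exact (R.index_dvd_card).trans (Subgroup.card_subgroup_dvd_card E)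
  refine ⟨(p ^ (a - k) * ∑ θ, mult θ * n θ : ℕ), ?_⟩
  rw [Int.cast_natCast]
  push_cast
  have hinner : classInner (fun r : R' => phi F p B c r)
      (fun r : R' => (ξ : E → ℂ) ((π.symm r : R) : E)) = ∑ θ, (mult θ : ℂ) * (n θ : ℂ) := by
    rw [← H12.conj_classInner, hmult, H12.classInner_sum_left, map_sum]
    refine sum_congr rfl fun θ _ => ?_
    rw [H12.classInner_smul_left, map_mul, Complex.conj_natCast, H12.conj_classInner, hn θ]
  rw [← hinner, H12.classInner_def, H12.classInner_def]
  have hsum : ∑ e : E, H21.tilde p (phi F p B c) (e : G) * conj ((ξ : E → ℂ) e) =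
      ((p ^ a : ℕ) : ℂ) * ∑ r : R', phi F p B c r * conj ((ξ : E → ℂ) ((π.symm r : R) : E)) := by
    rw [mul_sum, ← Fintype.sum_equiv π.toEquiv (fun r : R => ((p ^ a : ℕ) : ℂ) *
      (phi F p B c ((r : E) : G) * conj ((ξ : E → ℂ) r))) _ (fun r => by
        show _ = _ * (phi F p B c ((π r : R') : G) * conj ((ξ : E → ℂ) ((π.symm (π r) : R) : E)))
        rw [MulEquiv.symm_apply_apply]
        rfl),
      ← sum_subset (subset_univ (univ.filter (· ∈ R)))]
    · rw [sum_subtype (p := (· ∈ R)) _ (by simp)]
      refine sum_congr rfl fun r _ => ?_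
      have := (hR r).1 r.2
      rw [← Subgroup.orderOf_coe] at this
      simp only [H21.tilde, this, if_false, a]
      ring
    · intro e _ he
      have he' : p ∣ orderOf (e : G) := by
        rw [Subgroup.orderOf_coe]
        by_contra h
        exact he (by simpa using (hR e).2 h)
      simp only [H21.tilde]
      rw [if_pos he', zero_mul]
  have hcard : (Nat.card E : ℂ) = (Nat.card R' : ℂ) * ((p : ℂ) ^ k) := by
    rw [← Nat.cast_pow, ← hk, ← Nat.card_congr π.toEquiv, ← Nat.cast_mul, Subgroup.card_mul_index]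
  rw [hsum, hcard]
  have hp0 : (p : ℂ) ≠ 0 := Nat.cast_ne_zero.2 hp.out.ne_zero
  push_cast
  rw [← mul_assoc, ← mul_assoc]
  congr 1
  rw [mul_inv, mul_assoc, mul_comm ((p : ℂ) ^ (a - k))]
  congr 1
  rw [← pow_mul_pow_sub (p : ℂ) hka, ← mul_assoc, inv_mul_cancel₀ (pow_ne_zero _ hp0), one_mul]

/-- A common divisor of the degrees in the block divides the degree of `phi`. -/
theorem dvd_degree (hM : IsPModular p M) (hB : IsPBlock M B) (c : CB F B) {d n : ℕ}
    (hd : ∀ χ ∈ B, d ∣ charDegree (χ : G → ℂ)) (hn : phi F p B c 1 = n) : d ∣ n := by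
  classical
  have h1 : ¬ p ∣ orderOf (1 : G) := by rw [orderOf_one]; exact hp.out.not_dvd_one
  obtain ⟨Δ, hΔ, hΔz⟩ := exists_int_comb F hM hB
  obtain ⟨z, hz⟩ := hΔz c
  have hA : (d : ℤ) ∣ Δ * n := by
    have h := congrFun hz 1
    simp only [Pi.smul_apply, Finset.sum_apply, smul_eq_mul, H22.pRegularPart_of_not_dvd _ h1, hn,
      H22.irr_one_eq_charDegree] at h
    have h' : Δ * (n : ℤ) = ∑ χ ∈ H22.blockFinset B, z χ * (charDegree (χ : G → ℂ) : ℤ) := by
      apply Int.cast_injective (α := ℂ)
      push_cast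
      exact h
    rw [h']
    exact dvd_sum fun χ hχ => Dvd.dvd.mul_left
      (Int.natCast_dvd_natCast.2 (hd χ (H22.mem_blockFinset.1 hχ))) _
  set a := (Nat.card G).factorization p with ha
  have hB' : (d : ℤ) ∣ ((p ^ a : ℕ) : ℤ) * n := by
    choose w hw using (H12.isGeneralizedCharacter_iff.1
      (isGeneralizedCharacter_tilde_phi F hM hB c)).2
    have hoff : ∀ ξ : IrrCharacter G, ξ ∉ B → w ξ = 0 := fun ξ hξ => by
      have hΔ0 : (Δ : ℂ) ≠ 0 := Int.cast_ne_zero.2 fun h0 => hΔ (h0 ▸ dvd_zero _)
      have e : (Δ : ℂ) • H21.tilde p (phi F p B c) =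
          ∑ χ ∈ H22.blockFinset B, (z χ : ℂ) • H21.tilde p (χ : G → ℂ) := by
        funext g
        have h := congrFun hz g
        simp only [Pi.smul_apply, Finset.sum_apply, smul_eq_mul, H21.tilde] at h ⊢
        by_cases hg : p ∣ orderOf g
        · simp [hg]
        · simp only [H22.pRegularPart_of_not_dvd _ hg] at h
          simp only [hg, if_false]
          rw [mul_left_comm, h, mul_sum]
          exact sum_congr rfl fun χ _ => by ring
      have h := congrArg (fun f => classInner f (ξ : G → ℂ)) e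
      simp only [H12.classInner_smul_left, H12.classInner_sum_left, hw] at h
      rw [sum_eq_zero fun χ hχ => by
        rw [H21.classInner_tilde_eq_zero hM hB (H22.mem_blockFinset.1 hχ) hξ, mul_zero]] at h
      exact Int.cast_eq_zero.1 ((mul_eq_zero.1 h).resolve_left hΔ0)
    have hexp := H12.classFunction_apply_eq_sum
      (H21.isClassFunction_tilde p (phi_isClassFunction F hM hB c)) 1
    have h' : ((p ^ a : ℕ) : ℤ) * (n : ℤ) = ∑ χ : IrrCharacter G, w χ * (charDegree (χ : G → ℂ) : ℤ) := by
      apply Int.cast_injective (α := ℂ)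
      simp only [Int.cast_mul, Int.cast_natCast, Int.cast_sum, ← hw, ← H22.irr_one_eq_charDegree]
      rw [← hexp, H21.tilde, if_neg h1, hn]
    rw [h']
    refine dvd_sum fun χ _ => ?_
    by_cases hχ : χ ∈ B
    · exact Dvd.dvd.mul_left (Int.natCast_dvd_natCast.2 (hd χ hχ)) _
    · simp [hoff χ hχ]
  have hcop : IsCoprime Δ ((p ^ a : ℕ) : ℤ) := by
    push_cast
    exact (((Nat.prime_iff_prime_int.1 hp.out).coprime_iff_not_dvd).2 hΔ).symm.pow_right
  obtain ⟨x, y, hxy⟩ := hcop
  have : (d : ℤ) ∣ (n : ℤ) := by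
    have h2 := dvd_add (hA.mul_left x) (hB'.mul_left y)
    rwa [← mul_assoc, ← mul_assoc, ← add_mul, hxy, one_mul] at h2
  exact_mod_cast this

end H19.IBr
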