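import Cfsg.Agent.H19.PrimDual
import Cfsg.Agent.H20.BasicCorner
import Cfsg.Agent.H20.CoprimePart
import Cfsg.Agent.H20.Kulshammer
import Cfsg.Agent.H12.Monomial
import Cfsg.Agent.H21.PrincipalSeries
import Cfsg.Agent.H23.Bridge

/-!
# Decomposition numbers from primitive idempotents

For a frame of `k[G]` (a decomposition of `1` into primitive idempotents) `dnum F χ c` is the
value of `χ` at the lift of the idempotent of the class `c`: a natural number, zero unless `χ` and
`c` lie in the same block, with linearly independent columns modulo `p`.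
-/

set_option autoImplicit false
set_option linter.unusedSectionVars false
set_option linter.style.haveILetI false

open Cfsg Finset
open scoped MonoidAlgebra ComplexConjugate

namespace H19.IBr

universe u

variable {M : Ideal AlgInt} [hMp : M.IsPrime] {G : Type u} [Group G] [Fintype G]

local notation "OG" => MonoidAlgebra (H20.O M) G
local notation "kG" => MonoidAlgebra (H20.k M) G

theorem isId_one {a : kG} (ha : a * a = a) : H23.IsId (1 : G) a :=
  ⟨ha, by ext x; rw [H23.coeff_cj]; simp⟩

theorem gO_one : H23.gO M (1 : G) = 1 := rfl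

/-- The value at an idempotent of `k[G]` through any idempotent lift. -/
theorem T_one_eq (χ : IrrCharacter G) {a : kG} {e : OG} (he : e * e = e) (h : H20.rd e = a) :
    H23.T χ (1 : G) a = H23.chiLin χ e := by
  rw [H23.T_eq χ he h (Commute.one_left e), gO_one, one_mul]

theorem exists_lift {a : kG} (ha : a * a = a) : ∃ e : OG, e * e = e ∧ H20.rd e = a := by
  obtain ⟨e, h1, h2, -⟩ := (isId_one ha).lift
  exact ⟨e, h1, h2⟩

theorem T_one_nat [IsAlgClosed (H20.k M)] (χ : IrrCharacter G) {a : kG} (ha : a * a = a) :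
    ∃ n : ℕ, H23.T χ (1 : G) a = n := by
  obtain ⟨e, he, her⟩ := exists_lift ha
  rw [T_one_eq χ he her]
  exact H20.BasicAlg.chiLin_idem_nat χ he

theorem cj_one_fix (u : kG) : H23.cj (1 : G) u = u := by
  ext x; rw [H23.coeff_cj]; simp

theorem T_one_eqv (χ : IrrCharacter G) {a b : kG} (ha : a * a = a) (hb : b * b = b)
    (h : PD.Eqv a b) : H23.T χ (1 : G) a = H23.T χ (1 : G) b := by
  obtain ⟨u, v, h1, h2⟩ := h
  exact H23.T_equiv χ (isId_one ha) (isId_one hb) (cj_one_fix u) (cj_one_fix v) h1 h2

open Classical in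
/-- A lifted block idempotent selects the characters of the block. -/
theorem chiLin_mul_block {B : Set (IrrCharacter G)} (e : OG) {z : OG}
    (hz : H20.emb z = H20.eIdem B) (χ : IrrCharacter G) :
    H23.chiLin χ (e * z) = if χ ∈ B then H23.chiLin χ e else 0 := by
  have hzc : ∀ y, (z.coeff y : ℂ) = blockCoeff B y := fun y => by
    have h := congrArg (fun w : MonoidAlgebra ℂ G => w.coeff y) hz
    simpa [H20.eIdem] using h
  simp only [H23.chiLin, H20.coeff_mul_group, AddSubmonoidClass.coe_finsetSum, MulMemClass.coe_mul,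
    sum_mul]
  rw [sum_comm]
  have key : ∀ x : G, ∑ c, (e.coeff x : ℂ) * (z.coeff (x⁻¹ * c) : ℂ) * (χ : G → ℂ) c =
      (e.coeff x : ℂ) * if χ ∈ B then (χ : G → ℂ) x else 0 := by
    intro x
    rw [← H20.sum_blockCoeff_mul_irr B χ x, mul_sum]
    refine (Fintype.sum_equiv (Equiv.mulLeft x) _ _ fun y => ?_).symm
    simp only [Equiv.coe_mulLeft]
    rw [inv_mul_cancel_left, hzc,
      show x * y = x * (y * x) * x⁻¹ by group, H12.irr_isClassFunction χ]
    ring
  rw [sum_congr rfl fun x _ => key x]
  split_ifs <;> simp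

variable (F : PD.Frame (MonoidAlgebra (H20.k M) G))

open Classical in
/-- The decomposition number. -/
noncomputable def dnum (χ : IrrCharacter G) (c : F.Cl) : ℕ :=
  if h : ∃ n : ℕ, H23.T χ (1 : G) (F.rep c) = n then h.choose else 0

/-- The class lies in the block. -/
def InBlk (B : Set (IrrCharacter G)) (c : F.Cl) : Prop :=
  F.rep c * H20.eRed M B = F.rep c

variable [IsAlgClosed (H20.k M)]

theorem dnum_spec (χ : IrrCharacter G) (c : F.Cl) :
    H23.T χ (1 : G) (F.rep c) = (dnum F χ c : ℂ) := by
  have h := T_one_nat χ (F.rep_prim c).idem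
  rw [dnum, dif_pos h]
  exact h.choose_spec

open Classical in
theorem rep_mul_eRed {B : Set (IrrCharacter G)} (hB : IsPBlock M B) (c : F.Cl) :
    F.rep c * H20.eRed M B = if InBlk F B c then F.rep c else 0 := by
  split_ifs with h
  · exact h
  · have hi := F.rep_prim c
    have hc := H20.BasicAlg.cl_commute (M := M) (B := B) (F.rep c)
    refine (hi.prim _ ?_ ?_ ?_).resolve_right h
    · calc F.rep c * H20.eRed M B * (F.rep c * H20.eRed M B)
          = F.rep c * (H20.eRed M B * F.rep c) * H20.eRed M B := by simp only [mul_assoc]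
        _ = F.rep c * F.rep c * (H20.eRed M B * H20.eRed M B) := by
          rw [← hc]; simp only [mul_assoc]
        _ = _ := by rw [hi.idem, H20.eRed_mul_self hB]
    · rw [← mul_assoc, hi.idem]
    · rw [mul_assoc, ← hc, ← mul_assoc, hi.idem]

/-- Off the block the decomposition numbers vanish. -/
theorem dnum_eq_zero {B : Set (IrrCharacter G)} (hB : IsPBlock M B) {χ : IrrCharacter G}
    {c : F.Cl} (h : ¬ (χ ∈ B ↔ InBlk F B c)) : dnum F χ c = 0 := by
  classical
  obtain ⟨z, hz, hz1, hz2⟩ := H20.exists_lift_eRed (H20.memRing_blockCoeff (M := M) hB)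
  have hzz : z * z = z := H20.emb_injective (by
    rw [show H20.emb (z * z) = H20.emb z * H20.emb z from map_mul _ _ _, hz2]
    exact H20.eIdem_mul_self _)
  obtain ⟨e, he, her⟩ := exists_lift (F.rep_prim c).idem
  have hez : e * z * (e * z) = e * z := by
    rw [mul_assoc, ← mul_assoc z, (hz.commute e).eq, mul_assoc e z, hzz, ← mul_assoc, he]
  have hrd : H20.rd (e * z) = F.rep c * H20.eRed M B := by rw [H23.rd_mul, her, hz1]
  have h1 := T_one_eq χ hez hrd
  rw [chiLin_mul_block e hz2, rep_mul_eRed F hB] at h1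
  have h2 := dnum_spec F χ c
  by_cases hχ : χ ∈ B
  · have hc : ¬ InBlk F B c := fun hh => h ⟨fun _ => hh, fun _ => hχ⟩
    rw [if_neg hc, if_pos hχ, H23.T_zero] at h1
    rw [T_one_eq χ he her, ← h1] at h2
    exact_mod_cast h2.symm
  · have hc : InBlk F B c := by
      by_contra hh; exact h ⟨fun a => absurd a hχ, fun a => absurd a hh⟩
    rw [if_pos hc, if_neg hχ] at h1
    rw [h1] at h2
    exact_mod_cast h2.symm

/-- An idempotent is a combination of the classes. -/
theorem exists_mult {a : kG} (ha : a * a = a) :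
    ∃ m : F.Cl → ℕ, ∀ χ : IrrCharacter G,
      H23.T χ (1 : G) a = ∑ c, (m c : ℂ) * (dnum F χ c : ℂ) := by
  classical
  obtain ⟨n, f, hf, -, hfo, hfs⟩ := H23.exists_decomp (k := H20.k M) a ha
  choose cl hcl using fun l => F.exists_cls (k := H20.k M) (hf l)
  refine ⟨fun c => (univ.filter fun l => cl l = c).card, fun χ => ?_⟩
  rw [← hfs, H23.T_sum χ univ f (fun l _ => isId_one (hf l).idem)
    (fun l _ m _ h => hfo l m h)]
  rw [← sum_fiberwise univ cl]
  refine sum_congr rfl fun c _ => ?_
  rw [← nsmul_eq_mul, ← sum_const]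
  refine sum_congr rfl fun l hl => ?_
  rw [T_one_eqv χ (hf l).idem (F.rep_prim _).idem (hcl l), (mem_filter.1 hl).2, dnum_spec]

open Classical in
/-- The degree is the combination with the class sizes of the frame. -/
theorem apply_one_eq (χ : IrrCharacter G) : (χ : G → ℂ) 1 =
    ∑ c : F.Cl, ((univ.filter fun l => F.cls l = c).card : ℂ) * (dnum F χ c : ℂ) := by
  rw [← H23.T_one (M := M) χ (1 : G), ← F.sum_one, H23.T_sum χ univ F.j
    (fun l _ => isId_one (F.prim l).idem) (fun l _ m _ h => F.orth l m h), ← sum_fiberwise univ F.cls]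
  refine sum_congr rfl fun c _ => ?_
  rw [← nsmul_eq_mul, ← sum_const]
  refine sum_congr rfl fun l hl => ?_
  rw [T_one_eqv χ (F.prim l).idem (F.rep_prim _).idem (F.eqv_rep l), (mem_filter.1 hl).2, dnum_spec]

/-! ### Linear characters of `p`-prime subgroups -/

variable {p : ℕ} [hp : Fact p.Prime]

/-- The idempotent of a linear character of a `p`-prime subgroup. -/
theorem exists_linear_idem (hM : IsPModular p M) (H : Subgroup G) [Fintype H]
    (hH : ¬ p ∣ Nat.card H) (ν : H →* ℂˣ) :
    ∃ e : OG, e * e = e ∧ ∀ χ : IrrCharacter G,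
      H23.chiLin χ e = classInner (fun h : H => (χ : G → ℂ) h) (fun h => (ν h : ℂ)) := by
  classical
  have hν : ∀ h : H, IsIntegral ℤ (ν h : ℂ) := fun h =>
    H12.IsCharacter.isIntegral (H12.isCharacter_monoidHom ν) h
  let a : G → ℂ := fun g => if hg : g ∈ H then (Nat.card H : ℂ)⁻¹ * (ν (⟨g, hg⟩ : H)⁻¹ : ℂ) else 0
  have hmem : ∀ g, MemLocalRing M (a g) := fun g => by
    simp only [a]
    split_ifs
    · exact H20.memRing_mul (H20.inv_natCast_memRing hM hH) (H20.memRing_of_isIntegral (hν _))
    · exact H20.memRing_natCast (M := M) 0 |> fun h => by simpa using h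
  let e : OG := H20.ofFun fun g => ⟨a g, hmem g⟩
  have hcoe : ∀ g, (e.coeff g : ℂ) = a g := fun g => rfl
  have hin : ∀ h : H, a (h : G) = (Nat.card H : ℂ)⁻¹ * (ν h⁻¹ : ℂ) := fun h => by
    simp only [a, dif_pos h.2]
  have hout : ∀ g, g ∉ H → a g = 0 := fun g hg => by simp only [a, dif_neg hg]
  have hsum : ∀ f : G → ℂ, ∑ g : G, a g * f g = ∑ h : H, a (h : G) * f (h : G) := fun f => by
    rw [← sum_subset (subset_univ (univ.filter (· ∈ H))) (fun g _ hg => by
      rw [hout g (by simpa using hg), zero_mul]), sum_subtype (p := (· ∈ H)) _ (by simp)]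
  refine ⟨e, ?_, fun χ => ?_⟩
  · ext c
    rw [H20.coeff_mul_group, AddSubmonoidClass.coe_finsetSum]
    simp only [MulMemClass.coe_mul, hcoe]
    rw [hsum fun x => a (x⁻¹ * c)]
    by_cases hc : c ∈ H
    · have : ∀ h : H, a (h : G) * a ((h : G)⁻¹ * c) =
          (Nat.card H : ℂ)⁻¹ * ((Nat.card H : ℂ)⁻¹ * (ν (⟨c, hc⟩ : H)⁻¹ : ℂ)) := fun h => by
        rw [show (h : G)⁻¹ * c = ((h⁻¹ * ⟨c, hc⟩ : H) : G) by simp, hin, hin, mul_mul_mul_comm,
          ← Units.val_mul, mul_assoc]
        congr 3
        simp [map_mul, map_inv, mul_comm]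
      rw [sum_congr rfl fun h _ => this h, sum_const, card_univ, nsmul_eq_mul,
        ← Nat.card_eq_fintype_card, ← mul_assoc, mul_inv_cancel₀ (H12.card_ne_zero' (G := H)),
        one_mul, ← hin]
    · rw [hout c hc]
      refine sum_eq_zero fun h _ => ?_
      rw [hout ((h : G)⁻¹ * c) fun hh => hc (by simpa [← mul_assoc] using H.mul_mem h.2 hh), mul_zero]
  · simp only [H23.chiLin, hcoe]
    rw [hsum, H12.classInner_def, mul_sum]
    refine sum_congr rfl fun h _ => ?_
    rw [hin, show (ν h⁻¹ : ℂ) = conj (ν h : ℂ) from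
      H12.IsCharacter.inv (H12.isCharacter_monoidHom ν) h]
    ring

/-- The multiplicities of a character of a nilpotent `p`-prime subgroup. -/
theorem exists_mult_char (hM : IsPModular p M) (R : Subgroup G) [Fintype R]
    (hR : ¬ p ∣ Nat.card R) [Group.IsNilpotent R] (ξ : IrrCharacter R) :
    ∃ m : F.Cl → ℕ, ∀ χ : IrrCharacter G, classInner (fun r : R => (χ : G → ℂ) r) (ξ : R → ℂ) =
      ∑ c, (m c : ℂ) * (dnum F χ c : ℂ) := by
  classical
  obtain ⟨H, ν, hν⟩ := H12.nilpotent_monomial R ξ
  haveI : Fintype H := Fintype.ofFinite _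
  let H' : Subgroup G := H.map R.subtype
  haveI : Fintype H' := Fintype.ofFinite _
  let π : H ≃* H' := H.equivMapOfInjective R.subtype R.subtype_injective
  have hH' : ¬ p ∣ Nat.card H' := fun h => hR (by
    rw [← Nat.card_congr π.toEquiv] at h
    exact h.trans (Subgroup.card_subgroup_dvd_card H))
  obtain ⟨e, he, hev⟩ := exists_linear_idem hM H' hH' (ν.comp π.symm.toMonoidHom)
  have hid : H20.rd e * H20.rd e = H20.rd e := by rw [← H23.rd_mul, he]
  obtain ⟨m, hm⟩ := exists_mult F hid
  refine ⟨m, fun χ => ?_⟩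
  rw [← hm χ, T_one_eq χ he rfl, hev χ, ← H12.conj_classInner, ← hν,
    H21.classInner_indFun H _ _ (fun g y => H12.irr_isClassFunction χ (g : G) (y : G)),
    H12.classInner_def, map_mul, map_inv₀, Complex.conj_natCast, map_sum,
    Nat.card_congr π.toEquiv]
  congr 1
  refine Fintype.sum_equiv π.toEquiv _ _ fun h => ?_
  rw [map_mul, Complex.conj_conj, mul_comm]
  congr 1
  simp [π, Subgroup.coe_equivMapOfInjective_apply]

/-- Values at a regular element are combinations of the decomposition numbers. -/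
theorem exists_values (hM : IsPModular p M) {g : G} (hg : ¬ p ∣ orderOf g) :
    ∃ v : F.Cl → ℂ, ∀ χ : IrrCharacter G, (χ : G → ℂ) g = ∑ c, (dnum F χ c : ℂ) * v c := by
  classical
  haveI : Fintype (Subgroup.zpowers g) := Fintype.ofFinite _
  have hR : ¬ p ∣ Nat.card (Subgroup.zpowers g) := by rwa [Nat.card_zpowers]
  haveI : Group.IsNilpotent (Subgroup.zpowers g) :=
    @CommGroup.isNilpotent _ IsCyclic.commGroup
  choose m hm using fun ξ => exists_mult_char F hM (Subgroup.zpowers g) hR ξ
  refine ⟨fun c => ∑ ξ : IrrCharacter (Subgroup.zpowers g),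
    (m ξ c : ℂ) * (ξ : Subgroup.zpowers g → ℂ) ⟨g, Subgroup.mem_zpowers g⟩, fun χ => ?_⟩
  have h := H12.classFunction_apply_eq_sum (G := Subgroup.zpowers g)
    (f := fun r : Subgroup.zpowers g => (χ : G → ℂ) r)
    (fun a b => H12.irr_isClassFunction χ (a : G) (b : G)) ⟨g, Subgroup.mem_zpowers g⟩
  rw [h, sum_congr rfl fun ξ _ => by rw [hm ξ χ, sum_mul], sum_comm]
  refine sum_congr rfl fun c _ => ?_
  rw [mul_sum]
  exact sum_congr rfl fun ξ _ => by ring

/-! ### Independence modulo `p` -/

/-- The columns of a block are independent modulo `p`. -/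
theorem dvd_of_forall_dvd (hM : IsPModular p M) {B : Set (IrrCharacter G)} (hB : IsPBlock M B)
    (z : F.Cl → ℤ) (hz : ∀ c, ¬ InBlk F B c → z c = 0)
    (h : ∀ χ ∈ B, (p : ℤ) ∣ ∑ c, z c * (dnum F χ c : ℤ)) (c₀ : F.Cl) : (p : ℤ) ∣ z c₀ := by
  classical
  haveI : Fintype (ConjClasses G) := Fintype.ofFinite _
  haveI : CharP (H20.k M) p := H20.k_charP hM
  have hall : ∀ χ : IrrCharacter G, (p : ℤ) ∣ ∑ c, z c * (dnum F χ c : ℤ) := fun χ => by
    by_cases hχ : χ ∈ B
    · exact h χ hχ
    · refine dvd_sum fun c _ => ?_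
      by_cases hc : InBlk F B c
      · simp [dnum_eq_zero F hB (χ := χ) (c := c) (fun hh => hχ (hh.2 hc))]
      · simp [hz c hc]
  choose e he her using fun c : F.Cl => exists_lift (F.rep_prim c).idem
  -- class functions against the combination
  let P : (G → ℂ) → ℂ := fun f => ∑ c, (z c : ℂ) * ∑ g : G, ((e c).coeff g : ℂ) * f g
  have hP : ∀ f, IsClassFunction G f → P f = ∑ χ : IrrCharacter G,
      classInner f (χ : G → ℂ) * ((∑ c, z c * (dnum F χ c : ℤ) : ℤ) : ℂ) := by
    intro f hf
    simp only [P]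
    rw [sum_congr rfl fun c _ => by rw [H20.BasicAlg.sum_idem_classFunction (e c) hf, mul_sum],
      sum_comm]
    refine sum_congr rfl fun χ _ => ?_
    push_cast
    rw [mul_sum]
    refine sum_congr rfl fun c _ => ?_
    rw [← T_one_eq χ (he c) (her c), dnum_spec]
    ring
  have hPeq : ∀ f f', IsClassFunction G f → IsClassFunction G f' →
      (∀ g : G, ¬ p ∣ orderOf g → f g = f' g) → P f = P f' := fun f f' hf hf' hff =>
    sum_congr rfl fun c _ => by
      rw [H20.BasicAlg.chiLin_eq_of_regular hM (he c) hf hf' hff]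
  let S : ConjClasses G → H20.O M := fun C =>
    ∑ c, (z c : H20.O M) * ∑ g ∈ univ.filter (fun g => ConjClasses.mk g = C), (e c).coeff g
  have hS : ∀ C, (S C : ℂ) = P (fun g => if IsConj g C.out then (1 : ℂ) else 0) := by
    intro C
    simp only [S, P, AddSubmonoidClass.coe_finsetSum, MulMemClass.coe_mul, SubringClass.coe_intCast]
    refine sum_congr rfl fun c _ => ?_
    congr 1
    rw [sum_filter]
    refine sum_congr rfl fun g _ => ?_
    have hiff : ConjClasses.mk g = C ↔ IsConj g C.out := by
      conv_lhs => rw [← Quotient.out_eq C]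
      exact ConjClasses.mk_eq_mk_iff_isConj
    by_cases hgC : IsConj g C.out
    · rw [if_pos (hiff.2 hgC), if_pos hgC, mul_one]
    · rw [if_neg (mt hiff.1 hgC), if_neg hgC, mul_zero]
  have hcls : ∀ y : G, IsClassFunction G fun g => if IsConj g y then (1 : ℂ) else 0 := fun y g x =>
    if_congr ⟨fun h' => (isConj_iff.2 ⟨x, rfl⟩).trans h',
      fun h' => (isConj_iff.2 ⟨x, rfl⟩).symm.trans h'⟩ rfl rfl
  have hS0 : ∀ C, H20.red M (S C) = 0 := by
    intro C
    by_cases hC : p ∣ orderOf C.out
    · have h0 : (S C : ℂ) = 0 := by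
        rw [hS, hPeq _ (fun _ => 0) (hcls _) (fun _ _ => rfl) fun g hg => if_neg fun hconj => hg (by
          obtain ⟨x, hx⟩ := isConj_iff.1 hconj
          rw [← hx] at hC
          rwa [show orderOf (x * g * x⁻¹) = orderOf g from (SemiconjBy.orderOf_eq x
            (show SemiconjBy x g (x * g * x⁻¹) by simp [SemiconjBy])).symm] at hC)]
        simp [P]
      rw [show S C = 0 from Subtype.ext h0, map_zero]
    · set a := (Nat.card G).factorization p with ha
      set n := Nat.card G / p ^ a with hn
      have hmn : Nat.card G = n * p ^ a := by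
        rw [hn, Nat.div_mul_cancel (Nat.ordProj_dvd _ _)]
      have hnp : ¬ p ∣ n := Nat.not_dvd_ordCompl hp.out Nat.card_pos.ne'
      have hcop : n.Coprime (p ^ a) :=
        ((Nat.Prime.coprime_iff_not_dvd hp.out).2 hnp).symm.pow_right a
      obtain ⟨E, hE1, hE0, hEfix, -, -⟩ := H20.exists_coprime_exp (G := G) hmn hcop
      have hreg : ∀ g : G, ¬ p ∣ orderOf g →
          H20.partFun E n C.out g = (n : ℂ) * if IsConj g C.out then (1 : ℂ) else 0 := by
        intro g hg
        rw [H20.partFun, hEfix g (((Nat.Prime.coprime_iff_not_dvd hp.out).2 hg).symm.pow_right a)]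
        split_ifs <;> simp
      have h1 : (n : ℂ) * (S C : ℂ) = P (H20.partFun E n C.out) := by
        rw [hPeq _ (fun g => (n : ℂ) * if IsConj g C.out then (1 : ℂ) else 0)
          (H20.isClassFunction_partFun E n _) (fun g x => congrArg ((n : ℂ) * ·) (hcls C.out g x)) hreg,
          hS]
        simp only [P, mul_sum]
        exact sum_congr rfl fun c _ => sum_congr rfl fun g _ => by ring
      rw [hP _ (H20.isClassFunction_partFun E n _)] at h1
      have h2 : MemLocalIdeal M ((n : ℂ) * (S C : ℂ)) := by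
        rw [h1]
        have hterm : ∀ χ : IrrCharacter G, MemLocalIdeal M
            (classInner (H20.partFun E n C.out) (χ : G → ℂ) *
              ((∑ c, z c * (dnum F χ c : ℤ) : ℤ) : ℂ)) := fun χ =>
          H20.memIdeal_mul (H20.memRing_of_isIntegral
            (H20.isIntegral_classInner_partFun hmn hcop hE1 hE0 C.out χ))
            ((H20.intCast_memIdeal_iff hM _).2 (hall χ))
        exact sum_induction _ (fun x => MemLocalIdeal M x) (fun _ _ => H20.memIdeal_add)
          H20.memIdeal_zero fun χ _ => hterm χ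
      have h3 : (n : H20.k M) * H20.red M (S C) = 0 := by
        rw [← map_natCast (H20.red M), ← map_mul, H20.red_eq_zero_iff, MulMemClass.coe_mul]
        simpa using h2
      refine (mul_eq_zero.1 h3).resolve_left fun h4 => hnp ?_
      rwa [CharP.cast_eq_zero_iff (H20.k M) p] at h4
  -- the functional
  let f : G → H20.k M := fun g => F.tau (H20.k M) c₀ (MonoidAlgebra.single g 1)
  have hfconj : ∀ g x : G, f (x * g * x⁻¹) = f g := fun g x => by
    simp only [f]
    rw [show (MonoidAlgebra.single (x * g * x⁻¹) (1 : H20.k M)) =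
        MonoidAlgebra.single x 1 * (MonoidAlgebra.single g 1 * MonoidAlgebra.single x⁻¹ 1) by
      simp [MonoidAlgebra.single_mul_single, mul_assoc],
      F.tau_mul_comm, mul_assoc]
    simp [MonoidAlgebra.single_mul_single]
  have htau : ∀ a : kG, F.tau (H20.k M) c₀ a = ∑ g : G, a.coeff g * f g := fun a => by
    conv_lhs => rw [show a = ∑ g : G, a.coeff g • MonoidAlgebra.single g (1 : H20.k M) by
      ext t; simp [MonoidAlgebra.coeff_sum, Finsupp.single_apply]]
    rw [map_sum]
    exact sum_congr rfl fun g _ => by rw [map_smul, smul_eq_mul]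
  have key : (z c₀ : H20.k M) = 0 := by
    calc (z c₀ : H20.k M) = ∑ c, (z c : H20.k M) * F.tau (H20.k M) c₀ (F.rep c) := by
          simp [F.tau_rep]
      _ = ∑ c, (z c : H20.k M) * ∑ g : G, H20.red M ((e c).coeff g) * f g :=
          sum_congr rfl fun c _ => by
            rw [htau, ← her c]
            simp only [H20.coeff_rd]
      _ = ∑ C : ConjClasses G, H20.red M (S C) * f C.out := by
          simp only [S, map_sum, map_mul, map_intCast, sum_mul, mul_sum]
          rw [sum_comm (s := (univ : Finset (ConjClasses G)))]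
          refine sum_congr rfl fun c _ => ?_
          rw [← sum_fiberwise univ (fun g : G => ConjClasses.mk g)]
          refine sum_congr rfl fun C _ => sum_congr rfl fun g hg => ?_
          have hgC : IsConj g C.out := by
            refine ConjClasses.mk_eq_mk_iff_isConj.1 ((mem_filter.1 hg).2.trans ?_)
            exact (Quotient.out_eq C).symm
          obtain ⟨x, hx⟩ := isConj_iff.1 hgC
          rw [← hx, hfconj]
          ring
      _ = 0 := sum_eq_zero fun C _ => by rw [hS0, zero_mul]
  exact (CharP.intCast_eq_zero_iff (H20.k M) p _).1 key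

end H19.IBr
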