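import Cfsg.Agent.H14.DegreeIndex
import Cfsg.Agent.H10.PSolvable
import Cfsg.Agent.H13.PermutationLemma
import Cfsg.Agent.H12.Glauberman
import Cfsg.Agent.H27.ConjUnion

set_option autoImplicit false
set_option linter.unusedSectionVars false

/-!
Itô: in a `p`-solvable group every irreducible character has degree prime to `p` exactly when
a Sylow `p`-subgroup is normal and abelian.
-/

open Cfsg

namespace H19.ItoSylow

universe u

variable {G : Type u} [Group G] [Finite G] {p : ℕ} [Fact p.Prime]

theorem not_dvd_of_normal_abelian (P : Sylow p G) (hn : (P : Subgroup G).Normal)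
    (hab : ∀ a ∈ (P : Subgroup G), ∀ b ∈ (P : Subgroup G), a * b = b * a) (χ : IrrCharacter G) :
    ¬ p ∣ H12.degree (χ : G → ℂ) := by
  haveI := hn
  exact fun h => P.not_dvd_index
    (h.trans (H14.degree_dvd_index_of_abelian_coprime (P : Subgroup G) hab P.card_coprime_index χ))

theorem degrees_normal (N : Subgroup G) [N.Normal]
    (hdeg : ∀ χ : IrrCharacter G, ¬ p ∣ H12.degree (χ : G → ℂ)) (θ : IrrCharacter N) :
    ¬ p ∣ H12.degree (θ : N → ℂ) := by
  obtain ⟨χ, hχ⟩ := H14.exists_degree_dvd N θ
  exact fun h => hdeg χ (h.trans hχ)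

theorem degrees_quotient (N : Subgroup G) [N.Normal]
    (hdeg : ∀ χ : IrrCharacter G, ¬ p ∣ H12.degree (χ : G → ℂ)) (ψ : IrrCharacter (G ⧸ N)) :
    ¬ p ∣ H12.degree (ψ : G ⧸ N → ℂ) := by
  have h : H12.degree (H12.inflate N ψ : G → ℂ) = H12.degree (ψ : G ⧸ N → ℂ) := by
    unfold H12.degree
    rw [H12.inflate_apply]
    rfl
  exact h ▸ hdeg _

/-- the inertia index of a character of a normal subgroup divides the degree of a character over it -/
theorem exists_inertia_index_dvd (N : Subgroup G) [N.Normal] [Fintype N] (θ : IrrCharacter N) :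
    ∃ χ : IrrCharacter G, (H13.inertia N (θ : N → ℂ)).index ∣ H12.degree (χ : G → ℂ) := by
  classical
  haveI := Fintype.ofFinite G
  obtain ⟨χ, hχ⟩ : ∃ χ : IrrCharacter G, classInner (indFun N (θ : N → ℂ)) χ ≠ 0 := by
    by_contra h0
    simp only [not_exists, not_not] at h0
    have h := congrFun (H12.eq_zero_of_classInner_irr_eq_zero (H13.indFun_isClassFunction N _) h0) 1
    rw [H13.indFun_apply_one, Pi.zero_apply, mul_eq_zero] at h
    rcases h with h | h
    · exact Nat.cast_ne_zero.mpr Subgroup.index_ne_zero_of_finite h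
    · exact H12.irr_apply_one_ne_zero θ h
  have hne : classInner (fun n : N => (χ : G → ℂ) n) (θ : N → ℂ) ≠ 0 := by
    rw [H13.classInner_indFun_left N _ (H12.irr_isClassFunction χ)] at hχ
    rw [← H12.conj_classInner]
    simpa using hχ
  obtain ⟨e, he⟩ := H12.IsCharacter.classInner_nat
    (H12.IsCharacter.res (H12.isCharacter_irr χ) N) (H12.isCharacter_irr θ)
  have hcl := H13.clifford_degree N χ.2 θ.2 hne
  rw [he, H12.irr_apply_one θ, H12.irr_apply_one χ] at hcl
  refine ⟨χ, e * H12.degree (θ : N → ℂ), ?_⟩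
  have h' : H12.degree (χ : G → ℂ) =
      e * (H13.inertia N (θ : N → ℂ)).index * H12.degree (θ : N → ℂ) := by exact_mod_cast hcl
  rw [h']; ring

/-- A normal `p'`-subgroup with quotient covered by a `p`-subgroup `P` is centralised by `P`
when all degrees are prime to `p`. -/
theorem le_centralizer_of_degrees (N P : Subgroup G) [N.Normal] (hN : ¬ p ∣ Nat.card N)
    (hP : IsPGroup p P) (htop : P ⊔ N = ⊤)
    (hdeg : ∀ χ : IrrCharacter G, ¬ p ∣ H12.degree (χ : G → ℂ)) :
    N ≤ Subgroup.centralizer (P : Set G) := by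
  classical
  haveI := Fintype.ofFinite N
  have hp : p.Prime := Fact.out
  obtain ⟨k, hk⟩ := IsPGroup.iff_card.mp hP
  have hidx : N.index ∣ p ^ k := by
    have h1 : N.index = N.relIndex P := by
      rw [← Subgroup.relIndex_top_right, ← htop, Subgroup.relIndex_sup_right]
    rw [h1, ← hk]
    exact Subgroup.index_dvd_card _
  have hfix : ∀ θ : IrrCharacter N, H13.inertia N (θ : N → ℂ) = ⊤ := by
    intro θ
    obtain ⟨χ, hχ⟩ := exists_inertia_index_dvd N θ
    have h2 : (H13.inertia N (θ : N → ℂ)).index ∣ p ^ k :=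
      (Subgroup.index_dvd_of_le (H13.le_inertia N (H12.irr_isClassFunction θ))).trans hidx
    obtain ⟨j, -, hj⟩ := (Nat.dvd_prime_pow hp).mp h2
    rcases Nat.eq_zero_or_pos j with rfl | hjpos
    · exact Subgroup.index_eq_one.mp (by rw [hj, pow_zero])
    · exact absurd ((dvd_pow_self p hjpos.ne').trans (hj ▸ hχ)) (hdeg χ)
  let φ : P →* MulAut N := (MulAut.conjNormal).comp P.subtype
  have hφ : ∀ (s : P) (n : N), ((φ s n : N) : G) = (s : G) * n * (s : G)⁻¹ := fun s n =>
    MulAut.conjNormal_apply ..
  have hirr : ∀ (s : P) (θ : IrrCharacter N), (θ : N → ℂ) ∘ (φ s) = (θ : N → ℂ) := by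
    intro s θ
    have h := (H13.mem_inertia N).mp ((hfix θ).symm ▸ Subgroup.mem_top (s : G))
    funext n
    have h' := congrFun h n
    rw [H13.twist_apply] at h'
    rw [Function.comp_apply]
    exact (congrArg (θ : N → ℂ) (Subtype.ext (hφ s n))).trans h'
  have hcl : ∀ (s : P) (K : ConjClasses N), ConjClasses.map (φ s).toMonoidHom K = K := by
    intro s K
    have h := H13.card_fixed_irr_mulEquiv (G := N) (φ s)
    have hall : Nat.card {θ : IrrCharacter N // (θ : N → ℂ) ∘ (φ s) = (θ : N → ℂ)} =
        Nat.card (ConjClasses N) := by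
      rw [← H12.card_irrCharacter]
      exact Nat.card_congr (Equiv.subtypeUnivEquiv (hirr s))
    rw [hall] at h
    by_contra hne
    have hlt := Finite.card_subtype_lt
      (p := fun C : ConjClasses N => ConjClasses.map (φ s).toMonoidHom C = C) hne
    omega
  let C : Subgroup N := (Subgroup.centralizer (P : Set G)).subgroupOf N
  have hC : ∀ g : N, g ∈ C ↔ ∀ s : P, φ s g = g := by
    intro g
    simp only [C, Subgroup.mem_subgroupOf, Subgroup.mem_centralizer_iff, SetLike.mem_coe,
      Subtype.forall]
    refine forall₂_congr fun s hs => ?_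
    rw [Subtype.ext_iff, hφ, mul_inv_eq_iff_eq_mul]
  have hCtop : C = ⊤ := by
    apply H27.eq_top_of_forall_conj_mem
    intro g
    obtain ⟨c, hc⟩ := H12.Glauberman.exists_fixed_in_class (φ := φ) hP hN hC
      (K := ConjClasses.mk g) (fun s x hx => by
        have := hcl s (ConjClasses.mk g)
        rw [← hx] at this
        exact this.trans hx)
    obtain ⟨x, hx⟩ := isConj_iff.mp (ConjClasses.mk_eq_mk_iff_isConj.mp hc)
    refine ⟨x, ?_⟩
    rw [show x⁻¹ * g * x = (c : N) by rw [← hx]; group]
    exact c.2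
  intro n hn
  have : (⟨n, hn⟩ : N) ∈ C := hCtop.symm ▸ Subgroup.mem_top _
  exact this

theorem sylow_normal_aux : ∀ (m : ℕ) (G : Type u) [Group G] [Finite G], Nat.card G < m →
    IsPSolvable p G → (∀ χ : IrrCharacter G, ¬ p ∣ H12.degree (χ : G → ℂ)) →
    ∀ P : Sylow p G, (P : Subgroup G).Normal := by
  intro m
  induction m with
  | zero => intro G _ _ h; simp at h
  | succ m ih =>
    intro G _ _ hm hps hdeg P
    rcases subsingleton_or_nontrivial G with hs | hs
    · rw [Subsingleton.elim (P : Subgroup G) ⊥]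
      infer_instance
    have hquot : ∀ N : Subgroup G, ∀ [N.Normal], N ≠ ⊥ → ((P : Subgroup G) ⊔ N).Normal := by
      intro N hN hne
      have hlt := H10.card_quotient_lt N hne
      let Q := P.mapSurjective (QuotientGroup.mk'_surjective N)
      have hQ := ih (G ⧸ N) (by omega) (H10.isPSolvable_quotient hps N)
        (degrees_quotient N hdeg) Q
      have heq : ((P : Subgroup G) ⊔ N) = (Q : Subgroup (G ⧸ N)).comap (QuotientGroup.mk' N) := by
        rw [Sylow.coe_mapSurjective, Subgroup.comap_map_eq, QuotientGroup.ker_mk']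
      rw [heq]
      exact hQ.comap _
    rcases H10.pCore_or_pPrimeCore_ne_bot hps with h | h
    · have := hquot (pCore p G) h
      rwa [sup_eq_left.mpr (H10.pCore_le_sylow P)] at this
    · set N := pPrimeCore p G with hNdef
      have hKn := hquot N h
      by_cases htop : (P : Subgroup G) ⊔ N = ⊤
      · have hc := le_centralizer_of_degrees N (P : Subgroup G)
          ((Nat.Prime.coprime_iff_not_dvd Fact.out).mp (H10.pPrimeCore_coprime (p := p) (G := G)).symm)
          P.isPGroup' htop hdeg
        refine Subgroup.normalizer_eq_top_iff.mp (eq_top_iff.mpr ?_)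
        rw [← htop]
        exact sup_le Subgroup.le_normalizer (hc.trans (Subgroup.centralizer_le_normalizer _))
      · set K := (P : Subgroup G) ⊔ N with hK
        have hlt : Nat.card K < m := by
          have h1 := K.card_mul_index
          have h2 : K.index ≠ 1 := fun h => htop (Subgroup.index_eq_one.mp h)
          have h3 : K.index ≠ 0 := Subgroup.index_ne_zero_of_finite
          have h4 : Nat.card K * 2 ≤ Nat.card K * K.index := Nat.mul_le_mul_left _ (by omega)
          have h5 := Nat.card_pos (α := K)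
          omega
        have hPK := ih K hlt (H10.isPSolvable_subgroup hps K) (degrees_normal K hdeg)
          (P.subtype le_sup_left)
        haveI := Sylow.characteristic_of_normal (P.subtype le_sup_left) hPK
        have := H10.map_subtype_normal hKn ((P.subtype le_sup_left : Sylow p K) : Subgroup K)
        rwa [Sylow.coe_subtype, Subgroup.map_subgroupOf_eq_of_le le_sup_left] at this

theorem normal_and_abelian (hps : IsPSolvable p G)
    (hdeg : ∀ χ : IrrCharacter G, ¬ p ∣ H12.degree (χ : G → ℂ)) (P : Sylow p G) :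
    (P : Subgroup G).Normal ∧ ∀ a ∈ (P : Subgroup G), ∀ b ∈ (P : Subgroup G), a * b = b * a := by
  classical
  have hn := sylow_normal_aux (p := p) _ G (Nat.lt_succ_self _) hps hdeg P
  refine ⟨hn, fun a ha b hb => ?_⟩
  haveI := hn
  haveI := Fintype.ofFinite (P : Subgroup G)
  have hlin : ∀ θ : IrrCharacter (P : Subgroup G), (θ : ((P : Subgroup G) : Type u) → ℂ) 1 = 1 := by
    intro θ
    obtain ⟨k, hk⟩ := IsPGroup.iff_card.mp P.isPGroup'
    have hd := H12.irr_degree_dvd_card θ
    rw [hk] at hd
    obtain ⟨j, -, hj⟩ := (Nat.dvd_prime_pow (Fact.out : p.Prime)).mp hd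
    rcases Nat.eq_zero_or_pos j with rfl | hjpos
    · rw [H12.irr_apply_one, hj, pow_zero, Nat.cast_one]
    · exact absurd (hj ▸ dvd_pow_self p hjpos.ne') (degrees_normal (P : Subgroup G) hdeg θ)
  exact congrArg Subtype.val (H13.commutative_of_all_linear hlin ⟨a, ha⟩ ⟨b, hb⟩)

end H19.ItoSylow
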