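import Cfsg.Agent.H19.MajorBound
import Mathlib.LinearAlgebra.FreeModule.PID

set_option autoImplicit false
set_option linter.unusedSectionVars false

/-!
`k(B) ≤ p^d` when a major subsection has rank at most two.

The contributions of a subsection are evaluated on the lattice spanned by the scaled inner
products of the local block; a reduced basis of this lattice gives the bound.
-/

open Cfsg Polynomial
open scoped ComplexConjugate

namespace H19.RankTwo

open H19.MajorBound

universe u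

/-! ### Binary forms -/

/-- The reduced case. -/
theorem binary_reduced {ι : Type*} (S : Finset ι) {n : ℕ} (hn : 0 < n) {ζ : ℂ}
    (hζ : IsPrimitiveRoot ζ n) (P : ℝ) (hP : 0 ≤ P) (A B C : ℤ) (a₁ a₂ : ι → ℤ[X])
    (hA : 0 < A) (hB : 2 * |B| ≤ A) (hC : A ≤ C)
    (hne : ∀ i ∈ S, aeval ζ (a₁ i) ≠ 0 ∨ aeval ζ (a₂ i) ≠ 0)
    (hone : A = 1 → B = 0 → ∀ i ∈ S, aeval ζ (a₁ i) ≠ 0)
    (hrel : ∀ j ∈ H19.units' n, ∀ α β : ℤ,
      ∑ i ∈ S, ‖(α : ℂ) * ((A : ℂ) * aeval (ζ ^ j) (a₁ i) + (B : ℂ) * aeval (ζ ^ j) (a₂ i)) +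
          (β : ℂ) * ((B : ℂ) * aeval (ζ ^ j) (a₁ i) + (C : ℂ) * aeval (ζ ^ j) (a₂ i))‖ ^ 2 =
        P * ((α ^ 2 * A + 2 * α * β * B + β ^ 2 * C : ℤ) : ℝ)) :
    (S.card : ℝ) ≤ P := by
  classical
  have hφ : (0 : ℝ) < (n.totient : ℝ) := by exact_mod_cast Nat.totient_pos.2 hn
  have havg : ∀ q : ℤ[X], aeval ζ q ≠ 0 →
      (n.totient : ℝ) ≤ ∑ j ∈ H19.units' n, ‖aeval (ζ ^ j) q‖ ^ 2 :=
    fun q hq => H19.totient_le_sum_normSq hn hζ q hq
  by_cases hA1 : A = 1
  · have hB0 : B = 0 := by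
      have := abs_nonneg B
      have : |B| = 0 := by omega
      exact abs_eq_zero.1 this
    subst hA1 hB0
    have h1 : ∀ j ∈ H19.units' n, ∑ i ∈ S, ‖aeval (ζ ^ j) (a₁ i)‖ ^ 2 = P := fun j hj => by
      have h := hrel j hj 1 0
      norm_num at h
      exact h
    have hbig := Finset.sum_le_sum fun i hi => havg (a₁ i) (hone rfl rfl i hi)
    rw [Finset.sum_comm, Finset.sum_congr rfl h1, Finset.sum_const, Finset.sum_const,
      H19.card_units', nsmul_eq_mul, nsmul_eq_mul] at hbig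
    refine le_of_mul_le_mul_left ?_ hφ
    linarith
  · set b := |B| with hb
    obtain ⟨σ, hσ, hσB⟩ : ∃ σ : ℤ, (σ = 1 ∨ σ = -1) ∧ σ * B = b := by
      rcases le_total 0 B with h | h
      · exact ⟨1, Or.inl rfl, by rw [hb, abs_of_nonneg h, one_mul]⟩
      · exact ⟨-1, Or.inr rfl, by rw [hb, abs_of_nonpos h]; ring⟩
    have hb0 : 0 ≤ b := abs_nonneg B
    have hbb : b ^ 2 = B ^ 2 := sq_abs B
    have hσ2 : σ ^ 2 = 1 := by rcases hσ with rfl | rfl <;> norm_num
    set D : ℤ := A * C - B ^ 2 with hD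
    have hineq : A + C - b ≤ D := by
      rw [hD, ← hbb]
      rcases eq_or_lt_of_le hb0 with h0 | h0
      · rw [← h0]
        nlinarith [mul_le_mul (show (1 : ℤ) ≤ A - 1 by omega) (show (1 : ℤ) ≤ C - 1 by omega)
          zero_le_one (by omega : (0 : ℤ) ≤ A - 1)]
      · nlinarith [mul_nonneg (show (0 : ℤ) ≤ b by omega) (show (0 : ℤ) ≤ b - 1 by omega)]
    have hDpos : 0 < D := by omega
    have hDr : (0 : ℝ) < (D : ℝ) := by exact_mod_cast hDpos
    have hsum : ∀ j ∈ H19.units' n, ∑ i ∈ S, (‖aeval (ζ ^ j) (a₁ i)‖ ^ 2 +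
        ‖aeval (ζ ^ j) (a₂ i)‖ ^ 2 + ‖aeval (ζ ^ j) (a₁ i + Polynomial.C σ * a₂ i)‖ ^ 2) =
        2 * P * (((A + C - b : ℤ) : ℝ) / (D : ℝ)) := by
      intro j hj
      have key : ∀ (α β : ℤ) (w : ι → ℂ),
          (∀ i ∈ S, (D : ℂ) * w i =
            (α : ℂ) * ((A : ℂ) * aeval (ζ ^ j) (a₁ i) + (B : ℂ) * aeval (ζ ^ j) (a₂ i)) +
            (β : ℂ) * ((B : ℂ) * aeval (ζ ^ j) (a₁ i) + (C : ℂ) * aeval (ζ ^ j) (a₂ i))) →
          (D : ℝ) ^ 2 * ∑ i ∈ S, ‖w i‖ ^ 2 =
            P * ((α ^ 2 * A + 2 * α * β * B + β ^ 2 * C : ℤ) : ℝ) := by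
        intro α β w hw
        rw [← hrel j hj α β, Finset.mul_sum]
        refine Finset.sum_congr rfl fun i hi => ?_
        rw [← hw i hi, norm_mul, mul_pow, Complex.norm_intCast, sq_abs]
      have e1 := key C (-B) (fun i => aeval (ζ ^ j) (a₁ i)) fun i _ => by
        rw [hD]; push_cast; ring
      have e2 := key (-B) A (fun i => aeval (ζ ^ j) (a₂ i)) fun i _ => by
        rw [hD]; push_cast; ring
      have e3 := key (C - σ * B) (σ * A - B) (fun i => aeval (ζ ^ j) (a₁ i + Polynomial.C σ * a₂ i))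
        fun i _ => by
          simp only [map_add, map_mul, aeval_C, algebraMap_int_eq, eq_intCast, map_intCast]
          rw [hD]; push_cast; ring
      rw [Finset.sum_add_distrib, Finset.sum_add_distrib]
      have hq : (C ^ 2 * A + 2 * C * (-B) * B + (-B) ^ 2 * C) +
          ((-B) ^ 2 * A + 2 * (-B) * A * B + A ^ 2 * C) +
          ((C - σ * B) ^ 2 * A + 2 * (C - σ * B) * (σ * A - B) * B + (σ * A - B) ^ 2 * C) =
          2 * D * (A + C - b) := by
        rw [hD, ← hσB]
        linear_combination (A * (A * C - B ^ 2)) * hσ2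
      have hq' : P * ((C ^ 2 * A + 2 * C * (-B) * B + (-B) ^ 2 * C : ℤ) : ℝ) +
          P * (((-B) ^ 2 * A + 2 * (-B) * A * B + A ^ 2 * C : ℤ) : ℝ) +
          P * (((C - σ * B) ^ 2 * A + 2 * (C - σ * B) * (σ * A - B) * B +
            (σ * A - B) ^ 2 * C : ℤ) : ℝ) = P * ((2 * D * (A + C - b) : ℤ) : ℝ) := by
        rw [← mul_add, ← mul_add, ← Int.cast_add, ← Int.cast_add, hq]
      rw [← e1, ← e2, ← e3] at hq'
      rw [mul_div_assoc', eq_div_iff hDr.ne']
      refine mul_left_cancel₀ hDr.ne' ?_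
      push_cast at hq' ⊢
      linear_combination hq'
    have hlow : ∀ i ∈ S, 2 * (n.totient : ℝ) ≤ ∑ j ∈ H19.units' n,
        (‖aeval (ζ ^ j) (a₁ i)‖ ^ 2 + ‖aeval (ζ ^ j) (a₂ i)‖ ^ 2 +
          ‖aeval (ζ ^ j) (a₁ i + Polynomial.C σ * a₂ i)‖ ^ 2) := by
      intro i hi
      rw [Finset.sum_add_distrib, Finset.sum_add_distrib]
      have n1 : 0 ≤ ∑ j ∈ H19.units' n, ‖aeval (ζ ^ j) (a₁ i)‖ ^ 2 :=
        Finset.sum_nonneg fun _ _ => by positivity
      have n2 : 0 ≤ ∑ j ∈ H19.units' n, ‖aeval (ζ ^ j) (a₂ i)‖ ^ 2 :=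
        Finset.sum_nonneg fun _ _ => by positivity
      have n3 : 0 ≤ ∑ j ∈ H19.units' n, ‖aeval (ζ ^ j) (a₁ i + Polynomial.C σ * a₂ i)‖ ^ 2 :=
        Finset.sum_nonneg fun _ _ => by positivity
      have e : aeval ζ (a₁ i + Polynomial.C σ * a₂ i) = aeval ζ (a₁ i) + (σ : ℂ) * aeval ζ (a₂ i) := by
        simp
      have hσ0 : (σ : ℂ) ≠ 0 := by rcases hσ with rfl | rfl <;> norm_num
      by_cases h1 : aeval ζ (a₁ i) = 0
      · have h2 := (hne i hi).resolve_left (not_not.2 h1)
        have m2 := havg _ h2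
        have m3 := havg (a₁ i + Polynomial.C σ * a₂ i) (by rw [e, h1, zero_add]; exact mul_ne_zero hσ0 h2)
        linarith
      · have m1 := havg _ h1
        by_cases h2 : aeval ζ (a₂ i) = 0
        · have m3 := havg (a₁ i + Polynomial.C σ * a₂ i) (by rw [e, h2, mul_zero, add_zero]; exact h1)
          linarith
        · have m2 := havg _ h2
          linarith
    have hbig := Finset.sum_le_sum hlow
    rw [Finset.sum_comm, Finset.sum_congr rfl hsum, Finset.sum_const, Finset.sum_const,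
      H19.card_units', nsmul_eq_mul, nsmul_eq_mul] at hbig
    have hr : ((A + C - b : ℤ) : ℝ) / (D : ℝ) ≤ 1 := by
      rw [div_le_one hDr]
      exact_mod_cast hineq
    refine le_of_mul_le_mul_left ?_ hφ
    have h3 := mul_le_mul_of_nonneg_left hr (mul_nonneg hφ.le hP)
    linarith

/-- Reduction of binary forms. -/
theorem binary_bound {ι : Type*} (S : Finset ι) {n : ℕ} (hn : 0 < n) {ζ : ℂ}
    (hζ : IsPrimitiveRoot ζ n) (P : ℝ) (hP : 0 ≤ P) (k : ℕ) :
    ∀ (A B C : ℤ) (a₁ a₂ : ι → ℤ[X]), A.toNat ≤ k → 0 < A → 0 < A * C - B ^ 2 →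
    (∀ i ∈ S, aeval ζ (a₁ i) ≠ 0 ∨ aeval ζ (a₂ i) ≠ 0) →
    (∀ x y : ℤ, A * x ^ 2 + 2 * B * x * y + C * y ^ 2 = 1 → ∀ i ∈ S,
      (x : ℂ) * ((A : ℂ) * aeval ζ (a₁ i) + (B : ℂ) * aeval ζ (a₂ i)) +
        (y : ℂ) * ((B : ℂ) * aeval ζ (a₁ i) + (C : ℂ) * aeval ζ (a₂ i)) ≠ 0) →
    (∀ j ∈ H19.units' n, ∀ α β : ℤ,
      ∑ i ∈ S, ‖(α : ℂ) * ((A : ℂ) * aeval (ζ ^ j) (a₁ i) + (B : ℂ) * aeval (ζ ^ j) (a₂ i)) +
          (β : ℂ) * ((B : ℂ) * aeval (ζ ^ j) (a₁ i) + (C : ℂ) * aeval (ζ ^ j) (a₂ i))‖ ^ 2 =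
        P * ((α ^ 2 * A + 2 * α * β * B + β ^ 2 * C : ℤ) : ℝ)) →
    (S.card : ℝ) ≤ P := by
  induction k with
  | zero => intro A B C a₁ a₂ hk hA; omega
  | succ k ih =>
    intro A B C a₁ a₂ hk hA hdet hne hone hrel
    set t := (2 * B + A) / (2 * A) with ht
    set B' := B - t * A with hB'
    set C₂ := C - 2 * t * B + t ^ 2 * A with hC₂
    set a₁' : ι → ℤ[X] := fun i => a₁ i + Polynomial.C t * a₂ i with ha₁'
    have hB'A : 2 * |B'| ≤ A := by
      have h1 := Int.emod_add_mul_ediv (2 * B + A) (2 * A)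
      have h2 := Int.emod_nonneg (2 * B + A) (show 2 * A ≠ 0 by omega)
      have h3 := Int.emod_lt_of_pos (2 * B + A) (show 0 < 2 * A by omega)
      rw [← ht] at h1
      have e : 2 * B' = (2 * B + A) % (2 * A) - A := by rw [hB']; linarith
      have : |2 * B'| ≤ A := by rw [abs_le]; constructor <;> linarith
      rw [abs_mul] at this
      simpa using this
    have hdet' : 0 < A * C₂ - B' ^ 2 := by
      have : A * C₂ - B' ^ 2 = A * C - B ^ 2 := by rw [hC₂, hB']; ring
      rw [this]; exact hdet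
    have ev : ∀ (z : ℂ) (i : ι), aeval z (a₁' i) = aeval z (a₁ i) + (t : ℂ) * aeval z (a₂ i) := by
      intro z i; simp [ha₁']
    have hne' : ∀ i ∈ S, aeval ζ (a₁' i) ≠ 0 ∨ aeval ζ (a₂ i) ≠ 0 := by
      intro i hi
      by_cases h2 : aeval ζ (a₂ i) = 0
      · left; rw [ev, h2, mul_zero, add_zero]; exact (hne i hi).resolve_right (not_not.2 h2)
      · exact Or.inr h2
    have hone' : ∀ x y : ℤ, A * x ^ 2 + 2 * B' * x * y + C₂ * y ^ 2 = 1 → ∀ i ∈ S,
        (x : ℂ) * ((A : ℂ) * aeval ζ (a₁' i) + (B' : ℂ) * aeval ζ (a₂ i)) +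
          (y : ℂ) * ((B' : ℂ) * aeval ζ (a₁' i) + (C₂ : ℂ) * aeval ζ (a₂ i)) ≠ 0 := by
      intro x y hxy i hi
      have := hone (x - t * y) y (by rw [← hxy, hC₂, hB']; ring) i hi
      convert this using 1
      rw [ev, hC₂, hB']; push_cast; ring
    have hrel' : ∀ j ∈ H19.units' n, ∀ α β : ℤ,
        ∑ i ∈ S, ‖(α : ℂ) * ((A : ℂ) * aeval (ζ ^ j) (a₁' i) + (B' : ℂ) * aeval (ζ ^ j) (a₂ i)) +
            (β : ℂ) * ((B' : ℂ) * aeval (ζ ^ j) (a₁' i) + (C₂ : ℂ) * aeval (ζ ^ j) (a₂ i))‖ ^ 2 =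
          P * ((α ^ 2 * A + 2 * α * β * B' + β ^ 2 * C₂ : ℤ) : ℝ) := by
      intro j hj α β
      have h := hrel j hj (α - t * β) β
      convert h using 1
      · refine Finset.sum_congr rfl fun i _ => ?_
        congr 2
        rw [ev, hC₂, hB']; push_cast; ring
      · rw [hC₂, hB']; push_cast; ring
    by_cases hAC : A ≤ C₂
    · refine binary_reduced S hn hζ P hP A B' C₂ a₁' a₂ hA hB'A hAC hne' (fun hA1 hB0 i hi => ?_) hrel'
      have := hone' 1 0 (by rw [hA1]; ring) i hi
      simpa [hA1, hB0] using this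
    · have hC0 : 0 < C₂ := by
        by_contra h
        nlinarith [mul_nonpos_of_nonneg_of_nonpos hA.le (not_lt.1 h), sq_nonneg B']
      refine ih C₂ B' A a₂ a₁' (by omega) hC0 (by linarith) (fun i hi => (hne' i hi).symm) ?_ ?_
      · intro x y hxy i hi
        have := hone' y x (by rw [← hxy]; ring) i hi
        convert this using 1
        ring
      · intro j hj α β
        have h := hrel' j hj β α
        convert h using 1
        · refine Finset.sum_congr rfl fun i _ => ?_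
          congr 2
          ring
        · push_cast; ring

/-! ### The lattice of an integer projection -/

/-- An integer matrix as a Gram matrix of a basis of its image. -/
theorem exists_lattice {T : Type*} [Fintype T] [DecidableEq T] (z : T → T → ℤ)
    (hsym : ∀ s t, z s t = z t s) (P : ℤ) (hP : 0 < P)
    (hsq : ∀ s t, ∑ r, z s r * z r t = P * z s t) :
    ∃ (m : ℕ) (x : Fin m → T → ℤ) (K : T → Fin m → ℤ) (Q : Fin m → Fin m → ℤ),
      (∀ i t, ∑ r, z t r * x i r = ∑ k, Q i k * K t k) ∧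
      (∀ i k, Q i k = ∑ s, ∑ t, x i s * z s t * x k t) ∧
      (∀ s t, z s t = ∑ i, K t i * ∑ r, z s r * x i r) ∧
      (∀ c : Fin m → ℤ, c ≠ 0 → 0 < ∑ i, ∑ k, c i * Q i k * c k) ∧
      ∑ t, z t t = P * m := by
  classical
  set F : (T → ℤ) →ₗ[ℤ] (T → ℤ) := Matrix.mulVecLin (Matrix.of z) with hF
  have hFa : ∀ v t, F v t = ∑ r, z t r * v r := fun v t => rfl
  obtain ⟨m, w⟩ := Submodule.basisOfPid (Pi.basisFun ℤ T) (LinearMap.range F)
  choose x hx using fun i => LinearMap.mem_range.1 (w i).2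
  set K : T → Fin m → ℤ := fun t i =>
    w.repr ⟨F (Pi.single t 1), LinearMap.mem_range_self F _⟩ i with hK
  have hsingle : ∀ s t, F (Pi.single t 1) s = z s t := fun s t => by
    simp [hFa, Pi.single_apply]
  have hz : ∀ s t, z s t = ∑ i, K t i * ∑ r, z s r * x i r := by
    intro s t
    rw [← hsingle]
    have h := congrArg (fun v : LinearMap.range F => (v : T → ℤ) s)
      (w.sum_repr ⟨F (Pi.single t 1), LinearMap.mem_range_self F _⟩).symm
    simp only [Submodule.coe_sum, Submodule.coe_smul, Finset.sum_apply, Pi.smul_apply,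
      smul_eq_mul] at h
    rw [h]
    refine Finset.sum_congr rfl fun i _ => ?_
    rw [← hx i, hFa]
  set Q : Fin m → Fin m → ℤ := fun i k => ∑ s, ∑ t, x i s * z s t * x k t with hQ
  have hQs : ∀ i k, Q i k = Q k i := fun i k => by
    simp only [hQ]
    rw [Finset.sum_comm]
    exact Finset.sum_congr rfl fun s _ => Finset.sum_congr rfl fun t _ => by rw [hsym t s]; ring
  have hw : ∀ i t, ∑ r, z t r * x i r = ∑ k, Q i k * K t k := by
    intro i t
    calc ∑ r, z t r * x i r = ∑ r, (∑ k, K t k * ∑ s, z r s * x k s) * x i r := by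
          refine Finset.sum_congr rfl fun r _ => ?_
          rw [hsym t r, hz r t]
      _ = ∑ k, Q i k * K t k := by
          simp only [Finset.sum_mul, hQ, Finset.mul_sum]
          rw [Finset.sum_comm]
          exact Finset.sum_congr rfl fun k _ => Finset.sum_congr rfl fun r _ =>
            Finset.sum_congr rfl fun s _ => by ring
  have hP2 : ∀ i k, ∑ r, (∑ s, z r s * x i s) * (∑ s, z r s * x k s) = P * Q i k := by
    intro i k
    rw [Finset.sum_congr rfl fun r _ => Finset.sum_mul_sum .., Finset.sum_comm]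
    simp only [hQ]
    rw [Finset.mul_sum]
    refine Finset.sum_congr rfl fun s _ => ?_
    rw [Finset.sum_comm, Finset.mul_sum]
    refine Finset.sum_congr rfl fun t _ => ?_
    calc ∑ r, z r s * x i s * (z r t * x k t) = (∑ r, z s r * z r t) * (x i s * x k t) := by
          rw [Finset.sum_mul]
          exact Finset.sum_congr rfl fun r _ => by rw [hsym s r]; ring
      _ = P * (x i s * z s t * x k t) := by rw [hsq]; ring
  have hindep : ∀ c : Fin m → ℤ, (∀ r, ∑ i, c i * ∑ s, z r s * x i s = 0) → c = 0 := by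
    intro c hc
    funext i
    refine Fintype.linearIndependent_iff.1 w.linearIndependent c ?_ i
    apply Subtype.ext
    funext r
    simp only [Submodule.coe_sum, Submodule.coe_smul, Finset.sum_apply, Pi.smul_apply, smul_eq_mul,
      ZeroMemClass.coe_zero, Pi.zero_apply]
    rw [← hc r]
    refine Finset.sum_congr rfl fun i _ => ?_
    rw [← hx i, hFa]
  have hpos : ∀ c : Fin m → ℤ, c ≠ 0 → 0 < ∑ i, ∑ k, c i * Q i k * c k := by
    intro c hc
    have e : P * ∑ i, ∑ k, c i * Q i k * c k = ∑ r, (∑ i, c i * ∑ s, z r s * x i s) ^ 2 := by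
      simp only [sq, Finset.sum_mul_sum (s := (Finset.univ : Finset (Fin m))), Finset.mul_sum (a := P)]
      symm
      rw [Finset.sum_comm]
      refine Finset.sum_congr rfl fun i _ => ?_
      rw [Finset.sum_comm]
      refine Finset.sum_congr rfl fun k _ => ?_
      calc ∑ r, c i * (∑ s, z r s * x i s) * (c k * ∑ s, z r s * x k s)
          = c i * c k * ∑ r, (∑ s, z r s * x i s) * (∑ s, z r s * x k s) := by
            rw [Finset.mul_sum]; exact Finset.sum_congr rfl fun r _ => by ring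
        _ = P * (c i * Q i k * c k) := by rw [hP2]; ring
    obtain ⟨r, hr⟩ : ∃ r, ∑ i, c i * ∑ s, z r s * x i s ≠ 0 := by
      by_contra h
      exact hc (hindep c fun r => not_not.1 fun h' => h ⟨r, h'⟩)
    have : 0 < P * ∑ i, ∑ k, c i * Q i k * c k := by
      rw [e]
      refine Finset.sum_pos' (fun _ _ => sq_nonneg _) ⟨r, Finset.mem_univ r, ?_⟩
      positivity
    exact pos_of_mul_pos_right this hP.le
  have htr : ∀ i, ∑ t, K t i * ∑ r, z t r * x i r = P := by
    intro i
    set c : Fin m → ℤ := fun l => ∑ t, K t l * (∑ r, z t r * x i r) - if l = i then P else 0 with hc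
    have hQc : ∀ l, ∑ q, Q l q * c q = 0 := by
      intro l
      simp only [hc, mul_sub, Finset.sum_sub_distrib, mul_ite, mul_zero, Finset.sum_ite_eq',
        Finset.mem_univ, if_true, sub_eq_zero, Finset.mul_sum]
      rw [Finset.sum_comm, mul_comm, ← hP2 l i]
      refine Finset.sum_congr rfl fun t _ => ?_
      rw [hw l t, Finset.sum_mul]
      refine Finset.sum_congr rfl fun q _ => ?_
      simp only [Finset.mul_sum]
      exact Finset.sum_congr rfl fun r _ => by ring
    have hc0 : c = 0 := by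
      by_contra h
      have := hpos c h
      simp only [mul_assoc, ← Finset.mul_sum, hQc, mul_zero, Finset.sum_const_zero] at this
      exact lt_irrefl _ this
    have := congrFun hc0 i
    simpa [hc, sub_eq_zero] using this
  refine ⟨m, x, K, Q, hw, fun i k => rfl, hz, hpos, ?_⟩
  rw [Finset.sum_congr rfl fun t _ => hz t t, Finset.sum_comm, Finset.sum_congr rfl fun i _ => htr i]
  simp [mul_comm]

/-! ### The local inner products of a subsection -/

variable {G : Type u} [Group G] [Fintype G] {p : ℕ} [hp : Fact p.Prime] {M : Ideal AlgInt}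
  [hMp : M.IsPrime]

/-- The inner product of the block part of a translated character with a local character. -/
noncomputable def loc (p : ℕ) (H : Subgroup G) [Fintype H] (z : H) (b : Set (IrrCharacter H))
    (j : ℕ) (χ : IrrCharacter G) (θ : IrrCharacter H) : ℂ :=
  ∑ θ' ∈ H22.blockFinset b, mult H χ θ' * eps z θ' ^ j * H22.Delta p θ' θ

theorem contrib_eq_sum_loc (H : Subgroup G) [Fintype H] (z : H) (b : Set (IrrCharacter H))
    (j : ℕ) (χ ψ : IrrCharacter G) :
    contrib p H z b j χ ψ =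
      ∑ θ ∈ H22.blockFinset b, mult H ψ θ * conj (eps z θ ^ j) * loc p H z b j χ θ := by
  simp only [contrib, loc, Finset.mul_sum]
  rw [Finset.sum_comm]
  exact Finset.sum_congr rfl fun θ _ => Finset.sum_congr rfl fun θ' _ => by ring

theorem sum_Delta_mul_Delta (hM : IsPModular p M) {B : Set (IrrCharacter G)} (hB : IsPBlock M B)
    {χ : IrrCharacter G} (hχ : χ ∈ B) (φ : IrrCharacter G) :
    ∑ ψ ∈ H22.blockFinset B, H22.Delta p χ ψ * H22.Delta p ψ φ = H22.Delta p χ φ := by
  classical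
  have e : pRegularPart p (χ : G → ℂ) =
      ∑ ψ ∈ H22.blockFinset B, H22.Delta p χ ψ • pRegularPart p (ψ : G → ℂ) := by
    funext g
    rw [Finset.sum_apply]
    by_cases hg : p ∣ orderOf g
    · simp [H22.pRegularPart_of_dvd _ hg]
    · rw [← H22.sum_Delta_mul (H22.weakOrth_of_block hM hB) hχ g]
      simp [H22.pRegularPart_of_not_dvd _ hg]
  conv_rhs => rw [H22.Delta, e, H12.classInner_sum_left]
  simp only [H12.classInner_smul_left]
  rfl

theorem sum_loc_pair (hM : IsPModular p M) {B : Set (IrrCharacter G)} (hB : IsPBlock M B)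
    {u : G} (hu : ∃ k : ℕ, orderOf u = p ^ k) (H : Subgroup G) [Fintype H]
    (hH : H = Subgroup.centralizer ({u} : Set G))
    {b : Set (IrrCharacter H)} (hind : IsInducedBlock M H b B)
    {z : H} (hz : z ∈ Subgroup.center H) {j : ℕ} (hzu : ((z ^ j : H) : G) = u)
    {θ₁ θ₂ : IrrCharacter H} (h₁ : θ₁ ∈ b) :
    ∑ χ ∈ H22.blockFinset B, loc p H z b j χ θ₁ * conj (loc p H z b j χ θ₂) =
      H22.Delta p θ₁ θ₂ := by
  classical
  set R := Finset.univ.filter (fun t : H => ¬ p ∣ orderOf t) with hR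
  set N := (Nat.card H : ℂ)⁻¹ with hN
  set F : IrrCharacter G → H → ℂ := fun χ s =>
    ∑ θ ∈ H22.blockFinset b, mult H χ θ * eps z θ ^ j * (θ : H → ℂ) s with hF
  have hbp : ∀ χ : IrrCharacter G, ∀ s : H,
      blockPart b (fun c : H => (χ : G → ℂ) (u * c)) s = F χ s := by
    intro χ s
    have e : (fun c : H => (χ : G → ℂ) (u * c)) =
        ∑ θ : IrrCharacter H, (mult H χ θ * eps z θ ^ j) • (θ : H → ℂ) := by
      funext c
      rw [← hzu, ← Subgroup.coe_mul, res_eq_sum H χ, Finset.sum_apply]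
      refine Finset.sum_congr rfl fun θ _ => ?_
      rw [irr_pow_central hz, Pi.smul_apply, smul_eq_mul]
      ring
    rw [H22.Sub.blockPart_eq_smul_sum, e, Finset.sum_apply, hF]
    refine Finset.sum_congr rfl fun θ _ => ?_
    rw [H12.classInner_sum_left]
    simp [H12.classInner_smul_left, H12.classInner_irr]
  have hDelta : ∀ θ θ' : IrrCharacter H,
      H22.Delta p θ θ' = N * ∑ s ∈ R, (θ : H → ℂ) s * conj ((θ' : H → ℂ) s) := by
    intro θ θ'
    rw [H22.Delta, H12.classInner_def, hR, Finset.sum_filter]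
    congr 1
    refine Finset.sum_congr rfl fun s _ => ?_
    rw [H22.pRegularPart_apply]
    split_ifs <;> simp
  have hloc : ∀ χ θ, loc p H z b j χ θ = N * ∑ s ∈ R, F χ s * conj ((θ : H → ℂ) s) := by
    intro χ θ
    simp only [loc, hDelta, hF, Finset.sum_mul, Finset.mul_sum]
    rw [Finset.sum_comm]
    exact Finset.sum_congr rfl fun s _ => Finset.sum_congr rfl fun θ' _ => by ring
  have hNc : conj N = N := by rw [hN, map_inv₀, Complex.conj_natCast]
  have step : ∀ χ, loc p H z b j χ θ₁ * conj (loc p H z b j χ θ₂) =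
      N * N * ((∑ s ∈ R, F χ s * conj ((θ₁ : H → ℂ) s)) *
        conj (∑ s ∈ R, F χ s * conj ((θ₂ : H → ℂ) s))) := by
    intro χ
    rw [hloc, hloc, map_mul, hNc]
    ring
  simp only [step, ← Finset.mul_sum]
  rw [sum_kern_projection]
  have hsec : ∀ s ∈ R, ∀ t ∈ R, ∑ χ ∈ H22.blockFinset B, F χ s * conj (F χ t) =
      ∑ θ ∈ H22.blockFinset b, (θ : H → ℂ) s * conj ((θ : H → ℂ) t) := by
    intro s hs t ht
    simp only [← hbp]
    exact sum_pair_section' hM hB hu H hH hind s t (Finset.mem_filter.1 hs).2 (Finset.mem_filter.1 ht).2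
  rw [Finset.sum_congr rfl fun s hs => Finset.sum_congr rfl fun t ht => by rw [hsec s hs t ht],
    ← sum_kern_projection, Finset.mul_sum]
  rw [← sum_Delta_mul_Delta hM hind.1 h₁ θ₂]
  refine Finset.sum_congr rfl fun θ _ => ?_
  rw [H22.Delta_comm p θ₁ θ, ← H22.conj_Delta p θ₂ θ, H22.Delta_comm p θ₂ θ, hDelta, hDelta,
    map_mul, hNc]
  ring

/-- The centraliser index of a member of a section. -/
theorem index_centralizer_section {u : G} (hu : ∃ k : ℕ, orderOf u = p ^ k) (H : Subgroup G)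
    [Fintype H] (hH : H = Subgroup.centralizer ({u} : Set G)) {s : H} (hs : ¬ p ∣ orderOf s) :
    Nat.card G * (Subgroup.centralizer ({s} : Set H)).index =
      Nat.card H * (Subgroup.centralizer ({u * (s : G)} : Set G)).index := by
  classical
  subst hH
  set S := Subgroup.centralizer ({s} : Set (Subgroup.centralizer ({u} : Set G)))
  have hsu : u * (s : G) = (s : G) * u := s.2 u rfl
  have hmap : S.map (Subgroup.centralizer ({u} : Set G)).subtype =
      Subgroup.centralizer ({u * (s : G)} : Set G) := by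
    ext c
    rw [Subgroup.mem_map]
    constructor
    · rintro ⟨c', hc', rfl⟩
      rw [Subgroup.mem_centralizer_singleton_iff]
      have h1 : Commute (c' : G) u := Subgroup.mem_centralizer_singleton_iff.1 c'.2
      have h2 : Commute (c' : G) (s : G) :=
        congrArg Subtype.val (Subgroup.mem_centralizer_singleton_iff.1 hc')
      exact (h1.mul_right h2).eq
    · intro hc
      rw [Subgroup.mem_centralizer_singleton_iff] at hc
      have hcon : c * (u * (s : G)) * c⁻¹ = u * (s : G) := by rw [hc, mul_inv_cancel_right]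
      have h1 := congrArg (H20.pPart p) hcon
      rw [H20.pPart_conj, H20.centralizer_le_of_pPart u s hu hs] at h1
      have hcu : c * u = u * c := mul_inv_eq_iff_eq_mul.1 h1
      have hcs : c * (s : G) = (s : G) * c := by
        apply mul_left_cancel (a := u)
        rw [← mul_assoc, ← hcu, mul_assoc, hc, mul_assoc]
      exact ⟨⟨c, Subgroup.mem_centralizer_singleton_iff.2 hcu⟩,
        Subgroup.mem_centralizer_singleton_iff.2 (Subtype.ext hcs), rfl⟩
  have hcard : Nat.card S = Nat.card (Subgroup.centralizer ({u * (s : G)} : Set G)) := by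
    rw [← hmap]
    exact (Subgroup.card_map_of_injective (Subgroup.subtype_injective _)).symm
  rw [← Subgroup.card_mul_index (Subgroup.centralizer ({u * (s : G)} : Set G)),
    ← Subgroup.card_mul_index S, hcard]
  ring

/-- The normalised sum over the section. -/
noncomputable def secFun (p : ℕ) (H : Subgroup G) [Fintype H] (u : G) (χ : IrrCharacter G)
    (θ : IrrCharacter H) : ℂ :=
  haveI := Fintype.ofFinite (ConjClasses H)
  ((Nat.card G / p ^ (Nat.card G).factorization p : ℕ) : ℂ)⁻¹ *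
    ∑ C : ConjClasses H,
      pRegularPart p (fun c : H => centralChar (χ : G → ℂ) (u * (c : G))) C.out *
        conj ((θ : H → ℂ) C.out)

theorem pow_mul_loc_eq (hM : IsPModular p M) {B : Set (IrrCharacter G)}
    {u : G} (hu : ∃ k : ℕ, orderOf u = p ^ k) (H : Subgroup G) [Fintype H]
    (hH : H = Subgroup.centralizer ({u} : Set G))
    {b : Set (IrrCharacter H)} (hb : IsPBlock M b)
    {z : H} (hz : z ∈ Subgroup.center H) {j : ℕ} (hzu : ((z ^ j : H) : G) = u)
    {χ : IrrCharacter G} (hχ : χ ∈ B) {θ : IrrCharacter H} (hθ : θ ∈ b) :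
    (p : ℂ) ^ blockDefect p B * loc p H z b j χ θ =
      (H22.mdeg p B χ : ℂ) * secFun p H u χ θ := by
  classical
  have hF : Fintype (ConjClasses H) := Fintype.ofFinite _
  have hcl : IsClassFunction H (fun c : H => (χ : G → ℂ) (u * (c : G))) := by
    subst hH
    exact H20.isClassFunction_shift (H12.irr_isClassFunction χ) u
  have e : (fun c : H => (χ : G → ℂ) (u * c)) =
      ∑ θ : IrrCharacter H, (mult H χ θ * eps z θ ^ j) • (θ : H → ℂ) := by
    funext c
    rw [← hzu, ← Subgroup.coe_mul, res_eq_sum H χ, Finset.sum_apply]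
    refine Finset.sum_congr rfl fun θ _ => ?_
    rw [irr_pow_central hz, Pi.smul_apply, smul_eq_mul]
    ring
  have hL : loc p H z b j χ θ =
      classInner (pRegularPart p (fun c : H => (χ : G → ℂ) (u * c))) (θ : H → ℂ) := by
    rw [e, show pRegularPart p (∑ θ : IrrCharacter H, (mult H χ θ * eps z θ ^ j) • (θ : H → ℂ)) =
      ∑ θ : IrrCharacter H, (mult H χ θ * eps z θ ^ j) • pRegularPart p (θ : H → ℂ) by
        funext c
        rw [Finset.sum_apply]
        by_cases hc : p ∣ orderOf c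
        · simp [H22.pRegularPart_of_dvd _ hc]
        · simp [H22.pRegularPart_of_not_dvd _ hc],
      H12.classInner_sum_left]
    simp only [H12.classInner_smul_left, loc]
    refine Finset.sum_subset (Finset.subset_univ _) fun θ' _ hθ' => ?_
    rw [H22.mem_blockFinset] at hθ'
    rw [H22.Delta_comm, show H22.Delta p θ θ' = 0 from
      H19.RegSpan.classInner_regular_eq_zero hM hb hθ hθ', mul_zero]
  rw [hL, H12.classInner_def, H22.sum_eq_sum_classes]
  swap
  · intro g c
    simp [H22.isClassFunction_pRegularPart hcl g c, H12.irr_isClassFunction θ g c]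
  have key : ∀ C : ConjClasses H, (Nat.card G : ℂ) * (((Subgroup.centralizer ({C.out} : Set H)).index : ℂ) *
      (pRegularPart p (fun c : H => (χ : G → ℂ) (u * (c : G))) C.out * conj ((θ : H → ℂ) C.out))) =
      (Nat.card H : ℂ) * (χ : G → ℂ) 1 *
      (pRegularPart p (fun c : H => centralChar (χ : G → ℂ) (u * (c : G))) C.out *
        conj ((θ : H → ℂ) C.out)) := by
    intro C
    by_cases hC : p ∣ orderOf C.out
    · simp [H22.pRegularPart_of_dvd _ hC]
    · rw [H22.pRegularPart_of_not_dvd _ hC, H22.pRegularPart_of_not_dvd _ hC, centralChar]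
      have h := congrArg (Nat.cast (R := ℂ)) (index_centralizer_section hu H hH hC)
      push_cast at h
      field_simp [H12.irr_apply_one_ne_zero χ]
      linear_combination (χ : G → ℂ) (u * (C.out : G)) * conj ((θ : H → ℂ) C.out) * h
  have hG : (Nat.card G : ℂ) ≠ 0 := H12.card_ne_zero'
  have hH0 : (Nat.card H : ℂ) ≠ 0 := H12.card_ne_zero'
  have hS := Finset.sum_congr (s₁ := (Finset.univ : Finset (ConjClasses H))) rfl fun C _ => key C
  rw [← Finset.mul_sum, ← Finset.mul_sum] at hS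
  have hG' : (Nat.card G : ℂ) = (p : ℂ) ^ blockDefect p B * (p : ℂ) ^ H22.blockExp p B *
      ((Nat.card G / p ^ (Nat.card G).factorization p : ℕ) : ℂ) := by
    rw [← pow_add, H22.blockDefect_add_blockExp (p := p) hχ]
    exact H22.card_eq_pow_mul (G := G) p
  have h0 := H22.ordCompl_cast_ne_zero (G := G) (p := p)
  rw [H22.apply_one_eq_mdeg (p := p) hχ, hG'] at hS
  have hpe := H22.pow_p_ne_zero (p := p) (H22.blockExp p B)
  rw [secFun]
  set g' := ((Nat.card G / p ^ (Nat.card G).factorization p : ℕ) : ℂ)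
  field_simp
  refine mul_left_cancel₀ hpe ?_
  convert hS using 1
  · ring
  · ring_nf
    congr!

theorem secFun_congr (hM : IsPModular p M) {B : Set (IrrCharacter G)} (hB : IsPBlock M B)
    (u : G) (H : Subgroup G) [Fintype H]
    {χ χ' : IrrCharacter G} (hχ : χ ∈ B) (hχ' : χ' ∈ B) (θ : IrrCharacter H) :
    MemLocalIdeal M (secFun p H u χ θ - secFun p H u χ' θ) := by
  classical
  rw [secFun, secFun, ← mul_sub, ← Finset.sum_sub_distrib]
  refine H20.memIdeal_mul (H20.inv_natCast_memRing hM H22.ordCompl_not_dvd)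
    (Finset.sum_induction _ (MemLocalIdeal M) (fun _ _ => H20.memIdeal_add) H20.memIdeal_zero
      fun C _ => ?_)
  rw [← sub_mul, mul_comm]
  refine H20.memIdeal_mul (H22.memRing_conj_apply θ _) ?_
  rw [H22.pRegularPart_apply, H22.pRegularPart_apply]
  split
  · rw [sub_self]; exact H20.memIdeal_zero
  · exact H20.sameBlock_of_mem hB hχ hχ' _

theorem card_le_pow (hM : IsPModular p M) {B : Set (IrrCharacter G)} {y : G}
    (hy : ∃ k : ℕ, orderOf y = p ^ k) (C : Subgroup G) [Fintype C]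
    (hC : C = Subgroup.centralizer ({y} : Set G))
    {b : Set (IrrCharacter C)} (hind : IsInducedBlock M C b B)
    (hd : blockDefect p b = blockDefect p B) (hl : blockRank p b ≤ 2) :
    Nat.card B ≤ p ^ blockDefect p B := by
  classical
  obtain ⟨a, ha⟩ := hy
  have hb := hind.1
  have hB := hind.2.1
  let z : C := ⟨y, hC ▸ Subgroup.mem_centralizer_singleton_iff.2 rfl⟩
  have hz : z ∈ Subgroup.center C :=
    Subgroup.mem_center_iff.2 fun c =>
      Subtype.ext (Subgroup.mem_centralizer_singleton_iff.1 (hC.le c.2))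
  have hzord : orderOf z = p ^ a := by rw [← ha]; exact (Subgroup.orderOf_coe z).symm
  have hn : 0 < p ^ a := pow_pos hp.out.pos a
  haveI : NeZero (p ^ a) := ⟨hn.ne'⟩
  obtain ⟨ζ, hζ⟩ := H19.exists_root (p ^ a) hn.ne'
  obtain ⟨e, he'⟩ : ∃ e : IrrCharacter C → ℕ, ∀ θ, ζ ^ e θ = eps z θ := by
    have : ∀ θ : IrrCharacter C, ∃ e, e < p ^ a ∧ ζ ^ e = eps z θ := fun θ =>
      hζ.eq_pow_of_pow_eq_one (by rw [← hzord]; exact eps_pow_orderOf hz θ)
    choose e he he' using this
    exact ⟨e, he'⟩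
  set d := blockDefect p B with hdd
  obtain ⟨zm, hzm', hzmat⟩ := H22.exists_isDeltaMatrix (p := p) hM hb
  rw [hd] at hzm'
  set T := ↥(H22.blockFinset b)
  have hzm : ∀ s t : T, (zm s.1 t.1 : ℂ) = (p : ℂ) ^ d * H22.Delta p s.1 t.1 := fun s t =>
    hzm' s.1 (H22.mem_blockFinset.1 s.2) t.1
  obtain ⟨m, x, K, Q, hw, hQ, hzK, hpos, htr⟩ := exists_lattice (fun s t : T => zm s.1 t.1)
    (fun s t => hzmat.symm _ (H22.mem_blockFinset.1 s.2) _ (H22.mem_blockFinset.1 t.2))
    ((p : ℤ) ^ d) (by have := hp.out.pos; positivity) (by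
      intro s t
      have : ((∑ r : T, zm s.1 r.1 * zm r.1 t.1 : ℤ) : ℂ) =
          (((p : ℤ) ^ d * zm s.1 t.1 : ℤ) : ℂ) := by
        push_cast
        simp only [hzm]
        rw [← sum_Delta_mul_Delta hM hb (H22.mem_blockFinset.1 s.2) t.1, Finset.mul_sum,
          Finset.mul_sum, ← Finset.sum_coe_sort (H22.blockFinset b)]
        exact Finset.sum_congr rfl fun r _ => by ring
      exact_mod_cast this)
  have hml : (m : ℂ) = (blockRank p b : ℂ) := by
    have h1 : ((∑ t : T, zm t.1 t.1 : ℤ) : ℂ) = (((p : ℤ) ^ d * m : ℤ) : ℂ) := by rw [htr]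
    push_cast at h1
    rw [← H19.RegSpan.sum_classInner_eq_rank hM hb, H22.finsum_mem_block]
    refine mul_left_cancel₀ (H22.pow_p_ne_zero (p := p) d) ?_
    rw [← h1, Finset.mul_sum, ← Finset.sum_coe_sort (H22.blockFinset b)]
    exact Finset.sum_congr rfl fun t _ => hzm t t
  have hm2 : m ≤ 2 := by
    have : m = blockRank p b := by exact_mod_cast hml
    omega
  -- coordinates
  choose f hf using fun (χ : IrrCharacter G) (θ : IrrCharacter C) => mult_nat C χ θ
  set A : Fin m → IrrCharacter G → ℤ[X] := fun i χ =>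
    ∑ t : T, Polynomial.C ((f χ t.1 : ℤ) * K t i) * X ^ (e t.1) with hA
  have hAev : ∀ (i : Fin m) (χ : IrrCharacter G) (j : ℕ), aeval (ζ ^ j) (A i χ) =
      ∑ t : T, mult C χ t.1 * eps z t.1 ^ j * (K t i : ℂ) := by
    intro i χ j
    simp only [hA, map_sum, map_mul, aeval_C, aeval_X_pow, algebraMap_int_eq, eq_intCast, map_natCast, map_intCast]
    refine Finset.sum_congr rfl fun t _ => ?_
    rw [hf, ← he', ← pow_mul, ← pow_mul]
    push_cast
    ring
  have hu : ∀ (χ : IrrCharacter G) (j : ℕ) (t : T), (p : ℂ) ^ d * loc p C z b j χ t.1 =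
      ∑ i, ((∑ r : T, zm t.1 r.1 * x i r : ℤ) : ℂ) * aeval (ζ ^ j) (A i χ) := by
    intro χ j t
    rw [loc, Finset.mul_sum, ← Finset.sum_coe_sort (H22.blockFinset b)]
    simp only [hAev, Finset.mul_sum]
    rw [Finset.sum_comm]
    refine Finset.sum_congr rfl fun s _ => ?_
    have h := congrArg (Int.cast (R := ℂ)) (hzK t s)
    simp only [Int.cast_sum, Int.cast_mul] at h
    rw [show (p : ℂ) ^ d * (mult C χ s.1 * eps z s.1 ^ j * H22.Delta p s.1 t.1) =
      mult C χ s.1 * eps z s.1 ^ j * (zm t.1 s.1 : ℂ) by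
        rw [hzm, H22.Delta_comm]; ring, h, Finset.mul_sum]
    refine Finset.sum_congr rfl fun i _ => ?_
    push_cast
    ring
  set lamF : Fin m → IrrCharacter G → ℕ → ℂ := fun i χ j =>
    ∑ k, (Q i k : ℂ) * aeval (ζ ^ j) (A k χ) with hlam
  have hlamx : ∀ i χ j, lamF i χ j = ∑ t : T, (x i t : ℂ) * ((p : ℂ) ^ d * loc p C z b j χ t.1) := by
    intro i χ j
    simp only [hlam, hu, Finset.mul_sum]
    rw [Finset.sum_comm]
    refine Finset.sum_congr rfl fun k _ => ?_
    rw [hQ i k, Int.cast_sum, Finset.sum_mul]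
    refine Finset.sum_congr rfl fun s _ => ?_
    simp only [Int.cast_sum, Finset.sum_mul, Finset.mul_sum]
    exact Finset.sum_congr rfl fun r _ => by push_cast; ring
  set S := H22.blockFinset B with hS
  have hrel : ∀ j ∈ H19.units' (p ^ a), ∀ i k,
      ∑ χ ∈ S, lamF i χ j * conj (lamF k χ j) = (p : ℂ) ^ d * (Q i k : ℂ) := by
    intro j hj i k
    have hu' : ∃ l : ℕ, orderOf (y ^ j) = p ^ l := by
      obtain ⟨l, -, hl⟩ := (Nat.dvd_prime_pow hp.out).1 (ha ▸ orderOf_pow_dvd (x := y) j)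
      exact ⟨l, hl⟩
    have hcen : C = Subgroup.centralizer ({y ^ j} : Set G) := by
      have hc := (H19.mem_units'.1 hj).2
      obtain ⟨l, hl⟩ := exists_pow_eq_self_of_coprime (n := j) (x := y) (by rw [ha]; exact hc.symm)
      rw [hC]
      ext c
      simp only [Subgroup.mem_centralizer_singleton_iff]
      refine ⟨fun h => (Commute.pow_right h j).eq, fun h => ?_⟩
      have := Commute.pow_right (show Commute c (y ^ j) from h) l
      rwa [hl] at this
    simp only [hlamx, map_sum, map_mul, map_pow, Complex.conj_natCast, map_intCast,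
      Finset.sum_mul_sum]
    rw [Finset.sum_comm, hQ i k, Int.cast_sum, Finset.mul_sum]
    refine Finset.sum_congr rfl fun s _ => ?_
    rw [Finset.sum_comm, Int.cast_sum, Finset.mul_sum]
    refine Finset.sum_congr rfl fun r _ => ?_
    rw [Int.cast_mul, Int.cast_mul, hzm s r, ← sum_loc_pair hM hB hu' C hcen hind hz (j := j) rfl
      (θ₂ := r.1) (H22.mem_blockFinset.1 s.2)]
    simp only [Finset.mul_sum, Finset.sum_mul]
    refine Finset.sum_congr rfl fun χ _ => by ring
  -- behaviour at a character of height zero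
  obtain ⟨χ₀, hχ₀, he0⟩ := H22.exists_height_zero (p := p) (H20.block_nonempty hB)
  have h00 : blockHeight p B (χ₀ : G → ℂ) = 0 := Nat.sub_eq_zero_of_le he0.le
  obtain ⟨cb, hcbR, -, hcb⟩ := H22.exists_congr_const hM hb (H22.weakOrth_of_block hM hb)
  set N₀ := ∑ θ ∈ H22.blockFinset b, mult C χ₀ θ * eps z θ * (H22.mdeg p b θ : ℂ) with hN₀
  have hepsR : ∀ θ : IrrCharacter C, MemLocalRing M (eps z θ) ∧ MemLocalRing M (conj (eps z θ)) := by
    intro θ
    have h1 := eps_pow_orderOf hz θ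
    exact ⟨H20.memRing_of_pow_eq_one (orderOf_pos z) h1,
      H20.memRing_of_pow_eq_one (orderOf_pos z) (by rw [← map_pow, h1, map_one])⟩
  have hcong : ∀ t : T, MemLocalIdeal M
      ((p : ℂ) ^ d * loc p C z b 1 χ₀ t.1 - cb * N₀ * (H22.mdeg p b t.1 : ℂ)) := by
    intro t
    simp only [loc, hN₀, Finset.mul_sum, Finset.sum_mul, ← Finset.sum_sub_distrib]
    refine Finset.sum_induction _ (MemLocalIdeal M) (fun _ _ => H20.memIdeal_add)
      H20.memIdeal_zero fun θ hθ => ?_
    rw [H22.mem_blockFinset] at hθ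
    have h1 := H20.memIdeal_mul (H20.memRing_mul (H20.memRing_mul (memRing_mult (M := M) C χ₀ θ)
      (hepsR θ).1) (H20.memRing_natCast (H22.mdeg p b θ)))
      (hcb θ hθ t.1 (H22.mem_blockFinset.1 t.2))
    convert h1 using 1
    have hDel := H22.pow_mul_Delta_eq (p := p) hθ t.1
    rw [hd] at hDel
    linear_combination (mult C χ₀ θ * eps z θ) * hDel
  obtain ⟨t₀, ht₀⟩ : ∃ t : T, ¬ MemLocalIdeal M ((p : ℂ) ^ d * loc p C z b 1 χ₀ t.1) := by
    by_contra hall
    simp only [not_exists, not_not] at hall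
    refine contrib_not_memIdeal hM C hind hd hz hzord hχ₀ hχ₀ h00 h00 ?_
    rw [contrib_eq_sum_loc, Finset.mul_sum, hd]
    refine Finset.sum_induction _ (MemLocalIdeal M) (fun _ _ => H20.memIdeal_add)
      H20.memIdeal_zero fun θ hθ => ?_
    have := H20.memIdeal_mul (H20.memRing_mul (memRing_mult (M := M) C χ₀ θ) (hepsR θ).2)
      (hall ⟨θ, hθ⟩)
    convert this using 1
    rw [pow_one]
    ring
  have hNn : ¬ MemLocalIdeal M (cb * N₀) := by
    intro h
    apply ht₀
    have := H20.memIdeal_add (hcong t₀) (by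
      rw [mul_comm]; exact H20.memIdeal_mul (H20.memRing_natCast (H22.mdeg p b t₀.1)) h :
        MemLocalIdeal M (cb * N₀ * (H22.mdeg p b t₀.1 : ℂ)))
    rwa [sub_add_cancel] at this
  have hzu : ((z ^ 1 : C) : G) = y := by rw [pow_one]
  have hnonzero : ∀ (v : T → ℤ),
      ¬ MemLocalIdeal M (∑ t : T, (v t : ℂ) * ((p : ℂ) ^ d * loc p C z b 1 χ₀ t.1)) →
      ∀ χ ∈ S, ∑ t : T, (v t : ℂ) * ((p : ℂ) ^ d * loc p C z b 1 χ t.1) ≠ 0 := by
    intro v hv χ hχ h0
    rw [hS, H22.mem_blockFinset] at hχ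
    have hform : ∀ ψ ∈ B, ∑ t : T, (v t : ℂ) * ((p : ℂ) ^ d * loc p C z b 1 ψ t.1) =
        (H22.mdeg p B ψ : ℂ) * ∑ t : T, (v t : ℂ) * secFun p C y ψ t.1 := by
      intro ψ hψ
      rw [Finset.mul_sum]
      refine Finset.sum_congr rfl fun t _ => ?_
      rw [pow_mul_loc_eq (p := p) hM ⟨a, ha⟩ C hC hb hz hzu hψ (H22.mem_blockFinset.1 t.2)]
      ring
    have hmc : (H22.mdeg p B χ : ℂ) ≠ 0 := by exact_mod_cast (H22.mdeg_pos hχ).ne'
    rw [hform χ hχ] at h0
    have hW := (mul_eq_zero.1 h0).resolve_left hmc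
    apply hv
    rw [hform χ₀ hχ₀]
    refine H20.memIdeal_mul (H20.memRing_natCast _) ?_
    rw [← sub_zero (∑ t : T, (v t : ℂ) * secFun p C y χ₀ t.1), ← hW, ← Finset.sum_sub_distrib]
    refine Finset.sum_induction _ (MemLocalIdeal M) (fun _ _ => H20.memIdeal_add)
      H20.memIdeal_zero fun t _ => ?_
    rw [← mul_sub]
    exact H20.memIdeal_mul (H20.memRing_intCast _) (secFun_congr hM hB y C hχ₀ hχ t.1)
  have hne : ∀ χ ∈ S, ∃ i, aeval ζ (A i χ) ≠ 0 := by
    intro χ hχ
    by_contra hall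
    simp only [not_exists, not_not] at hall
    refine hnonzero (fun t => if t = t₀ then 1 else 0) ?_ χ hχ ?_
    · rw [Finset.sum_eq_single t₀ (fun t _ ht => by rw [if_neg ht, Int.cast_zero, zero_mul])
        (fun h => absurd (Finset.mem_univ _) h)]
      simpa using ht₀
    rw [Finset.sum_eq_single t₀ (fun t _ ht => by rw [if_neg ht, Int.cast_zero, zero_mul])
        (fun h => absurd (Finset.mem_univ _) h)]
    have h := hu χ 1 t₀
    rw [pow_one] at h
    simp [h, hall]
  have hone : ∀ c : Fin m → ℤ, ∑ i, ∑ k, c i * Q i k * c k = 1 → ∀ χ ∈ S,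
      ∑ i, (c i : ℂ) * lamF i χ 1 ≠ 0 := by
    intro c hc χ hχ
    have hexp : ∀ ψ, ∑ i, (c i : ℂ) * lamF i ψ 1 =
        ∑ t : T, ((∑ i, c i * x i t : ℤ) : ℂ) * ((p : ℂ) ^ d * loc p C z b 1 ψ t.1) := by
      intro ψ
      simp only [hlamx, Finset.mul_sum, Int.cast_sum, Finset.sum_mul]
      rw [Finset.sum_comm]
      exact Finset.sum_congr rfl fun t _ => Finset.sum_congr rfl fun i _ => by push_cast; ring
    rw [hexp]
    refine hnonzero _ (fun hI => ?_) χ hχ
    set v : T → ℤ := fun t => ∑ i, c i * x i t with hv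
    set s := ∑ t : T, (v t : ℂ) * (H22.mdeg p b t.1 : ℂ) with hs
    have hsR : MemLocalRing M s := H20.memRing_sum _ _ fun t _ =>
      H20.memRing_mul (H20.memRing_intCast _) (H20.memRing_natCast _)
    have h1 : MemLocalIdeal M (∑ t : T, (v t : ℂ) * ((p : ℂ) ^ d * loc p C z b 1 χ₀ t.1) -
        cb * N₀ * s) := by
      rw [hs, Finset.mul_sum, ← Finset.sum_sub_distrib]
      refine Finset.sum_induction _ (MemLocalIdeal M) (fun _ _ => H20.memIdeal_add)
        H20.memIdeal_zero fun t _ => ?_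
      have := H20.memIdeal_mul (H20.memRing_intCast (M := M) (v t)) (hcong t)
      convert this using 1
      ring
    have hqv : (1 : ℤ) = ∑ r : T, ∑ t : T, v r * zm r.1 t.1 * v t := by
      rw [← hc]
      simp only [hQ, hv, Finset.sum_mul, Finset.mul_sum]
      simp only [← Fintype.sum_prod_type']
      refine Fintype.sum_equiv ⟨fun w => (w.2.2.1, w.2.2.2, w.2.1, w.1),
        fun w => (w.2.2.2, w.2.2.1, w.1, w.2.1), fun w => rfl, fun w => rfl⟩ _ _ fun w => ?_
      simp only [Equiv.coe_fn_mk]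
      ring
    have h2 : MemLocalIdeal M ((1 : ℂ) - cb * s * s) := by
      have e1 : (1 : ℂ) = ∑ r : T, ∑ t : T, (v r : ℂ) * (zm r.1 t.1 : ℂ) * (v t : ℂ) := by
        exact_mod_cast hqv
      rw [e1]
      simp only [hs, Finset.mul_sum, Finset.sum_mul]
      rw [Finset.sum_comm, ← Finset.sum_sub_distrib]
      refine Finset.sum_induction _ (MemLocalIdeal M) (fun _ _ => H20.memIdeal_add)
        H20.memIdeal_zero fun r _ => ?_
      rw [← Finset.sum_sub_distrib]
      refine Finset.sum_induction _ (MemLocalIdeal M) (fun _ _ => H20.memIdeal_add)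
        H20.memIdeal_zero fun t _ => ?_
      have := H20.memIdeal_mul (H20.memRing_mul (H20.memRing_mul (H20.memRing_intCast (M := M) (v t))
        (H20.memRing_natCast (H22.mdeg p b t.1))) (H20.memRing_intCast (v r)))
        (hcb t.1 (H22.mem_blockFinset.1 t.2) r.1 (H22.mem_blockFinset.1 r.2))
      convert this using 1
      have hDel := H22.pow_mul_Delta_eq (p := p) (H22.mem_blockFinset.1 t.2) r.1
      rw [hd] at hDel
      rw [hzm t r]
      linear_combination ((v t : ℂ) * (v r : ℂ)) * hDel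
    have hsn : ¬ MemLocalIdeal M s := by
      intro h
      apply H20.not_memIdeal_one (M := M)
      have := H20.memIdeal_add h2 (H20.memIdeal_mul (H20.memRing_mul hcbR hsR) h)
      rwa [sub_add_cancel] at this
    have h3 : MemLocalIdeal M (cb * N₀ * s) := by
      have hI' : MemLocalIdeal M (∑ t : T, (v t : ℂ) * ((p : ℂ) ^ d * loc p C z b 1 χ₀ t.1)) := by
        simpa only [hv] using hI
      have := H20.memIdeal_add hI' (H20.memIdeal_mul (H20.memRing_neg (H20.memRing_natCast 1)) h1)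
      convert this using 1
      push_cast
      ring
    have hNR : MemLocalRing M (cb * N₀) := H20.memRing_mul hcbR (H20.memRing_sum _ _ fun θ _ =>
      H20.memRing_mul (H20.memRing_mul (memRing_mult C χ₀ θ) (hepsR θ).1) (H20.memRing_natCast _))
    rw [← H20.redC_eq_zero_iff (H20.memRing_mul hNR hsR), H20.redC_mul hNR hsR, mul_eq_zero,
      H20.redC_eq_zero_iff hNR, H20.redC_eq_zero_iff hsR] at h3
    exact h3.elim hNn hsn
  -- the bound
  suffices h : (S.card : ℝ) ≤ (p : ℝ) ^ d by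
    rw [H22.natCard_block]
    exact_mod_cast h
  have hP : (0 : ℝ) ≤ (p : ℝ) ^ d := by positivity
  interval_cases m
  · rcases S.eq_empty_or_nonempty with h | ⟨χ, hχ⟩
    · simp [h]
    · exact (hne χ hχ).elim fun i => i.elim0
  · have hq : 0 < Q 0 0 := by simpa using hpos (fun _ => 1) (fun h => by simpa using congrFun h 0)
    have hφ : (0 : ℝ) < ((p ^ a).totient : ℝ) := by exact_mod_cast Nat.totient_pos.2 hn
    have hsum : ∀ j ∈ H19.units' (p ^ a),
        (Q 0 0 : ℝ) * ∑ χ ∈ S, ‖aeval (ζ ^ j) (A 0 χ)‖ ^ 2 = (p : ℝ) ^ d := by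
      intro j hj
      have h := hrel j hj 0 0
      simp only [hlam, Fin.sum_univ_one, map_mul, map_intCast] at h
      apply Complex.ofReal_injective
      refine mul_left_cancel₀ (show (Q 0 0 : ℂ) ≠ 0 by exact_mod_cast hq.ne') ?_
      push_cast
      rw [mul_comm (Q 0 0 : ℂ) ((p : ℂ) ^ d), ← h, Finset.mul_sum, Finset.mul_sum]
      refine Finset.sum_congr rfl fun χ _ => ?_
      rw [← Complex.mul_conj']
      ring
    have hlow : ∀ χ ∈ S, ((p ^ a).totient : ℝ) ≤
        ∑ j ∈ H19.units' (p ^ a), (Q 0 0 : ℝ) * ‖aeval (ζ ^ j) (A 0 χ)‖ ^ 2 := by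
      intro χ hχ
      obtain ⟨i, hi⟩ := hne χ hχ
      rw [Subsingleton.elim i 0] at hi
      refine (H19.totient_le_sum_normSq hn hζ _ hi).trans (Finset.sum_le_sum fun j _ => ?_)
      refine le_mul_of_one_le_left (by positivity) ?_
      exact_mod_cast hq
    have hbig := Finset.sum_le_sum hlow
    rw [Finset.sum_comm, Finset.sum_congr rfl fun j hj => (by rw [← Finset.mul_sum]; exact hsum j hj :
      ∑ χ ∈ S, (Q 0 0 : ℝ) * ‖aeval (ζ ^ j) (A 0 χ)‖ ^ 2 = (p : ℝ) ^ d),
      Finset.sum_const, Finset.sum_const, H19.card_units', nsmul_eq_mul, nsmul_eq_mul] at hbig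
    refine le_of_mul_le_mul_left ?_ hφ
    linarith
  · have hsy : Q 1 0 = Q 0 1 := by
      rw [hQ, hQ, Finset.sum_comm]
      refine Finset.sum_congr rfl fun s _ => Finset.sum_congr rfl fun t _ => ?_
      rw [hzmat.symm _ (H22.mem_blockFinset.1 t.2) _ (H22.mem_blockFinset.1 s.2)]
      ring
    have hA0 : 0 < Q 0 0 := by
      simpa [Fin.sum_univ_two] using hpos ![1, 0] (fun h => by simpa using congrFun h 0)
    have hdet : 0 < Q 0 0 * Q 1 1 - Q 0 1 ^ 2 := by
      have h := hpos ![-Q 0 1, Q 0 0] (fun h => hA0.ne' (by simpa using congrFun h 1))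
      simp [Fin.sum_univ_two, hsy] at h
      nlinarith
    refine binary_bound S hn hζ _ hP (Q 0 0).toNat (Q 0 0) (Q 0 1) (Q 1 1) (A 0) (A 1) le_rfl
      hA0 hdet (fun χ hχ => ?_) (fun x y hxy χ hχ => ?_) (fun j hj α β => ?_)
    · obtain ⟨i, hi⟩ := hne χ hχ
      fin_cases i
      · exact Or.inl hi
      · exact Or.inr hi
    · have h := hone ![x, y] (by simp [Fin.sum_univ_two, hsy]; linarith) χ hχ
      simpa [hlam, Fin.sum_univ_two, hsy] using h
    · apply Complex.ofReal_injective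
      push_cast
      have e00 := hrel j hj 0 0
      have e01 := hrel j hj 0 1
      have e10 := hrel j hj 1 0
      have e11 := hrel j hj 1 1
      simp only [hlam, Fin.sum_univ_two, hsy] at e00 e01 e10 e11
      rw [show ∀ P : ℂ, P * ((α : ℂ) ^ 2 * (Q 0 0 : ℂ) + 2 * (α : ℂ) * (β : ℂ) * (Q 0 1 : ℂ) +
          (β : ℂ) ^ 2 * (Q 1 1 : ℂ)) = (α : ℂ) ^ 2 * (P * (Q 0 0 : ℂ)) +
          (α : ℂ) * (β : ℂ) * (P * (Q 0 1 : ℂ)) + (α : ℂ) * (β : ℂ) * (P * (Q 0 1 : ℂ)) +
          (β : ℂ) ^ 2 * (P * (Q 1 1 : ℂ)) from fun P => by ring]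
      conv_rhs =>
        rw [← e00]
        arg 1; arg 1; arg 2; rw [← e01]
      conv_rhs =>
        arg 1; arg 2; rw [← e10]
      conv_rhs => rw [← e11]
      simp only [Finset.mul_sum, ← Finset.sum_add_distrib]
      refine Finset.sum_congr rfl fun χ _ => ?_
      rw [← Complex.mul_conj']
      simp only [map_add, map_mul, map_intCast]
      ring

end H19.RankTwo
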