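import Cfsg.Agent.H19.SectionTransport
import Cfsg.Agent.H19.AbelianSum
import Cfsg.Agent.S4688

/-!
**Broué–Puig**: the characters of a nilpotent block are the star products of one character of
height zero with the irreducible characters of the defect group.
-/

set_option autoImplicit false
set_option linter.unusedSectionVars false
set_option linter.style.haveILetI false

open Cfsg Finset
open scoped MonoidAlgebra ComplexConjugate

namespace H19.NilpotentStar

universe u

variable {G : Type u} [Group G] [Fintype G] {p : ℕ} [hp : Fact p.Prime] {M : Ideal AlgInt}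
  [hMp : M.IsPrime] [CharP (H20.k M) p] [IsAlgClosed (H20.k M)]

local notation "C[" x "]" => (Subgroup.centralizer ({x} : Set _))

variable {B : Set (IrrCharacter G)} {P : Subgroup G}
  {e₀ : Set (IrrCharacter (Subgroup.centralizer (P : Set G)))}

local notation "f₀" => H23.eG M (Subgroup.centralizer (P : Set G)) e₀

/-- The pairs at elements are fused by `P` alone. -/
theorem fusion (hmax : IsMaximalBrauerPair p M B P e₀) (hnil : IsNilpotentBlock p M B) {x g : G}
    {f : (H20.k M)[G]} (hf : H23.Le p (Subgroup.zpowers x, f) (P, f₀))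
    (hgf : H23.Le p (H23.cjS g (Subgroup.zpowers x), H23.cj g f) (P, f₀)) :
    ∃ z ∈ P, z * x * z⁻¹ = g * x * g⁻¹ := by
  have hP := H23.isMax_of (M := M) hmax
  have hF := H23.pairFS_isBlockFS hmax
  have h1 : Cfsg.conjHom (Subgroup.zpowers x) g ∈
      (H23.pairFS (H23.isPair_of (M := M) hmax.1.1)).Hom (Subgroup.zpowers x) :=
    (H23.hom_iff_of_le hP (H23.hom_eq_pairHom hF) hf _).2 ⟨g, fun u => rfl, hgf⟩
  rw [(H23.isNilpotentBlock_iff_inner hF).1 hnil] at h1
  obtain ⟨-, u, hu, huy⟩ := h1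
  exact ⟨u, hu, (huy ⟨x, Subgroup.mem_zpowers x⟩).symm⟩

/-- The block of the centraliser below the maximal pair. -/
theorem exists_local (hM : IsPModular p M) (hmax : IsMaximalBrauerPair p M B P e₀)
    (hnil : IsNilpotentBlock p M B) {u : G} (hu : u ∈ P) :
    ∃ b : Set (IrrCharacter C[u]), IsInducedBlock M C[u] b B ∧
      H23.Le p (Subgroup.zpowers u, H23.eG M C[u] b) (P, f₀) ∧
      p ^ blockDefect p b = Nat.card (P ⊓ C[u] : Subgroup G) := by
  classical
  have hP := H23.isMax_of (M := M) hmax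
  have hB := hnil.1
  obtain ⟨f, hf⟩ := H23.exists_le p hP.1 (Subgroup.zpowers_le.2 hu)
  obtain ⟨b', hb', hbe⟩ := H23.exists_of_isPair (hf.pair_left p hP.1)
  simp only at hbe
  rw [← hbe] at hf
  haveI := Fintype.ofFinite (Subgroup.centralizer ((Subgroup.zpowers u : Subgroup G) : Set G))
  have hu' : ∃ k : ℕ, orderOf u = p ^ k := by
    obtain ⟨k, hk⟩ := IsPGroup.iff_orderOf.1 hP.1.1 ⟨u, hu⟩
    exact ⟨k, by rwa [Subgroup.orderOf_mk] at hk⟩
  have hQf : IsBrauerPairOf p M B (Subgroup.zpowers u) b' :=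
    (H23.isBrauerPairOf_iff hB hb').2 ((hf.inBlk_iff p (H23.cidem_eB hB)).1 hP.2.1)
  have hdef := (Agent.S4688.result p M hM B P e₀ hmax hnil (Subgroup.zpowers u) b' hQf).2
    (H23.subpairLE_of_le hb'.2 hmax.1.1 hf)
  have hind := SubNorm.induced_of_brauerPairOf hM hu' (H17.Major.centralizer_zpowers_eq u) hQf
  have hcard := H20.card_defectGroup hM hb'.2 hdef
  rw [Nat.card_congr (Subgroup.subgroupOfEquivOfLe inf_le_right).toEquiv] at hcard
  have key : ∀ H : Subgroup G, H = C[u] → ∀ b : Set (IrrCharacter H),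
      IsInducedBlock M H b B → H23.Le p (Subgroup.zpowers u, H23.eG M H b) (P, f₀) →
      p ^ blockDefect p b = Nat.card (P ⊓ H : Subgroup G) →
      ∃ b : Set (IrrCharacter C[u]), IsInducedBlock M C[u] b B ∧
        H23.Le p (Subgroup.zpowers u, H23.eG M C[u] b) (P, f₀) ∧
        p ^ blockDefect p b = Nat.card (P ⊓ C[u] : Subgroup G) := by
    rintro H rfl b h1 h2 h3
    exact ⟨b, h1, h2, h3⟩
  exact key _ (H17.Major.centralizer_zpowers_eq u) b' hind hf hcard.symm

variable [∀ x : G, Fintype C[x]]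
  [∀ x : G, Fintype {e : Set (IrrCharacter C[x]) // IsPBlock M e}]

/-- The blocks below the maximal pair at the elements of `P`. -/
structure Local (bl : ∀ u : P, Set (IrrCharacter C[(u : G)])) : Prop where
  ind : ∀ u : P, IsInducedBlock M C[(u : G)] (bl u) B
  le : ∀ u : P, H23.Le p (Subgroup.zpowers (u : G), H23.eG M C[(u : G)] (bl u)) (P, f₀)
  defect : ∀ u : P, p ^ blockDefect p (bl u) = Nat.card (P ⊓ C[(u : G)] : Subgroup G)

open Classical in
/-- Counting the subsections of a nilpotent block through the elements of `P`. -/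
theorem weighted_sum (hM : IsPModular p M) (hmax : IsMaximalBrauerPair p M B P e₀)
    (hnil : IsNilpotentBlock p M B) {bl : ∀ u : P, Set (IrrCharacter C[(u : G)])}
    (hbl : Local (p := p) (M := M) (B := B) (e₀ := e₀) bl)
    (ψ : P → ℂ) (Ψ : ∀ x : G, StarSums.Blk M x → ℂ)
    (hΨ : ∀ (u : P) (g x : G) (e : StarSums.Blk M x), g * (u : G) * g⁻¹ = x →
      H23.eG M C[x] e.1 = H23.cj g (H23.eG M C[(u : G)] (bl u)) → Ψ x e = ψ u) :
    (Nat.card G : ℂ) * ∑ u : P, (Nat.card (P ⊓ C[(u : G)] : Subgroup G) : ℂ) * ψ u =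
      (Nat.card P : ℂ) * ∑ x ∈ StarSums.pEls G p, (Nat.card C[x] : ℂ) *
        ∑ e ∈ univ.filter (fun e : StarSums.Blk M x => IsInducedBlock M C[x] e.1 B), Ψ x e := by
  have hB := hnil.1
  have hP := H23.isMax_of (M := M) hmax
  let J := Σ x : G, StarSums.Blk M x
  let JS : Finset J := (StarSums.pEls G p).sigma fun x =>
    univ.filter fun e : StarSums.Blk M x => IsInducedBlock M C[x] e.1 B
  have hex : ∀ q : G × P, ∃ j : J, j ∈ JS ∧ j.1 = q.1 * (q.2 : G) * q.1⁻¹ ∧
      H23.eG M C[j.1] j.2.1 = H23.cj q.1 (H23.eG M C[(q.2 : G)] (bl q.2)) := by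
    rintro ⟨g, u⟩
    have hxo : ∃ k : ℕ, orderOf (g * (u : G) * g⁻¹) = p ^ k := by
      obtain ⟨k, hk⟩ := IsPGroup.iff_orderOf.1 hP.1.1 u
      rw [← Subgroup.orderOf_coe] at hk
      exact ⟨k, by rw [← hk]; exact (MulAut.conj g).orderOf_eq _⟩
    have hfp := H23.pair_cj p ((hbl.le u).pair_left p hP.1) g
    have hfin := H23.inBlk_cj (H23.cidem_eB (M := M) hB).fix
      (((hbl.le u).inBlk_iff p (H23.cidem_eB hB)).1 hP.2.1) g
    rw [H11.Star.cjS_zpowers] at hfp hfin
    obtain ⟨b, hb, hbf⟩ := CyclicBlock.exists_subsection hM hB hxo hfp hfin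
    exact ⟨⟨_, b, hb.1⟩,
      mem_sigma.2 ⟨StarSums.mem_pEls.2 hxo, mem_filter.2 ⟨mem_univ _, hb⟩⟩, rfl, hbf⟩
  choose Φ hΦS hΦ1 hΦ2 using hex
  have hval : ∀ q : G × P, Ψ (Φ q).1 (Φ q).2 = ψ q.2 := fun q =>
    hΨ q.2 q.1 _ (Φ q).2 (hΦ1 q).symm (hΦ2 q)
  have hfib : ∀ j ∈ JS, ∑ q ∈ univ.filter (fun q : G × P => Φ q = j),
      Nat.card (P ⊓ C[(q.2 : G)] : Subgroup G) = Nat.card C[j.1] * Nat.card P := by
    rintro ⟨x, e⟩ hj
    obtain ⟨hx, he⟩ := mem_sigma.1 hj
    have hind' : IsInducedBlock M C[x] e.1 B := (mem_filter.1 he).2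
    obtain ⟨h, hh⟩ := AbelianSum.exists_conj_below hM hB hP (StarSums.mem_pEls.1 hx) hind'
    rw [H11.Star.cjS_zpowers] at hh
    have hu0 : h * x * h⁻¹ ∈ P := (hh.le p) (Subgroup.mem_zpowers _)
    set u0 : P := ⟨h * x * h⁻¹, hu0⟩ with hu0def
    have hb0 : H23.eG M C[(u0 : G)] (bl u0) = H23.cj h (H23.eG M C[x] e.1) :=
      H23.le_unique p hP.1 (hbl.le u0) hh
    set g0 := h⁻¹ with hg0
    have hg0x : g0 * (u0 : G) * g0⁻¹ = x := by rw [hg0, hu0def]; group
    have hg0e : H23.cj g0 (H23.eG M C[(u0 : G)] (bl u0)) = H23.eG M C[x] e.1 := by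
      rw [hb0, hg0, H23.cj_inv_cancel]
    have hchar : ∀ q : G × P, Φ q = ⟨x, e⟩ ↔ q.1 * (q.2 : G) * q.1⁻¹ = x ∧
        H23.cj q.1 (H23.eG M C[(q.2 : G)] (bl q.2)) = H23.eG M C[x] e.1 := by
      intro q
      constructor
      · intro hq
        have h1 := hΦ1 q
        have h2 := hΦ2 q
        rw [hq] at h1 h2
        exact ⟨h1.symm, h2.symm⟩
      · rintro ⟨h1, h2⟩
        have key : ∀ j' : J, j'.1 = x → H23.eG M C[j'.1] j'.2.1 = H23.eG M C[x] e.1 →
            j' = ⟨x, e⟩ := by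
          rintro ⟨x', e'⟩ e1 e2
          obtain rfl : x' = x := e1
          exact congrArg _ (Subtype.ext (H23.eG_injective e'.2 e.2 e2))
        exact key _ ((hΦ1 q).trans h1) ((hΦ2 q).trans h2)
    let ψf : C[(u0 : G)] × P → G × P := fun a =>
      (g0 * (a.1 : G) * (a.2 : G), a.2⁻¹ * u0 * a.2)
    have hψmem : ∀ a, ψf a ∈ univ.filter (fun q : G × P => Φ q = ⟨x, e⟩) := by
      rintro ⟨a, t⟩
      refine mem_filter.2 ⟨mem_univ _, (hchar _).2 ⟨?_, ?_⟩⟩
      · have ha := Subgroup.mem_centralizer_singleton_iff.1 a.2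
        show g0 * (a : G) * (t : G) * ((t : G)⁻¹ * (u0 : G) * (t : G)) *
          (g0 * (a : G) * (t : G))⁻¹ = x
        calc g0 * (a : G) * (t : G) * ((t : G)⁻¹ * (u0 : G) * (t : G)) * (g0 * (a : G) * (t : G))⁻¹
            = g0 * ((a : G) * (u0 : G) * (a : G)⁻¹) * g0⁻¹ := by group
          _ = x := by rw [ha, mul_inv_cancel_right, hg0x]
      · show H23.cj (g0 * (a : G) * (t : G)) _ = _
        rw [← H23.cj_cj, ← H23.cj_cj]
        have h1 := (hbl.le (ψf (a, t)).2).cj p (t : G)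
        have hst := H23.le_stab p hP.1 t.2
        rw [H23.cjS_eq_self hst.1, hst.2, H11.Star.cjS_zpowers,
          show (t : G) * (((ψf (a, t)).2 : P) : G) * (t : G)⁻¹ = (u0 : G) by
            show (t : G) * ((t : G)⁻¹ * (u0 : G) * (t : G)) * (t : G)⁻¹ = (u0 : G)
            group] at h1
        rw [← H23.le_unique p hP.1 (hbl.le u0) h1,
          H23.isFix_iff_cj.1 (H23.cidem_eG (M := M) (hbl.ind u0).1).fix _ a.2, hg0e]
    have hsize : ∀ q ∈ univ.filter (fun q : G × P => Φ q = ⟨x, e⟩),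
        (univ.filter fun a => ψf a = q).card = Nat.card (P ⊓ C[(q.2 : G)] : Subgroup G) := by
      rintro ⟨g, u⟩ hq
      obtain ⟨hgu, hge⟩ := (hchar _).1 (mem_filter.1 hq).2
      have hgu0 : g0⁻¹ * g * (u : G) * (g0⁻¹ * g)⁻¹ = (u0 : G) := by
        calc g0⁻¹ * g * (u : G) * (g0⁻¹ * g)⁻¹ = g0⁻¹ * (g * (u : G) * g⁻¹) * g0 := by group
          _ = g0⁻¹ * (g0 * (u0 : G) * g0⁻¹) * g0 := by rw [hgu, hg0x]
          _ = _ := by group
      obtain ⟨t, ht, htu'⟩ := fusion hmax hnil (hbl.le u) (g := g0⁻¹ * g) (by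
        rw [H11.Star.cjS_zpowers, hgu0, ← H23.cj_cj, hge, ← hg0e, H23.cj_inv_cancel]
        exact hbl.le u0)
      have htu : t * (u : G) * t⁻¹ = (u0 : G) := htu'.trans hgu0
      have hgt : ∀ r ∈ P ⊓ C[(u : G)], g0⁻¹ * g * r⁻¹ * t⁻¹ ∈ C[(u0 : G)] := by
        intro r hr
        have hru := Subgroup.mem_centralizer_singleton_iff.1 hr.2
        rw [Subgroup.mem_centralizer_singleton_iff]
        calc g0⁻¹ * g * r⁻¹ * t⁻¹ * (u0 : G)
            = g0⁻¹ * g * r⁻¹ * t⁻¹ * (t * (u : G) * t⁻¹) := by rw [htu]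
          _ = g0⁻¹ * g * (r⁻¹ * ((u : G) * r) * r⁻¹) * t⁻¹ := by group
          _ = g0⁻¹ * g * (r⁻¹ * (r * (u : G)) * r⁻¹) * t⁻¹ := by rw [hru]
          _ = g0⁻¹ * (g * (u : G) * g⁻¹) * g0 * (g0⁻¹ * g * r⁻¹ * t⁻¹) := by group
          _ = g0⁻¹ * (g0 * (u0 : G) * g0⁻¹) * g0 * (g0⁻¹ * g * r⁻¹ * t⁻¹) := by rw [hgu, hg0x]
          _ = (u0 : G) * (g0⁻¹ * g * r⁻¹ * t⁻¹) := by group
      have key : ∀ a : C[(u0 : G)] × P, ψf a = (g, u) → t⁻¹ * (a.2 : G) ∈ P ⊓ C[(u : G)] := by
        rintro ⟨a, s⟩ has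
        refine Subgroup.mem_inf.2 ⟨P.mul_mem (P.inv_mem ht) s.2, ?_⟩
        have hs : (s : G)⁻¹ * (u0 : G) * (s : G) = u :=
          congrArg (fun q : G × P => (q.2 : G)) has
        show t⁻¹ * (s : G) ∈ C[(u : G)]
        rw [Subgroup.mem_centralizer_singleton_iff]
        calc t⁻¹ * (s : G) * (u : G) = t⁻¹ * (u0 : G) * (s : G) := by rw [← hs]; group
          _ = (u : G) * (t⁻¹ * (s : G)) := by rw [← htu]; group
      rw [← Fintype.card_subtype, ← Nat.card_eq_fintype_card]
      refine Nat.card_congr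
        { toFun := fun a => ⟨t⁻¹ * (a.1.2 : G), key a.1 a.2⟩
          invFun := fun r => ⟨(⟨g0⁻¹ * g * (r : G)⁻¹ * t⁻¹, hgt r r.2⟩,
            ⟨t * (r : G), mul_mem ht r.2.1⟩), ?_⟩
          left_inv := ?_
          right_inv := ?_ }
      · refine Prod.ext ?_ (Subtype.ext ?_)
        · show g0 * (g0⁻¹ * g * (r : G)⁻¹ * t⁻¹) * (t * (r : G)) = g
          group
        · show (t * (r : G))⁻¹ * (u0 : G) * (t * (r : G)) = u
          have hru := Subgroup.mem_centralizer_singleton_iff.1 r.2.2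
          calc (t * (r : G))⁻¹ * (u0 : G) * (t * (r : G))
              = (r : G)⁻¹ * (t⁻¹ * (u0 : G) * t) * (r : G) := by group
            _ = (r : G)⁻¹ * ((u : G) * (r : G)) := by rw [← htu]; group
            _ = u := by rw [← hru]; group
      · rintro ⟨⟨a, s⟩, has⟩
        have hg' : g0 * (a : G) * (s : G) = g := congrArg Prod.fst has
        refine Subtype.ext (Prod.ext (Subtype.ext ?_) (Subtype.ext ?_))
        · show g0⁻¹ * g * (t⁻¹ * (s : G))⁻¹ * t⁻¹ = a
          rw [← hg']; group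
        · show t * (t⁻¹ * (s : G)) = s
          group
      · intro r
        exact Subtype.ext (show t⁻¹ * (t * (r : G)) = r by group)
    have hcardC : Nat.card C[(u0 : G)] = Nat.card C[x] := by
      rw [show C[(u0 : G)] = H23.cjS h C[x] by
        rw [← H17.Major.centralizer_zpowers_eq, ← H17.Major.centralizer_zpowers_eq x,
          H23.cjS_centralizer, H11.Star.cjS_zpowers]]
      exact Subgroup.card_map_of_injective (MulAut.conj h).injective
    rw [← sum_congr rfl hsize, ← card_eq_sum_card_fiberwise (fun a _ => hψmem a), card_univ,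
      ← Nat.card_eq_fintype_card, Nat.card_prod, hcardC]
  calc (Nat.card G : ℂ) * ∑ u : P, (Nat.card (P ⊓ C[(u : G)] : Subgroup G) : ℂ) * ψ u
      = ∑ q : G × P, (Nat.card (P ⊓ C[(q.2 : G)] : Subgroup G) : ℂ) * Ψ (Φ q).1 (Φ q).2 := by
        simp only [hval]
        rw [Fintype.sum_prod_type]
        simp only [sum_const, card_univ, nsmul_eq_mul, ← Nat.card_eq_fintype_card]
    _ = ∑ j ∈ JS, ∑ q ∈ univ.filter (fun q : G × P => Φ q = j),
          (Nat.card (P ⊓ C[(q.2 : G)] : Subgroup G) : ℂ) * Ψ (Φ q).1 (Φ q).2 :=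
        (sum_fiberwise_of_maps_to (fun q _ => hΦS q) _).symm
    _ = ∑ j ∈ JS, (Nat.card P : ℂ) * ((Nat.card C[j.1] : ℂ) * Ψ j.1 j.2) := by
        refine sum_congr rfl fun j hj => ?_
        rw [sum_congr rfl fun q hq => by rw [(mem_filter.1 hq).2], ← sum_mul, ← Nat.cast_sum,
          hfib j hj, Nat.cast_mul]
        ring
    _ = _ := by
        rw [sum_sigma, mul_sum]
        refine sum_congr rfl fun x _ => ?_
        rw [mul_sum, mul_sum]

/-- A setup with a given range of exponents. -/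
theorem exists_setup_range (hM : IsPModular p M) {x : G} {n : ℕ} (hx : x ^ (p ^ n * p) = 1)
    {b : Set (IrrCharacter C[x])} (hind : IsInducedBlock M C[x] b B) :
    ∃ S : H22.Contrib.Setup p M x B b, S.j = n := by
  obtain ⟨z, hz, hzm⟩ := H22.exists_isDeltaMatrix hM hind.1
  obtain ⟨κ, hκR, hκI, hκ⟩ := H22.exists_congr_const hM hind.1 (H22.weakOrth_of_block hM hind.1)
  exact ⟨⟨hM, hind.2.1, hind, n, hx, _, Complex.isPrimitiveRoot_exp _
    (mul_ne_zero (pow_ne_zero _ hp.out.ne_zero) hp.out.ne_zero), z, hz, hzm, κ, hκR, hκI, hκ⟩, rfl⟩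

/-- The weight of `χ` at an element of `P`. -/
noncomputable def wt (p : ℕ) (bl : ∀ u : P, Set (IrrCharacter C[(u : G)])) (χ : IrrCharacter G)
    (u : P) : ℝ :=
  (Nat.card (P ⊓ C[(u : G)] : Subgroup G) : ℝ) * StarSums.nrm p (u : G) (bl u) χ

open Classical in
/-- Inner products of sectional functions read on `P`. -/
theorem inner_pairs (hM : IsPModular p M) (hmax : IsMaximalBrauerPair p M B P e₀)
    (hnil : IsNilpotentBlock p M B) {bl : ∀ u : P, Set (IrrCharacter C[(u : G)])}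
    (hbl : Local (p := p) (M := M) (B := B) (e₀ := e₀) bl) {χ : IrrCharacter G} (hχ : χ ∈ B)
    {a a' : ∀ x : G, StarSums.Blk M x → ℂ} {S T : G → ℂ} (hS : StarSums.Sectional p χ a S)
    (hT : StarSums.Sectional p χ a' T) {φ φ' : P → ℂ}
    (hφ : ∀ (u : P) (g x : G) (e : StarSums.Blk M x), g * (u : G) * g⁻¹ = x →
      H23.eG M C[x] e.1 = H23.cj g (H23.eG M C[(u : G)] (bl u)) → a x e = φ u)
    (hφ' : ∀ (u : P) (g x : G) (e : StarSums.Blk M x), g * (u : G) * g⁻¹ = x →
      H23.eG M C[x] e.1 = H23.cj g (H23.eG M C[(u : G)] (bl u)) → a' x e = φ' u) :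
    (Nat.card P : ℂ) * classInner S T =
      ∑ u : P, φ u * conj (φ' u) * (wt p bl χ u : ℂ) := by
  classical
  have hsum := StarSums.inner_sectional hM hS hT
  have hrest : ∑ x ∈ StarSums.pEls G p, (Nat.card C[x] : ℂ) *
        ∑ e : StarSums.Blk M x, a x e * conj (a' x e) * (StarSums.nrm p x e.1 χ : ℂ) =
      ∑ x ∈ StarSums.pEls G p, (Nat.card C[x] : ℂ) *
        ∑ e ∈ univ.filter (fun e : StarSums.Blk M x => IsInducedBlock M C[x] e.1 B),
          a x e * conj (a' x e) * (StarSums.nrm p x e.1 χ : ℂ) := by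
    refine sum_congr rfl fun x hx => congrArg _ (sum_filter_of_ne fun e _ he => ?_).symm
    by_contra hnot
    exact he (by
      rw [StarSums.nrm_eq_zero hM (StarSums.mem_pEls.1 hx) hnil.1 hχ e.2 hnot, Complex.ofReal_zero,
        mul_zero])
  rw [hrest] at hsum
  have h := weighted_sum hM hmax hnil hbl
    (fun u => φ u * conj (φ' u) * (StarSums.nrm p (u : G) (bl u) χ : ℂ))
    (fun x e => a x e * conj (a' x e) * (StarSums.nrm p x e.1 χ : ℂ))
    (fun u g x e h1 h2 => by
      rw [hφ u g x e h1 h2, hφ' u g x e h1 h2,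
        SectionTransport.nrm_cj h1 (hbl.ind u).1 e.2 h2 χ])
  rw [← hsum] at h
  refine mul_left_cancel₀ (H12.card_ne_zero' (G := G)) ?_
  rw [mul_left_comm, ← h]
  congr 1
  refine sum_congr rfl fun u _ => ?_
  simp only [wt]
  push_cast
  ring

open Classical in
/-- Averages over the powers prime to `p`. -/
theorem sum_invariant (hM : IsPModular p M) (hmax : IsMaximalBrauerPair p M B P e₀)
    (hnil : IsNilpotentBlock p M B) {bl : ∀ u : P, Set (IrrCharacter C[(u : G)])}
    (hbl : Local (p := p) (M := M) (B := B) (e₀ := e₀) bl) {χ : IrrCharacter G} (hχ : χ ∈ B)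
    (h0 : blockHeight p B (χ : G → ℂ) = 0) :
    (∀ u, 0 < wt p bl χ u) ∧ ∀ φ : P → ℝ, (∀ (k : ℕ) (u : P), ¬ p ∣ k → φ (u ^ k) = φ u) →
      ∑ u : P, φ u * wt p bl χ u = ∑ u : P, φ u := by
  classical
  have hP := H23.isMax_of (M := M) hmax
  obtain ⟨n, hn⟩ := IsPGroup.iff_card.1 hP.1.1
  have hpow : ∀ u : P, (u : G) ^ (p ^ n * p) = 1 := fun u => by
    rw [← Subgroup.coe_pow, pow_mul, ← hn, pow_card_eq_one', one_pow, Subgroup.coe_one]
  choose S hSj using fun u : P => exists_setup_range hM (n := n) (hpow u) (hbl.ind u)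
  set U := H22.Cyc.units p (p ^ n * p) with hU
  have hUp : ∀ k ∈ U, ¬ p ∣ k := fun k hk => (mem_filter.1 hk).2
  have haval : ∀ u : P, ∀ k ∈ U, wt p bl χ (u ^ k) = ((S u).aval k χ χ).re := by
    intro u k hk
    have hcop : (orderOf u).Coprime k := by
      obtain ⟨j, hj⟩ := IsPGroup.iff_orderOf.1 hP.1.1 u
      rw [hj]
      exact ((hp.out.coprime_iff_not_dvd).2 (hUp k hk)).pow_left j
    obtain ⟨m, hm⟩ := exists_pow_eq_self_of_coprime hcop.symm
    have hm' : (((u ^ k : P) : G)) ^ m = (u : G) := by rw [← Subgroup.coe_pow, hm]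
    have hz : Subgroup.zpowers ((u ^ k : P) : G) = Subgroup.zpowers (u : G) := by
      refine le_antisymm (Subgroup.zpowers_le.2 ?_) (Subgroup.zpowers_le.2 ?_)
      · rw [Subgroup.coe_pow]
        exact pow_mem (Subgroup.mem_zpowers _) k
      · rw [← hm']
        exact pow_mem (Subgroup.mem_zpowers _) m
    have hC : C[((u ^ k : P) : G)] = C[(u : G)] := by
      rw [← H17.Major.centralizer_zpowers_eq, hz, H17.Major.centralizer_zpowers_eq]
    have heq : H23.eG M C[((u ^ k : P) : G)] (bl (u ^ k)) = H23.eG M C[(u : G)] (bl u) := by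
      have h1 := hbl.le (u ^ k)
      rw [hz] at h1
      exact H23.le_unique p hP.1 h1 (hbl.le u)
    rw [SectionTransport.aval_eq_nrm_pow (S u) (y := ((u ^ k : P) : G)) (Subgroup.coe_pow P u k).symm
      hC (hbl.ind u).1 (hbl.ind (u ^ k)).1 heq χ, wt, hC, ← hbl.defect u, Nat.cast_pow]
  have hpos : ∀ u : P, 0 < ((S u).aval 1 χ χ).re := by
    intro u
    have hne : (S u).aval 1 χ χ ≠ 0 := fun h =>
      (S u).aval_not_memIdeal hχ hχ h0 h0 (by rw [h]; exact H20.memIdeal_zero)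
    refine lt_of_le_of_ne ((S u).aval_self_nonneg 1 χ).1 fun h => hne ?_
    exact Complex.ext h.symm ((S u).aval_self_nonneg 1 χ).2
  have hone : (1 : ℕ) ∈ U := H22.Cyc.one_mem_units
  have hwpos : ∀ u : P, 0 < wt p bl χ u := fun u => by
    have h := haval u 1 hone
    rw [pow_one] at h
    rw [h]
    exact hpos u
  refine ⟨hwpos, ?_⟩
  have hsum : ∀ u : P, ∑ k ∈ U, wt p bl χ (u ^ k) = (p : ℝ) ^ n * ((S u).aSum χ : ℝ) := by
    intro u
    rw [sum_congr rfl fun k hk => haval u k hk, ← Complex.re_sum, hU, ← hSj u]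
    rw [(S u).sum_units_aval χ, Nat.cast_pow, ← Complex.ofReal_natCast, ← Complex.ofReal_pow,
      Complex.re_ofReal_mul, Complex.intCast_re]
  have hge : ∀ u : P, ((p : ℤ) - 1) * 1 ≤ (S u).aSum χ := fun u => by
    refine H22.Cyc.le_Phi (S u).form_symm (S u).form_nonneg (fun a ha => ?_) ((S u).vec χ)
      ((S u).aSum_ne_zero χ fun h => (hpos u).ne' (by rw [h]; rfl))
    have := (S u).form_nonneg a
    omega
  have hperm : ∀ φ : P → ℝ, (∀ (k : ℕ) (u : P), ¬ p ∣ k → φ (u ^ k) = φ u) →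
      (U.card : ℝ) * ∑ u : P, φ u * wt p bl χ u =
        ∑ u : P, φ u * ((p : ℝ) ^ n * ((S u).aSum χ : ℝ)) := by
    intro φ hφ
    rw [← nsmul_eq_mul, ← sum_const]
    rw [sum_congr rfl (g := fun k => ∑ u : P, φ u * wt p bl χ (u ^ k)) fun k hk => ?_, sum_comm]
    · exact sum_congr rfl fun u _ => by rw [← mul_sum, hsum]
    · have hcop : (Nat.card P).Coprime k := by
        rw [hn]
        exact ((hp.out.coprime_iff_not_dvd).2 (hUp k hk)).pow_left n
      rw [← Equiv.sum_comp (powCoprime hcop)]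
      refine sum_congr rfl fun u _ => ?_
      show φ (u ^ k) * wt p bl χ (u ^ k) = φ u * wt p bl χ (u ^ k)
      rw [hφ k u (hUp k hk)]
  have hcard : (U.card : ℝ) = (p : ℝ) ^ n * ((p : ℝ) - 1) := by
    rw [hU, H22.Cyc.card_units, Nat.cast_mul, Nat.cast_sub hp.out.one_le]
    push_cast
    ring
  -- the total weight
  have htot : ∑ u : P, wt p bl χ u = (Nat.card P : ℝ) := by
    have h := inner_pairs hM hmax hnil hbl hχ (StarSums.sectional_self (M := M) χ)
      (StarSums.sectional_self (M := M) χ) (φ := fun _ => 1) (φ' := fun _ => 1)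
      (fun _ _ _ _ _ _ => rfl) (fun _ _ _ _ _ _ => rfl)
    simp only [H12.classInner_irr_self, mul_one, map_one, one_mul] at h
    exact_mod_cast h.symm
  have hp0 : (0 : ℝ) < (p : ℝ) ^ n := pow_pos (Nat.cast_pos.2 hp.out.pos) n
  have hp1 : (0 : ℝ) < (p : ℝ) - 1 := by
    have : (2 : ℝ) ≤ (p : ℝ) := by exact_mod_cast hp.out.two_le
    linarith
  have hall : ∀ u : P, ((S u).aSum χ : ℝ) = (p : ℝ) - 1 := by
    have h := hperm (fun _ => 1) fun _ _ _ => rfl
    simp only [one_mul, ← mul_sum] at h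
    rw [htot, hcard, mul_assoc] at h
    have h2 : ∑ u : P, ((S u).aSum χ : ℝ) = ∑ _u : P, ((p : ℝ) - 1) := by
      rw [sum_const, card_univ, nsmul_eq_mul, ← Nat.card_eq_fintype_card,
        ← mul_left_cancel₀ hp0.ne' h, mul_comm]
    intro u
    refine ((sum_eq_sum_iff_of_le fun v _ => ?_).1 h2.symm u (mem_univ u)).symm
    have h3 := hge v
    rw [mul_one] at h3
    exact_mod_cast h3
  intro φ hφ
  have h := hperm φ hφ
  simp only [hall, ← mul_assoc, ← sum_mul] at h
  rw [hcard] at h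
  refine mul_left_cancel₀ (mul_ne_zero hp0.ne' hp1.ne') ?_
  rw [h]
  ring

/-- The extension by zero of a class function of `P`. -/
noncomputable def ext0 (η : IrrCharacter P) (g : G) : ℂ := by
  classical exact if h : g ∈ P then (η : P → ℂ) ⟨g, h⟩ else 0

theorem ext0_of_mem (η : IrrCharacter P) {g : G} (h : g ∈ P) :
    ext0 η g = (η : P → ℂ) ⟨g, h⟩ := by
  classical exact dif_pos h

/-- A regular element seen in the centraliser of `1`. -/
theorem mem_centralizer_one (g : G) : g ∈ C[(1 : G)] :=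
  Subgroup.mem_centralizer_singleton_iff.2 (by simp)

/-- **Broué–Puig.** -/
theorem main (hM : IsPModular p M) (hmax : IsMaximalBrauerPair p M B P e₀)
    (hnil : IsNilpotentBlock p M B) :
    ∃ χ ∈ B, blockHeight p B (χ : G → ℂ) = 0 ∧ ∃ Ψ : IrrCharacter P → IrrCharacter G,
      Function.Injective Ψ ∧ (∀ η, Ψ η ∈ B) ∧ (∀ ψ ∈ B, ∃ η, Ψ η = ψ) ∧
      ∀ (η : IrrCharacter P) (g : G),
        pRegularPart p (Ψ η : G → ℂ) g = (η : P → ℂ) 1 * pRegularPart p (χ : G → ℂ) g := by
  classical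
  have hB := hnil.1
  have hP := H23.isMax_of (M := M) hmax
  choose bl hind hle hdef using fun u : P => exists_local hM hmax hnil u.2
  have hbl : Local (p := p) (M := M) (B := B) (e₀ := e₀) bl := ⟨hind, hle, hdef⟩
  obtain ⟨χ, hχ, he⟩ := H22.exists_height_zero (p := p) (H20.block_nonempty hB)
  have h0 : blockHeight p B (χ : G → ℂ) = 0 := Nat.sub_eq_zero_of_le he.le
  obtain ⟨hwpos, hinv⟩ := sum_invariant hM hmax hnil hbl hχ h0
  refine ⟨χ, hχ, h0, ?_⟩
  -- stability
  have hst : ∀ η : IrrCharacter P, H11.Star.Stable p P f₀ (ext0 η) := by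
    intro η x g f hf hgf
    obtain ⟨z, hz, hzx⟩ := fusion hmax hnil hf hgf
    have hx : x ∈ P := (hf.le p) (Subgroup.mem_zpowers x)
    have hy : g * x * g⁻¹ ∈ P := hzx ▸ P.mul_mem (P.mul_mem hz hx) (P.inv_mem hz)
    rw [ext0_of_mem η hy, ext0_of_mem η hx, ← H12.irr_isClassFunction η ⟨x, hx⟩ ⟨z, hz⟩]
    exact congrArg _ (Subtype.ext hzx.symm)
  have hηc : ∀ η : IrrCharacter P, IsCharacter P (fun u : P => ext0 η u) := fun η => by
    rw [show (fun u : P => ext0 η (u : G)) = (η : P → ℂ) from funext fun u => ext0_of_mem η u.2]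
    exact H12.isCharacter_irr η
  let a : IrrCharacter P → ∀ x : G, StarSums.Blk M x → ℂ := fun η x e =>
    H11.Star.etaB p P f₀ (ext0 η) x (H23.eG M C[x] e.1)
  let St : IrrCharacter P → G → ℂ := fun η => H11.Star.star P f₀ (ext0 η) χ p
  have hSs : ∀ η, StarSums.Sectional p χ (a η) (St η) := fun η => StarSums.sectional_star χ
  have hgen : ∀ η, IsGeneralizedCharacter G (St η) := fun η =>
    H11.Star.gen_star hM (H23.isBlk_eB hB) hP (hst η) (hηc η)
  have hbelow : ∀ (η : IrrCharacter P) (u : P) (g x : G) (e : StarSums.Blk M x),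
      g * (u : G) * g⁻¹ = x → H23.eG M C[x] e.1 = H23.cj g (H23.eG M C[(u : G)] (bl u)) →
      a η x e = (η : P → ℂ) u := by
    intro η u g x e hx he
    simp only [a]
    have h1 : g⁻¹ * x * g⁻¹⁻¹ = (u : G) := by rw [← hx]; group
    rw [H11.Star.etaB_eq (hst η) (g := g⁻¹) (by
      rw [H11.Star.cjS_zpowers, h1, he, H23.cj_inv_cancel]; exact hle u), h1, ext0_of_mem η u.2]
  have hfor : ∀ η η' : IrrCharacter P, (Nat.card P : ℂ) * classInner (St η) (St η') =
      ∑ u : P, (η : P → ℂ) u * conj ((η' : P → ℂ) u) * (wt p bl χ u : ℂ) := fun η η' =>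
    inner_pairs hM hmax hnil hbl hχ (hSs η) (hSs η') (hbelow η) (hbelow η')
  have hη1 : ∀ η : IrrCharacter P, ∃ d : ℕ, (η : P → ℂ) 1 = d ∧ 0 < d := fun η => by
    obtain ⟨d, hd, -⟩ := H16.char_one_nat (H12.isCharacter_irr η)
    refine ⟨d, hd, Nat.pos_of_ne_zero fun h => H12.irr_apply_one_ne_zero η ?_⟩
    rw [hd, h, Nat.cast_zero]
  have hreal : ∀ (η : IrrCharacter P) (u : P),
      (η : P → ℂ) u * conj ((η : P → ℂ) u) = (Complex.normSq ((η : P → ℂ) u) : ℂ) := fun η u =>
    Complex.mul_conj _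
  -- the norms
  have hnorm : ∀ η, classInner (St η) (St η) = 1 := by
    choose nn hnn using fun η => H16.gen_norm_nat (hgen η)
    have hre : ∀ η, (Nat.card P : ℝ) * (nn η : ℝ) =
        ∑ u : P, Complex.normSq ((η : P → ℂ) u) * wt p bl χ u := by
      intro η
      have h := hfor η η
      simp only [hreal] at h
      rw [hnn η] at h
      exact_mod_cast h
    have hge : ∀ η, 1 ≤ nn η := by
      intro η
      by_contra h
      have h1 := hre η
      rw [show nn η = 0 by omega, Nat.cast_zero, mul_zero] at h1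
      have h2 := (sum_eq_zero_iff_of_nonneg fun u _ =>
        mul_nonneg (Complex.normSq_nonneg _) (hwpos u).le).1 h1.symm 1 (mem_univ _)
      rcases mul_eq_zero.1 h2 with h3 | h3
      · exact H12.irr_apply_one_ne_zero η (Complex.normSq_eq_zero.1 h3)
      · exact (hwpos 1).ne' h3
    have hc : ∀ u : P, (∑ η : IrrCharacter P, Complex.normSq ((η : P → ℂ) u)) =
        (Nat.card (Subgroup.centralizer ({u} : Set P)) : ℝ) := by
      intro u
      have h := H12.column_orthogonality u u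
      rw [if_pos (IsConj.refl u)] at h
      simp only [hreal] at h
      exact_mod_cast h
    have hcinv : ∀ (k : ℕ) (u : P), ¬ p ∣ k →
        Subgroup.centralizer ({u ^ k} : Set P) = Subgroup.centralizer ({u} : Set P) := by
      intro k u hk
      obtain ⟨j, hj⟩ := IsPGroup.iff_orderOf.1 hP.1.1 u
      obtain ⟨m, hm⟩ := exists_pow_eq_self_of_coprime (x := u) (n := k) (by
        rw [hj]; exact (((hp.out.coprime_iff_not_dvd).2 hk).pow_left j).symm)
      ext g
      simp only [Subgroup.mem_centralizer_singleton_iff]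
      exact ⟨fun h => by rw [← hm]; exact (Commute.pow_right h m).eq,
        fun h => (Commute.pow_right h k).eq⟩
    have hsum : ∑ η : IrrCharacter P, (Nat.card P : ℝ) * (nn η : ℝ) =
        ∑ η : IrrCharacter P, (Nat.card P : ℝ) * ((1 : ℕ) : ℝ) := by
      rw [sum_congr rfl fun η _ => hre η, sum_comm]
      conv_lhs => simp only [← sum_mul]
      rw [hinv (fun u : P => ∑ η : IrrCharacter P, Complex.normSq ((η : P → ℂ) u))
        (fun k u hk => by rw [hc, hc, hcinv k u hk]), sum_comm]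
      refine sum_congr rfl fun η _ => ?_
      have h := H12.classInner_irr_self η
      rw [H12.classInner_def, inv_mul_eq_one₀ (Nat.cast_ne_zero.2 Nat.card_pos.ne')] at h
      simp only [hreal] at h
      rw [Nat.cast_one, mul_one]
      exact_mod_cast h.symm
    intro η
    have h := (sum_eq_sum_iff_of_le fun η _ => mul_le_mul_of_nonneg_left
      (Nat.cast_le.2 (hge η)) (Nat.cast_nonneg _)).1 hsum.symm η (mem_univ η)
    have h' : nn η = 1 := by
      have := mul_left_cancel₀ (Nat.cast_ne_zero.2 Nat.card_pos.ne') h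
      exact_mod_cast this.symm
    rw [hnn η, h', Nat.cast_one]
  -- the values at regular elements
  have hregular : ∀ (η : IrrCharacter P) (g : G), ¬ p ∣ orderOf g →
      St η g = (η : P → ℂ) 1 * (χ : G → ℂ) g := by
    intro η g hg
    have h1 : ∃ k : ℕ, orderOf (1 : G) = p ^ k := ⟨0, by simp⟩
    have hy : ¬ p ∣ orderOf (⟨g, mem_centralizer_one g⟩ : C[(1 : G)]) := by
      rwa [Subgroup.orderOf_mk]
    have h2 := hSs η 1 h1 ⟨g, mem_centralizer_one g⟩ hy
    have h3 := StarSums.sectional_self (M := M) (p := p) χ 1 h1 ⟨g, mem_centralizer_one g⟩ hy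
    simp only [one_mul] at h2 h3
    rw [h2, h3, mul_sum]
    refine sum_congr rfl fun e _ => ?_
    by_cases hne : IsInducedBlock M C[(1 : G)] e.1 B
    · obtain ⟨t, ht⟩ := AbelianSum.exists_conj_below hM hB hP h1 hne
      simp only [a]
      rw [H11.Star.etaB_eq (hst η) ht, mul_one, mul_inv_cancel, ext0_of_mem η P.one_mem]
      rfl
    · rw [show blockPart e.1 (H22.Sub.shiftMap 1 (χ : G → ℂ)) ⟨g, mem_centralizer_one g⟩ = 0 from
        H20.blockPart_shift_eq_zero hM h1 hB hχ e.2 hne _ hy, mul_zero, mul_zero]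
  -- irreducibility
  have hirr : ∀ η, IsIrrCharacter G (St η) := by
    intro η
    rcases H16.norm_one (hgen η) (hnorm η) with h | h
    · exact h
    exfalso
    obtain ⟨d, hd, hdpos⟩ := hη1 η
    obtain ⟨m, hm, -⟩ := H16.char_one_nat (H12.isCharacter_irr χ)
    obtain ⟨m', hm', -⟩ := H16.char_one_nat (H16.char_of_irr h)
    have h1 := hregular η 1 (by rw [orderOf_one]; exact hp.out.not_dvd_one)
    rw [hd, hm] at h1
    rw [Pi.neg_apply, h1] at hm'
    have hm0 : 0 < m := Nat.pos_of_ne_zero fun h' => H12.irr_apply_one_ne_zero χ (by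
      rw [hm, h', Nat.cast_zero])
    have h4 := congrArg Complex.re hm'
    simp only [Complex.neg_re, Complex.mul_re, Complex.natCast_re, Complex.natCast_im, mul_zero,
      sub_zero] at h4
    have h5 : (0 : ℝ) < (d : ℝ) * (m : ℝ) :=
      mul_pos (Nat.cast_pos.2 hdpos) (Nat.cast_pos.2 hm0)
    have h6 : (0 : ℝ) ≤ (m' : ℝ) := Nat.cast_nonneg _
    linarith
  let Ψ : IrrCharacter P → IrrCharacter G := fun η => ⟨St η, hirr η⟩
  have hΨreg : ∀ (η : IrrCharacter P) (g : G),
      pRegularPart p (Ψ η : G → ℂ) g = (η : P → ℂ) 1 * pRegularPart p (χ : G → ℂ) g := by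
    intro η g
    by_cases hg : p ∣ orderOf g
    · rw [H22.pRegularPart_of_dvd _ hg, H22.pRegularPart_of_dvd _ hg, mul_zero]
    · rw [H22.pRegularPart_of_not_dvd _ hg, H22.pRegularPart_of_not_dvd _ hg]
      exact hregular η g hg
  have hreg0 : pRegularPart p (χ : G → ℂ) ≠ 0 := fun h => by
    have h1 := congrFun h 1
    rw [H22.pRegularPart_of_not_dvd _ (by rw [orderOf_one]; exact hp.out.not_dvd_one)] at h1
    exact H12.irr_apply_one_ne_zero χ h1
  have hΨB : ∀ η, Ψ η ∈ B := by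
    intro η
    set B' := blockOf M (Ψ η : G → ℂ) with hB'
    by_contra hnot
    have hne : B' ≠ B := fun h => hnot (h ▸ H20.mem_blockOf_self (Ψ η))
    have h1 : pRegularPart p (Ψ η : G → ℂ) ∈ H22.Sub.irrSpan B' :=
      H22.Sub.regSpan_le_irrSpan hM (H20.isPBlock_blockOf (Ψ η))
        (Submodule.subset_span ⟨Ψ η, H20.mem_blockOf_self (Ψ η), rfl⟩)
    have h2 : pRegularPart p (Ψ η : G → ℂ) = (η : P → ℂ) 1 • pRegularPart p (χ : G → ℂ) :=
      funext fun g => hΨreg η g
    have h3 : pRegularPart p (Ψ η : G → ℂ) ∈ H22.Sub.irrSpan B := by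
      rw [h2]
      exact Submodule.smul_mem _ _ (H22.Sub.regSpan_le_irrSpan hM hB
        (Submodule.subset_span ⟨χ, hχ, rfl⟩))
    have h4 : pRegularPart p (Ψ η : G → ℂ) = 0 :=
      (H22.Sub.blockPart_of_mem_irrSpan h3).symm.trans
        (H22.Sub.blockPart_of_mem_irrSpan_ne hB (H20.isPBlock_blockOf (Ψ η)) hne h1)
    rw [h2, smul_eq_zero] at h4
    exact h4.elim (H12.irr_apply_one_ne_zero η) hreg0
  have hinj : Function.Injective Ψ := by
    intro η η' h
    have hS : St η = St η' := congrArg Subtype.val h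
    have hzero : ∑ u : P, Complex.normSq ((η : P → ℂ) u - (η' : P → ℂ) u) * wt p bl χ u = 0 := by
      have h1 := hfor η η
      have h2 := hfor η η'
      have h3 := hfor η' η
      have h4 := hfor η' η'
      rw [← hS] at h2 h3 h4
      have h5 : (((∑ u : P, Complex.normSq ((η : P → ℂ) u - (η' : P → ℂ) u) *
          wt p bl χ u) : ℝ) : ℂ) = 0 := by
        push_cast
        simp only [← Complex.mul_conj, map_sub, sub_mul, mul_sub, sum_sub_distrib]
        rw [← h1, ← h2, ← h3, ← h4]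
        ring
      exact_mod_cast h5
    apply Subtype.ext
    funext u
    have h1 := (sum_eq_zero_iff_of_nonneg fun u _ =>
      mul_nonneg (Complex.normSq_nonneg _) (hwpos u).le).1 hzero u (mem_univ _)
    exact sub_eq_zero.1 (Complex.normSq_eq_zero.1 ((mul_eq_zero.1 h1).resolve_right (hwpos u).ne'))
  refine ⟨Ψ, hinj, hΨB, fun ψ hψ => ?_, hΨreg⟩
  -- the regular character of `P`
  have hcol : ∀ u : P, ∑ η : IrrCharacter P, (η : P → ℂ) u * (η : P → ℂ) 1 =
      if u = 1 then (Nat.card P : ℂ) else 0 := by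
    intro u
    have h := H12.column_orthogonality u 1
    rw [sum_congr rfl fun η _ => by
      obtain ⟨d, hd, -⟩ := hη1 η
      rw [hd, Complex.conj_natCast, ← hd]] at h
    rw [h]
    by_cases hu : u = 1
    · subst hu
      rw [if_pos (IsConj.refl 1), if_pos rfl]
      have htop : Subgroup.centralizer ({(1 : P)} : Set P) = ⊤ := eq_top_iff.2 fun g _ =>
        Subgroup.mem_centralizer_singleton_iff.2 (by simp)
      rw [htop, Subgroup.card_top]
    · rw [if_neg hu, if_neg fun h => hu (isConj_one_left.1 h)]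
  have hregchar : ∀ g : G, ∑ η : IrrCharacter P, (η : P → ℂ) 1 * St η g =
      (Nat.card P : ℂ) * pRegularPart p (χ : G → ℂ) g := by
    intro g
    by_cases hg : p ∣ orderOf g
    · rw [H22.pRegularPart_of_dvd _ hg, mul_zero]
      have hx := H20.exists_orderOf_pPart (p := p) g
      set x := H20.pPart p g with hxdef
      have hy : H20.qPart p g ∈ C[x] :=
        Subgroup.mem_centralizer_singleton_iff.2 (H20.commute_pPart_qPart g).symm.eq
      have hy' : ¬ p ∣ orderOf (⟨_, hy⟩ : C[x]) := by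
        rw [Subgroup.orderOf_mk]
        exact H20.not_dvd_orderOf_qPart g
      have hgx : g = x * ((⟨_, hy⟩ : C[x]) : G) := (H20.pPart_mul_qPart g).symm
      rw [sum_congr rfl fun η _ => by rw [hgx, hSs η x hx ⟨_, hy⟩ hy', mul_sum], sum_comm]
      refine sum_eq_zero fun e _ => ?_
      by_cases hne : IsInducedBlock M C[x] e.1 B
      · obtain ⟨t, ht⟩ := AbelianSum.exists_conj_below hM hB hP hx hne
        have htP : t * x * t⁻¹ ∈ P := (ht.le p) ⟨x, Subgroup.mem_zpowers x, rfl⟩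
        simp only [a, H11.Star.etaB_eq (hst _) ht, ext0_of_mem _ htP, ← mul_assoc, ← sum_mul]
        rw [show ∑ η : IrrCharacter P, (η : P → ℂ) 1 * (η : P → ℂ) ⟨t * x * t⁻¹, htP⟩ =
          ∑ η : IrrCharacter P, (η : P → ℂ) ⟨t * x * t⁻¹, htP⟩ * (η : P → ℂ) 1 from
          sum_congr rfl fun η _ => mul_comm _ _, hcol, if_neg, zero_mul]
        intro h1
        have h2 : t * x * t⁻¹ = 1 := congrArg Subtype.val h1
        have hx1 : x = 1 := by
          calc x = t⁻¹ * (t * x * t⁻¹) * t := by group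
            _ = 1 := by rw [h2]; group
        have hgq : g = H20.qPart p g := by
          conv_lhs => rw [← H20.pPart_mul_qPart (p := p) g, ← hxdef, hx1, one_mul]
        exact H20.not_dvd_orderOf_qPart (p := p) g (by rwa [← hgq])
      · refine sum_eq_zero fun η _ => ?_
        rw [show blockPart e.1 (H22.Sub.shiftMap x (χ : G → ℂ)) ⟨_, hy⟩ = 0 from
          H20.blockPart_shift_eq_zero hM hx hB hχ e.2 hne _ hy', mul_zero, mul_zero]
    · simp only [hregular _ g hg, ← mul_assoc, ← sum_mul, H22.pRegularPart_of_not_dvd _ hg]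
      rw [hcol 1, if_pos rfl]
  by_contra hno
  push Not at hno
  obtain ⟨z, hz, hmat⟩ := H22.exists_isDeltaMatrix (p := p) hM hB
  have hΔ : H22.Delta p χ ψ = 0 := by
    have h : (Nat.card P : ℂ) * H22.Delta p χ ψ = 0 := by
      rw [H22.Delta, ← H12.classInner_smul_left,
        show (Nat.card P : ℂ) • pRegularPart p (χ : G → ℂ) =
          ∑ η : IrrCharacter P, (η : P → ℂ) 1 • St η from funext fun g => by
            rw [Finset.sum_apply]; exact (hregchar g).symm, H12.classInner_sum_left]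
      refine sum_eq_zero fun η _ => ?_
      rw [H12.classInner_smul_left,
        H12.classInner_irr_ne (χ := Ψ η) (ψ := ψ) (hno η), mul_zero]
    exact (mul_eq_zero.1 h).resolve_left (Nat.cast_ne_zero.2 Nat.card_pos.ne')
  refine hmat.exact_zero ψ hψ χ hχ h0 ?_
  rw [hmat.symm ψ hψ χ hχ]
  have h1 := hz χ hχ ψ
  rw [hΔ, mul_zero] at h1
  rw [Int.cast_eq_zero.1 h1]
  exact dvd_zero _

end H19.NilpotentStar
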