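import Cfsg.Agent.H19.IBr
import Cfsg.Agent.H19.StarSums
import Cfsg.Agent.H20.PrincipalColumn
import Cfsg.Agent.H12.Transport
import Cfsg.Agent.H25.Galois

/-!
# Characters of a block fixed by a power map

The number of characters of a block fixed by `g ↦ g ^ k`, for `k ≡ 1` modulo the `p'`-part of the
group order, is at least the rank of the block: the regular elements give the rank, every other
section gives a nonnegative number (a trace of an automorphism on Brauer characters).
-/

set_option autoImplicit false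
set_option linter.unusedSectionVars false
set_option linter.style.haveILetI false

open Cfsg Finset
open scoped MonoidAlgebra ComplexConjugate

namespace H19.PRat

universe u

variable {M : Ideal AlgInt} [hMp : M.IsPrime] {p : ℕ} [hp : Fact p.Prime]

section Twist

variable [IsAlgClosed (H20.k M)] {K : Type u} [Group K] [Fintype K]

/-- An automorphism acts on the decomposition numbers through natural multiplicities. -/
theorem exists_twist_mult (F : PD.Frame (MonoidAlgebra (H20.k M) K)) (θ : K ≃* K) (c : F.Cl) :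
    ∃ m : F.Cl → ℕ, ∀ ψ : IrrCharacter K, (IBr.dnum F (H12.irrCongr θ ψ) c : ℂ) =
      ∑ c', (m c' : ℂ) * (IBr.dnum F ψ c' : ℂ) := by
  classical
  obtain ⟨e, he, her⟩ := IBr.exists_lift (F.rep_prim c).idem
  let e' : MonoidAlgebra (H20.O M) K := H20.ofFun fun g => e.coeff (θ.symm g)
  have he' : e' * e' = e' := by
    ext g
    rw [H20.coeff_mul_group]
    simp only [e', H20.coeff_ofFun]
    conv_rhs => rw [← he, H20.coeff_mul_group]
    congr 1
    refine Fintype.sum_equiv θ.symm.toEquiv _ _ fun x => ?_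
    simp
  have hid : H20.rd e' * H20.rd e' = H20.rd e' := by rw [← H23.rd_mul, he']
  obtain ⟨m, hm⟩ := IBr.exists_mult F hid
  refine ⟨m, fun ψ => ?_⟩
  rw [← IBr.dnum_spec, IBr.T_one_eq _ he her, ← hm ψ, IBr.T_one_eq ψ he' rfl, H23.chiLin,
    H23.chiLin]
  refine Fintype.sum_equiv θ.toEquiv _ _ fun g => ?_
  simp [e', H12.irrCongr_apply]

/-- An automorphism has a nonnegative trace on the regular span of a block. -/
theorem exists_twist_trace (hM : IsPModular p M) (θ : K ≃* K) {b : Set (IrrCharacter K)}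
    (hb : IsPBlock M b) :
    ∃ n : ℕ, ∑ ψ ∈ H22.blockFinset b,
      classInner (pRegularPart p (ψ : K → ℂ)) (fun y => (ψ : K → ℂ) (θ y)) = n := by
  classical
  obtain ⟨F⟩ := PD.exists_frame (A := MonoidAlgebra (H20.k M) K) (H20.k M)
  choose m hm using exists_twist_mult F θ.symm
  refine ⟨∑ c : IBr.CB F b, m c.1 c.1, ?_⟩
  have h1 : ∀ ψ ∈ H22.blockFinset b, classInner (pRegularPart p (ψ : K → ℂ))
      (fun y => (ψ : K → ℂ) (θ y)) = ∑ c : IBr.CB F b, (IBr.dnum F ψ c.1 : ℂ) *
        classInner (IBr.phi F p b c) (fun y => (ψ : K → ℂ) (θ y)) := fun ψ hψ => by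
    rw [IBr.pRegularPart_eq F hM hb (H22.mem_blockFinset.1 hψ), H12.classInner_sum_left]
    exact sum_congr rfl fun c _ => H12.classInner_smul_left _ _ _
  rw [sum_congr rfl h1, sum_comm, Nat.cast_sum]
  refine sum_congr rfl fun c _ => ?_
  -- all characters may be summed over
  rw [sum_subset (subset_univ _) fun ψ _ hψ => by
    rw [IBr.dnum_eq_zero F hb fun h => hψ (H22.mem_blockFinset.2 (h.2 c.2)), Nat.cast_zero, zero_mul]]
  rw [← Fintype.sum_equiv (H12.irrCongr θ.symm)
    (fun η => (IBr.dnum F (H12.irrCongr θ.symm η) c.1 : ℂ) *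
      classInner (IBr.phi F p b c) (η : K → ℂ)) _ (fun η => by
    congr 2
    funext y
    rw [H12.irrCongr_apply, MulEquiv.symm_apply_apply])]
  simp only [hm, sum_mul]
  rw [sum_comm, sum_eq_single c.1]
  · simp only [mul_assoc]
    rw [← mul_sum]
    suffices h : ∑ η : IrrCharacter K, (IBr.dnum F η c.1 : ℂ) *
        classInner (IBr.phi F p b c) (η : K → ℂ) = 1 by rw [h, mul_one]
    have h := IBr.classInner_phi_Phi F (p := p) hM hb c c
    rw [if_pos rfl, IBr.Phi, H12.classInner_sum_right] at h
    rw [← h, ← sum_subset (subset_univ (H22.blockFinset b)) fun ψ _ hψ => by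
      rw [IBr.dnum_eq_zero F hb fun hh => hψ (H22.mem_blockFinset.2 (hh.2 c.2)), Nat.cast_zero,
        zero_mul]]
    exact sum_congr rfl fun η _ => by rw [H12.classInner_smul_right, Complex.conj_natCast]
  · intro c' _ hne
    by_cases hc' : IBr.InBlk F b c'
    · have h := IBr.classInner_phi_Phi F (p := p) hM hb c ⟨c', hc'⟩
      rw [if_neg fun hh => hne (congrArg Subtype.val hh).symm, IBr.Phi,
        H12.classInner_sum_right] at h
      simp only [mul_assoc]
      rw [← mul_sum, ← sum_subset (subset_univ (H22.blockFinset b)) fun ψ _ hψ => by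
        rw [IBr.dnum_eq_zero F hb fun hh => hψ (H22.mem_blockFinset.2 (hh.2 hc')), Nat.cast_zero,
          zero_mul]]
      rw [sum_congr rfl fun η _ => show (IBr.dnum F η c' : ℂ) *
          classInner (IBr.phi F p b c) (η : K → ℂ) =
          classInner (IBr.phi F p b c) ((IBr.dnum F η c' : ℂ) • (η : K → ℂ)) by
            rw [H12.classInner_smul_right, Complex.conj_natCast], h, mul_zero]
    · refine sum_eq_zero fun η _ => ?_
      by_cases hη : η ∈ b
      · rw [IBr.dnum_eq_zero F hb fun hh => hc' (hh.1 hη), Nat.cast_zero, mul_zero, zero_mul]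
      · have hmem := H22.Sub.regSpan_le_irrSpan hM hb (IBr.phi_mem_regSpan F (p := p) hM hb c)
        rw [← H22.Sub.blockPart_of_mem_irrSpan hmem, H22.Sub.blockPart_eq_smul_sum,
          H12.classInner_sum_left, sum_eq_zero (s := H22.blockFinset b) fun ψ hψ => by
            rw [H12.classInner_smul_left, H12.classInner_irr_ne
              (fun e => hη (by rw [← e]; exact H22.mem_blockFinset.1 hψ)), mul_zero]]
        rw [mul_zero]
  · simp

end Twist

variable {G : Type u} [Group G] [Fintype G]

local notation "C[" x "]" => (Subgroup.centralizer ({x} : Set _))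

open Classical in
/-- The column sums of a block on a section. -/
theorem column_section (hM : IsPModular p M) {B : Set (IrrCharacter G)} (hB : IsPBlock M B)
    {x : G} (hx : ∃ k : ℕ, orderOf x = p ^ k) [Fintype C[x]] {y z : C[x]}
    (hy : ¬ p ∣ orderOf y) (hz : ¬ p ∣ orderOf z) :
    ∑ χ ∈ H22.blockFinset B, (χ : G → ℂ) (x * (y : G)) * conj ((χ : G → ℂ) (x * (z : G))) =
      ∑ b ∈ univ.filter (fun b : Set (IrrCharacter C[x]) => IsInducedBlock M C[x] b B),
        ∑ ψ ∈ H22.blockFinset b, (ψ : C[x] → ℂ) y * conj ((ψ : C[x] → ℂ) z) := by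
  haveI : Fintype {b : Set (IrrCharacter C[x]) // IsPBlock M b} := Fintype.ofFinite _
  let T : C[x] → ℂ := fun c =>
    ∑ χ : IrrCharacter G, (χ : G → ℂ) (x * (c : G)) * conj ((χ : G → ℂ) (x * (z : G)))
  let U : C[x] → ℂ := fun c =>
    ∑ ψ : IrrCharacter C[x], (ψ : C[x] → ℂ) c * conj ((ψ : C[x] → ℂ) z)
  have hTU : ∀ b : Set (IrrCharacter C[x]), IsPBlock M b →
      blockPart b T y = blockPart b U y := fun b hb =>
    H20.blockPart_congr_regular hM hb (fun w hw => by
      simp only [T, U, H12.column_orthogonality]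
      by_cases h : IsConj w z
      · rw [if_pos h, if_pos ((H20.isConj_shift_iff hx hw hz).2 h),
          H20.card_centralizer_shift hx hw]
      · rw [if_neg h, if_neg (mt (H20.isConj_shift_iff hx hw hz).1 h)]) hy
  have hU : ∀ b : Set (IrrCharacter C[x]), blockPart b U y =
      ∑ ψ ∈ H22.blockFinset b, (ψ : C[x] → ℂ) y * conj ((ψ : C[x] → ℂ) z) := by
    intro b
    rw [← H22.Sub.partMap_apply, show U = ∑ ψ : IrrCharacter C[x],
      conj ((ψ : C[x] → ℂ) z) • (ψ : C[x] → ℂ) by funext c; simp [U, mul_comm], map_sum,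
      Finset.sum_apply, H22.blockFinset, sum_filter]
    refine sum_congr rfl fun ψ _ => ?_
    rw [map_smul, H22.Sub.partMap_apply, H22.Sub.blockPart_irr]
    split_ifs <;> simp [mul_comm]
  have hT : ∀ b : Set (IrrCharacter C[x]), blockPart b T y = ∑ χ : IrrCharacter G,
      blockPart b (H22.Sub.shiftMap x (χ : G → ℂ)) y * conj ((χ : G → ℂ) (x * (z : G))) := by
    intro b
    rw [← H22.Sub.partMap_apply, show T = ∑ χ : IrrCharacter G,
      conj ((χ : G → ℂ) (x * (z : G))) • H22.Sub.shiftMap x (χ : G → ℂ) by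
        funext c; simp [T, H22.Sub.shiftMap, mul_comm], map_sum, Finset.sum_apply]
    exact sum_congr rfl fun χ _ => by
      rw [map_smul, H22.Sub.partMap_apply, Pi.smul_apply, smul_eq_mul, mul_comm]
  calc _ = ∑ b ∈ univ.filter (fun b : Set (IrrCharacter C[x]) => IsInducedBlock M C[x] b B),
        blockPart b T y := by
        simp only [hT]
        rw [sum_comm, H22.blockFinset, sum_filter]
        refine sum_congr rfl fun χ _ => ?_
        rw [← sum_mul]
        by_cases hχ : χ ∈ B
        · rw [if_pos hχ]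
          congr 1
          have h := congrFun (H22.Sub.sum_blockPart (M := M)
            (H20.isClassFunction_shift (H12.irr_isClassFunction χ) x)) y
          rw [Finset.sum_apply] at h
          rw [← h, ← sum_subtype (univ.filter fun b : Set (IrrCharacter C[x]) => IsPBlock M b)
            (p := fun b => IsPBlock M b) (by simp)
            (fun b => blockPart b (fun c : C[x] => (χ : G → ℂ) (x * (c : G))) y)]
          refine (sum_subset (fun b hb => mem_filter.2 ⟨mem_univ _, (mem_filter.1 hb).2.1⟩)
            fun b hb hnb => ?_).symm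
          exact H20.blockPart_shift_eq_zero hM hx hB hχ (mem_filter.1 hb).2
            (fun h => hnb (mem_filter.2 ⟨mem_univ _, h⟩)) y hy
        · rw [if_neg hχ, sum_eq_zero fun b hb => ?_, zero_mul]
          refine H20.blockPart_shift_eq_zero hM hx (H20.isPBlock_blockOf χ)
            (H20.mem_blockOf_self χ) (mem_filter.1 hb).2.1 (fun h => hχ ?_) y hy
          rw [H20.inducedBlock_unique C[x] (mem_filter.1 hb).2 h]
          exact H20.mem_blockOf_self χ
    _ = _ := sum_congr rfl fun b hb => by rw [hTU b (mem_filter.1 hb).2.1, hU]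

variable [IsAlgClosed (H20.k M)]

/-- The section of `x` contributes a natural number. -/
theorem exists_section_nat (hM : IsPModular p M) {B : Set (IrrCharacter G)} (hB : IsPBlock M B)
    {x : G} (hx : ∃ j : ℕ, orderOf x = p ^ j) {k : ℕ} (hk : Nat.Coprime k (Nat.card G))
    [Fintype C[x]] :
    ∃ n : ℕ, ∑ y ∈ univ.filter (fun y : C[x] => ¬ p ∣ orderOf y), ∑ χ ∈ H22.blockFinset B,
      (χ : G → ℂ) (x * (y : G)) * conj ((χ : G → ℂ) (x ^ k * (y : G))) =
        (Nat.card C[x] : ℂ) * n := by
  classical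
  have hkx : orderOf (x ^ k) = orderOf x :=
    Nat.Coprime.orderOf_pow (Nat.Coprime.coprime_dvd_left (orderOf_dvd_natCard x) hk.symm)
  have hcomm : ∀ y : C[x], Commute (x ^ k) (y : G) := fun y =>
    (show Commute x (y : G) from
      (Subgroup.mem_centralizer_singleton_iff.1 y.2).symm).pow_left k
  by_cases hc : IsConj x (x ^ k)
  · obtain ⟨c, hc⟩ := isConj_iff.1 hc
    have hC : ∀ y : G, y ∈ C[x] ↔ c⁻¹ * y * c ∈ C[x] := by
      intro y
      obtain ⟨m, hm⟩ := exists_pow_eq_self_of_coprime (x := x)
        (Nat.Coprime.coprime_dvd_right (orderOf_dvd_natCard x) hk)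
      simp only [Subgroup.mem_centralizer_singleton_iff]
      constructor
      · intro h
        have h' : Commute y (x ^ k) := (show Commute y x from h).pow_right k
        rw [← hc] at h'
        calc c⁻¹ * y * c * x = c⁻¹ * (y * (c * x * c⁻¹)) * c := by group
          _ = c⁻¹ * ((c * x * c⁻¹) * y) * c := by rw [h'.eq]
          _ = x * (c⁻¹ * y * c) := by group
      · intro h
        have h' : Commute y (x ^ k) := by
          show y * x ^ k = x ^ k * y
          rw [← hc]
          calc y * (c * x * c⁻¹) = c * (c⁻¹ * y * c * x) * c⁻¹ := by group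
            _ = c * (x * (c⁻¹ * y * c)) * c⁻¹ := by rw [h]
            _ = c * x * c⁻¹ * y := by group
        have := h'.pow_right m
        rw [hm] at this
        exact this.eq
    let θ : C[x] ≃* C[x] :=
      { toFun := fun y => ⟨c⁻¹ * y * c, (hC _).1 y.2⟩
        invFun := fun y => ⟨c * y * c⁻¹, (hC _).2 (by simpa [mul_assoc] using y.2)⟩
        left_inv := fun y => Subtype.ext (by simp [mul_assoc])
        right_inv := fun y => Subtype.ext (by simp [mul_assoc])
        map_mul' := fun y z => Subtype.ext (by simp [mul_assoc]) }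
    choose n hn using fun b : {b : Set (IrrCharacter C[x]) // IsPBlock M b} =>
      exists_twist_trace hM θ b.2
    let nn : Set (IrrCharacter C[x]) → ℕ := fun b => if h : IsPBlock M b then n ⟨b, h⟩ else 0
    refine ⟨∑ b ∈ univ.filter (fun b : Set (IrrCharacter C[x]) => IsInducedBlock M C[x] b B),
      nn b, ?_⟩
    have hval : ∀ y : C[x], ∀ χ : IrrCharacter G,
        (χ : G → ℂ) (x ^ k * (y : G)) = (χ : G → ℂ) (x * ((θ y : C[x]) : G)) := fun y χ => by
      rw [← hc, show c * x * c⁻¹ * (y : G) = c * (x * (c⁻¹ * (y : G) * c)) * c⁻¹ by group,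
        H12.irr_isClassFunction χ]
      rfl
    simp only [hval]
    rw [sum_congr rfl fun y hy => column_section hM hB hx (mem_filter.1 hy).2 (z := θ y) (by
      rw [θ.orderOf_eq]; exact (mem_filter.1 hy).2), sum_comm]
    rw [Nat.cast_sum, mul_sum]
    refine sum_congr rfl fun b hb => ?_
    have hbb := (mem_filter.1 hb).2.1
    simp only [nn, dif_pos hbb]
    rw [← hn ⟨b, hbb⟩, mul_sum, sum_comm]
    refine sum_congr rfl fun ψ _ => ?_
    rw [H12.classInner_def, mul_inv_cancel_left₀ (H12.card_ne_zero' (G := C[x])), sum_filter]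
    refine sum_congr rfl fun y _ => ?_
    by_cases hy : p ∣ orderOf y
    · rw [if_neg (not_not.2 hy), H22.pRegularPart_of_dvd _ hy, zero_mul]
    · rw [if_pos hy, H22.pRegularPart_of_not_dvd _ hy]
  · refine ⟨0, ?_⟩
    rw [Nat.cast_zero, mul_zero]
    refine sum_eq_zero fun y hy => ?_
    have hy' := (mem_filter.1 hy).2
    have h := H20.block_orthogonality hM (g := x * (y : G)) (h := x ^ k * (y : G)) ?_ hB
    · rw [H22.finsum_mem_block] at h
      rw [← h]
      exact sum_congr rfl fun χ _ => by rw [H12.irr_inv]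
    · obtain ⟨j, hj⟩ := hx
      have hy'' : (y : G) ∈ C[x ^ k] :=
        Subgroup.mem_centralizer_singleton_iff.2 (hcomm y).symm.eq
      rw [H20.centralizer_le_of_pPart x y ⟨j, hj⟩ hy', H20.centralizer_le_of_pPart (x ^ k)
        ⟨(y : G), hy''⟩ ⟨j, hkx.trans hj⟩ (by rwa [← Subgroup.orderOf_coe, Subgroup.orderOf_coe y])]
      exact hc

/-- The fixed characters of a block are at least as many as its rank. -/
theorem blockRank_le_fixed (hM : IsPModular p M) {B : Set (IrrCharacter G)} (hB : IsPBlock M B)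
    {k : ℕ} (hk : Nat.Coprime k (Nat.card G))
    (hkn : k ≡ 1 [MOD Nat.card G / p ^ (Nat.card G).factorization p]) :
    blockRank p B ≤
      Nat.card {χ : IrrCharacter G // χ ∈ B ∧ ∀ g : G, (χ : G → ℂ) (g ^ k) = (χ : G → ℂ) g} := by
  classical
  haveI : ∀ x : G, Fintype C[x] := fun x => Fintype.ofFinite _
  have hfix : ∀ g : G, ¬ p ∣ orderOf g → g ^ k = g := fun g hg => by
    have hd : orderOf g ∣ Nat.card G / p ^ (Nat.card G).factorization p := by
      have h := orderOf_dvd_natCard g
      rw [← Nat.ordProj_mul_ordCompl_eq_self (Nat.card G) p] at h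
      exact (((hp.out.coprime_iff_not_dvd).2 hg).symm.pow_right _).dvd_of_dvd_mul_left h
    conv_rhs => rw [← pow_one g]
    exact pow_eq_pow_iff_modEq.2 (hkn.of_dvd hd)
  let σ : IrrCharacter G → IrrCharacter G := fun χ => ⟨_, H25.isIrrCharacter_comp_pow χ.2 hk⟩
  have hσ : ∀ χ g, (σ χ : G → ℂ) g = (χ : G → ℂ) (g ^ k) := fun χ g => rfl
  have hcount : (Nat.card {χ : IrrCharacter G // χ ∈ B ∧
      ∀ g : G, (χ : G → ℂ) (g ^ k) = (χ : G → ℂ) g} : ℂ) =
      ∑ χ ∈ H22.blockFinset B, classInner (χ : G → ℂ) (σ χ : G → ℂ) := by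
    simp only [H12.classInner_irr, sum_boole]
    rw [Nat.subtype_card (H22.blockFinset B |>.filter fun χ => χ = σ χ) fun χ => ?_]
    rw [mem_filter, H22.mem_blockFinset]
    refine and_congr_right fun _ => ⟨fun h g => ?_, fun h => Subtype.ext (funext fun g => ?_)⟩
    · conv_rhs => rw [h]
    · exact (h g).symm.trans (hσ χ g).symm
  choose n hn using fun x : StarSums.pEls G p =>
    exists_section_nat (M := M) hM hB (StarSums.mem_pEls.1 x.2) hk
  let w : G → ℕ := fun x => if hx : x ∈ StarSums.pEls G p then n ⟨x, hx⟩ else 0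
  have htot : (Nat.card G : ℂ) * (Nat.card {χ : IrrCharacter G // χ ∈ B ∧
      ∀ g : G, (χ : G → ℂ) (g ^ k) = (χ : G → ℂ) g} : ℂ) =
      ∑ x ∈ StarSums.pEls G p, (Nat.card C[x] : ℂ) * (w x : ℂ) := by
    rw [hcount, mul_sum]
    simp only [H12.classInner_def, ← mul_assoc, mul_inv_cancel₀ (H12.card_ne_zero' (G := G)),
      one_mul]
    rw [sum_comm, StarSums.sum_sections (p := p)]
    refine sum_congr rfl fun x hx => ?_
    simp only [w, dif_pos hx]
    rw [← hn ⟨x, hx⟩]
    refine sum_congr rfl fun y hy => sum_congr rfl fun χ _ => ?_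
    rw [hσ, (show Commute x (y : G) from
      (Subgroup.mem_centralizer_singleton_iff.1 y.2).symm).mul_pow,
      hfix (y : G) (by rw [Subgroup.orderOf_coe]; exact (mem_filter.1 hy).2)]
  have h1 : (1 : G) ∈ StarSums.pEls G p := StarSums.mem_pEls.2 ⟨0, by rw [orderOf_one, pow_zero]⟩
  have hcard1 : Nat.card C[(1 : G)] = Nat.card G := by
    rw [Subgroup.card_eq_iff_eq_top]
    ext g
    simp [Subgroup.mem_centralizer_singleton_iff]
  have hrank : (w 1 : ℂ) = blockRank p B := by
    obtain ⟨F⟩ := PD.exists_frame (A := MonoidAlgebra (H20.k M) G) (H20.k M)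
    have e : ∑ χ ∈ H22.blockFinset B, classInner (pRegularPart p (χ : G → ℂ)) (χ : G → ℂ) =
        blockRank p B := by
      rw [IBr.blockRank_eq F hM hB, sum_congr rfl fun χ hχ => by
        rw [IBr.pRegularPart_eq F hM hB (H22.mem_blockFinset.1 hχ), H12.classInner_sum_left],
        sum_comm, ← card_univ, card_eq_sum_ones, Nat.cast_sum]
      refine sum_congr rfl fun c _ => ?_
      have h := IBr.classInner_phi_Phi F (p := p) hM hB c c
      rw [if_pos rfl, IBr.Phi, H12.classInner_sum_right] at h
      rw [Nat.cast_one, ← h]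
      exact sum_congr rfl fun χ _ => by
        rw [H12.classInner_smul_left, H12.classInner_smul_right, Complex.conj_natCast]
    have h := hn ⟨1, h1⟩
    rw [hcard1] at h
    apply mul_left_cancel₀ (H12.card_ne_zero' (G := G))
    simp only [w, dif_pos h1]
    rw [← h, ← e, mul_sum]
    simp only [H12.classInner_def, ← mul_assoc, mul_inv_cancel₀ (H12.card_ne_zero' (G := G)),
      one_mul, one_pow]
    conv_rhs => rw [sum_comm]
    rw [← sum_filter_of_ne (s := (univ : Finset G)) (p := fun g => ¬ p ∣ orderOf g) fun g _ hg hd =>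
      hg (sum_eq_zero fun χ _ => by rw [H22.pRegularPart_of_dvd _ hd, zero_mul])]
    refine sum_bij' (fun y _ => (y : G)) (fun g _ => ⟨g, by simp [Subgroup.mem_centralizer_singleton_iff]⟩)
      (fun y hy => ?_) (fun g hg => ?_) (fun y _ => rfl) (fun g _ => rfl) (fun y hy => ?_)
    · simpa [Subgroup.orderOf_coe] using (mem_filter.1 hy).2
    · simpa [Subgroup.orderOf_mk] using (mem_filter.1 hg).2
    · refine sum_congr rfl fun χ _ => ?_
      rw [H22.pRegularPart_of_not_dvd _ (by rw [Subgroup.orderOf_coe]; exact (mem_filter.1 hy).2)]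
  have hnat : Nat.card G * Nat.card {χ : IrrCharacter G // χ ∈ B ∧
      ∀ g : G, (χ : G → ℂ) (g ^ k) = (χ : G → ℂ) g} =
      ∑ x ∈ StarSums.pEls G p, Nat.card C[x] * w x := by
    apply Nat.cast_injective (R := ℂ)
    push_cast
    exact htot
  have hw1 : w 1 = blockRank p B := by exact_mod_cast hrank
  refine Nat.le_of_mul_le_mul_left ?_ (Nat.card_pos (α := G))
  rw [hnat, ← hw1]
  refine le_trans ?_ (single_le_sum (fun x _ => Nat.zero_le _) h1)
  rw [hcard1]

end H19.PRat
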