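import Cfsg.Agent.H23.FiniteAlg

/-!
# Classes of primitive idempotents and their trace functionals

For a decomposition `1 = ∑ j l` into primitive orthogonal idempotents of a finite-dimensional
algebra over an algebraically closed field, every class of the `j l` carries a symmetric linear
functional taking the value `1` on that class and `0` on the others (the trace of the simple
module of the class).
-/

set_option autoImplicit false
set_option linter.unusedSectionVars false
set_option linter.style.haveILetI false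

namespace H19.PD

open H23

variable {k : Type*} [Field k] {A : Type*} [Ring A] [Algebra k A]

/-- Equivalence of idempotents. -/
def Eqv (e f : A) : Prop := ∃ u v : A, u * v = e ∧ v * u = f

theorem Eqv.refl {e : A} (he : e * e = e) : Eqv e e := ⟨e, e, he, he⟩

theorem Eqv.symm {e f : A} (h : Eqv e f) : Eqv f e := by
  obtain ⟨u, v, h1, h2⟩ := h
  exact ⟨v, u, h2, h1⟩

theorem Eqv.trans {e f g : A} (he : e * e = e) (hg : g * g = g) (h : Eqv e f) (h' : Eqv f g) :
    Eqv e g := by
  obtain ⟨u, v, h1, h2⟩ := h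
  obtain ⟨u', v', h3, h4⟩ := h'
  refine ⟨u * u', v' * v, ?_, ?_⟩
  · calc u * u' * (v' * v) = u * (u' * v') * v := by simp only [mul_assoc]
      _ = (u * v) * (u * v) := by rw [h3, ← h2]; simp only [mul_assoc]
      _ = e := by rw [h1, he]
  · calc v' * v * (u * u') = v' * (v * u) * u' := by simp only [mul_assoc]
      _ = (v' * u') * (v' * u') := by rw [h2, ← h3]; simp only [mul_assoc]
      _ = g := by rw [h4, hg]

theorem Eqv.normal {e f : A} (he : e * e = e) (hf : f * f = f) (h : Eqv e f) :
    ∃ u v : A, u * v = e ∧ v * u = f ∧ e * u = u ∧ u * f = u ∧ f * v = v ∧ v * e = v := by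
  obtain ⟨u, v, h1, h2⟩ := h
  refine ⟨e * u * f, f * v * e, ?_, ?_, ?_, ?_, ?_, ?_⟩
  · calc e * u * f * (f * v * e) = e * (u * (f * f) * v) * e := by simp only [mul_assoc]
      _ = e * ((u * v) * (u * v)) * e := by rw [hf, ← h2]; simp only [mul_assoc]
      _ = e := by rw [h1, he, he, he]
  · calc f * v * e * (e * u * f) = f * (v * (e * e) * u) * f := by simp only [mul_assoc]
      _ = f * ((v * u) * (v * u)) * f := by rw [he, ← h1]; simp only [mul_assoc]
      _ = f := by rw [h2, hf, hf, hf]
  · rw [← mul_assoc, ← mul_assoc, he]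
  · rw [mul_assoc, hf]
  · rw [← mul_assoc, ← mul_assoc, hf]
  · rw [mul_assoc, he]

/-- A decomposition of `1` into primitive orthogonal idempotents. -/
structure Frame (A : Type*) [Ring A] where
  N : ℕ
  j : Fin N → A
  prim : ∀ l, IsPrim (j l)
  orth : ∀ l m, l ≠ m → j l * j m = 0
  sum_one : ∑ l, j l = 1

theorem exists_frame (k : Type*) [Field k] [Algebra k A] [FiniteDimensional k A] :
    Nonempty (Frame A) := by
  obtain ⟨n, j, h1, -, h3, h4⟩ := H23.exists_decomp (k := k) (1 : A) (one_mul 1)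
  exact ⟨⟨n, j, h1, h3, h4⟩⟩

namespace Frame

variable (F : Frame A)

/-- Equivalence of the members. -/
def setoid : Setoid (Fin F.N) where
  r l m := Eqv (F.j l) (F.j m)
  iseqv := ⟨fun l => Eqv.refl (F.prim l).idem, fun h => h.symm,
    fun {l _ n} h h' => h.trans (F.prim l).idem (F.prim n).idem h'⟩

/-- The classes. -/
abbrev Cl : Type := Quotient F.setoid

noncomputable instance : Fintype F.Cl := Fintype.ofFinite _

/-- The class of a member. -/
def cls (l : Fin F.N) : F.Cl := Quotient.mk F.setoid l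

/-- The standard member of a class. -/
noncomputable def rep (c : F.Cl) : A := F.j c.out

theorem rep_prim (c : F.Cl) : IsPrim (F.rep c) := F.prim _

theorem cls_out (c : F.Cl) : F.cls c.out = c := Quotient.out_eq c

theorem cls_eq_iff {l m : Fin F.N} : F.cls l = F.cls m ↔ Eqv (F.j l) (F.j m) :=
  ⟨fun h => Quotient.exact h, fun h => Quotient.sound h⟩

theorem eqv_rep (l : Fin F.N) : Eqv (F.j l) (F.rep (F.cls l)) :=
  F.cls_eq_iff.1 (F.cls_out _).symm

theorem eq_of_eqv_rep {c d : F.Cl} (h : Eqv (F.rep c) (F.rep d)) : c = d := by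
  rw [← F.cls_out c, ← F.cls_out d]
  exact F.cls_eq_iff.2 h

theorem exists_uv (l : Fin F.N) : ∃ u v : A, u * v = F.j l ∧ v * u = F.rep (F.cls l) ∧
    F.j l * u = u ∧ u * F.rep (F.cls l) = u ∧ F.rep (F.cls l) * v = v ∧ v * F.j l = v :=
  (F.eqv_rep l).normal (F.prim l).idem (F.rep_prim _).idem

noncomputable def U (l : Fin F.N) : A := (F.exists_uv l).choose

noncomputable def V (l : Fin F.N) : A := (F.exists_uv l).choose_spec.choose

theorem uv_spec (l : Fin F.N) : F.U l * F.V l = F.j l ∧ F.V l * F.U l = F.rep (F.cls l) ∧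
    F.j l * F.U l = F.U l ∧ F.U l * F.rep (F.cls l) = F.U l ∧
    F.rep (F.cls l) * F.V l = F.V l ∧ F.V l * F.j l = F.V l :=
  (F.exists_uv l).choose_spec.choose_spec

theorem rep_mul_block (l : Fin F.N) (a : A) (m : Fin F.N) :
    F.rep (F.cls l) * (F.V l * a * F.U m) = F.V l * a * F.U m ∧
      F.V l * a * F.U m * F.rep (F.cls m) = F.V l * a * F.U m := by
  refine ⟨?_, ?_⟩
  · rw [← mul_assoc, ← mul_assoc, (F.uv_spec l).2.2.2.2.1]
  · rw [mul_assoc, (F.uv_spec m).2.2.2.1]

open Classical in
/-- The trace functional of a class. -/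
noncomputable def tauFun (k : Type*) [Field k] [Algebra k A] (c : F.Cl) (a : A) : k :=
  ∑ l ∈ Finset.univ.filter (fun l => F.cls l = c),
    IsPrim.ev k (F.rep (F.cls l)) (F.V l * a * F.U l)

variable [FiniteDimensional k A] [IsAlgClosed k]

theorem ev_mul {i x y : A} (hi : IsPrim i) (hx1 : i * x = x) (hx2 : x * i = x) (hy1 : i * y = y)
    (hy2 : y * i = y) : IsPrim.ev k i (x * y) = IsPrim.ev k i x * IsPrim.ev k i y := by
  refine hi.ev_eq (by rw [← mul_assoc, hx1]) (by rw [mul_assoc, hy2]) ?_
  have e : x * y - (IsPrim.ev k i x * IsPrim.ev k i y) • i =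
      (x - IsPrim.ev k i x • i) * y + IsPrim.ev k i x • (y - IsPrim.ev k i y • i) := by
    rw [sub_mul, smul_mul_assoc, hy1, smul_sub, smul_smul]; abel
  have hx' : i * (x - IsPrim.ev k i x • i) = x - IsPrim.ev k i x • i := by
    rw [mul_sub, hx1, mul_smul_comm, hi.idem]
  have hx'' : (x - IsPrim.ev k i x • i) * i = x - IsPrim.ev k i x • i := by
    rw [sub_mul, hx2, smul_mul_assoc, hi.idem]
  have hy' : i * (y - IsPrim.ev k i y • i) = y - IsPrim.ev k i y • i := by
    rw [mul_sub, hy1, mul_smul_comm, hi.idem]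
  have hy'' : (y - IsPrim.ev k i y • i) * i = y - IsPrim.ev k i y • i := by
    rw [sub_mul, hy2, smul_mul_assoc, hi.idem]
  rw [e]
  refine hi.isNilpotent_add (k := k) (by rw [← mul_assoc, hx']) (by rw [mul_assoc, hy2])
    (by rw [mul_smul_comm, hy']) (by rw [smul_mul_assoc, hy''])
    (hi.isNilpotent_mul_right (k := k) hx' hx'' hy2 (hi.isNilpotent_sub_ev hx1 hx2))
    ((hi.isNilpotent_sub_ev hy1 hy2).smul _)

/-- The trace functional as a linear map. -/
noncomputable def tau (k : Type*) [Field k] [Algebra k A] [FiniteDimensional k A] [IsAlgClosed k]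
    (c : F.Cl) : A →ₗ[k] k where
  toFun := F.tauFun k c
  map_add' a b := by
    simp only [tauFun, ← Finset.sum_add_distrib]
    refine Finset.sum_congr rfl fun l _ => ?_
    rw [mul_add, add_mul]
    exact (F.rep_prim _).ev_add (F.rep_mul_block l a l).1 (F.rep_mul_block l a l).2
      (F.rep_mul_block l b l).1 (F.rep_mul_block l b l).2
  map_smul' r a := by
    simp only [tauFun, Finset.smul_sum, RingHom.id_apply, smul_eq_mul, Finset.mul_sum]
    refine Finset.sum_congr rfl fun l _ => ?_
    rw [mul_smul_comm, smul_mul_assoc,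
      (F.rep_prim _).ev_smul (F.rep_mul_block l a l).1 (F.rep_mul_block l a l).2]

open Classical in
theorem tau_mul (c : F.Cl) (a b : A) :
    F.tau k c (a * b) = ∑ l ∈ Finset.univ.filter (fun l => F.cls l = c),
      ∑ m ∈ Finset.univ.filter (fun m => F.cls m = c),
        IsPrim.ev k (F.rep c) (F.V l * a * F.U m) * IsPrim.ev k (F.rep c) (F.V m * b * F.U l) := by
  show F.tauFun k c (a * b) = _
  refine Finset.sum_congr rfl fun l hl => ?_
  obtain rfl := (Finset.mem_filter.1 hl).2
  have hi := F.rep_prim (F.cls l)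
  have e : F.V l * (a * b) * F.U l =
      ∑ m, F.rep (F.cls l) * ((F.V l * a * F.U m) * (F.V m * b * F.U l)) * F.rep (F.cls l) := by
    calc F.V l * (a * b) * F.U l = F.V l * a * (∑ m, F.j m) * (b * F.U l) := by
          rw [F.sum_one, mul_one]; simp only [mul_assoc]
      _ = _ := by
          rw [Finset.mul_sum, Finset.sum_mul]
          refine Finset.sum_congr rfl fun m _ => ?_
          rw [← mul_assoc (F.rep _) (F.V l * a * F.U m), (F.rep_mul_block l a m).1, mul_assoc _ _
            (F.rep _), (F.rep_mul_block m b l).2, ← (F.uv_spec m).1]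
          simp only [mul_assoc]
  rw [e, hi.ev_sum, Finset.sum_filter]
  refine Finset.sum_congr rfl fun m _ => ?_
  have e' : F.rep (F.cls l) * ((F.V l * a * F.U m) * (F.V m * b * F.U l)) * F.rep (F.cls l) =
      (F.V l * a * F.U m) * (F.V m * b * F.U l) := by
    rw [← mul_assoc (F.rep _), (F.rep_mul_block l a m).1, mul_assoc, (F.rep_mul_block m b l).2]
  rw [e']
  by_cases hm : F.cls m = F.cls l
  · rw [if_pos hm]
    refine ev_mul hi (F.rep_mul_block l a m).1 ?_ ?_ (F.rep_mul_block m b l).2
    · rw [← hm]; exact (F.rep_mul_block l a m).2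
    · rw [← hm]; exact (F.rep_mul_block m b l).1
  · rw [if_neg hm]
    by_contra h0
    obtain ⟨u, v, hu, hv⟩ := hi.equiv_of_ev_ne_zero (F.rep_prim (F.cls m)) (F.rep_mul_block l a m).1
      (F.rep_mul_block l a m).2 (F.rep_mul_block m b l).1 (F.rep_mul_block m b l).2 h0
    exact hm (F.eq_of_eqv_rep ⟨u, v, hu, hv⟩).symm

/-- The functional is symmetric. -/
theorem tau_mul_comm (c : F.Cl) (a b : A) : F.tau k c (a * b) = F.tau k c (b * a) := by
  rw [F.tau_mul, F.tau_mul, Finset.sum_comm]
  exact Finset.sum_congr rfl fun l _ => Finset.sum_congr rfl fun m _ => mul_comm _ _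

open Classical in
theorem tau_j (c : F.Cl) (l : Fin F.N) :
    F.tau k c (F.j l) = if F.cls l = c then 1 else 0 := by
  have hzero : ∀ q, q ≠ l →
      IsPrim.ev k (F.rep (F.cls q)) (F.V q * F.j l * F.U q) = 0 := fun q hq => by
    rw [← (F.uv_spec q).2.2.1, mul_assoc, ← mul_assoc (F.j l), F.orth l q (Ne.symm hq), zero_mul,
      mul_zero]
    exact (F.rep_prim _).ev_zero
  show F.tauFun k c (F.j l) = _
  by_cases h : F.cls l = c
  · rw [tauFun, if_pos h, Finset.sum_eq_single l (fun q _ hq => hzero q hq)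
      (fun hl => absurd (by simp [h]) hl), mul_assoc,
      (F.uv_spec l).2.2.1, (F.uv_spec l).2.1]
    exact (F.rep_prim _).ev_self
  · rw [tauFun, if_neg h]
    exact Finset.sum_eq_zero fun q hq => hzero q fun hql => h (hql ▸ (Finset.mem_filter.1 hq).2)

theorem tau_rep [DecidableEq F.Cl] (c d : F.Cl) :
    F.tau k c (F.rep d) = if d = c then 1 else 0 := by
  rw [rep, F.tau_j, F.cls_out]
  congr

include k in
/-- Every primitive idempotent is equivalent to the standard member of one class. -/
theorem exists_cls {f : A} (hf : IsPrim f) : ∃ c : F.Cl, Eqv f (F.rep c) := by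
  obtain ⟨l, -, hl⟩ := hf.exists_of_sum (k := k) Finset.univ F.j
    (by rw [← Finset.sum_mul, ← Finset.mul_sum, F.sum_one, mul_one, hf.idem])
  obtain ⟨u, v, hu, hv⟩ := hf.equiv_of_ev_ne_zero (F.prim l) (a := f * F.j l) (b := F.j l * f)
    (by rw [← mul_assoc, hf.idem]) (by rw [mul_assoc, (F.prim l).idem])
    (by rw [← mul_assoc, (F.prim l).idem]) (by rw [mul_assoc, hf.idem])
    (by rwa [show f * F.j l * (F.j l * f) = f * F.j l * f by
      rw [← mul_assoc, mul_assoc f, (F.prim l).idem]])
  exact ⟨F.cls l, Eqv.trans hf.idem (F.rep_prim _).idem ⟨u, v, hu, hv⟩ (F.eqv_rep l)⟩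

end Frame

end H19.PD
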