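import Cfsg.Agent.H19.DetRes
import Cfsg.Agent.H13.Correspondence
import Cfsg.Agent.H14.BrauerLocal
import Cfsg.Prelude.Def_DegreeGraph

set_option autoImplicit false
set_option linter.unusedSectionVars false

/-!
The common-divisor graph on relative character degrees: two components at most.
-/

open Cfsg

namespace H19.RelDeg

theorem finite_dual {C : Type*} [Group C] [Finite C] : Finite (Dual C) :=
  H14.finite_monoidHom_units (C := C)

universe u

variable {G : Type u} [Group G] [Finite G] (N : Subgroup G) [hN : N.Normal]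

/-- Conjugation of linear characters of a normal subgroup. -/
noncomputable def conjHom (g : G) : Dual N →* Dual N where
  toFun ν := Dual.ofHom (ν.toHom.comp (MulAut.conjNormal g : N ≃* N).toMonoidHom)
  map_one' := Dual.ext fun _ => rfl
  map_mul' _ _ := Dual.ext fun _ => rfl

theorem conjHom_apply (g : G) (ν : Dual N) (n : N) :
    conjHom N g ν n = ν (MulAut.conjNormal g n) := rfl

theorem conjHom_mul (g h : G) (ν : Dual N) : conjHom N (g * h) ν = conjHom N h (conjHom N g ν) := by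
  ext n
  simp [conjHom_apply]

theorem conjHom_one (ν : Dual N) : conjHom N 1 ν = ν := by
  ext n
  simp [conjHom_apply]

/-- The stabiliser of a linear character. -/
def stab (ν : Dual N) : Subgroup G where
  carrier := {g | conjHom N g ν = ν}
  one_mem' := conjHom_one N ν
  mul_mem' := fun {a b} (ha : _ = _) (hb : _ = _) => by
    show _ = _
    rw [conjHom_mul, ha, hb]
  inv_mem' := fun {a} (ha : _ = _) => by
    show _ = _
    conv_lhs => rw [← ha]
    rw [← conjHom_mul, mul_inv_cancel, conjHom_one]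

theorem mem_stab {ν : Dual N} {g : G} : g ∈ stab N ν ↔ conjHom N g ν = ν := Iff.rfl

theorem stab_le_pow (ν : Dual N) (k : ℕ) : stab N ν ≤ stab N (ν ^ k) := fun g hg => by
  rw [mem_stab, map_pow, (mem_stab N).mp hg]

theorem inf_le_stab_mul (ν μ : Dual N) : stab N ν ⊓ stab N μ ≤ stab N (ν * μ) := fun g hg => by
  rw [mem_stab, map_mul, (mem_stab N).mp hg.1, (mem_stab N).mp hg.2]

theorem detA_twist (g : G) (θ : IrrCharacter N) :
    detA (H13.twistIrr N g θ) = conjHom N g (detA θ) := by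
  obtain ⟨d, ρ, hρ, hρθ⟩ := θ.2
  haveI := hρ
  obtain ⟨d', ρ', hρ', hρθ'⟩ := (H13.twistIrr N g θ).2
  haveI := hρ'
  rw [detA_eq_of_rep ρ θ hρθ, detA_eq_of_rep ρ' _ hρθ']
  refine Dual.ext fun n => Units.ext ?_
  show LinearMap.det (ρ' n) = LinearMap.det (ρ (MulAut.conjNormal g n))
  refine (H14.det_eq_of_char_eq ρ' (MonoidHom.comp ρ (MulAut.conjNormal g : N ≃* N).toMonoidHom :
    Representation ℂ N (Fin d → ℂ)) ?_ n).symm
  funext x
  show ρ.character _ = ρ'.character x
  rw [hρθ, hρθ', H13.twistIrr_apply, H13.twist_eq_comp]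
  rfl

theorem inertia_le_stab (θ : IrrCharacter N) : H13.inertia N (θ : N → ℂ) ≤ stab N (detA θ) := by
  intro g hg
  rw [mem_stab, ← detA_twist]
  exact congrArg detA (Subtype.ext hg)

/-- The degree `d` is linked to the linear character `ν`. -/
def Share (ν : Dual N) (d : ℕ) : Prop :=
  (stab N ν).index ∣ d ∧ ((stab N ν).index = 1 → ν ^ d = 1)

variable {N}

theorem share_gcd {ν : Dual N} (hν : ν ≠ 1) {a b : ℕ} (ha0 : a ≠ 0) (ha : Share N ν a)
    (hb : Share N ν b) : 1 < Nat.gcd a b := by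
  have hg : 0 < Nat.gcd a b := Nat.gcd_pos_of_pos_left _ (Nat.pos_of_ne_zero ha0)
  by_contra hle
  have h1 : Nat.gcd a b = 1 := by omega
  have hi : (stab N ν).index = 1 := Nat.dvd_one.mp (h1 ▸ Nat.dvd_gcd ha.1 hb.1)
  have : ν ^ Nat.gcd a b = 1 := pow_gcd_eq_one.mpr ⟨ha.2 hi, hb.2 hi⟩
  rw [h1, pow_one] at this
  exact hν this

theorem stab_pow_eq {ν : Dual N} {k m : ℕ} (h : (ν ^ k) ^ m = ν) : stab N (ν ^ k) = stab N ν :=
  le_antisymm (by conv_rhs => rw [← h]
                  exact stab_le_pow N _ m) (stab_le_pow N ν k)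

variable [Fintype G] [Fintype N]

/-- A constituent links the degree to all powers of its determinant. -/
theorem share_of_constituent (hNG : N ≤ commutator G) (χ : IrrCharacter G) (θ : IrrCharacter N)
    (h : classInner (fun n : N => (χ : G → ℂ) n) (θ : N → ℂ) ≠ 0) (k : ℕ) :
    Share N (detA θ ^ k) (charDegree (χ : G → ℂ)) := by
  classical
  have hdeg : ((charDegree (χ : G → ℂ) : ℕ) : ℂ) = (χ : G → ℂ) 1 := (H12.irr_apply_one χ).symm
  obtain ⟨e, he⟩ := H12.IsCharacter.classInner_nat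
    (H12.IsCharacter.res (H12.isCharacter_irr χ) N) (H12.isCharacter_irr θ)
  have hcl := H13.clifford_degree N χ.2 θ.2 h
  rw [he, H12.irr_apply_one θ, ← hdeg] at hcl
  have hcl' : charDegree (χ : G → ℂ) = e * (H13.inertia N (θ : N → ℂ)).index * H12.degree (θ : N → ℂ) := by
    exact_mod_cast hcl
  refine ⟨(Subgroup.index_dvd_of_le ((inertia_le_stab N θ).trans (stab_le_pow N _ k))).trans
    (hcl' ▸ (dvd_mul_left _ e).mul_right _), fun hone => ?_⟩
  rw [Subgroup.index_eq_one] at hone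
  obtain ⟨n, π, hπ, hπχ⟩ := χ.2
  haveI := hπ
  let σ : Representation ℂ N (Fin n → ℂ) := π.comp N.subtype
  have hσ : σ.character = fun x : N => (χ : G → ℂ) x := funext fun x => congrFun hπχ (x : G)
  obtain ⟨m, hm, hm1, hmdet⟩ := exists_det_decomp σ
  have hdet1 : Dual.ofHom (H14.detHom σ) = 1 := Dual.ext fun x => by
    have hx : (x : G) ∈ (H14.detHom π).ker :=
      (Abelianization.commutator_subset_ker (H14.detHom π)) (hNG x.2)
    exact Units.ext (congrArg Units.val (MonoidHom.mem_ker.mp hx) : _)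
  have hsame : ∀ ψ : IrrCharacter N, m ψ ≠ 0 → detA ψ ^ k = detA θ ^ k ∧
      H12.degree (ψ : N → ℂ) = H12.degree (θ : N → ℂ) := by
    intro ψ hψ
    obtain ⟨x, hx⟩ : ∃ x, H13.twist N x (θ : N → ℂ) = (ψ : N → ℂ) := by
      by_contra hcon
      push Not at hcon
      have h0 := H13.classInner_res_eq_zero_of_not_conj N χ.2 θ.2 ψ.2 h hcon
      rw [← hσ, hm] at h0
      exact hψ (Nat.cast_eq_zero.mp h0)
    have hψ' : ψ = H13.twistIrr N x θ := Subtype.ext hx.symm
    refine ⟨?_, ?_⟩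
    · rw [hψ', detA_twist, ← map_pow]
      exact (mem_stab N).mp (hone ▸ Subgroup.mem_top x)
    · unfold H12.degree
      rw [← hx, H13.twist_apply]
      congr 2
      exact congrArg (θ : N → ℂ) (Subtype.ext (by simp))
  have hsum : charDegree (χ : G → ℂ) = (∑ ψ, m ψ) * H12.degree (θ : N → ℂ) := by
    rw [hσ] at hm1
    simp only [OneMemClass.coe_one, ← hdeg, H12.irr_apply_one] at hm1
    have hm1' : charDegree (χ : G → ℂ) = ∑ ψ, m ψ * H12.degree (ψ : N → ℂ) := by exact_mod_cast hm1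
    rw [hm1', Finset.sum_mul]
    refine Finset.sum_congr rfl fun ψ _ => ?_
    by_cases h0 : m ψ = 0
    · simp [h0]
    · rw [(hsame ψ h0).2]
  have hpow : (detA θ ^ k) ^ ∑ ψ, m ψ = 1 := by
    rw [← Finset.prod_pow_eq_pow_sum,
      Finset.prod_congr rfl fun ψ _ => show (detA θ ^ k) ^ m ψ = (detA ψ ^ m ψ) ^ k from ?_,
      Finset.prod_pow, ← hmdet, hdet1, one_pow]
    by_cases h0 : m ψ = 0
    · simp [h0]
    · rw [← (hsame ψ h0).1, ← pow_mul, ← pow_mul, mul_comm]
  rw [hsum, pow_mul, hpow, one_pow]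

omit [Fintype G] in
theorem degree_pos (χ : IrrCharacter G) : charDegree (χ : G → ℂ) ≠ 0 := (H12.irr_degree_pos χ).ne'

theorem ne_zero_of_mem {a : ℕ} (ha : a ∈ relCharDegrees N) : a ≠ 0 := by
  obtain ⟨χ, -, rfl⟩ := ha
  exact degree_pos χ

/-- A nontrivial character of `N` lies under some member of the relative degree set. -/
theorem exists_over (θ : IrrCharacter N) (hθ : ∃ n : N, (θ : N → ℂ) n ≠ 1) :
    ∃ χ : IrrCharacter G, classInner (fun n : N => (χ : G → ℂ) n) (θ : N → ℂ) ≠ 0 ∧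
      charDegree (χ : G → ℂ) ∈ relCharDegrees N ∧
      H12.degree (θ : N → ℂ) ∣ charDegree (χ : G → ℂ) := by
  classical
  obtain ⟨χ, hχ⟩ : ∃ χ : IrrCharacter G, classInner (indFun N (θ : N → ℂ)) χ ≠ 0 := by
    by_contra h0
    simp only [not_exists, not_not] at h0
    have h := congrFun (H12.eq_zero_of_classInner_irr_eq_zero (H13.indFun_isClassFunction N _) h0) 1
    rw [H13.indFun_apply_one, Pi.zero_apply, mul_eq_zero] at h
    rcases h with h | h
    · exact Nat.cast_ne_zero.mpr Subgroup.index_ne_zero_of_finite h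
    · exact H12.irr_apply_one_ne_zero θ h
  have hne : classInner (fun n : N => (χ : G → ℂ) n) (θ : N → ℂ) ≠ 0 := by
    rw [H13.classInner_indFun_left N _ (H12.irr_isClassFunction χ)] at hχ
    rw [← H12.conj_classInner]
    simpa using hχ
  refine ⟨χ, hne, ⟨χ, ?_, rfl⟩, ?_⟩
  · by_contra hcon
    push Not at hcon
    obtain ⟨n, hn⟩ := hθ
    have e : (fun x : N => (χ : G → ℂ) x) = (χ : G → ℂ) 1 • (H12.oneIrr N : N → ℂ) := funext fun x => by
      rw [Pi.smul_apply, H12.oneIrr_apply, smul_eq_mul, mul_one, hcon x x.2]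
    rw [e, H12.classInner_smul_left, H12.classInner_irr] at hne
    split_ifs at hne with h
    · exact hn (by rw [← h, H12.oneIrr_apply])
    · exact hne (mul_zero _)
  · obtain ⟨e, he⟩ := H12.IsCharacter.classInner_nat
      (H12.IsCharacter.res (H12.isCharacter_irr χ) N) (H12.isCharacter_irr θ)
    have hcl := H13.clifford_degree N χ.2 θ.2 hne
    rw [he, H12.irr_apply_one θ, show (χ : G → ℂ) 1 = ((charDegree (χ : G → ℂ) : ℕ) : ℂ) from
      H12.irr_apply_one χ] at hcl
    exact ⟨e * (H13.inertia N (θ : N → ℂ)).index, by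
      rw [mul_comm (H12.degree (θ : N → ℂ))]; exact_mod_cast hcl⟩

theorem exists_linear_over (hNG : N ≤ commutator G) (l : Dual N) (hl : l ≠ 1) :
    ∃ d ∈ relCharDegrees N, ∀ k, Share N (l ^ k) d := by
  obtain ⟨χ, hne, hmem, -⟩ := exists_over (H12.linIrr l.toHom) (by
    by_contra h
    push Not at h
    exact hl (Dual.ext fun n => Units.ext (h n)))
  refine ⟨_, hmem, fun k => ?_⟩
  have := share_of_constituent hNG χ _ hne k
  rwa [detA_linIrr] at this

/-- Connectedness in the relative degree graph. -/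
def Reach (N : Subgroup G) (a b : ℕ) : Prop :=
  ∃ (ha : a ∈ relCharDegrees N) (hb : b ∈ relCharDegrees N),
    (commonDivisorGraph.induce (relCharDegrees N)).Reachable ⟨a, ha⟩ ⟨b, hb⟩

theorem Reach.trans {a b c : ℕ} (h : Reach N a b) (h' : Reach N b c) : Reach N a c := by
  obtain ⟨ha, hb, h⟩ := h
  obtain ⟨_, hc, h'⟩ := h'
  exact ⟨ha, hc, h.trans h'⟩

theorem Reach.symm {a b : ℕ} (h : Reach N a b) : Reach N b a := by
  obtain ⟨ha, hb, h⟩ := h
  exact ⟨hb, ha, h.symm⟩

theorem reach_of_gcd {a b : ℕ} (ha : a ∈ relCharDegrees N) (hb : b ∈ relCharDegrees N)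
    (h : 1 < Nat.gcd a b) : Reach N a b := by
  refine ⟨ha, hb, ?_⟩
  by_cases hab : a = b
  · subst hab; exact SimpleGraph.Reachable.refl _
  · exact SimpleGraph.Adj.reachable (show commonDivisorGraph.Adj a b from ⟨hab, h⟩)

theorem reach_of_dvd {a b q : ℕ} (ha : a ∈ relCharDegrees N) (hb : b ∈ relCharDegrees N) (hq : 1 < q)
    (h1 : q ∣ a) (h2 : q ∣ b) : Reach N a b :=
  reach_of_gcd ha hb (lt_of_lt_of_le hq (Nat.le_of_dvd
    (Nat.gcd_pos_of_pos_left _ (Nat.pos_of_ne_zero (ne_zero_of_mem ha))) (Nat.dvd_gcd h1 h2)))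

/-- Orbits of coprime sizes of characters of `r`-power order. -/
theorem not_coprime_orbits {R : ℕ} {ν μ : Dual N} (hν : ν ^ R = 1) (hμ : μ ^ R = 1)
    (hij : (stab N ν).index.Coprime (stab N μ).index)
    (hkj : (stab N (ν * μ)).index.Coprime (stab N μ).index)
    (hj : (stab N μ).index ≠ 1) (hir : (stab N ν).index.Coprime R) : False := by
  classical
  set Sν := stab N ν with hSν
  set Sμ := stab N μ with hSμ
  set Sκ := stab N (ν * μ) with hSκ
  have hI : (Sν ⊓ Sμ).index = Sν.index * Sμ.index :=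
    le_antisymm (Subgroup.index_inf_le) (Nat.le_of_dvd (Nat.pos_of_ne_zero Subgroup.index_ne_zero_of_finite)
      (hij.mul_dvd_of_dvd_of_dvd (Subgroup.index_dvd_of_le inf_le_left) (Subgroup.index_dvd_of_le inf_le_right)))
  have hk : Sκ.index ∣ Sν.index :=
    hkj.dvd_of_dvd_mul_right (hI ▸ Subgroup.index_dvd_of_le (inf_le_stab_mul N ν μ))
  have hJ : (Sκ ⊓ Sμ).index = Sκ.index * Sμ.index :=
    le_antisymm (Subgroup.index_inf_le) (Nat.le_of_dvd (Nat.pos_of_ne_zero Subgroup.index_ne_zero_of_finite)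
      (hkj.mul_dvd_of_dvd_of_dvd (Subgroup.index_dvd_of_le inf_le_left) (Subgroup.index_dvd_of_le inf_le_right)))
  have hle : Sκ ⊓ Sμ ≤ Sν := fun g hg => by
    have h1 := (mem_stab N).mp hg.1
    rw [map_mul, (mem_stab N).mp hg.2] at h1
    exact mul_right_cancel h1
  have hi : Sν.index ∣ Sκ.index := hij.dvd_of_dvd_mul_right (hJ ▸ Subgroup.index_dvd_of_le hle)
  have hik : Sκ.index = Sν.index := Nat.dvd_antisymm hk hi
  letI act : MulAction G (Dual N) :=
    { smul := fun g x => conjHom N g⁻¹ x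
      one_smul := fun x => by show conjHom N 1⁻¹ x = x; rw [inv_one, conjHom_one]
      mul_smul := fun g h x => by
        show conjHom N (g * h)⁻¹ x = conjHom N g⁻¹ (conjHom N h⁻¹ x)
        rw [mul_inv_rev, conjHom_mul] }
  have hst : ∀ x, MulAction.stabilizer G x = stab N x := fun x => by
    ext g
    rw [MulAction.mem_stabilizer_iff]
    show conjHom N g⁻¹ x = x ↔ g ∈ stab N x
    rw [← mem_stab, inv_mem_iff]
  have hsmul : ∀ (g : G) (x y : Dual N), g • (x * y) = g • x * g • y := fun g x y => map_mul (conjHom N g⁻¹) x y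
  have horb : ∀ x : Dual N, (MulAction.orbit G x).ncard = (stab N x).index := fun x => by
    rw [← hst, MulAction.index_stabilizer, Set.ncard]
  -- the stabiliser of `ν` moves `μ` around its whole orbit
  have htrans : ∀ g : G, ∃ s ∈ Sν, s • μ = g • μ := by
    intro g
    have hrel : Sμ.relIndex Sν = Sμ.index := by
      have := Subgroup.relIndex_mul_index (inf_le_left : Sν ⊓ Sμ ≤ Sν)
      rw [hI, Subgroup.inf_relIndex_left, mul_comm Sν.index] at this
      exact Nat.eq_of_mul_eq_mul_right (Nat.pos_of_ne_zero Subgroup.index_ne_zero_of_finite) this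
    let f : Sν ⧸ Sμ.subgroupOf Sν → G ⧸ Sμ := Quotient.map' (fun s => (s : G)) fun a b hab => by
      rw [QuotientGroup.leftRel_apply] at hab ⊢
      exact hab
    have hf : Function.Injective f := by
      intro a b hab
      induction a using Quotient.inductionOn' with | _ a =>
      induction b using Quotient.inductionOn' with | _ b =>
      refine Quotient.sound' ?_
      rw [QuotientGroup.leftRel_apply]
      have hab' : (QuotientGroup.mk (a : G) : G ⧸ Sμ) = QuotientGroup.mk (b : G) := hab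
      exact (QuotientGroup.eq (s := Sμ) (a := (a : G)) (b := (b : G))).mp hab'
    obtain ⟨q, hq⟩ := ((Nat.bijective_iff_injective_and_card f).mpr ⟨hf, hrel⟩).2 (QuotientGroup.mk g)
    induction q using Quotient.inductionOn' with | _ q =>
    refine ⟨q, q.2, ?_⟩
    have hmem : (q : G)⁻¹ * g ∈ MulAction.stabilizer G μ := by
      rw [hst]
      exact QuotientGroup.leftRel_apply.mp (Quotient.exact' hq)
    rw [MulAction.mem_stabilizer_iff, mul_smul, inv_smul_eq_iff] at hmem
    exact hmem.symm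
  have hmemκ : ∀ x ∈ MulAction.orbit G ν, ∀ g : G, x * g • μ ∈ MulAction.orbit G (ν * μ) := by
    rintro _ ⟨h, rfl⟩ g
    obtain ⟨s, hs, hsμ⟩ := htrans (h⁻¹ * g)
    refine ⟨h * s, ?_⟩
    show (h * s) • (ν * μ) = h • ν * g • μ
    rw [hsmul, mul_smul h s μ, hsμ, ← mul_smul h (h⁻¹ * g) μ, mul_inv_cancel_left, mul_smul]
    congr 2
    exact MulAction.mem_stabilizer_iff.mp ((hst ν).symm ▸ hs)
  haveI := finite_dual (C := N)
  have himg : ∀ g : G, (fun x => x * g • μ) '' MulAction.orbit G ν = MulAction.orbit G (ν * μ) := by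
    intro g
    refine Set.eq_of_subset_of_ncard_le (by rintro _ ⟨x, hx, rfl⟩; exact hmemκ x hx g) (le_of_eq ?_)
      (Set.toFinite _)
    rw [Set.ncard_image_of_injective _ (mul_left_injective _), horb, horb]
    exact hik
  obtain ⟨g, hg⟩ : ∃ g : G, g • μ ≠ μ := by
    by_contra h
    push Not at h
    refine hj (Subgroup.index_eq_one.mpr (eq_top_iff.mpr fun g _ => ?_))
    have h' := MulAction.mem_stabilizer_iff.mpr (h g)
    rwa [hst] at h'
  set δ := g • μ * μ⁻¹ with hδ
  have hinv : (fun x => x * δ) '' MulAction.orbit G ν = MulAction.orbit G ν := by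
    have h1 := himg g
    rw [← himg 1] at h1
    have e : (fun x : Dual N => x * δ) = (fun x => x * μ⁻¹) ∘ (fun x => x * g • μ) :=
      funext fun x => by simp only [Function.comp_apply, hδ, mul_assoc]
    rw [e, Set.image_comp, h1, ← Set.image_comp]
    simp [Function.comp_def]
  haveI := Fintype.ofFinite (Dual N)
  set O := (MulAction.orbit G ν).toFinset with hO
  have hprod : ∏ x ∈ O, x * δ = ∏ x ∈ O, x := by
    have : O.image (fun x => x * δ) = O := by
      apply Finset.coe_injective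
      rw [Finset.coe_image, hO, Set.coe_toFinset, hinv]
    conv_rhs => rw [← this]
    rw [Finset.prod_image (fun a _ b _ h => mul_right_cancel h)]
  rw [Finset.prod_mul_distrib, Finset.prod_const, mul_eq_left] at hprod
  have hcardO : O.card = Sν.index := by
    rw [hO, ← Set.ncard_eq_toFinset_card', horb]
  rw [hcardO] at hprod
  have hR : δ ^ R = 1 := by
    rw [hδ, mul_pow, inv_pow, hμ, inv_one, mul_one]
    show conjHom N g⁻¹ μ ^ R = 1
    rw [← map_pow, hμ, map_one]
  have : δ ^ Nat.gcd Sν.index R = 1 := pow_gcd_eq_one.mpr ⟨hprod, hR⟩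
  rw [hir, pow_one] at this
  exact hg (mul_inv_eq_one.mp this)

section Prime

variable {r k t : ℕ}

theorem pow_index_eq_one (ν : Dual N) : ν ^ ⁅N, N⁆.relIndex N = 1 := by
  haveI := finite_dual (C := N)
  have hm : ⁅N, N⁆.relIndex N = Nat.card (Dual N) := by
    show _ = Nat.card ((N : Type u) →* ℂˣ)
    rw [H12.card_monoidHom_units, Subgroup.relIndex]
    congr 1
    apply Subgroup.map_injective (f := N.subtype) N.subtype_injective
    rw [Subgroup.subgroupOf_map_subtype, Subgroup.map_subtype_commutator, inf_eq_left]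
    exact Subgroup.commutator_le_self N
  rw [hm]
  exact pow_card_eq_one'

/-- `a` reaches every degree linked to `ν`. -/
def Covers (N : Subgroup G) [N.Normal] (a : ℕ) (ν : Dual N) : Prop :=
  ∀ d ∈ relCharDegrees N, Share N ν d → Reach N a d

theorem coprime_pow_of_not_dvd (hr : r.Prime) {a : ℕ} (h : ¬ r ∣ a) (k : ℕ) : a.Coprime (r ^ k) :=
  ((hr.coprime_iff_not_dvd.mpr h).symm).pow_right k

/-- The dichotomy for a degree prime to `r`. -/
theorem covers_or (hNG : N ≤ commutator G) (hr : r.Prime) (hm : ⁅N, N⁆.relIndex N = r ^ k * t)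
    (ht : ¬ r ∣ t) {a : ℕ} (ha : a ∈ relCharDegrees N) (hra : ¬ r ∣ a) :
    (∃ ν : Dual N, ν ^ r ^ k = 1 ∧ ν ≠ 1 ∧ Share N ν a) ∨
      ∀ ν : Dual N, ν ^ r ^ k = 1 → ν ≠ 1 → Covers N a ν := by
  classical
  haveI := finite_dual (C := N)
  obtain ⟨χ, ⟨x, hx, hxne⟩, rfl⟩ := ha
  have hres : (fun n : N => (χ : G → ℂ) n) ≠ 0 := fun h0 => by
    have := congrFun h0 (1 : N)
    exact H12.irr_apply_one_ne_zero χ this
  obtain ⟨θ, hθ, hθne⟩ : ∃ θ : IrrCharacter N,
      classInner (fun n : N => (χ : G → ℂ) n) (θ : N → ℂ) ≠ 0 ∧ θ ≠ H12.oneIrr N := by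
    by_contra hcon
    push Not at hcon
    have hz : ∀ n : N, (χ : G → ℂ) n =
        classInner (fun n : N => (χ : G → ℂ) n) (H12.oneIrr N : N → ℂ) := fun n => by
      rw [H12.classFunction_apply_eq_sum (H12.IsCharacter.isClassFunction
        (H12.IsCharacter.res (H12.isCharacter_irr χ) N)) n, Finset.sum_eq_single (H12.oneIrr N)]
      · rw [H12.oneIrr_apply, mul_one]
      · intro ψ _ hψ
        rw [Classical.byContradiction fun h => hψ (hcon ψ h), zero_mul]
      · simp
    exact hxne ((hz ⟨x, hx⟩).trans (hz 1).symm)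
  have hmema : charDegree (χ : G → ℂ) ∈ relCharDegrees N := ⟨χ, ⟨x, hx, hxne⟩, rfl⟩
  obtain ⟨e, he⟩ := H12.IsCharacter.classInner_nat
    (H12.IsCharacter.res (H12.isCharacter_irr χ) N) (H12.isCharacter_irr θ)
  have hfdvd : H12.degree (θ : N → ℂ) ∣ charDegree (χ : G → ℂ) := by
    have hcl := H13.clifford_degree N χ.2 θ.2 hθ
    rw [he, H12.irr_apply_one θ, show (χ : G → ℂ) 1 = ((charDegree (χ : G → ℂ) : ℕ) : ℂ) from
      H12.irr_apply_one χ] at hcl
    exact ⟨e * (H13.inertia N (θ : N → ℂ)).index, by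
      rw [mul_comm (H12.degree (θ : N → ℂ))]; exact_mod_cast hcl⟩
  have hfr : ¬ r ∣ H12.degree (θ : N → ℂ) := fun h => hra (h.trans hfdvd)
  have hlink : ∀ ν : Dual N, ν ≠ 1 → ∀ b ∈ relCharDegrees N, Share N ν b →
      Reach N (charDegree (χ : G → ℂ)) b → Covers N (charDegree (χ : G → ℂ)) ν :=
    fun ν hν b hb hsb hab d hd hsd =>
      hab.trans (reach_of_gcd hb hd (share_gcd hν (ne_zero_of_mem hb) hsb hsd))
  by_cases hf : 1 < H12.degree (θ : N → ℂ)
  · refine Or.inr fun ν hν hν1 => ?_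
    set w := ν * (detA θ ^ t)⁻¹ with hw
    have hwR : w ^ r ^ k = 1 := by
      rw [hw, mul_pow, hν, one_mul, inv_pow, ← pow_mul, mul_comm, ← hm, pow_index_eq_one, inv_one]
    obtain ⟨u, hu⟩ := exists_pow_eq_self_of_coprime (x := w) (n := H12.degree (θ : N → ℂ) * t)
      ((coprime_pow_of_not_dvd hr (fun h => (hr.dvd_mul.mp h).elim hfr ht) k).coprime_dvd_right
        (orderOf_dvd_of_pow_eq_one hwR))
    obtain ⟨θ', hθ'1, hθ'det⟩ := exists_twist θ (w ^ u)
    have hdet : detA θ' ^ t = ν := by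
      rw [hθ'det, mul_pow, ← pow_mul, ← pow_mul, mul_comm u]
      rw [pow_mul, hu, hw, inv_mul_cancel_right]
    obtain ⟨χ', hne', hmem', hdvd'⟩ := exists_over θ' (by
      by_contra h
      push Not at h
      have h1 := h 1
      rw [hθ'1, H12.irr_apply_one] at h1
      have : H12.degree (θ : N → ℂ) = 1 := by exact_mod_cast h1
      omega)
    refine hlink ν hν1 _ hmem' (hdet ▸ share_of_constituent hNG χ' θ' hne' t) ?_
    refine reach_of_dvd hmema hmem' hf hfdvd ?_
    have : H12.degree (θ' : N → ℂ) = H12.degree (θ : N → ℂ) := by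
      unfold H12.degree; rw [hθ'1]
    exact this ▸ hdvd'
  · have hf1 : (θ : N → ℂ) 1 = 1 := by
      rw [H12.irr_apply_one]
      have := H12.irr_degree_pos θ
      exact_mod_cast (by omega : H12.degree (θ : N → ℂ) = 1)
    obtain ⟨φ, hφ⟩ : ∃ φ : Dual N, (fun n => (φ n : ℂ)) = (θ : N → ℂ) :=
      H12.exists_monoidHom_of_apply_one_eq_one (H12.isCharacter_irr θ) hf1
    have hθl : θ = H12.linIrr φ.toHom := Subtype.ext hφ.symm
    have hshare : ∀ j, Share N (φ ^ j) (charDegree (χ : G → ℂ)) := fun j => by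
      have := share_of_constituent hNG χ θ hθ j
      rwa [hθl, detA_linIrr] at this
    by_cases hR : φ ^ r ^ k = 1
    · refine Or.inl ⟨φ, hR, fun h1 => hθne ?_, by simpa using hshare 1⟩
      apply Subtype.ext
      rw [← hφ, h1]
      rfl
    · refine Or.inr fun ν hν hν1 => ?_
      have hρ : φ ^ (r ^ k * r ^ k) ≠ 1 := by
        intro h0
        apply hR
        have h1 : (φ ^ r ^ k) ^ t = 1 := by rw [← pow_mul, ← hm, pow_index_eq_one]
        have h2 : (φ ^ r ^ k) ^ Nat.gcd (r ^ k) t = 1 :=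
          pow_gcd_eq_one.mpr ⟨(by rw [← pow_mul]; exact h0), h1⟩
        rwa [(coprime_pow_of_not_dvd hr ht k).symm, pow_one] at h2
      set l := φ ^ r ^ k * ν with hl
      have hlR : l ^ r ^ k = φ ^ (r ^ k * r ^ k) := by rw [hl, mul_pow, hν, mul_one, pow_mul]
      have hlt : l ^ t = ν ^ t := by rw [hl, mul_pow, ← pow_mul, ← hm, pow_index_eq_one, one_mul]
      obtain ⟨u, hu⟩ := exists_pow_eq_self_of_coprime (x := ν) (n := t)
        ((coprime_pow_of_not_dvd hr ht k).coprime_dvd_right (orderOf_dvd_of_pow_eq_one hν))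
      obtain ⟨b, hb, hbs⟩ := exists_linear_over hNG l (fun h1 => hρ (by rw [← hlR, h1, one_pow]))
      refine hlink ν hν1 b hb ?_ ?_
      · have := hbs (t * u)
        rwa [pow_mul, hlt, hu] at this
      · have := hbs (r ^ k)
        rw [hlR] at this
        exact reach_of_gcd hmema hb (share_gcd hρ (degree_pos χ) (hshare _) this)

/-- A nontrivial `r`-linear character. -/
theorem exists_rChar (hr : r.Prime) (hm : ⁅N, N⁆.relIndex N = r ^ k * t) (hk : k ≠ 0) :
    ∃ ν : Dual N, ν ^ r ^ k = 1 ∧ ν ≠ 1 := by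
  haveI := finite_dual (C := N)
  haveI : Fact r.Prime := ⟨hr⟩
  have hcard : Nat.card (Dual N) = r ^ k * t := by
    rw [← hm]
    show Nat.card ((N : Type u) →* ℂˣ) = _
    rw [H12.card_monoidHom_units, Subgroup.relIndex]
    congr 1
    apply Subgroup.map_injective (f := N.subtype) N.subtype_injective
    rw [Subgroup.subgroupOf_map_subtype, Subgroup.map_subtype_commutator, eq_comm, inf_eq_left]
    exact Subgroup.commutator_le_self N
  obtain ⟨ν, hν⟩ := exists_prime_orderOf_dvd_card' (G := Dual N) r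
    (hcard ▸ (dvd_pow_self r hk).mul_right t)
  refine ⟨ν, orderOf_dvd_iff_pow_eq_one.mp (hν ▸ dvd_pow_self r hk), fun h1 => ?_⟩
  rw [h1, orderOf_one] at hν
  exact hr.one_lt.ne hν

/-- All degrees prime to `r` lie in one component. -/
theorem reach_of_not_dvd (hNG : N ≤ commutator G) (hr : r.Prime)
    (hm : ⁅N, N⁆.relIndex N = r ^ k * t) (hk : k ≠ 0) (ht : ¬ r ∣ t) {a b : ℕ}
    (ha : a ∈ relCharDegrees N) (hb : b ∈ relCharDegrees N) (hra : ¬ r ∣ a) (hrb : ¬ r ∣ b) :
    Reach N a b := by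
  rcases covers_or hNG hr hm ht ha hra with ⟨ν, hν, hν1, hνa⟩ | hA
  · rcases covers_or hNG hr hm ht hb hrb with ⟨μ, hμ, hμ1, hμb⟩ | hB
    · have hnot : ∀ {c : ℕ} {x : Dual N}, ¬ r ∣ c → x ^ r ^ k = 1 → x ≠ 1 → Share N x c →
          (stab N x).index ≠ 1 := fun {c x} hc hx hx1 hxc hone => hx1 <| by
        have : x ^ Nat.gcd c (r ^ k) = 1 := pow_gcd_eq_one.mpr ⟨hxc.2 hone, hx⟩
        rwa [coprime_pow_of_not_dvd hr hc k, pow_one] at this
      have hi := hnot hra hν hν1 hνa
      have hj := hnot hrb hμ hμ1 hμb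
      by_cases hij : (stab N ν).index.Coprime (stab N μ).index
      swap
      · obtain ⟨q, hq, hq1, hq2⟩ := Nat.Prime.not_coprime_iff_dvd.mp hij
        exact reach_of_dvd ha hb hq.one_lt (hq1.trans hνa.1) (hq2.trans hμb.1)
      have hκj : ¬ (stab N (ν * μ)).index.Coprime (stab N μ).index := fun h =>
        not_coprime_orbits hν hμ hij h hj
          ((coprime_pow_of_not_dvd hr hra k).coprime_dvd_left hνa.1)
      have hκi : ¬ (stab N (ν * μ)).index.Coprime (stab N ν).index := fun h =>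
        not_coprime_orbits hμ hν hij.symm (by rw [mul_comm]; exact h) hi
          ((coprime_pow_of_not_dvd hr hrb k).coprime_dvd_left hμb.1)
      obtain ⟨d, hd, hds⟩ := exists_linear_over hNG (ν * μ) (fun h1 => by
        have : stab N (ν * μ) = ⊤ := eq_top_iff.mpr fun g _ => by rw [mem_stab, h1, map_one]
        rw [this, Subgroup.index_top] at hκj
        exact hκj (Nat.coprime_one_left _))
      have hd1 := hds 1
      rw [pow_one] at hd1
      obtain ⟨q, hq, hq1, hq2⟩ := Nat.Prime.not_coprime_iff_dvd.mp hκi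
      obtain ⟨q', hq', hq1', hq2'⟩ := Nat.Prime.not_coprime_iff_dvd.mp hκj
      exact (reach_of_dvd ha hd hq.one_lt (hq2.trans hνa.1) (hq1.trans hd1.1)).trans
        (reach_of_dvd hd hb hq'.one_lt (hq1'.trans hd1.1) (hq2'.trans hμb.1))
    · exact (hB ν hν hν1 a ha hνa).symm
  · rcases covers_or hNG hr hm ht hb hrb with ⟨μ, hμ, hμ1, hμb⟩ | hB
    · exact hA μ hμ hμ1 b hb hμb
    · obtain ⟨ν, hν, hν1⟩ := exists_rChar hr hm hk
      obtain ⟨d, hd, hds⟩ := exists_linear_over hNG ν hν1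
      have hd1 := hds 1
      rw [pow_one] at hd1
      exact (hA ν hν hν1 d hd hd1).trans (hB ν hν hν1 d hd hd1).symm

/-- A degree prime to `r` covers some `r`-character. -/
theorem exists_covers (hNG : N ≤ commutator G) (hr : r.Prime)
    (hm : ⁅N, N⁆.relIndex N = r ^ k * t) (hk : k ≠ 0) (ht : ¬ r ∣ t) {a : ℕ}
    (ha : a ∈ relCharDegrees N) (hra : ¬ r ∣ a) :
    ∃ ν : Dual N, ν ^ r ^ k = 1 ∧ ν ≠ 1 ∧ Covers N a ν := by
  rcases covers_or hNG hr hm ht ha hra with ⟨ν, hν, hν1, hνa⟩ | hA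
  · exact ⟨ν, hν, hν1, fun d hd hds =>
      reach_of_gcd ha hd (share_gcd hν1 (ne_zero_of_mem ha) hνa hds)⟩
  · obtain ⟨ν, hν, hν1⟩ := exists_rChar hr hm hk
    exact ⟨ν, hν, hν1, hA ν hν hν1⟩

end Prime

/-- Degrees prime to different primes of the index reach each other. -/
theorem reach_of_two_primes (hNG : N ≤ commutator G) {r s : ℕ} (hr : r.Prime) (hs : s.Prime) (hrs : r ≠ s)
    (hrm : r ∣ ⁅N, N⁆.relIndex N) (hsm : s ∣ ⁅N, N⁆.relIndex N) {a b : ℕ}
    (ha : a ∈ relCharDegrees N) (hb : b ∈ relCharDegrees N) (hra : ¬ r ∣ a) (hsb : ¬ s ∣ b) :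
    Reach N a b := by
  have hm0 : ⁅N, N⁆.relIndex N ≠ 0 := Subgroup.index_ne_zero_of_finite
  obtain ⟨k, t, ht, hkt⟩ := Nat.exists_eq_pow_mul_and_not_dvd hm0 r hr.ne_one
  obtain ⟨l, t', ht', hlt⟩ := Nat.exists_eq_pow_mul_and_not_dvd hm0 s hs.ne_one
  have hk : k ≠ 0 := fun h => ht (by rwa [hkt, h, pow_zero, one_mul] at hrm)
  have hl : l ≠ 0 := fun h => ht' (by rwa [hlt, h, pow_zero, one_mul] at hsm)
  obtain ⟨ν, hν, hν1, hνc⟩ := exists_covers hNG hr hkt hk ht ha hra
  obtain ⟨μ, hμ, hμ1, hμc⟩ := exists_covers hNG hs hlt hl ht' hb hsb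
  haveI := finite_dual (C := N)
  have hc : (r ^ k).Coprime (s ^ l) := Nat.Coprime.pow _ _ ((Nat.coprime_primes hr hs).mpr hrs)
  obtain ⟨u, hu⟩ := exists_pow_eq_self_of_coprime (x := ν) (n := s ^ l)
    (hc.symm.coprime_dvd_right (orderOf_dvd_of_pow_eq_one hν))
  obtain ⟨u', hu'⟩ := exists_pow_eq_self_of_coprime (x := μ) (n := r ^ k)
    (hc.coprime_dvd_right (orderOf_dvd_of_pow_eq_one hμ))
  have e1 : (ν * μ) ^ (s ^ l * u) = ν := by rw [pow_mul, mul_pow, hμ, mul_one, hu]
  have e2 : (ν * μ) ^ (r ^ k * u') = μ := by rw [pow_mul, mul_pow, hν, one_mul, hu']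
  obtain ⟨d, hd, hds⟩ := exists_linear_over hNG (ν * μ) (fun h => hν1 (by rw [← e1, h, one_pow]))
  exact (hνc d hd (e1 ▸ hds _)).trans (hμc d hd (e2 ▸ hds _)).symm

/-- Each component is either prime to the index or divisible by all its primes. -/
theorem dichotomy (hNG : N ≤ commutator G) {a b : ℕ} (ha : a ∈ relCharDegrees N)
    (hb : b ∈ relCharDegrees N) (hnr : ¬ Reach N a b) {r : ℕ} (hr : r.Prime)
    (hrm : r ∣ ⁅N, N⁆.relIndex N) (hra : ¬ r ∣ a) :
    a.Coprime (⁅N, N⁆.relIndex N) ∧ ∀ s : ℕ, s.Prime → s ∣ ⁅N, N⁆.relIndex N → s ∣ b := by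
  have hb' : ∀ s : ℕ, s.Prime → s ∣ ⁅N, N⁆.relIndex N → s ∣ b := by
    intro s hs hsm
    by_contra hsb
    by_cases hrs : r = s
    · subst hrs
      have hm0 : ⁅N, N⁆.relIndex N ≠ 0 := Subgroup.index_ne_zero_of_finite
      obtain ⟨k, t, ht, hkt⟩ := Nat.exists_eq_pow_mul_and_not_dvd hm0 r hr.ne_one
      have hk : k ≠ 0 := fun h => ht (by rwa [hkt, h, pow_zero, one_mul] at hrm)
      exact hnr (reach_of_not_dvd hNG hr hkt hk ht ha hb hra hsb)
    · exact hnr (reach_of_two_primes hNG hr hs hrs hrm hsm ha hb hra hsb)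
  refine ⟨?_, hb'⟩
  by_contra hc
  obtain ⟨q, hq, hqa, hqm⟩ := Nat.Prime.not_coprime_iff_dvd.mp hc
  exact hnr (reach_of_dvd ha hb hq.one_lt hqa (hb' q hq hqm))

end H19.RelDeg
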