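import Cfsg.Agent.H19.PrimeDegrees
import Cfsg.Agent.H19.RelDegree

set_option autoImplicit false
set_option linter.unusedSectionVars false

/-!
A perfect derived subgroup under prime degrees is trivial.
-/

open Cfsg

namespace H19.PrimeDeg

universe u

theorem derived_eq_bot_of_perfect {G : Type u} [Group G] [Finite G]
    (hprime : ∀ χ : IrrCharacter G, H12.degree (χ : G → ℂ) = 1 ∨ (H12.degree (χ : G → ℂ)).Prime)
    (hperf : ⁅commutator G, commutator G⁆ = commutator G) : commutator G = ⊥ := by
  classical
  by_contra hbot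
  haveI := Fintype.ofFinite G
  let N := commutator G
  haveI : N.Normal := Subgroup.commutator_normal ⊤ ⊤
  haveI : Fintype N := Fintype.ofFinite _
  haveI : Nontrivial N := Subgroup.nontrivial_iff_ne_bot _ |>.mpr hbot
  obtain ⟨M, hM⟩ := (Set.toFinite {M : Subgroup N | M.Normal ∧ M ≠ ⊤}).exists_maximal
    ⟨⊥, Subgroup.normal_bot, bot_ne_top⟩
  haveI := hM.prop.1
  haveI : Nontrivial (N ⧸ M) := QuotientGroup.nontrivial_iff.mpr hM.prop.2
  haveI : IsSimpleGroup (N ⧸ M) :=
    { eq_bot_or_eq_top_of_normal := fun K hK => by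
        by_cases h : K.comap (QuotientGroup.mk' M) = ⊤
        · right
          rw [← Subgroup.map_comap_eq_self_of_surjective (QuotientGroup.mk'_surjective M) K, h,
            Subgroup.map_top_of_surjective _ (QuotientGroup.mk'_surjective M)]
        · left
          have hle : M ≤ K.comap (QuotientGroup.mk' M) := by
            intro a ha
            rw [Subgroup.mem_comap, QuotientGroup.mk'_apply, (QuotientGroup.eq_one_iff a).mpr ha]
            exact K.one_mem
          have heq : K.comap (QuotientGroup.mk' M) = M :=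
            le_antisymm (hM.le_of_ge ⟨hK.comap _, h⟩ hle) hle
          rw [← Subgroup.map_comap_eq_self_of_surjective (QuotientGroup.mk'_surjective M) K, heq,
            QuotientGroup.map_mk'_self] }
  haveI : Fintype (N ⧸ M) := Fintype.ofFinite _
  have hperfN : commutator N = ⊤ := by
    apply Subgroup.map_injective (f := N.subtype) N.subtype_injective
    rw [Subgroup.map_subtype_commutator, ← MonoidHom.range_eq_map, Subgroup.range_subtype]
    exact hperf
  have hna : ¬ IsMulCommutative (N ⧸ M) := by
    intro h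
    have h2 : commutator N ≤ M := by
      rw [commutator_def, Subgroup.commutator_le]
      intro a _ b _
      rw [← QuotientGroup.eq_one_iff, ← QuotientGroup.mk'_apply, map_commutatorElement,
        commutatorElement_eq_one_iff_mul_comm]
      exact h.is_comm.comm _ _
    exact hM.prop.2 (top_le_iff.mp (hperfN ▸ h2))
  refine false_of_prime_degrees hna fun ψ hψ => ?_
  set θ := H12.inflate M ψ with hθ
  have hθne : ∃ n : N, (θ : N → ℂ) n ≠ 1 := by
    by_contra hcon
    push Not at hcon
    refine hψ (Subtype.ext (funext fun x => ?_))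
    obtain ⟨n, rfl⟩ := QuotientGroup.mk_surjective x
    rw [H12.oneIrr_apply, ← H12.inflate_apply]
    exact hcon n
  obtain ⟨χ, -, -, hdvd⟩ := H19.RelDeg.exists_over (G := G) θ hθne
  have hdeg : H12.degree (θ : N → ℂ) = H12.degree (ψ : N ⧸ M → ℂ) := by
    unfold H12.degree
    rw [hθ, H12.inflate_apply]
    rfl
  rw [hdeg] at hdvd
  have hne1 : H12.degree (ψ : N ⧸ M → ℂ) ≠ 1 := by
    intro h1
    obtain ⟨l, hl⟩ := H12.exists_monoidHom_of_apply_one_eq_one (H12.isCharacter_irr θ)
      (by rw [H12.irr_apply_one, hdeg, h1, Nat.cast_one])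
    obtain ⟨n, hn⟩ := hθne
    have hk : n ∈ l.ker := (Abelianization.commutator_subset_ker l) (hperfN ▸ Subgroup.mem_top n)
    rw [← hl] at hn
    exact hn (congrArg Units.val (MonoidHom.mem_ker.mp hk))
  change H12.degree (ψ : N ⧸ M → ℂ) ∣ H12.degree (χ : G → ℂ) at hdvd
  rcases hprime χ with h | h
  · exact absurd (Nat.dvd_one.mp (h ▸ hdvd)) hne1
  · rcases (Nat.dvd_prime h).mp hdvd with h' | h'
    · exact absurd h' hne1
    · exact h' ▸ h

end H19.PrimeDeg
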