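import Cfsg.Agent.H19.RelDegree
import Cfsg.Agent.H12.Transport

set_option autoImplicit false
set_option linter.unusedSectionVars false

/-!
Passing between the common-divisor graph on degrees and the prime graph of degrees.
-/

open Cfsg

namespace H19.RelDeg

universe u

variable {G : Type u} [Group G] [Finite G]

/-- Nonlinear degrees are relative degrees over the derived subgroup. -/
theorem mem_relDegrees_derived {d : ℕ} (hd : d ∈ charDegrees G) (h1 : d ≠ 1) :
    d ∈ relCharDegrees (commutator G) := by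
  obtain ⟨χ, rfl⟩ := hd
  refine ⟨χ, ?_, rfl⟩
  by_contra hcon
  push Not at hcon
  obtain ⟨ψ, hψ⟩ := H12.exists_inflate_eq (commutator G) χ hcon
  apply h1
  have hone : (χ : G → ℂ) 1 = 1 := by
    rw [← hψ, H12.inflate_apply]
    exact H12.irr_apply_one_of_comm (fun a b => mul_comm (a : Abelianization G) b) ψ
  show H12.degree (χ : G → ℂ) = 1
  have h := H12.irr_apply_one χ
  rw [hone] at h
  exact_mod_cast h.symm

theorem mem_charDegrees_of_rel {N : Subgroup G} {d : ℕ} (hd : d ∈ relCharDegrees N) :
    d ∈ charDegrees G := by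
  obtain ⟨χ, -, rfl⟩ := hd
  exact ⟨χ, rfl⟩

theorem mem_degreePrimes {N : Subgroup G} {d q : ℕ} (hd : d ∈ relCharDegrees N) (hq : q.Prime)
    (h : q ∣ d) : q ∈ degreePrimes G :=
  ⟨hq, d, mem_charDegrees_of_rel hd, h⟩

theorem prime_reach_of_dvd {d : ℕ} (hd : d ∈ charDegrees G) {u v : ↥(degreePrimes G)}
    (hu : (u : ℕ) ∣ d) (hv : (v : ℕ) ∣ d) : ((degreeGraph G).induce (degreePrimes G)).Reachable u v := by
  by_cases huv : u = v
  · rw [huv]
  · refine SimpleGraph.Adj.reachable ?_
    have hne : (u : ℕ) ≠ v := fun h => huv (Subtype.ext h)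
    exact ⟨hne, u.2.1, v.2.1, d, hd,
      ((Nat.coprime_primes u.2.1 v.2.1).mpr hne).mul_dvd_of_dvd_of_dvd hu hv⟩

/-- Connected degrees give connected primes. -/
theorem prime_reach_of_reach {N : Subgroup G} {a b : ℕ} (h : Reach N a b) {u v : ↥(degreePrimes G)}
    (hu : (u : ℕ) ∣ a) (hv : (v : ℕ) ∣ b) : ((degreeGraph G).induce (degreePrimes G)).Reachable u v := by
  obtain ⟨ha, hb, ⟨w⟩⟩ := h
  suffices H : ∀ (x y : ↥(relCharDegrees N)), (commonDivisorGraph.induce (relCharDegrees N)).Walk x y →
      ∀ u v : ↥(degreePrimes G), (u : ℕ) ∣ (x : ℕ) → (v : ℕ) ∣ (y : ℕ) →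
        ((degreeGraph G).induce (degreePrimes G)).Reachable u v from H _ _ w u v hu hv
  intro x y w
  induction w with
  | @nil x => exact fun u v hu hv => prime_reach_of_dvd (mem_charDegrees_of_rel x.2) hu hv
  | @cons x y z hadj _ ih =>
    intro u v hu hv
    have hadj' : commonDivisorGraph.Adj (x : ℕ) y := hadj
    obtain ⟨q, hq, hqd⟩ := Nat.exists_prime_and_dvd hadj'.2.ne'
    have hqx : q ∣ (x : ℕ) := hqd.trans (Nat.gcd_dvd_left _ _)
    have hqy : q ∣ (y : ℕ) := hqd.trans (Nat.gcd_dvd_right _ _)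
    exact (prime_reach_of_dvd (mem_charDegrees_of_rel x.2) hu
      (v := ⟨q, mem_degreePrimes x.2 hq hqx⟩) hqx).trans (ih ⟨q, mem_degreePrimes x.2 hq hqx⟩ v hqy hv)

/-- A degree divisible by a given prime of the graph. -/
theorem exists_rel_of_prime (u : ↥(degreePrimes G)) :
    ∃ d ∈ relCharDegrees (commutator G), (u : ℕ) ∣ d := by
  obtain ⟨hu, d, hd, hud⟩ := u.2
  exact ⟨d, mem_relDegrees_derived hd fun h => hu.ne_one (Nat.dvd_one.mp (h ▸ hud)), hud⟩

/-- A solvable group's degree graph has at most two components; more precisely, the component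
map to the components of the relative degree graph is injective. -/
theorem card_components_le : Nat.card ((degreeGraph G).induce (degreePrimes G)).ConnectedComponent ≤
    Nat.card (commonDivisorGraph.induce (relCharDegrees (commutator G))).ConnectedComponent := by
  classical
  haveI : Finite (relCharDegrees (commutator G)) :=
    Set.Finite.to_subtype ((Set.finite_range fun χ : IrrCharacter G =>
      charDegree (χ : G → ℂ)).subset fun d ⟨χ, _, hd⟩ => ⟨χ, hd⟩)
  choose f hf hdvd using exists_rel_of_prime (G := G)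
  refine Nat.card_le_card_of_injective (fun c => (commonDivisorGraph.induce (relCharDegrees (commutator G))).connectedComponentMk
    ⟨f c.out, hf c.out⟩) fun c c' h => ?_
  rw [SimpleGraph.ConnectedComponent.eq] at h
  have h1 := prime_reach_of_reach (⟨hf c.out, hf c'.out, h⟩ : Reach _ _ _) (hdvd c.out) (hdvd c'.out)
  rw [← Quot.out_eq c, ← Quot.out_eq c']
  exact SimpleGraph.ConnectedComponent.eq.mpr h1

end H19.RelDeg
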