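import Cfsg.Agent.H19.ItoSylow
import Cfsg.Agent.H13.Gallagher
import Cfsg.Agent.H15.AbelianInertia
import Cfsg.Agent.H27.ClassBasic
import Cfsg.Agent.H20.PPart

set_option autoImplicit false
set_option linter.unusedSectionVars false

/-!
A non-nilpotent group with a normal `p`-complement and only one irreducible character of degree
divisible by `p` has only one class of size divisible by `p`.
-/

open Cfsg
open scoped commutatorElement

namespace H19.UniqueSingular

universe u

variable {G : Type u} [Group G] [Fintype G] {p : ℕ} [hp : Fact p.Prime]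

/-- A character of a normal subgroup lies under one whose degree is divisible by the inertia index. -/
theorem exists_over (N : Subgroup G) [N.Normal] [Fintype N] (θ : IrrCharacter N) :
    ∃ χ : IrrCharacter G, classInner (fun n : N => (χ : G → ℂ) n) (θ : N → ℂ) ≠ 0 ∧
      (H13.inertia N (θ : N → ℂ)).index ∣ H12.degree (χ : G → ℂ) := by
  classical
  obtain ⟨χ, hχ⟩ : ∃ χ : IrrCharacter G, classInner (indFun N (θ : N → ℂ)) χ ≠ 0 := by
    by_contra h0
    simp only [not_exists, not_not] at h0
    have h := congrFun (H12.eq_zero_of_classInner_irr_eq_zero (H13.indFun_isClassFunction N _) h0) 1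
    rw [H13.indFun_apply_one, Pi.zero_apply, mul_eq_zero] at h
    rcases h with h | h
    · exact Nat.cast_ne_zero.mpr Subgroup.index_ne_zero_of_finite h
    · exact H12.irr_apply_one_ne_zero θ h
  have hne : classInner (fun n : N => (χ : G → ℂ) n) (θ : N → ℂ) ≠ 0 := by
    rw [H13.classInner_indFun_left N _ (H12.irr_isClassFunction χ)] at hχ
    rw [← H12.conj_classInner]
    simpa using hχ
  obtain ⟨e, he⟩ := H12.IsCharacter.classInner_nat
    (H12.IsCharacter.res (H12.isCharacter_irr χ) N) (H12.isCharacter_irr θ)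
  have hcl := H13.clifford_degree N χ.2 θ.2 hne
  rw [he, H12.irr_apply_one θ, H12.irr_apply_one χ] at hcl
  refine ⟨χ, hne, e * H12.degree (θ : N → ℂ), ?_⟩
  have h' : H12.degree (χ : G → ℂ) =
      e * (H13.inertia N (θ : N → ℂ)).index * H12.degree (θ : N → ℂ) := by exact_mod_cast hcl
  rw [h']; ring

theorem class_count (hnil : ¬ Group.IsNilpotent G) (N : Subgroup G) [N.Normal]
    (hN : (Nat.card N).Coprime p) (hidx : ∃ k : ℕ, N.index = p ^ k) (χ : IrrCharacter G)
    (hχ : p ∣ H12.degree (χ : G → ℂ))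
    (huniq : ∀ ψ : IrrCharacter G, p ∣ H12.degree (ψ : G → ℂ) → ψ = χ) :
    Nat.card {C : ConjClasses G // p ∣ Nat.card C.carrier} = 1 := by
  classical
  haveI : Fintype N := Fintype.ofFinite N
  have hP' : Nonempty (Sylow p G) := inferInstance
  obtain ⟨P⟩ := hP'
  obtain ⟨k, hk⟩ := hidx
  have hndvd : ¬ p ∣ Nat.card N := (Nat.Prime.coprime_iff_not_dvd hp.out).mp hN.symm
  have hPcard : Nat.card (P : Subgroup G) = p ^ k := by
    rw [P.card_eq_multiplicity, ← N.card_mul_index, hk,
      Nat.factorization_mul Nat.card_pos.ne' (pow_ne_zero k hp.out.ne_zero), Finsupp.add_apply,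
      Nat.factorization_eq_zero_of_not_dvd hndvd, hp.out.factorization_pow, Finsupp.single_eq_same,
      zero_add]
  have hcomp : N.IsComplement' (P : Subgroup G) := by
    refine Subgroup.isComplement'_of_coprime ?_ ?_
    · rw [hPcard, ← hk, N.card_mul_index]
    · rw [hPcard]; exact Nat.Coprime.pow_right k hN
  have hdec : ∀ g : G, ∃ n ∈ N, ∃ s ∈ (P : Subgroup G), n * s = g := fun g => by
    obtain ⟨⟨⟨a, ha⟩, ⟨b, hb⟩⟩, h⟩ := hcomp.2 g
    exact ⟨a, ha, b, hb, h⟩
  have hinter : ∀ g : G, g ∈ N → g ∈ (P : Subgroup G) → g = 1 := fun g h1 h2 =>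
    Subgroup.disjoint_def.mp hcomp.disjoint h1 h2
  have hnorm : ∀ s ∈ (P : Subgroup G), ∀ n ∈ N, s * n * s⁻¹ ∈ N := fun s _ n hn =>
    Subgroup.Normal.conj_mem inferInstance n hn s
  let φ := H12.Glauberman.conjHom N (P : Subgroup G) hnorm
  have hφ : ∀ (s : (P : Subgroup G)) (n : N), ((φ s n : N) : G) = (s : G) * n * (s : G)⁻¹ := fun s n =>
    H12.Glauberman.conjHom_coe ..
  have hφtw : ∀ (s : (P : Subgroup G)) (θ : N → ℂ), θ ∘ (φ s) = H13.twist N (s : G) θ := fun s θ => by
    funext n
    rw [Function.comp_apply, H13.twist_apply]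
    exact congrArg θ (Subtype.ext (hφ s n))
  have hpP : IsPGroup p (P : Subgroup G) := P.isPGroup'
  have hsolvP : Group.IsSolvable (P : Subgroup G) := by
    haveI := hpP.isNilpotent
    infer_instance
  have hcop : (Nat.card N).Coprime (Nat.card (P : Subgroup G)) := by
    rw [hPcard]; exact Nat.Coprime.pow_right k hN
  have hpQ : IsPGroup p (G ⧸ N) := IsPGroup.of_card (n := k) (by rw [← Subgroup.index_eq_card, hk])
  haveI : Group.IsNilpotent (G ⧸ N) := hpQ.isNilpotent
  let toQ : (P : Subgroup G) →* G ⧸ N := (QuotientGroup.mk' N).comp (P : Subgroup G).subtype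
  have htoQ : Function.Surjective toQ := fun x => by
    obtain ⟨g, rfl⟩ := QuotientGroup.mk_surjective x
    obtain ⟨n, hn, s, hs, rfl⟩ := hdec g
    refine ⟨⟨s, hs⟩, ?_⟩
    show (s : G ⧸ N) = _
    rw [QuotientGroup.mk_mul, (QuotientGroup.eq_one_iff n).mpr hn, one_mul]
  -- abelian Sylow subgroup when the quotient has no degree divisible by `p`
  have hPab_of : (∀ ψ : IrrCharacter (G ⧸ N), ¬ p ∣ H12.degree (ψ : G ⧸ N → ℂ)) →
      ∀ a ∈ (P : Subgroup G), ∀ b ∈ (P : Subgroup G), a * b = b * a := by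
    intro h a ha b hb
    obtain ⟨-, hab⟩ := H19.ItoSylow.normal_and_abelian (p := p)
      (H10.isPSolvable_of_isSolvable (G := G ⧸ N)) h default
    have htop : ((default : Sylow p (G ⧸ N)) : Subgroup (G ⧸ N)) = ⊤ :=
      ((default : Sylow p (G ⧸ N)).3 (hpQ.to_subgroup ⊤) le_top).symm
    have h1 : (⁅a, b⁆ : G) ∈ N := by
      rw [← QuotientGroup.eq_one_iff, ← QuotientGroup.mk'_apply, map_commutatorElement,
        commutatorElement_eq_one_iff_mul_comm]
      exact hab _ (htop ▸ Subgroup.mem_top _) _ (htop ▸ Subgroup.mem_top _)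
    exact commutatorElement_eq_one_iff_mul_comm.mp (hinter _ h1 (by
      rw [commutatorElement_def]
      exact (P : Subgroup G).mul_mem ((P : Subgroup G).mul_mem ((P : Subgroup G).mul_mem ha hb)
        ((P : Subgroup G).inv_mem ha)) ((P : Subgroup G).inv_mem hb)))
  have hinfl : ∀ ψ : IrrCharacter (G ⧸ N),
      H12.degree (H12.inflate N ψ : G → ℂ) = H12.degree (ψ : G ⧸ N → ℂ) := by
    intro ψ; unfold H12.degree; rw [H12.inflate_apply]; rfl
  -- some character of `N` is moved
  have hmoved : ∃ θ : IrrCharacter N, ¬ H12.Glauberman.Inv φ (θ : N → ℂ) := by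
    by_contra hall
    have hall : ∀ θ : IrrCharacter N, H12.Glauberman.Inv φ (θ : N → ℂ) := fun θ =>
      by_contra fun h => hall ⟨θ, h⟩
    have hcl : ∀ K : ConjClasses N, H12.Glauberman.FixCl φ K := by
      have h := H12.Glauberman.card_inv_eq_card_fixCl φ hsolvP hcop
      rw [Nat.card_congr (Equiv.subtypeUnivEquiv hall), H12.card_irrCharacter] at h
      intro K
      by_contra hK
      have hlt := Finite.card_subtype_lt (p := fun K => H12.Glauberman.FixCl φ K) hK
      omega
    have hc : ∀ n ∈ N, ∀ s ∈ (P : Subgroup G), s * n = n * s := by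
      let C : Subgroup N := (Subgroup.centralizer ((P : Subgroup G) : Set G)).subgroupOf N
      have hC : ∀ g : N, g ∈ C ↔ ∀ s : (P : Subgroup G), φ s g = g := by
        intro g
        simp only [C, Subgroup.mem_subgroupOf, Subgroup.mem_centralizer_iff, SetLike.mem_coe,
          Subtype.forall]
        refine forall₂_congr fun s hs => ?_
        rw [Subtype.ext_iff, hφ, mul_inv_eq_iff_eq_mul]
      have hCtop : C = ⊤ := by
        apply H27.eq_top_of_forall_conj_mem
        intro g
        obtain ⟨c, hc⟩ := H12.Glauberman.exists_fixed_in_class (φ := φ) hpP hndvd hC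
          (K := ConjClasses.mk g) (hcl _)
        obtain ⟨x, hx⟩ := isConj_iff.mp (ConjClasses.mk_eq_mk_iff_isConj.mp hc)
        refine ⟨x, ?_⟩
        rw [show x⁻¹ * g * x = (c : N) by rw [← hx]; group]
        exact c.2
      intro n hn s hs
      have : (⟨n, hn⟩ : N) ∈ C := hCtop.symm ▸ Subgroup.mem_top _
      exact (Subgroup.mem_centralizer_iff.mp this) s hs
    haveI hPn : (P : Subgroup G).Normal := by
      refine ⟨fun a ha g => ?_⟩
      obtain ⟨n, hn, s, hs, rfl⟩ := hdec g
      have h1 : s * a * s⁻¹ ∈ (P : Subgroup G) :=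
        (P : Subgroup G).mul_mem ((P : Subgroup G).mul_mem hs ha) ((P : Subgroup G).inv_mem hs)
      rw [show n * s * a * (n * s)⁻¹ = n * (s * a * s⁻¹) * n⁻¹ by group, ← hc n hn _ h1,
        mul_inv_cancel_right]
      exact h1
    obtain ⟨ψ₀, hψ₀⟩ : ∃ ψ : IrrCharacter (G ⧸ N), p ∣ H12.degree (ψ : G ⧸ N → ℂ) := by
      by_contra h
      exact H19.ItoSylow.not_dvd_of_normal_abelian P hPn (hPab_of fun ψ hψ => h ⟨ψ, hψ⟩) χ hχ
    haveI : Fintype (G ⧸ (P : Subgroup G)) := Fintype.ofFinite _
    set η := H12.inflate N ψ₀ with hη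
    have hres : IsIrrCharacter (P : Subgroup G) (fun s : (P : Subgroup G) => (η : G → ℂ) s) :=
      H12.IsIrrCharacter.comp_surjective ψ₀.2 htoQ
    have hηχ : η = χ := huniq η (by rw [hinfl]; exact hψ₀)
    have hone : ∀ β : IrrCharacter (G ⧸ (P : Subgroup G)),
        (β : G ⧸ (P : Subgroup G) → ℂ) = fun _ => 1 := by
      intro β
      have hirr := H13.gallagher_isIrr (P : Subgroup G) (H12.isCharacter_irr η) hres β
      have hdvd : p ∣ H12.degree
          ((H13.inflateIrr (P : Subgroup G) β : G → ℂ) * (η : G → ℂ)) := by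
        have h := H12.irr_apply_one ⟨_, hirr⟩
        simp only [Pi.mul_apply, H12.irr_apply_one] at h
        rw [← Nat.cast_mul, Nat.cast_inj] at h
        exact h ▸ dvd_mul_of_dvd_right (hηχ ▸ hχ) _
      have heq : ((H13.inflateIrr (P : Subgroup G) β : G → ℂ) * (η : G → ℂ)) = (η : G → ℂ) := by
        exact (congrArg Subtype.val (huniq ⟨_, hirr⟩ hdvd)).trans (congrArg Subtype.val hηχ.symm)
      funext x
      obtain ⟨g, rfl⟩ := QuotientGroup.mk_surjective x
      obtain ⟨n, hn, s, hs, rfl⟩ := hdec g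
      rw [QuotientGroup.mk_mul, (QuotientGroup.eq_one_iff s).mpr hs, mul_one]
      have h := congrFun heq n
      rw [Pi.mul_apply, H13.inflateIrr_apply] at h
      have hn1 : (η : G → ℂ) n = (η : G → ℂ) 1 := H12.inflate_mem_kernel N ψ₀ hn
      rw [hn1] at h
      exact (mul_eq_right₀ (H12.irr_apply_one_ne_zero η)).mp h
    have htrivQ : ∀ x : G ⧸ (P : Subgroup G), x = 1 := fun x =>
      (isConj_one_right.mp ((H12.isConj_iff_irr 1 x).mpr fun β => by rw [hone β]))
    apply hnil
    have hGP : IsPGroup p G := by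
      have htop : (P : Subgroup G) = ⊤ := eq_top_iff.mpr fun g _ =>
        (QuotientGroup.eq_one_iff g).mp (htrivQ g)
      exact IsPGroup.of_equiv (htop ▸ hpP : IsPGroup p (⊤ : Subgroup G)) Subgroup.topEquiv
    exact hGP.isNilpotent
  obtain ⟨θ₀, hθ₀⟩ := hmoved
  have hInv : ∀ θ : IrrCharacter N, H12.Glauberman.Inv φ (θ : N → ℂ) ↔
      ∀ s : (P : Subgroup G), (θ : N → ℂ) ∘ (φ s) = (θ : N → ℂ) := fun θ =>
    ⟨fun h s => funext (h s), fun h s n => congrFun (h s) n⟩
  have hinertN : ∀ θ : IrrCharacter N, N ≤ H13.inertia N (θ : N → ℂ) := fun θ =>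
    H13.le_inertia N (H12.irr_isClassFunction θ)
  have hover : ∀ θ : IrrCharacter N, ¬ H12.Glauberman.Inv φ (θ : N → ℂ) →
      classInner (fun n : N => (χ : G → ℂ) n) (θ : N → ℂ) ≠ 0 := by
    intro θ hθ
    obtain ⟨ψ, hne, hdvd⟩ := exists_over N θ
    have hd : p ∣ (H13.inertia N (θ : N → ℂ)).index := by
      have h2 : (H13.inertia N (θ : N → ℂ)).index ∣ p ^ k := hk ▸ Subgroup.index_dvd_of_le (hinertN θ)
      obtain ⟨j, -, hj⟩ := (Nat.dvd_prime_pow hp.out).mp h2
      rcases Nat.eq_zero_or_pos j with rfl | hj0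
      · refine absurd ((hInv θ).mpr fun s => ?_) hθ
        have htop := Subgroup.index_eq_one.mp (by rw [hj, pow_zero])
        rw [hφtw]
        exact (H13.mem_inertia N).mp (htop.symm ▸ Subgroup.mem_top _)
      · exact hj ▸ dvd_pow_self p hj0.ne'
    rwa [← huniq ψ (hd.trans hdvd)]
  have hone_inv : H12.Glauberman.Inv φ (H12.oneIrr N : N → ℂ) := fun s n => by
    rw [H12.oneIrr_apply, H12.oneIrr_apply]
  -- the quotient has no degree divisible by `p`, so the Sylow subgroup is abelian
  have hPab : ∀ a ∈ (P : Subgroup G), ∀ b ∈ (P : Subgroup G), a * b = b * a := by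
    refine hPab_of fun ψ hψ => ?_
    have hne := hover θ₀ hθ₀
    rw [← huniq (H12.inflate N ψ) (by rw [hinfl]; exact hψ)] at hne
    have e : (fun n : N => (H12.inflate N ψ : G → ℂ) n) =
        (H12.inflate N ψ : G → ℂ) 1 • (H12.oneIrr N : N → ℂ) := funext fun n => by
      rw [Pi.smul_apply, H12.oneIrr_apply, smul_eq_mul, mul_one]
      exact H12.inflate_mem_kernel N ψ n.2
    rw [e, H12.classInner_smul_left, H12.classInner_irr] at hne
    by_cases h : H12.oneIrr N = θ₀
    · exact hθ₀ (h ▸ hone_inv)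
    · rw [if_neg h, mul_zero] at hne; exact hne rfl
  -- the inertia group of a moved character is `N`
  have hinert : ∀ θ : IrrCharacter N, ¬ H12.Glauberman.Inv φ (θ : N → ℂ) →
      H13.inertia N (θ : N → ℂ) = N := by
    intro θ hθ
    set T := H13.inertia N (θ : N → ℂ) with hT
    have hNT : N ≤ T := hinertN θ
    haveI : Fintype T := Fintype.ofFinite T
    let H : Subgroup T := N.subgroupOf T
    haveI : H.Normal := Subgroup.Normal.subgroupOf inferInstance T
    haveI : Fintype H := Fintype.ofFinite H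
    haveI : Fintype (T ⧸ H) := Fintype.ofFinite _
    let e : H ≃* N := Subgroup.subgroupOfEquivOfLe hNT
    have hθH : IsIrrCharacter H ((θ : N → ℂ) ∘ e) := H13.isIrrCharacter_comp_equiv e θ.2
    have hHcop : Nat.Coprime (Nat.card H) H.index := by
      rw [Nat.card_congr e.toEquiv]
      have h2 : H.index ∣ p ^ k := hk ▸ Subgroup.relIndex_dvd_index_of_normal N T
      exact Nat.Coprime.coprime_dvd_right h2 (Nat.Coprime.pow_right k hN)
    obtain ⟨η, hη, hηres⟩ := H15.extends_of_coprime (T := T) H hθH (fun g => by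
      funext h
      rw [H13.twist_apply, Function.comp_apply, Function.comp_apply]
      have hg := congrFun ((H13.mem_inertia N).mp g.2) (e h)
      rw [H13.twist_apply] at hg
      exact Eq.trans (congrArg (θ : N → ℂ) (Subtype.ext rfl)) hg) hHcop
    have hηc := H12.isCharacter_of_isIrrCharacter hη
    have hηres' : IsIrrCharacter H (fun h : H => η h) := hηres.symm ▸ hθH
    have hnT : Nat.card (T ⧸ H) = 1 := by
      by_contra hne1
      have key : ∀ β : IrrCharacter (T ⧸ H),
          classInner (H13.resTo hNT ((H13.inflateIrr H β : T → ℂ) * η)) (θ : N → ℂ) ≠ 0 ∧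
            indFun T ((H13.inflateIrr H β : T → ℂ) * η) = (χ : G → ℂ) := by
        intro β
        have hres : H13.resTo hNT ((H13.inflateIrr H β : T → ℂ) * η) =
            (β : T ⧸ H → ℂ) 1 • (θ : N → ℂ) := by
          funext n
          show (H13.inflateIrr H β : T → ℂ) ⟨n, hNT n.2⟩ * η ⟨n, hNT n.2⟩ = _
          have hmem : (⟨(n : G), hNT n.2⟩ : T) ∈ H := n.2
          rw [H13.inflateIrr_kernel H β hmem, H13.inflateIrr_apply, QuotientGroup.mk_one,
            Pi.smul_apply, smul_eq_mul]
          have h := congrFun hηres ⟨_, hmem⟩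
          rw [h, Function.comp_apply]
          rfl
        have hne : classInner (H13.resTo hNT ((H13.inflateIrr H β : T → ℂ) * η)) (θ : N → ℂ) ≠ 0 := by
          rw [hres, H12.classInner_smul_left, H12.classInner_irr_self, mul_one]
          exact H12.irr_apply_one_ne_zero β
        have hirr := H13.gallagher_isIrr H hηc hηres' β
        obtain ⟨hind, hinner⟩ := H13.clifford_correspondence N θ.2 hT hNT hirr hne
        refine ⟨hne, ?_⟩
        have hdvd : p ∣ H12.degree (indFun T ((H13.inflateIrr H β : T → ℂ) * η)) := by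
          have hd : p ∣ T.index := by
            have h2 : T.index ∣ p ^ k := hk ▸ Subgroup.index_dvd_of_le hNT
            obtain ⟨j, -, hj⟩ := (Nat.dvd_prime_pow hp.out).mp h2
            rcases Nat.eq_zero_or_pos j with rfl | hj0
            · refine absurd ((hInv θ).mpr fun s => ?_) hθ
              have htop := Subgroup.index_eq_one.mp (by rw [hj, pow_zero])
              rw [hφtw]
              exact (H13.mem_inertia N).mp
                (show (s : G) ∈ H13.inertia N (θ : N → ℂ) by rw [← hT, htop]; exact Subgroup.mem_top _)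
            · exact hj ▸ dvd_pow_self p hj0.ne'
          have h : indFun T ((H13.inflateIrr H β : T → ℂ) * η) 1 =
              (H12.degree (indFun T ((H13.inflateIrr H β : T → ℂ) * η)) : ℂ) :=
            H12.irr_apply_one (⟨_, hind⟩ : IrrCharacter G)
          have h1 : ((H13.inflateIrr H β : T → ℂ) * η) 1 =
              (H12.degree ((H13.inflateIrr H β : T → ℂ) * η) : ℂ) :=
            H12.irr_apply_one (⟨_, hirr⟩ : IrrCharacter T)
          rw [H13.indFun_apply_one, h1] at h
          rw [← Nat.cast_mul, Nat.cast_inj] at h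
          exact h ▸ dvd_mul_of_dvd_left hd _
        exact congrArg Subtype.val (huniq ⟨_, hind⟩ hdvd)
      have hsub : Subsingleton (IrrCharacter (T ⧸ H)) := ⟨fun β γ => by
        refine H13.gallagher_injective H hηc hηres' ?_
        exact H13.clifford_correspondence_inj N θ.2 hT hNT (H13.gallagher_isIrr H hηc hηres' β)
          (H13.gallagher_isIrr H hηc hηres' γ) (key β).1 (key γ).1 ((key β).2.trans (key γ).2.symm)⟩
      apply hne1
      rw [Nat.card_eq_one_iff_unique]
      refine ⟨⟨fun x y => ?_⟩, ⟨1⟩⟩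
      have hall : ∀ x : T ⧸ H, x = 1 := fun x => isConj_one_right.mp
        ((H12.isConj_iff_irr 1 x).mpr fun β => by rw [Subsingleton.elim β (H12.oneIrr _)]; rfl)
      rw [hall x, hall y]
    refine le_antisymm ?_ hNT
    rw [← Subgroup.index_eq_card, Subgroup.index_eq_one] at hnT
    exact fun x hx => (Subgroup.subgroupOf_eq_top.mp hnT) hx
  have hfree : ∀ θ : IrrCharacter N, ¬ H12.Glauberman.Inv φ (θ : N → ℂ) →
      ∀ s : (P : Subgroup G), (θ : N → ℂ) ∘ (φ s) = (θ : N → ℂ) → s = 1 := by
    intro θ hθ s hs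
    rw [hφtw] at hs
    have hsN : (s : G) ∈ N := hinert θ hθ ▸ (H13.mem_inertia N).mpr hs
    exact Subtype.ext (hinter _ hsN s.2)
  -- fixed classes of a nontrivial element are fixed by all of `P`
  let mv : ↥(P : Subgroup G) → ConjClasses N → ConjClasses N := fun s K =>
    ConjClasses.map (φ s).toMonoidHom K
  have hmv_mk : ∀ s n, mv s (ConjClasses.mk n) = ConjClasses.mk (φ s n) := fun s n => rfl
  have hFix : ∀ K : ConjClasses N, H12.Glauberman.FixCl φ K ↔ ∀ s, mv s K = K := by
    intro K
    constructor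
    · intro h s
      obtain ⟨n, rfl⟩ := ConjClasses.mk_surjective K
      rw [hmv_mk]; exact h s n rfl
    · intro h s n hn
      rw [← hn]; exact (hn ▸ h s : mv s (ConjClasses.mk n) = ConjClasses.mk n)
  have hG6 := H12.Glauberman.card_inv_eq_card_fixCl φ hsolvP hcop
  have hfix6 : ∀ s : (P : Subgroup G), s ≠ 1 → ∀ K : ConjClasses N, mv s K = K →
      H12.Glauberman.FixCl φ K := by
    intro s hs
    have h := H13.card_fixed_irr_mulEquiv (G := N) (φ s)
    have e1 : Nat.card {θ : IrrCharacter N // (θ : N → ℂ) ∘ (φ s) = (θ : N → ℂ)} =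
        Nat.card {θ : IrrCharacter N // H12.Glauberman.Inv φ (θ : N → ℂ)} :=
      Nat.card_congr (Equiv.subtypeEquivRight fun θ =>
        ⟨fun h => by_contra fun hθ => hs (hfree θ hθ s h), fun h => (hInv θ).mp h s⟩)
    rw [e1, hG6] at h
    intro K hK
    by_contra hKn
    let inc : {K : ConjClasses N // H12.Glauberman.FixCl φ K} → {K : ConjClasses N // mv s K = K} :=
      fun K => ⟨K.1, (hFix _).mp K.2 s⟩
    have hinj : Function.Injective inc := fun a b hab => Subtype.ext (congrArg (·.1) hab)
    have hbij := (Nat.bijective_iff_injective_and_card inc).mpr ⟨hinj, h.symm⟩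
    obtain ⟨K', hK'⟩ := hbij.2 ⟨K, hK⟩
    exact hKn ((congrArg (·.1) hK' : K'.1 = K) ▸ K'.2)
  -- the moved classes form one orbit
  have hmovedθ : Nat.card {θ : IrrCharacter N // ¬ H12.Glauberman.Inv φ (θ : N → ℂ)} =
      Nat.card (P : Subgroup G) := by
    let f : ↥(P : Subgroup G) → {θ : IrrCharacter N // ¬ H12.Glauberman.Inv φ (θ : N → ℂ)} := fun s =>
      ⟨⟨(θ₀ : N → ℂ) ∘ (φ s),
        H12.IsIrrCharacter.comp_surjective θ₀.2 (f := (φ s).toMonoidHom) (φ s).surjective⟩,
        fun h => hθ₀ fun t n => by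
          have := h (s⁻¹ * t * s) ((φ s).symm n)
          simp only [Function.comp_apply] at this
          rw [show φ (s⁻¹ * t * s) ((φ s).symm n) = (φ s).symm (φ t n) by
            rw [map_mul, map_mul, MulAut.mul_apply, MulAut.mul_apply, MulEquiv.apply_symm_apply,
              map_inv]; rfl] at this
          simpa using this⟩
    refine (Nat.card_congr (Equiv.ofBijective f ⟨fun s t h => ?_, fun ⟨θ, hθ⟩ => ?_⟩)).symm
    · have h' : (θ₀ : N → ℂ) ∘ (φ s) = (θ₀ : N → ℂ) ∘ (φ t) := congrArg (fun x => (x.1 : N → ℂ)) h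
      refine (mul_inv_eq_one.mp (hfree θ₀ hθ₀ (s * t⁻¹) ?_))
      funext n
      rw [Function.comp_apply, map_mul, MulAut.mul_apply]
      have h'' := congrFun h' (φ t⁻¹ n)
      simp only [Function.comp_apply] at h''
      rw [h'', ← MulAut.mul_apply, ← map_mul, mul_inv_cancel, map_one, MulAut.one_apply]
    · obtain ⟨x, hx⟩ : ∃ x : G, H13.twist N x (θ₀ : N → ℂ) = (θ : N → ℂ) := by
        by_contra hno
        exact hover θ hθ (H13.classInner_res_eq_zero_of_not_conj N χ.2 θ₀.2 θ.2 (hover θ₀ hθ₀)
          fun x hx => hno ⟨x, hx⟩)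
      obtain ⟨n, hn, s, hs, rfl⟩ := hdec x
      refine ⟨⟨s, hs⟩, Subtype.ext (Subtype.ext ?_)⟩
      show (θ₀ : N → ℂ) ∘ (φ ⟨s, hs⟩) = (θ : N → ℂ)
      rw [hφtw, ← hx, ← H13.twist_twist, (H13.mem_inertia N).mp (hinertN θ₀ hn)]
  have hmovedK : Nat.card {K : ConjClasses N // ¬ H12.Glauberman.FixCl φ K} =
      Nat.card (P : Subgroup G) := by
    rw [← hmovedθ]
    have h1 := Nat.card_congr (Equiv.sumCompl (fun K : ConjClasses N => H12.Glauberman.FixCl φ K))
    have h2 := Nat.card_congr (Equiv.sumCompl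
      (fun θ : IrrCharacter N => H12.Glauberman.Inv φ (θ : N → ℂ)))
    rw [Nat.card_sum] at h1 h2
    have h3 := H12.card_irrCharacter (G := N)
    omega
  have horbit : ∀ K K' : ConjClasses N, ¬ H12.Glauberman.FixCl φ K →
      ¬ H12.Glauberman.FixCl φ K' → ∃ s, mv s K = K' := by
    intro K K' hK hK'
    have hcomp' : ∀ s t, mv (s * t) K = mv s (mv t K) := fun s t => by
      obtain ⟨n, rfl⟩ := ConjClasses.mk_surjective K
      rw [hmv_mk, hmv_mk, hmv_mk, map_mul, MulAut.mul_apply]
    let f : ↥(P : Subgroup G) → {K : ConjClasses N // ¬ H12.Glauberman.FixCl φ K} := fun s =>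
      ⟨mv s K, fun h => hK ((hFix K).mpr fun t => by
        obtain ⟨n, rfl⟩ := ConjClasses.mk_surjective K
        have h' := (hFix _).mp h (s * t * s⁻¹)
        rw [hmv_mk, hmv_mk, ← MulAut.mul_apply, ← map_mul, inv_mul_cancel_right, map_mul,
          MulAut.mul_apply, ConjClasses.mk_eq_mk_iff_isConj] at h'
        have h'' := (φ s).symm.toMonoidHom.map_isConj h'
        simp only [MulEquiv.coe_toMonoidHom, MulEquiv.symm_apply_apply] at h''
        rw [hmv_mk]
        exact ConjClasses.mk_eq_mk_iff_isConj.mpr h'')⟩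
    have hinj : Function.Injective f := by
      intro s t h
      have h' : mv s K = mv t K := congrArg Subtype.val h
      by_contra hne
      refine hK (hfix6 (t⁻¹ * s) (fun he => hne (inv_mul_eq_one.mp he).symm) K ?_)
      rw [hcomp', h', ← hcomp', inv_mul_cancel]
      obtain ⟨n, rfl⟩ := ConjClasses.mk_surjective K
      rw [hmv_mk, map_one, MulAut.one_apply]
    have hbij := (Nat.bijective_iff_injective_and_card f).mpr ⟨hinj, hmovedK.symm⟩
    obtain ⟨s, hs⟩ := hbij.2 ⟨K', hK'⟩
    exact ⟨s, congrArg Subtype.val hs⟩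
  -- class sizes
  have hcent : ∀ g : G, (∀ s ∈ (P : Subgroup G), s * g = g * s) →
      ¬ p ∣ (Subgroup.centralizer ({g} : Set G)).index := by
    intro g hg hd
    refine P.not_dvd_index (hd.trans (Subgroup.index_dvd_of_le fun s hs => ?_))
    exact Subgroup.mem_centralizer_singleton_iff.mpr (hg s hs)
  have hidxconj : ∀ g c : G, (Subgroup.centralizer ({c * g * c⁻¹} : Set G)).index =
      (Subgroup.centralizer ({g} : Set G)).index := by
    intro g c
    rw [← H27.card_carrier_eq_index, ← H27.card_carrier_eq_index,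
      ConjClasses.mk_eq_mk_iff_isConj.mpr (isConj_iff.mpr ⟨c, rfl⟩).symm]
  have hsize : ∀ g : G, p ∣ (Subgroup.centralizer ({g} : Set G)).index ↔
      ∃ h : g ∈ N, ¬ H12.Glauberman.FixCl φ (ConjClasses.mk (⟨g, h⟩ : N)) := by
    intro g
    constructor
    · intro hd
      have hgN : g ∈ N := by
        by_contra hgN
        set x := H20.pPart p g with hx
        obtain ⟨j, hj⟩ := H20.exists_orderOf_pPart (p := p) g
        obtain ⟨S, hS⟩ := (IsPGroup.of_card (p := p) (n := j) (G := Subgroup.zpowers x)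
          (by rw [Nat.card_zpowers, hj])).exists_le_sylow
        obtain ⟨c, hc⟩ := MulAction.exists_smul_eq G S P
        have hxP : c * x * c⁻¹ ∈ (P : Subgroup G) := by
          rw [← hc]; exact ⟨x, hS (Subgroup.mem_zpowers x), rfl⟩
        set a := c * x * c⁻¹ with ha
        set y := c * H20.qPart p g * c⁻¹ with hy
        have hay : Commute a y := by
          have := (H20.commute_pPart_qPart (p := p) g).map (MulAut.conj c).toMonoidHom
          simpa [ha, hy, hx] using this
        have hgc : c * g * c⁻¹ = a * y := by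
          conv_lhs => rw [← H20.pPart_mul_qPart (p := p) g]
          rw [ha, hy, hx]; group
        have hyN : y ∈ N := by
          rw [← QuotientGroup.eq_one_iff]
          obtain ⟨i, hi⟩ := IsPGroup.iff_orderOf.mp hpQ (y : G ⧸ N)
          have hdq : orderOf (y : G ⧸ N) ∣ orderOf (H20.qPart p g) := by
            refine (orderOf_map_dvd (QuotientGroup.mk' N) y).trans ?_
            rw [hy, show c * H20.qPart p g * c⁻¹ = MulAut.conj c (H20.qPart p g) from rfl,
              MulEquiv.orderOf_eq]
          rcases Nat.eq_zero_or_pos i with rfl | hi0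
          · rwa [pow_zero, orderOf_eq_one_iff] at hi
          · exact absurd ((dvd_pow_self p hi0.ne').trans (hi ▸ hdq))
              (H20.not_dvd_orderOf_qPart g)
        have ha1 : a ≠ 1 := by
          intro h1
          apply hgN
          rw [h1, one_mul] at hgc
          have hm := Subgroup.Normal.conj_mem (inferInstance : N.Normal) _ (hgc ▸ hyN) c⁻¹
          rwa [show c⁻¹ * (c * g * c⁻¹) * c⁻¹⁻¹ = g by group] at hm
        let a' : (P : Subgroup G) := ⟨a, hxP⟩
        have ha' : a' ≠ 1 := fun h => ha1 (congrArg Subtype.val h)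
        have hfixy : H12.Glauberman.FixCl φ (ConjClasses.mk (⟨y, hyN⟩ : N)) := by
          refine hfix6 a' ha' _ ?_
          rw [hmv_mk]
          refine congrArg ConjClasses.mk (Subtype.ext ?_)
          rw [hφ]
          show a * y * a⁻¹ = y
          rw [hay.eq, mul_inv_cancel_right]
        -- the class of `y` in the centralizer of `a` in `N`
        let C0 : Subgroup G := N ⊓ Subgroup.centralizer ({a} : Set G)
        let φa : Subgroup.zpowers a →* MulAut N := φ.comp (Subgroup.inclusion (Subgroup.zpowers_le.mpr hxP))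
        have hza : IsPGroup p (Subgroup.zpowers a) :=
          hpP.to_le (Subgroup.zpowers_le.mpr hxP)
        let C1 : Subgroup N := C0.subgroupOf N
        have hC1 : ∀ n : N, n ∈ C1 ↔ ∀ s, φa s n = n := by
          intro n
          have hv : ∀ s : Subgroup.zpowers a, φa s n = n ↔ (s : G) * n = n * (s : G) := by
            intro s
            rw [Subtype.ext_iff]
            show ((φ _ n : N) : G) = _ ↔ _
            rw [hφ, mul_inv_eq_iff_eq_mul]
            rfl
          simp only [hv]
          constructor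
          · rintro ⟨-, hn⟩ ⟨s, hs⟩
            obtain ⟨i, rfl⟩ := Subgroup.mem_zpowers_iff.mp hs
            exact ((show Commute a (n : G) from
              (Subgroup.mem_centralizer_singleton_iff.mp hn).symm).zpow_left i).eq
          · intro h
            exact ⟨n.2, Subgroup.mem_centralizer_singleton_iff.mpr (h ⟨a, Subgroup.mem_zpowers a⟩).symm⟩
        have hnormC : ∀ s ∈ (P : Subgroup G), ∀ z ∈ C0, s * z * s⁻¹ ∈ C0 := by
          rintro s hs z ⟨hzN, hz⟩
          refine ⟨hnorm s hs z hzN, Subgroup.mem_centralizer_singleton_iff.mpr ?_⟩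
          have h1 : Commute s a := hPab s hs a hxP
          have h2 : Commute z a := Subgroup.mem_centralizer_singleton_iff.mp hz
          exact ((h1.mul_left h2).mul_left h1.inv_left).eq
        let φC := H12.Glauberman.conjHom C0 (P : Subgroup G) hnormC
        have hyC : y ∈ C0 := ⟨hyN, Subgroup.mem_centralizer_singleton_iff.mpr hay.eq.symm⟩
        let C2 : Subgroup C0 := (Subgroup.centralizer ((P : Subgroup G) : Set G)).subgroupOf C0
        have hC2 : ∀ z : C0, z ∈ C2 ↔ ∀ s : (P : Subgroup G), φC s z = z := by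
          intro z
          simp only [C2, Subgroup.mem_subgroupOf, Subgroup.mem_centralizer_iff, SetLike.mem_coe,
            Subtype.forall]
          refine forall₂_congr fun s hs => ?_
          rw [Subtype.ext_iff, H12.Glauberman.conjHom_coe, mul_inv_eq_iff_eq_mul]
        have hndC : ¬ p ∣ Nat.card C0 := fun h =>
          hndvd (h.trans (Subgroup.card_dvd_of_le inf_le_left))
        have hfixC : H12.Glauberman.FixCl φC (ConjClasses.mk (⟨y, hyC⟩ : C0)) := by
          intro s z hz
          obtain ⟨d, hd'⟩ := isConj_iff.mp (ConjClasses.mk_eq_mk_iff_isConj.mp hz)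
          -- `z` is conjugate to `y` in `N`, so is its image
          have h1 : ConjClasses.mk (⟨(z : G), z.2.1⟩ : N) = ConjClasses.mk (⟨y, hyN⟩ : N) :=
            ConjClasses.mk_eq_mk_iff_isConj.mpr (isConj_iff.mpr ⟨⟨(d : G), d.2.1⟩,
              Subtype.ext (congrArg Subtype.val hd' :)⟩)
          have h2 := hfixy s _ h1
          let u1 : C1 := ⟨φ s ⟨(z : G), z.2.1⟩, by
            show ((φ s _ : N) : G) ∈ C0
            rw [hφ]; exact hnormC s s.2 z z.2⟩
          let u2 : C1 := ⟨⟨y, hyN⟩, hyC⟩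
          have h3 := H12.Glauberman.isConj_of_isConj_coe (φ := φa) hza hndvd hC1 (a := u1) (b := u2)
            (ConjClasses.mk_eq_mk_iff_isConj.mp h2)
          obtain ⟨e, he⟩ := isConj_iff.mp h3
          refine ConjClasses.mk_eq_mk_iff_isConj.mpr (isConj_iff.mpr ⟨⟨((e : N) : G), e.2⟩, Subtype.ext ?_⟩)
          have := congrArg (fun w : C1 => (((w : N)) : G)) he
          simpa [u1, u2, H12.Glauberman.conjHom_coe, φC, hφ] using this
        obtain ⟨z, hz⟩ := H12.Glauberman.exists_fixed_in_class (φ := φC) hpP hndC hC2 hfixC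
        obtain ⟨d, hd'⟩ := isConj_iff.mp (ConjClasses.mk_eq_mk_iff_isConj.mp hz)
        have hd'' : (d : G) * ((z : C0) : G) * (d : G)⁻¹ = y := congrArg Subtype.val hd'
        have hda : Commute (d : G) a := Subgroup.mem_centralizer_singleton_iff.mp d.2.2
        refine hcent (a * ((z : C0) : G)) (fun s hs => ?_) ?_
        · have hsz : Commute s ((z : C0) : G) := Subgroup.mem_centralizer_iff.mp z.2 s hs
          have hsa : Commute s a := hPab s hs a hxP
          exact (hsa.mul_right hsz).eq
        · rw [← hidxconj _ (d : G), show (d : G) * (a * ((z : C0) : G)) * (d : G)⁻¹ = a * y by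
            rw [← hd'', ← mul_assoc (d : G) a, hda.eq]; group, ← hgc, hidxconj]
          exact hd
      refine ⟨hgN, fun hfix => ?_⟩
      let C : Subgroup N := (Subgroup.centralizer ((P : Subgroup G) : Set G)).subgroupOf N
      have hC : ∀ g : N, g ∈ C ↔ ∀ s : (P : Subgroup G), φ s g = g := by
        intro g
        simp only [C, Subgroup.mem_subgroupOf, Subgroup.mem_centralizer_iff, SetLike.mem_coe,
          Subtype.forall]
        refine forall₂_congr fun s hs => ?_
        rw [Subtype.ext_iff, hφ, mul_inv_eq_iff_eq_mul]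
      obtain ⟨z, hz⟩ := H12.Glauberman.exists_fixed_in_class (φ := φ) hpP hndvd hC hfix
      obtain ⟨d, hd'⟩ := isConj_iff.mp (ConjClasses.mk_eq_mk_iff_isConj.mp hz)
      refine hcent (((z : N)) : G) (fun s hs => Subgroup.mem_centralizer_iff.mp z.2 s hs) ?_
      rw [← hidxconj _ (d : G)]
      have : (d : G) * ((z : N) : G) * (d : G)⁻¹ = g := congrArg Subtype.val hd'
      rw [this]; exact hd
    · rintro ⟨hgN, hmvd⟩
      by_contra hd
      obtain ⟨S, hS⟩ := H27.exists_sylow_le_of_not_dvd_index hd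
      obtain ⟨x, hx⟩ := MulAction.exists_smul_eq G P S
      obtain ⟨n, hn, t, ht, rfl⟩ := hdec x
      apply hmvd
      rw [hFix]
      intro s
      set g' : N := ⟨n⁻¹ * g * n, by
        have := Subgroup.Normal.conj_mem (inferInstance : N.Normal) g hgN n⁻¹
        rwa [inv_inv] at this⟩ with hg'
      have hcl : ConjClasses.mk (⟨g, hgN⟩ : N) = ConjClasses.mk g' :=
        ConjClasses.mk_eq_mk_iff_isConj.mpr (isConj_iff.mpr ⟨⟨n⁻¹, N.inv_mem hn⟩, Subtype.ext (by
          simp [hg'])⟩)
      rw [hcl, hmv_mk]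
      refine congrArg ConjClasses.mk (Subtype.ext ?_)
      rw [hφ]
      show (s : G) * (n⁻¹ * g * n) * (s : G)⁻¹ = n⁻¹ * g * n
      have h1 : n * (s : G) * n⁻¹ ∈ (S : Subgroup G) := by
        rw [← hx]
        refine ⟨t⁻¹ * (s : G) * t, (P : Subgroup G).mul_mem ((P : Subgroup G).mul_mem
          ((P : Subgroup G).inv_mem ht) s.2) ht, ?_⟩
        simp [mul_assoc]
      have h2 := Subgroup.mem_centralizer_singleton_iff.mp (hS h1)
      calc (s : G) * (n⁻¹ * g * n) * (s : G)⁻¹
          = n⁻¹ * ((n * (s : G) * n⁻¹) * g) * (n * (s : G)⁻¹) := by group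
        _ = n⁻¹ * (g * (n * (s : G) * n⁻¹)) * (n * (s : G)⁻¹) := by rw [h2]
        _ = n⁻¹ * g * n := by group
  obtain ⟨K₀, hK₀⟩ : ∃ K : ConjClasses N, ¬ H12.Glauberman.FixCl φ K := by
    by_contra h
    haveI : IsEmpty {K : ConjClasses N // ¬ H12.Glauberman.FixCl φ K} := ⟨fun K => h ⟨K.1, K.2⟩⟩
    rw [Nat.card_of_isEmpty] at hmovedK
    exact Nat.card_pos.ne' hmovedK.symm
  obtain ⟨n₀, rfl⟩ := ConjClasses.mk_surjective K₀
  rw [Nat.card_eq_one_iff_exists]
  refine ⟨⟨ConjClasses.mk (n₀ : G), by
    rw [H27.card_carrier_eq_index]; exact (hsize _).mpr ⟨n₀.2, hK₀⟩⟩, fun ⟨C, hC⟩ => ?_⟩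
  obtain ⟨g, rfl⟩ := ConjClasses.mk_surjective C
  rw [H27.card_carrier_eq_index] at hC
  obtain ⟨hgN, hg⟩ := (hsize g).mp hC
  obtain ⟨s, hs⟩ := horbit _ _ hK₀ hg
  rw [hmv_mk, ConjClasses.mk_eq_mk_iff_isConj] at hs
  refine Subtype.ext (ConjClasses.mk_eq_mk_iff_isConj.mpr (IsConj.symm ?_))
  have h1 := N.subtype.map_isConj hs
  simp only [Subgroup.coe_subtype, hφ] at h1
  exact (isConj_iff.mpr ⟨(s : G), rfl⟩).trans h1

end H19.UniqueSingular
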