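import Cfsg.Agent.H19.CentralPrime
import Cfsg.Agent.H19.CentralRank

/-!
`k(B) ≤ p^d l(b)` for a major subsection, and `l(b) ≤ k(b̄)` for a block with a central
`p`-subgroup, `b̄` the block of the quotient.
-/

set_option autoImplicit false
set_option linter.unusedSectionVars false
set_option linter.style.haveILetI false

open Cfsg Finset
open scoped ComplexConjugate

namespace H19.RankBound

universe u

section Major

variable {G : Type u} [Group G] [Fintype G] {p : ℕ} [hp : Fact p.Prime] {M : Ideal AlgInt}
  [hMp : M.IsPrime] {B : Set (IrrCharacter G)} {x : G}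
  [Fintype (Subgroup.centralizer ({x} : Set G))]
  {b : Set (IrrCharacter (Subgroup.centralizer ({x} : Set G)))}

/-- A major subsection bounds the block by `p ^ d` times its rank. -/
theorem natCard_le_mul (S : H22.Contrib.Setup p M x B b)
    (hq : blockDefect p b = blockDefect p B) :
    Nat.card B ≤ p ^ blockDefect p B * blockRank p b := by
  classical
  rw [H22.natCard_block]
  have hp1 : (0 : ℤ) < (p : ℤ) - 1 := by have := hp.out.two_le; omega
  have htot := S.sum_aSum
  rw [hq] at htot
  have h := card_nsmul_le_sum (H22.blockFinset B) S.aSum (((p : ℤ) - 1) * 1) fun χ hχ =>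
    H22.Cyc.le_Phi S.form_symm S.form_nonneg (fun a ha => by
      have := S.form_nonneg a
      omega) (S.vec χ)
      (S.aSum_ne_zero χ (S.aval_self_ne_zero_of_major hq (H22.mem_blockFinset.1 hχ)))
  rw [htot, nsmul_eq_mul] at h
  have h2 : ((H22.blockFinset B).card : ℤ) ≤ (p : ℤ) ^ blockDefect p B * (blockRank p b : ℤ) :=
    le_of_mul_le_mul_left (by linarith) hp1
  exact_mod_cast h2

end Major

variable {K : Type u} [Group K] [Fintype K] {p : ℕ} [hp : Fact p.Prime] {M : Ideal AlgInt}
  [hMp : M.IsPrime] {b : Set (IrrCharacter K)}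

open Classical in
/-- Over a central `p`-subgroup the members trivial on it span the regular parts. -/
theorem blockRank_le_card_triv (hM : IsPModular p M) (hb : IsPBlock M b) (Z : Subgroup K)
    (hZ : Z ≤ Subgroup.center K) (hZp : IsPGroup p Z) :
    blockRank p b ≤ ((H22.blockFinset b).filter fun η : IrrCharacter K =>
      ∀ z ∈ Z, (η : K → ℂ) z = (η : K → ℂ) 1).card := by
  have hWO := H22.weakOrth_of_block hM hb
  set T := (H22.blockFinset b).filter fun η : IrrCharacter K =>
    ∀ z ∈ Z, (η : K → ℂ) z = (η : K → ℂ) 1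
  have havg : ∀ x y : K, ¬ p ∣ orderOf x → ¬ p ∣ orderOf y →
      ∑ η ∈ H22.blockFinset b, (η : K → ℂ) x * conj ((η : K → ℂ) y) =
        (Nat.card Z : ℂ) * ∑ η ∈ T, (η : K → ℂ) x * conj ((η : K → ℂ) y) := by
    intro x y hx hy
    have hsum : ∑ w : Z, ∑ η ∈ H22.blockFinset b,
        (η : K → ℂ) ((w : K) * x) * conj ((η : K → ℂ) y) =
        ∑ η ∈ H22.blockFinset b, (η : K → ℂ) x * conj ((η : K → ℂ) y) := by
      rw [sum_eq_single (1 : Z)]
      · simp
      · intro w _ hw
        obtain ⟨j, hj⟩ := IsPGroup.iff_orderOf.1 hZp w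
        have hsing : p ∣ orderOf ((w : K) * x) := by
          have hc : Commute (w : K) x := (Subgroup.mem_center_iff.1 (hZ w.2) x).symm
          rw [hc.orderOf_mul_eq_mul_orderOf_of_coprime (by
            rw [Subgroup.orderOf_coe, hj]
            exact ((hp.out.coprime_iff_not_dvd).2 hx).pow_left j), Subgroup.orderOf_coe, hj]
          rcases j with _ | j
          · rw [pow_zero, orderOf_eq_one_iff] at hj
            exact absurd hj hw
          · exact dvd_mul_of_dvd_left (dvd_pow_self p (Nat.succ_ne_zero j)) _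
        have h := congrArg conj (hWO y _ hy hsing)
        rw [map_sum, map_zero] at h
        rw [← h]
        exact sum_congr rfl fun η _ => by rw [map_mul, Complex.conj_conj, mul_comm]
      · exact fun h => absurd (mem_univ _) h
    rw [← hsum, sum_comm, sum_filter, mul_sum]
    refine sum_congr rfl fun η _ => ?_
    split_ifs with h
    · simp only [CentralRank.apply_mul_of_trivial hZ η h (Subtype.prop _), sum_const, card_univ,
        nsmul_eq_mul, ← Nat.card_eq_fintype_card]
    · obtain ⟨z₀, hz₀, hne⟩ : ∃ z₀ ∈ Z, (η : K → ℂ) z₀ ≠ (η : K → ℂ) 1 := by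
        by_contra h'
        exact h fun z hz => not_not.1 fun h'' => h' ⟨z, hz, h''⟩
      rw [mul_zero, ← sum_mul]
      set s := ∑ w : Z, (η : K → ℂ) ((w : K) * x)
      have hs : s = (η : K → ℂ) z₀ / (η : K → ℂ) 1 * s := by
        calc s = ∑ w : Z, (η : K → ℂ) (z₀ * (w : K) * x) :=
              (Equiv.sum_comp (Equiv.mulLeft (⟨z₀, hz₀⟩ : Z))
                fun w : Z => (η : K → ℂ) ((w : K) * x)).symm
          _ = _ := by
              rw [mul_sum]
              exact sum_congr rfl fun w _ => by
                rw [mul_assoc, H21.apply_central_mul η (hZ hz₀)]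
      by_cases hs0 : s = 0
      · rw [hs0, zero_mul]
      · exact absurd ((div_eq_one_iff_eq (H12.irr_apply_one_ne_zero η)).1
          ((mul_eq_right₀ hs0).1 hs.symm)) hne
  have hle : H22.Sub.regSpan p b ≤
      Submodule.span ℂ (↑(T.image fun η : IrrCharacter K => pRegularPart p (η : K → ℂ)) :
        Set (K → ℂ)) := by
    rw [H22.Sub.regSpan, Submodule.span_le]
    rintro _ ⟨ψ, hψ, rfl⟩
    have key : pRegularPart p (ψ : K → ℂ) = ∑ η ∈ T,
        ((Nat.card Z : ℂ) * H22.Delta p ψ η) • pRegularPart p (η : K → ℂ) := by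
      funext x
      simp only [Finset.sum_apply, Pi.smul_apply, smul_eq_mul]
      by_cases hx : p ∣ orderOf x
      · simp [H22.pRegularPart_of_dvd _ hx]
      simp only [H22.pRegularPart_of_not_dvd _ hx]
      rw [← H22.pRegularPart_of_not_dvd (ψ : K → ℂ) hx, ← H22.sum_Delta_mul hWO hψ x]
      simp only [H22.Delta, H12.classInner_def, mul_sum, sum_mul]
      rw [sum_comm]
      conv_rhs => rw [sum_comm]
      refine sum_congr rfl fun y _ => ?_
      by_cases hy : p ∣ orderOf y
      · simp [H22.pRegularPart_of_dvd _ hy]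
      · calc ∑ η ∈ H22.blockFinset b, (Nat.card K : ℂ)⁻¹ *
              (pRegularPart p (ψ : K → ℂ) y * conj ((η : K → ℂ) y)) * (η : K → ℂ) x
            = (Nat.card K : ℂ)⁻¹ * pRegularPart p (ψ : K → ℂ) y *
                ∑ η ∈ H22.blockFinset b, (η : K → ℂ) x * conj ((η : K → ℂ) y) := by
              rw [mul_sum]; exact sum_congr rfl fun η _ => by ring
          _ = _ := by
              rw [havg x y hx hy, mul_sum, mul_sum]
              exact sum_congr rfl fun η _ => by ring
    show pRegularPart p (ψ : K → ℂ) ∈ _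
    rw [key]
    exact Submodule.sum_mem _ fun η hη =>
      Submodule.smul_mem _ _ (Submodule.subset_span (mem_coe.2 (mem_image_of_mem _ hη)))
  exact ((Submodule.finrank_mono hle).trans (finrank_span_finset_le_card _)).trans card_image_le

/-- The block of the quotient by a central `p`-subgroup bounds the rank. -/
theorem exists_quotient (hM : IsPModular p M) (hb : IsPBlock M b) (Z : Subgroup K) [Z.Normal]
    [Fintype (K ⧸ Z)] (hZ : Z ≤ Subgroup.center K) (hZp : IsPGroup p Z) {D : Subgroup K}
    (hD : IsDefectGroup p M b D) :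
    ∃ Bbar : Set (IrrCharacter (K ⧸ Z)), IsPBlock M Bbar ∧
      IsDefectGroup p M Bbar (D.map (QuotientGroup.mk' Z)) ∧
      blockRank p b ≤ Nat.card Bbar := by
  classical
  obtain ⟨Bbar, hBb, hsub, hdef⟩ := H21.exists_quotient_block Z hM hZp hb
  have hDbar : IsDefectGroup p M Bbar (D.map (QuotientGroup.mk' Z)) := (hdef _).2 ⟨D, hD, rfl⟩
  refine ⟨Bbar, hBb, hDbar, (blockRank_le_card_triv hM hb Z hZ hZp).trans ?_⟩
  set T := (H22.blockFinset b).filter fun η : IrrCharacter K =>
    ∀ z ∈ Z, (η : K → ℂ) z = (η : K → ℂ) 1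
  have hZD : Z ≤ D := H20.normal_le_defectGroup hM hb hZp hD
  have hd' : blockDefect p b = (Nat.card Z).factorization p + blockDefect p Bbar := by
    have h1 := H20.card_defectGroup hM hBb hDbar
    have h2 := H20.card_defectGroup hM hb hD
    have h3 : (D.map (QuotientGroup.mk' Z)).index = D.index :=
      Subgroup.index_map_eq _ (QuotientGroup.mk'_surjective Z) (by
        rw [QuotientGroup.ker_mk']; exact hZD)
    have h4 := Subgroup.card_mul_index D
    have h5 := Subgroup.card_mul_index (D.map (QuotientGroup.mk' Z))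
    have h6 := Subgroup.card_mul_index Z
    rw [Subgroup.index_eq_card Z] at h6
    rw [h3] at h5
    have h7 : Nat.card D = Nat.card Z * Nat.card (D.map (QuotientGroup.mk' Z)) := by
      refine Nat.eq_of_mul_eq_mul_right (Nat.pos_of_ne_zero D.index_ne_zero_of_finite) ?_
      rw [h4, ← h6, ← h5, mul_assoc]
    rw [h1, h2] at h7
    have h8 := congrArg (fun n => n.factorization p) h7
    simp only [Nat.factorization_mul Nat.card_pos.ne' (pow_ne_zero _ hp.out.ne_zero),
      Finsupp.add_apply, hp.out.factorization_pow] at h8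
    simpa using h8
  -- a member of height zero
  obtain ⟨θb, hθb, hθe⟩ := H22.exists_height_zero (p := p) (H20.block_nonempty hBb)
  set θ := H21.inflate Z θb with hθdef
  have hθ : θ ∈ b := hsub θb hθb
  have hdeg : charDegree (θ : K → ℂ) = charDegree (θb : K ⧸ Z → ℂ) := rfl
  have hθh : blockHeight p b (θ : K → ℂ) = 0 := by
    have h1 := H22.blockDefect_add_blockExp (p := p) hθb
    have h2 := H22.blockDefect_add_blockExp (p := p) hθ
    have h3 := H22.blockHeight_add_blockExp (p := p) hθ
    have h6 := Subgroup.card_mul_index Z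
    rw [Subgroup.index_eq_card Z] at h6
    have h7 : (Nat.card K).factorization p =
        (Nat.card Z).factorization p + (Nat.card (K ⧸ Z)).factorization p := by
      rw [← h6, Nat.factorization_mul Nat.card_pos.ne' Nat.card_pos.ne', Finsupp.add_apply]
    rw [hdeg, hθe] at h3
    omega
  obtain ⟨zm, hzm, hmat⟩ := H22.exists_isDeltaMatrix (p := p) hM hb
  have key : ∀ η ∈ T, ∃ φ ∈ Bbar, H21.inflate Z φ = η := by
    intro η hη
    obtain ⟨hηb, hηz⟩ := mem_filter.1 hη
    rw [H22.mem_blockFinset] at hηb
    obtain ⟨φ, hφ⟩ := H21.exists_deflate (N := Z) η hηz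
    refine ⟨φ, ?_, hφ⟩
    by_contra hφB
    have hzero : H22.Delta p θb φ = 0 := by
      have hmem := H22.Sub.regSpan_le_irrSpan hM hBb
        (Submodule.subset_span ⟨θb, hθb, rfl⟩ :
          pRegularPart p (θb : K ⧸ Z → ℂ) ∈ H22.Sub.regSpan p Bbar)
      rw [H22.Delta, ← H22.Sub.blockPart_of_mem_irrSpan hmem, H22.Sub.blockPart_eq_smul_sum,
        H12.classInner_sum_left]
      refine sum_eq_zero fun ψ hψ => ?_
      rw [H12.classInner_smul_left, H12.classInner_irr_ne (fun h =>
        hφB (by rw [← h]; exact H22.mem_blockFinset.1 hψ)), mul_zero]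
    have hq : ∑ g : K, pRegularPart p (θ : K → ℂ) g * conj ((η : K → ℂ) g) =
        ∑ q : K ⧸ Z, pRegularPart p (θb : K ⧸ Z → ℂ) q * conj ((φ : K ⧸ Z → ℂ) q) := by
      rw [← CentralPrime.sum_regular_quotient Z hZ hZp _ (fun q hq => by
        rw [H22.pRegularPart_of_dvd _ hq, zero_mul])]
      refine sum_congr rfl fun g _ => ?_
      by_cases hg : p ∣ orderOf g
      · rw [if_pos hg, H22.pRegularPart_of_dvd _ hg, zero_mul]
      · rw [if_neg hg, H22.pRegularPart_of_not_dvd _ hg,
          H22.pRegularPart_of_not_dvd _ (H85.not_dvd_orderOf_mk Z hg), ← hφ]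
        rfl
    have hzero' : H22.Delta p θ η = 0 := by
      rw [H22.Delta, H12.classInner_def, hq]
      rw [H22.Delta, H12.classInner_def, mul_eq_zero] at hzero
      rw [hzero.resolve_left (inv_ne_zero (H12.card_ne_zero' (G := K ⧸ Z))), mul_zero]
    have hz0 : zm θ η = 0 := by
      have h := hzm θ hθ η
      rw [hzero', mul_zero] at h
      exact_mod_cast h
    exact hmat.exact_zero η hηb θ hθ hθh (by
      rw [hmat.symm η hηb θ hθ, hz0]; exact dvd_zero _)
  choose f hf hfe using key
  calc T.card = Nat.card {η // η ∈ T} := (Nat.card_eq_finsetCard _).symm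
    _ ≤ Nat.card Bbar := Nat.card_le_card_of_injective
      (fun η => (⟨f η.1 η.2, hf η.1 η.2⟩ : Bbar)) fun a c h => Subtype.ext (by
        have h' := congrArg Subtype.val h
        simp only at h'
        rw [← hfe a.1 a.2, ← hfe c.1 c.2, h'])

end H19.RankBound
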