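import Cfsg.Agent.H5.Frobenius
import Cfsg.Agent.H19.AbelianLocal

/-!
A regular element for a coprime action on a two-generated abelian `p`-group of exponent at
least `p ^ 2`.
-/

set_option autoImplicit false
set_option linter.unusedSectionVars false
set_option linter.style.haveILetI false

open Cfsg Finset

namespace H19.RegularOrbit

universe u

variable {G : Type u} [Group G] [Finite G] {p : ℕ} [hp : Fact p.Prime] {D T : Subgroup G}
  (hab : ∀ x ∈ D, ∀ y ∈ D, x * y = y * x) (hDp : IsPGroup p D)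
  (hTN : T ≤ Subgroup.normalizer (D : Set G))
  (hpC : ∀ S : Subgroup G, IsPGroup p S → S ≤ T → S ≤ Subgroup.centralizer (D : Set G))

include hab hTN in
theorem conj_pow_eq {v x : G} (hx : x ∈ D) (hv : v ∈ T) {c : G} (hc : v * x * v⁻¹ = c * x)
    (hcD : c ∈ D) (hcf : v * c * v⁻¹ = c) : ∀ n : ℕ, v ^ n * x * (v ^ n)⁻¹ = c ^ n * x := by
  intro n
  induction n with
  | zero => simp
  | succ n ih =>
    calc v ^ (n + 1) * x * (v ^ (n + 1))⁻¹ = v * (v ^ n * x * (v ^ n)⁻¹) * v⁻¹ := by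
          rw [pow_succ']; group
      _ = (v * c * v⁻¹) ^ n * (v * x * v⁻¹) := by rw [ih, conj_pow]; group
      _ = c ^ (n + 1) * x := by rw [hcf, hc, pow_succ, mul_assoc]

include hab hTN in
/-- An element of order prime to `p` acting by a fixed translation of order dividing `p`. -/
theorem translation_trivial {v x : G} (hx : x ∈ D) (hv : v ∈ T) (hcop : (orderOf v).Coprime p)
    {c : G} (hc : v * x * v⁻¹ = c * x) (hcD : c ∈ D) (hcp : c ^ p = 1)
    (hcf : v * c * v⁻¹ = c) : c = 1 := by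
  have h := conj_pow_eq hab hTN hx hv hc hcD hcf (orderOf v)
  rw [pow_orderOf_eq_one, one_mul, inv_one, mul_one] at h
  have h1 : c ^ orderOf v = 1 := mul_eq_right.1 h.symm
  have h2 := Nat.dvd_gcd (orderOf_dvd_of_pow_eq_one h1) (orderOf_dvd_of_pow_eq_one hcp)
  rw [Nat.Coprime.gcd_eq_one hcop, Nat.dvd_one, orderOf_eq_one_iff] at h2
  exact h2

include hab hTN hpC in
/-- On `D` every element of `T` acts as an element of order prime to `p` of its cyclic group. -/
theorem exists_coprime_part {t : G} (ht : t ∈ T) :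
    ∃ v ∈ T, (orderOf v).Coprime p ∧ v ∈ Subgroup.zpowers t ∧
      ∀ x ∈ D, t * x * t⁻¹ = v * x * v⁻¹ := by
  obtain ⟨u, v, huv, ⟨n, hn⟩, hv, huz, hvz⟩ := H5.exists_p_decomposition (p := p) t
  have hz : Subgroup.zpowers t ≤ T := Subgroup.zpowers_le.2 ht
  have huC : u ∈ Subgroup.centralizer (D : Set G) := by
    refine hpC (Subgroup.zpowers u) (fun w => ?_) (Subgroup.zpowers_le.2 (hz huz))
      (Subgroup.mem_zpowers u)
    obtain ⟨i, hi⟩ := Subgroup.mem_zpowers_iff.1 w.2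
    exact ⟨n, Subtype.ext (by rw [Subgroup.coe_pow, ← hi, ← zpow_natCast, ← zpow_mul, mul_comm,
      zpow_mul, zpow_natCast, hn, one_zpow, Subgroup.coe_one])⟩
  refine ⟨v, hz hvz, hv, hvz, fun x hx => ?_⟩
  have h1 : v * x * v⁻¹ ∈ D := (Subgroup.mem_normalizer_iff.1 (hTN (hz hvz)) x).1 hx
  rw [huv]
  calc u * v * x * (u * v)⁻¹ = u * (v * x * v⁻¹) * u⁻¹ := by group
    _ = v * x * v⁻¹ := by
      rw [← Subgroup.mem_centralizer_iff.1 huC _ h1, mul_inv_cancel_right]

include hab hDp hTN hpC in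
/-- Fixing the elements of order `p` of an invariant subgroup means fixing the subgroup. -/
theorem fix_of_fix_omega {t : G} (ht : t ∈ T) {F : Subgroup G} (hFD : F ≤ D)
    (hinv : ∀ x ∈ F, t * x * t⁻¹ ∈ F) (hfix : ∀ c ∈ F, c ^ p = 1 → t * c * t⁻¹ = c) :
    ∀ x ∈ F, t * x * t⁻¹ = x := by
  obtain ⟨v, hv, hcop, -, hact⟩ := exists_coprime_part hab hTN hpC ht
  suffices h : ∀ k : ℕ, ∀ x ∈ F, x ^ p ^ k = 1 → t * x * t⁻¹ = x by
    intro x hx
    obtain ⟨k, hk⟩ := hDp ⟨x, hFD hx⟩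
    exact h k x hx (congrArg Subtype.val hk)
  intro k
  induction k with
  | zero =>
    intro x _ hx1
    rw [pow_zero, pow_one] at hx1
    simp [hx1]
  | succ k ih =>
    intro x hx hxk
    have hxp : t * x ^ p * t⁻¹ = x ^ p :=
      ih _ (pow_mem hx p) (by rw [← pow_mul, ← pow_succ']; exact hxk)
    set c := t * x * t⁻¹ * x⁻¹ with hcdef
    have hcF : c ∈ F := mul_mem (hinv x hx) (inv_mem hx)
    have hcomm : Commute (t * x * t⁻¹) x⁻¹ :=
      hab _ (hFD (hinv x hx)) _ (inv_mem (hFD hx))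
    have hcp : c ^ p = 1 := by
      rw [hcdef, hcomm.mul_pow, conj_pow, hxp, inv_pow, mul_inv_cancel]
    have hcf := hfix c hcF hcp
    rw [hact c (hFD hcF)] at hcf
    have hc : v * x * v⁻¹ = c * x := by
      rw [← hact x (hFD hx), hcdef]
      group
    have hc1 := translation_trivial hab hTN (hFD hx) hv hcop hc (hFD hcF) hcp hcf
    rw [hact x (hFD hx), hc, hc1, one_mul]

include hab hDp hTN hpC in
/-- Fixing all elements of order `p` means centralising. -/
theorem mem_centralizer_of_fix_omega {t : G} (ht : t ∈ T)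
    (hfix : ∀ c ∈ D, c ^ p = 1 → t * c * t⁻¹ = c) : t ∈ Subgroup.centralizer (D : Set G) :=
  Subgroup.mem_centralizer_iff.2 fun x hx => (mul_inv_eq_iff_eq_mul.1
    (fix_of_fix_omega hab hDp hTN hpC ht le_rfl
      (fun y hy => (Subgroup.mem_normalizer_iff.1 (hTN ht) y).1 hy) hfix x hx)).symm

include hab hDp hTN hpC in
/-- **Regular orbit**: if the elements of order dividing `p` number at most `p ^ 2` and `D` has
exponent larger than `p`, some element of `D` has its stabiliser in `T` centralising `D`. -/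
theorem exists_regular (hΩ : Nat.card {x : D // x ^ p = 1} ≤ p ^ 2) (hexp : ∃ v ∈ D, v ^ p ≠ 1) :
    ∃ u ∈ D, ∀ t ∈ T, t * u * t⁻¹ = u → t ∈ Subgroup.centralizer (D : Set G) := by
  classical
  obtain ⟨v, hvD, hv1⟩ := hexp
  have hv0D : v ^ p ∈ D := pow_mem hvD p
  -- the element of order `p` below `v ^ p`
  obtain ⟨k, hk⟩ := IsPGroup.iff_orderOf.1 hDp ⟨v ^ p, hv0D⟩
  rw [Subgroup.orderOf_mk] at hk
  obtain ⟨k, rfl⟩ : ∃ j, k = j + 1 := by
    rcases k with _ | j
    · rw [pow_zero, orderOf_eq_one_iff] at hk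
      exact absurd hk hv1
    · exact ⟨j, rfl⟩
  obtain ⟨z0, hz0⟩ : ∃ z0, z0 = (v ^ p) ^ p ^ k := ⟨_, rfl⟩
  have hz0D : z0 ∈ D := hz0 ▸ pow_mem hv0D _
  have hz0o : orderOf z0 = p := by
    rw [hz0, orderOf_pow' _ (pow_ne_zero _ hp.out.ne_zero), hk,
      Nat.gcd_eq_right (pow_dvd_pow p (Nat.le_succ k)), pow_succ,
      Nat.mul_div_cancel_left _ (pow_pos hp.out.pos k)]
  have hz0p : z0 ^ p = 1 := by rw [← hz0o, pow_orderOf_eq_one]
  have hfix0 : ∀ t : G, t * v ^ p * t⁻¹ = v ^ p → t * z0 * t⁻¹ = z0 := fun t h => by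
    rw [hz0, ← conj_pow, h]
  by_contra hcon
  push Not at hcon
  -- another element of order `p`
  obtain ⟨z, hzD, hzp, hzn⟩ : ∃ z ∈ D, z ^ p = 1 ∧ z ∉ Subgroup.zpowers z0 := by
    by_contra h
    push Not at h
    obtain ⟨t, ht, htv, htn⟩ := hcon (v ^ p) hv0D
    refine htn (mem_centralizer_of_fix_omega hab hDp hTN hpC ht fun c hc hcp => ?_)
    obtain ⟨i, rfl⟩ := Subgroup.mem_zpowers_iff.1 (h c hc hcp)
    rw [← conj_zpow, hfix0 t htv]
  -- the elements of order dividing `p`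
  have hΩeq : ∀ x ∈ D, x ^ p = 1 → ∃ i j : ℕ, x = z0 ^ i * z ^ j := by
    let φ : Fin p × Fin p → {x : D // x ^ p = 1} := fun a =>
      ⟨⟨z0 ^ (a.1 : ℕ) * z ^ (a.2 : ℕ), mul_mem (pow_mem hz0D _) (pow_mem hzD _)⟩, Subtype.ext (by
        rw [Subgroup.coe_pow, (Commute.pow_pow (hab _ hz0D _ hzD) _ _).mul_pow, ← pow_mul,
          ← pow_mul, mul_comm (a.1 : ℕ), mul_comm (a.2 : ℕ), pow_mul z0, pow_mul z, hz0p, hzp,
          one_pow, one_pow, one_mul, Subgroup.coe_one])⟩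
    have hzo : orderOf z = p := orderOf_eq_prime hzp fun h => hzn (by rw [h]; exact one_mem _)
    have hinj : Function.Injective φ := by
      rintro ⟨a, b⟩ ⟨a', b'⟩ h
      have h' : z0 ^ (a : ℕ) * z ^ (b : ℕ) = z0 ^ (a' : ℕ) * z ^ (b' : ℕ) :=
        congrArg (fun y : {x : D // x ^ p = 1} => ((y : D) : G)) h
      have h2 : z ^ ((b : ℤ) - b') ∈ Subgroup.zpowers z0 := by
        refine Subgroup.mem_zpowers_iff.2 ⟨(a' : ℤ) - a, ?_⟩
        rw [zpow_sub, zpow_sub, zpow_natCast, zpow_natCast, zpow_natCast, zpow_natCast,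
          eq_mul_inv_iff_mul_eq]
        calc z0 ^ (a' : ℕ) * (z0 ^ (a : ℕ))⁻¹ * z ^ (b' : ℕ)
            = (z0 ^ (a : ℕ))⁻¹ * (z0 ^ (a' : ℕ) * z ^ (b' : ℕ)) := by
              rw [(Commute.pow_pow_self z0 (a' : ℕ) (a : ℕ)).inv_right.eq, mul_assoc]
          _ = _ := by rw [← h']; group
      have hb : b = b' := by
        by_contra hb
        apply hzn
        have hnd : ¬ (p : ℤ) ∣ (b : ℤ) - b' := by
          intro hd
          apply hb
          have := b.isLt
          have := b'.isLt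
          refine Fin.ext ?_
          have h0 : (b : ℤ) - b' = 0 := by
            refine Int.eq_zero_of_abs_lt_dvd hd ?_
            rw [abs_lt]
            omega
          omega
        obtain ⟨r, s, hrs⟩ := ((Nat.prime_iff_prime_int.1 hp.out).coprime_iff_not_dvd.2 hnd)
        have hz : z = (z ^ ((b : ℤ) - b')) ^ s := by
          rw [← zpow_mul, show ((b : ℤ) - b') * s = 1 - r * p by linarith, zpow_sub, zpow_one,
            mul_comm r, zpow_mul, zpow_natCast, hzp, one_zpow, inv_one, mul_one]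
        rw [hz]
        exact zpow_mem h2 s
      subst hb
      have ha := mul_right_cancel h'
      rw [pow_inj_mod, hz0o, Nat.mod_eq_of_lt a.isLt, Nat.mod_eq_of_lt a'.isLt] at ha
      exact Prod.ext (Fin.ext ha) rfl
    have hbij := (Nat.bijective_iff_injective_and_card φ).2 ⟨hinj, le_antisymm
      (Nat.card_le_card_of_injective φ hinj) (by simpa [sq] using hΩ)⟩
    intro x hx hxp
    obtain ⟨a, ha⟩ := hbij.2 ⟨⟨x, hx⟩, Subtype.ext hxp⟩
    exact ⟨a.1, a.2, (congrArg (fun y : {x : D // x ^ p = 1} => ((y : D) : G)) ha).symm⟩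
  -- fixing `z0` and `z`
  have hcent : ∀ t ∈ T, t * z0 * t⁻¹ = z0 → t * z * t⁻¹ = z →
      t ∈ Subgroup.centralizer (D : Set G) := by
    intro t ht h0 h1
    refine mem_centralizer_of_fix_omega hab hDp hTN hpC ht fun c hc hcp => ?_
    obtain ⟨i, j, rfl⟩ := hΩeq c hc hcp
    calc t * (z0 ^ i * z ^ j) * t⁻¹ = t * z0 ^ i * t⁻¹ * (t * z ^ j * t⁻¹) := by group
      _ = _ := by rw [← conj_pow, ← conj_pow, h0, h1]
  -- elements fixing `z0` commute modulo the centraliser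
  have hcomm : ∀ a ∈ T, ∀ b ∈ T, a * z0 * a⁻¹ = z0 → b * z0 * b⁻¹ = z0 →
      (b * a)⁻¹ * (a * b) ∈ Subgroup.centralizer (D : Set G) := by
    intro a ha b hb ha0 hb0
    set s := (b * a)⁻¹ * (a * b) with hsdef
    have hsT : s ∈ T := mul_mem (inv_mem (mul_mem hb ha)) (mul_mem ha hb)
    have himg : ∀ w ∈ T, w * z0 * w⁻¹ = z0 → ∃ i j : ℕ, w * z * w⁻¹ = z0 ^ i * z ^ j := by
      intro w hw _
      refine hΩeq _ ((Subgroup.mem_normalizer_iff.1 (hTN hw) z).1 hzD) ?_
      rw [conj_pow, hzp]; group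
    obtain ⟨a1, a2, hA⟩ := himg a ha ha0
    obtain ⟨b1, b2, hB⟩ := himg b hb hb0
    have hpush : ∀ w : G, w * z0 * w⁻¹ = z0 → ∀ i j : ℕ,
        w * (z0 ^ i * z ^ j) * w⁻¹ = z0 ^ i * (w * z * w⁻¹) ^ j := by
      intro w h0 i j
      calc w * (z0 ^ i * z ^ j) * w⁻¹ = w * z0 ^ i * w⁻¹ * (w * z ^ j * w⁻¹) := by group
        _ = _ := by rw [← conj_pow, ← conj_pow, h0]
    have hmulpow : ∀ i j n : ℕ, (z0 ^ i * z ^ j) ^ n = z0 ^ (i * n) * z ^ (j * n) := fun i j n => by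
      rw [(Commute.pow_pow (hab _ hz0D _ hzD) i j).mul_pow, ← pow_mul, ← pow_mul]
    have h1 : a * b * z * (a * b)⁻¹ = z0 ^ ((b1 : ℤ) + a1 * b2) * z ^ (a2 * b2) := by
      calc a * b * z * (a * b)⁻¹ = a * (b * z * b⁻¹) * a⁻¹ := by group
        _ = z0 ^ b1 * (z0 ^ (a1 * b2) * z ^ (a2 * b2)) := by rw [hB, hpush a ha0, hA, hmulpow]
        _ = _ := by rw [← mul_assoc, ← pow_add, ← zpow_natCast]; push_cast; rfl
    have h2 : b * a * z * (b * a)⁻¹ = z0 ^ ((a1 : ℤ) + b1 * a2) * z ^ (a2 * b2) := by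
      calc b * a * z * (b * a)⁻¹ = b * (a * z * a⁻¹) * b⁻¹ := by group
        _ = z0 ^ a1 * (z0 ^ (b1 * a2) * z ^ (b2 * a2)) := by rw [hA, hpush b hb0, hB, hmulpow]
        _ = _ := by
          rw [← mul_assoc, ← pow_add, mul_comm b2, ← zpow_natCast z0]; push_cast; rfl
    set e : ℤ := (b1 : ℤ) + a1 * b2 - ((a1 : ℤ) + b1 * a2) with he
    have h3 : a * b * z * (a * b)⁻¹ = z0 ^ e * (b * a * z * (b * a)⁻¹) := by
      rw [h1, h2, ← mul_assoc, ← zpow_add, he, sub_add_cancel]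
    have hba0 : (b * a)⁻¹ * z0 * (b * a) = z0 := by
      have hba : b * a * z0 * (b * a)⁻¹ = z0 := by
        calc b * a * z0 * (b * a)⁻¹ = b * (a * z0 * a⁻¹) * b⁻¹ := by group
          _ = z0 := by rw [ha0, hb0]
      conv_lhs => rw [← hba]
      group
    have hs0 : s * z0 * s⁻¹ = z0 := by
      calc s * z0 * s⁻¹ = (b * a)⁻¹ * (a * (b * z0 * b⁻¹) * a⁻¹) * (b * a) := by
            rw [hsdef]; group
        _ = z0 := by rw [hb0, ha0, hba0]
    have hzc : ∀ m : ℤ, (b * a)⁻¹ * z0 ^ m * (b * a) = z0 ^ m := fun m => by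
      have h := conj_zpow (i := m) (a := (b * a)⁻¹) (b := z0)
      rw [inv_inv, hba0] at h
      exact h.symm
    have hsz : s * z * s⁻¹ = z0 ^ e * z := by
      calc s * z * s⁻¹ = (b * a)⁻¹ * (a * b * z * (a * b)⁻¹) * (b * a) := by rw [hsdef]; group
        _ = (b * a)⁻¹ * z0 ^ e * (b * a) * z := by rw [h3]; group
        _ = _ := by rw [hzc]
    refine hcent s hsT hs0 ?_
    obtain ⟨v', hv', hcop, -, hact⟩ := exists_coprime_part hab hTN hpC hsT
    have hc := hsz
    rw [hact z hzD] at hc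
    have hce : v' * z0 ^ e * v'⁻¹ = z0 ^ e := by
      rw [← conj_zpow, ← hact z0 hz0D, hs0]
    have he1 := translation_trivial hab hTN hzD hv' hcop hc (zpow_mem hz0D e)
      (by rw [← zpow_natCast, ← zpow_mul, mul_comm, zpow_mul, zpow_natCast, hz0p, one_zpow]) hce
    rw [hsz, he1, one_mul]
  -- fixed subgroups
  have hsub : ∀ a ∈ T, a ∉ Subgroup.centralizer (D : Set G) → a * v ^ p * a⁻¹ = v ^ p →
      ∀ b ∈ T, b * v ^ p * b⁻¹ = v ^ p →
        ∀ x ∈ D, a * x * a⁻¹ = x → b * x * b⁻¹ = x := by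
    intro a ha hna hav b hb hbv x hxD hax
    let F : Subgroup G := D ⊓ Subgroup.centralizer ({a} : Set G)
    have hF : ∀ y, y ∈ F ↔ y ∈ D ∧ a * y * a⁻¹ = y := fun y => by
      rw [Subgroup.mem_inf, Subgroup.mem_centralizer_singleton_iff, mul_inv_eq_iff_eq_mul]
      exact and_congr_right fun _ => eq_comm
    refine fix_of_fix_omega hab hDp hTN hpC hb (F := F) inf_le_left ?_ ?_ x
      ((hF x).2 ⟨hxD, hax⟩)
    · intro y hy
      obtain ⟨hyD, hay⟩ := (hF y).1 hy
      refine (hF _).2 ⟨(Subgroup.mem_normalizer_iff.1 (hTN hb) y).1 hyD, ?_⟩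
      have hs := hcomm a ha b hb (hfix0 a hav) (hfix0 b hbv)
      calc a * (b * y * b⁻¹) * a⁻¹
          = b * (a * ((b * a)⁻¹ * (a * b) * y * ((b * a)⁻¹ * (a * b))⁻¹) * a⁻¹) * b⁻¹ := by group
        _ = b * y * b⁻¹ := by
          rw [← Subgroup.mem_centralizer_iff.1 hs y hyD, mul_inv_cancel_right, hay]
    · intro c hc hcp
      obtain ⟨hcD, hac⟩ := (hF c).1 hc
      obtain ⟨i, j, rfl⟩ := hΩeq c hcD hcp
      have hzj : a * z ^ j * a⁻¹ = z ^ j := by
        have h : z0 ^ i * (a * z ^ j * a⁻¹) = z0 ^ i * z ^ j := by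
          calc z0 ^ i * (a * z ^ j * a⁻¹) = (a * z0 * a⁻¹) ^ i * (a * z ^ j * a⁻¹) := by
                rw [hfix0 a hav]
            _ = a * (z0 ^ i * z ^ j) * a⁻¹ := by rw [conj_pow]; group
            _ = _ := hac
        exact mul_left_cancel h
      by_cases hj : p ∣ j
      · obtain ⟨q, rfl⟩ := hj
        rw [pow_mul, hzp, one_pow, mul_one, ← conj_pow, hfix0 b hbv]
      · refine absurd (hcent a ha (hfix0 a hav) ?_) hna
        obtain ⟨m, hm⟩ := exists_pow_eq_self_of_coprime (n := j) (x := z) (by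
          rw [orderOf_eq_prime hzp fun h => hzn (by rw [h]; exact one_mem _)]
          exact ((hp.out.coprime_iff_not_dvd).2 hj).symm)
        rw [← hm, ← conj_pow, hzj]
  obtain ⟨a, haT, hav, hna⟩ := hcon v hvD
  obtain ⟨b, hbT, hbv, hnb⟩ := hcon (v * z) (mul_mem hvD hzD)
  have ha0 : a * v ^ p * a⁻¹ = v ^ p := by rw [← conj_pow, hav]
  have hb0 : b * v ^ p * b⁻¹ = v ^ p := by
    have h : b * (v * z) ^ p * b⁻¹ = (v * z) ^ p := by rw [← conj_pow, hbv]
    rwa [(show Commute v z from hab v hvD z hzD).mul_pow, hzp, mul_one] at h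
  have hb1 := hsub a haT hna ha0 b hbT hb0 v hvD hav
  refine hnb (hcent b hbT (hfix0 b hb0) ?_)
  have h : b * v * b⁻¹ * (b * z * b⁻¹) = v * z := by
    calc b * v * b⁻¹ * (b * z * b⁻¹) = b * (v * z) * b⁻¹ := by group
      _ = _ := hbv
  rw [hb1] at h
  exact mul_left_cancel h

/-- Two generators bound the elements of order dividing `p`. -/
theorem card_omega_le {A : Type u} [Group A] [Finite A] (hA : ∀ x y : A, x * y = y * x) {a b : A}
    (hgen : ∀ x : A, ∃ i j : ℤ, x = a ^ i * b ^ j) : Nat.card {x : A // x ^ p = 1} ≤ p ^ 2 := by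
  classical
  letI : CommGroup A := { (inferInstance : Group A) with mul_comm := hA }
  let f : A →* A := powMonoidHom p
  have hker : Nat.card {x : A // x ^ p = 1} = Nat.card (A ⧸ f.range) := by
    have h1 : Nat.card {x : A // x ^ p = 1} = Nat.card f.ker :=
      Nat.card_congr (Equiv.subtypeEquivRight fun x => by simp [f, MonoidHom.mem_ker])
    have h2 := Subgroup.card_mul_index f.ker
    have h3 := Subgroup.card_mul_index f.range
    rw [Subgroup.index_ker] at h2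
    rw [h1, ← Subgroup.index_eq_card]
    exact Nat.eq_of_mul_eq_mul_right (Nat.card_pos : 0 < Nat.card f.range)
      (by rw [h2, mul_comm, h3])
  rw [hker]
  have hsurj : Function.Surjective (fun q : Fin p × Fin p =>
      (QuotientGroup.mk (a ^ (q.1 : ℕ) * b ^ (q.2 : ℕ)) : A ⧸ f.range)) := by
    intro y
    obtain ⟨x, rfl⟩ := QuotientGroup.mk_surjective y
    obtain ⟨i, j, rfl⟩ := hgen x
    have hp0 : (p : ℤ) ≠ 0 := Nat.cast_ne_zero.2 hp.out.ne_zero
    have hlt : ∀ i : ℤ, (i % (p : ℤ)).toNat < p := fun i => by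
      have := Int.emod_lt_of_pos i (show (0 : ℤ) < p by exact_mod_cast hp.out.pos)
      have := Int.emod_nonneg i hp0
      omega
    refine ⟨(⟨_, hlt i⟩, ⟨_, hlt j⟩), QuotientGroup.eq.2 ⟨a ^ (i / p) * b ^ (j / p), ?_⟩⟩
    have hcast : ∀ (c : A) (i : ℤ), c ^ ((i % (p : ℤ)).toNat) = c ^ (i % (p : ℤ)) := fun c i => by
      rw [← zpow_natCast, Int.toNat_of_nonneg (Int.emod_nonneg i hp0)]
    show (a ^ (i / p) * b ^ (j / p)) ^ p = _
    have hm : ∀ (c : A) (i : ℤ), (c ^ (i / p)) ^ p = (c ^ (i % (p : ℤ)))⁻¹ * c ^ i := fun c i => by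
      rw [← zpow_natCast, ← zpow_mul, ← zpow_neg, ← zpow_add]
      congr 1
      have := Int.mul_ediv_add_emod i p
      linarith
    rw [hcast, hcast, mul_inv, mul_pow, hm, hm, mul_mul_mul_comm]
  refine (Nat.card_le_card_of_surjective _ hsurj).trans ?_
  simp [sq]

end H19.RegularOrbit
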