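import Cfsg.Agent.H19.RankBound
import Cfsg.Agent.H19.RegularOrbit
import Cfsg.Agent.H19.BlockBound
import Cfsg.Agent.H19.AbelianFree

/-!
`k(B) ≤ p^d` for a two-generated abelian defect group and `k(B)^3 ≤ p^(5d)` for three generators.
-/

set_option autoImplicit false
set_option linter.unusedSectionVars false
set_option linter.style.haveILetI false

open Cfsg
open scoped MonoidAlgebra

namespace H19.RankTwoThree

universe u

variable {M : Ideal AlgInt} [hMp : M.IsPrime] {p : ℕ} [hp : Fact p.Prime]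
  [CharP (H20.k M) p] [IsAlgClosed (H20.k M)]

/-- The local block at an element of an abelian defect group. -/
theorem exists_local {G : Type u} [Group G] [Fintype G] {B : Set (IrrCharacter G)} {D : Subgroup G}
    (hM : IsPModular p M) (hB : IsPBlock M B) (hab : ∀ x ∈ D, ∀ y ∈ D, x * y = y * x)
    {c : Set (IrrCharacter (Subgroup.centralizer (D : Set G)))} (hc : IsPBlock M c)
    (hmax : H23.IsMax p (H23.eB M B) D (H23.eG M (Subgroup.centralizer (D : Set G)) c))
    {x : G} (hx : x ∈ D) :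
    ∃ b : Set (IrrCharacter (Subgroup.centralizer ({x} : Set G))),
      IsInducedBlock M (Subgroup.centralizer ({x} : Set G)) b B ∧
      blockDefect p b = blockDefect p B ∧
      IsDefectGroup p M b (D.subgroupOf (Subgroup.centralizer ({x} : Set G))) ∧
      H23.Le p (Subgroup.zpowers x, H23.eG M (Subgroup.centralizer ({x} : Set G)) b)
        (D, H23.eG M (Subgroup.centralizer (D : Set G)) c) := by
  have hDp : IsPGroup p D := hmax.1.1
  have hQD : Subgroup.zpowers x ≤ D := Subgroup.zpowers_le.2 hx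
  have hu : ∃ k : ℕ, orderOf x = p ^ k := by
    obtain ⟨k, hk⟩ := IsPGroup.iff_orderOf.1 hDp ⟨x, hx⟩
    exact ⟨k, by rwa [Subgroup.orderOf_mk] at hk⟩
  obtain ⟨f, hf⟩ := AbelianLocal.exists_inducedIn hM hDp hab hQD hc
  have hle := AbelianLocal.le_of_inducedIn hM hDp hab hQD hf
  have hDC : D ≤ Subgroup.centralizer ((Subgroup.zpowers x : Subgroup G) : Set G) :=
    (AbelianLocal.le_centralizer hab).trans (H23.centralizer_anti hQD)
  have hq := H17.Major.defect_subBlock hM hB hmax hf.2.1 hle hDC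
  have hind := H17.Major.induced_subBlock hM hB hmax hu ⟨hDp.to_le hQD, hf.2.1⟩ hle
  have key : ∀ H : Subgroup G, H = Subgroup.centralizer ({x} : Set G) →
      ∀ f : Set (IrrCharacter H), IsInducedBlock M H f B → blockDefect p f = blockDefect p B →
      IsDefectGroup p M f (D.subgroupOf H) →
      H23.Le p (Subgroup.zpowers x, H23.eG M H f)
        (D, H23.eG M (Subgroup.centralizer (D : Set G)) c) →
      ∃ b : Set (IrrCharacter (Subgroup.centralizer ({x} : Set G))),
        IsInducedBlock M (Subgroup.centralizer ({x} : Set G)) b B ∧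
        blockDefect p b = blockDefect p B ∧
        IsDefectGroup p M b (D.subgroupOf (Subgroup.centralizer ({x} : Set G))) ∧
        H23.Le p (Subgroup.zpowers x, H23.eG M (Subgroup.centralizer ({x} : Set G)) b)
          (D, H23.eG M (Subgroup.centralizer (D : Set G)) c) := by
    rintro H rfl f h1 h2 h3 h4
    exact ⟨f, h1, h2, h3, h4⟩
  exact key _ (H17.Major.centralizer_zpowers_eq x) f hind hq
    (AbelianLocal.isDefectGroup_local hM hB hab hmax hQD hf) hle

/-- Two generators: `k(B) ≤ p ^ d`. -/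
theorem two_gen {G : Type u} [Group G] [Fintype G] {B : Set (IrrCharacter G)} {D : Subgroup G}
    (hM : IsPModular p M) (hB : IsPBlock M B) (hBD : IsDefectGroup p M B D)
    (hab : ∀ x ∈ D, ∀ y ∈ D, x * y = y * x) (a b : D)
    (hgen : ∀ x : D, ∃ i j : ℤ, x = a ^ i * b ^ j) :
    Nat.card B ≤ p ^ blockDefect p B := by
  classical
  by_cases hd : blockDefect p B ≤ 2
  · have h := BlockBound.natCard_le hM _ G B hB rfl
    rwa [if_pos hd] at h
  obtain ⟨c, hc⟩ := AbelianNilpotent.exists_root hM hB hBD hab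
  have hmax := AbelianLocal.isMax_cent hM hB hBD hab hc
  have hΩ : Nat.card {x : D // x ^ p = 1} ≤ p ^ 2 :=
    RegularOrbit.card_omega_le (fun x y => Subtype.ext (hab _ x.2 _ y.2)) hgen
  have hexp : ∃ v ∈ D, v ^ p ≠ 1 := by
    by_contra h
    push Not at h
    have h1 : Nat.card {x : D // x ^ p = 1} = Nat.card D :=
      Nat.card_congr (Equiv.subtypeUnivEquiv fun x => Subtype.ext (h x x.2))
    rw [h1, H20.card_defectGroup hM hB hBD, Nat.pow_le_pow_iff_right hp.out.one_lt] at hΩ
    exact hd hΩ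
  obtain ⟨x, hx, hfix⟩ := RegularOrbit.exists_regular hab hmax.1.1
    (T := H23.stab D (H23.eG M (Subgroup.centralizer (D : Set G)) c)) (fun g hg => hg.1)
    (fun S hS hST => AbelianLocal.pGroup_le_cent hB hab hmax hS hST) hΩ hexp
  obtain ⟨f, hind, hq, -, hle⟩ := exists_local hM hB hab hc.1 hmax hx
  haveI := Fintype.ofFinite (Subgroup.centralizer ({x} : Set G))
  have hu : ∃ k : ℕ, orderOf x = p ^ k := by
    obtain ⟨k, hk⟩ := IsPGroup.iff_orderOf.1 hmax.1.1 ⟨x, hx⟩
    exact ⟨k, by rwa [Subgroup.orderOf_mk] at hk⟩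
  have hr := AbelianFree.subsection_rank_one hM hB hab hmax hx hfix hind.1 hle
  obtain ⟨S⟩ := H22.Contrib.exists_setup hM hu hind
  exact S.card_le_of_rank_le_two hq (by omega)

/-- The order of the image of a subgroup in a quotient by a subgroup it contains. -/
theorem card_map_mk {K : Type u} [Group K] [Finite K] (Z : Subgroup K) [Z.Normal] {D : Subgroup K}
    (hZD : Z ≤ D) :
    Nat.card D = Nat.card Z * Nat.card (D.map (QuotientGroup.mk' Z)) := by
  refine Nat.eq_of_mul_eq_mul_right (Nat.pos_of_ne_zero D.index_ne_zero_of_finite) ?_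
  have h5 := Subgroup.card_mul_index (D.map (QuotientGroup.mk' Z))
  rw [Subgroup.index_map_eq _ (QuotientGroup.mk'_surjective Z) (by
    rw [QuotientGroup.ker_mk']; exact hZD)] at h5
  have h6 := Subgroup.card_mul_index Z
  rw [Subgroup.index_eq_card Z] at h6
  rw [Subgroup.card_mul_index, mul_assoc, h5, h6]

/-- Three generators, the first of largest order: `k(B) ^ 3 ≤ p ^ (5 d)`. -/
theorem three_gen {G : Type u} [Group G] [Fintype G] {B : Set (IrrCharacter G)} {D : Subgroup G}
    (hM : IsPModular p M) (hB : IsPBlock M B) (hBD : IsDefectGroup p M B D)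
    (hab : ∀ x ∈ D, ∀ y ∈ D, x * y = y * x) (a b c : D) (hba : orderOf b ≤ orderOf a)
    (hca : orderOf c ≤ orderOf a)
    (hgen : ∀ x : D, ∃ i j l : ℤ, x = a ^ i * b ^ j * c ^ l) :
    Nat.card B ^ 3 ≤ p ^ (5 * blockDefect p B) := by
  classical
  obtain ⟨c₀, hc₀⟩ := AbelianNilpotent.exists_root hM hB hBD hab
  have hmax := AbelianLocal.isMax_cent hM hB hBD hab hc₀
  have hcard := H20.card_defectGroup hM hB hBD
  obtain ⟨f, hind, hq, hDf, -⟩ := exists_local hM hB hab hc₀.1 hmax a.2
  set K := Subgroup.centralizer ({(a : G)} : Set G) with hK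
  haveI := Fintype.ofFinite K
  have hDK : D ≤ K := fun y hy =>
    Subgroup.mem_centralizer_singleton_iff.2 (hab y hy a a.2)
  have hu : ∃ k : ℕ, orderOf (a : G) = p ^ k := by
    obtain ⟨k, hk⟩ := IsPGroup.iff_orderOf.1 hmax.1.1 a
    exact ⟨k, by rw [Subgroup.orderOf_coe, hk]⟩
  obtain ⟨S⟩ := H22.Contrib.exists_setup hM hu hind
  have hk := RankBound.natCard_le_mul S hq
  -- the quotient by the subgroup generated by `a`
  let ac : K := ⟨a, hDK a.2⟩
  have hac : orderOf ac = orderOf a := by rw [← Subgroup.orderOf_coe, Subgroup.orderOf_coe a]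
  let Z : Subgroup K := Subgroup.zpowers ac
  have hZ : Z ≤ Subgroup.center K := Subgroup.zpowers_le.2 (Subgroup.mem_center_iff.2 fun g =>
    Subtype.ext (Subgroup.mem_centralizer_singleton_iff.1 g.2))
  haveI : Z.Normal := ⟨fun n hn g => by
    rw [Subgroup.mem_center_iff.1 (hZ hn) g, mul_inv_cancel_right]; exact hn⟩
  haveI := Fintype.ofFinite (K ⧸ Z)
  obtain ⟨k, hko⟩ := hu
  have hZcard : Nat.card Z = orderOf a := by rw [Nat.card_zpowers, hac]
  have hZp : IsPGroup p Z := IsPGroup.of_card (n := k) (by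
    rw [hZcard, ← hko, Subgroup.orderOf_coe])
  obtain ⟨Bb, hBb, hDb, hl⟩ := RankBound.exists_quotient hM hind.1 Z hZ hZp hDf
  let π : K →* K ⧸ Z := QuotientGroup.mk' Z
  let ι : D →* (D.subgroupOf K).map π :=
    ((π.comp (Subgroup.inclusion hDK)).codRestrict _ fun y =>
      ⟨Subgroup.inclusion hDK y, y.2, rfl⟩)
  have hι : Function.Surjective ι := by
    rintro ⟨_, y, hy, rfl⟩
    exact ⟨⟨(y : G), hy⟩, rfl⟩
  have hιa : ι a = 1 := Subtype.ext ((QuotientGroup.eq_one_iff ac).2 (Subgroup.mem_zpowers ac))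
  have hkb : Nat.card Bb ≤ p ^ blockDefect p Bb := by
    refine two_gen hM hBb hDb ?_ (ι b) (ι c) fun y => ?_
    · intro y hy z hz
      obtain ⟨y, rfl⟩ : ∃ y', (ι y' : K ⧸ Z) = y := by
        obtain ⟨y', h⟩ := hι ⟨y, hy⟩
        exact ⟨y', congrArg Subtype.val h⟩
      obtain ⟨z, rfl⟩ : ∃ z', (ι z' : K ⧸ Z) = z := by
        obtain ⟨z', h⟩ := hι ⟨z, hz⟩
        exact ⟨z', congrArg Subtype.val h⟩
      rw [← Subgroup.coe_mul, ← map_mul, ← Subgroup.coe_mul, ← map_mul,
        show y * z = z * y from Subtype.ext (hab y y.2 z z.2)]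
    · obtain ⟨y, rfl⟩ := hι y
      obtain ⟨i, j, l, rfl⟩ := hgen y
      exact ⟨j, l, by rw [map_mul, map_mul, map_zpow, map_zpow, map_zpow, hιa, one_zpow, one_mul]⟩
  -- orders
  have hZD : Z ≤ D.subgroupOf K := Subgroup.zpowers_le.2 a.2
  have h7 := card_map_mk Z hZD
  rw [Nat.card_congr (Subgroup.subgroupOfEquivOfLe hDK).toEquiv, hcard, hZcard,
    H20.card_defectGroup hM hBb hDb] at h7
  have h3 : p ^ blockDefect p B ≤ orderOf a ^ 3 := by
    rw [← hcard]
    choose i j l h using hgen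
    let φ : D → Subgroup.zpowers a × Subgroup.zpowers b × Subgroup.zpowers c := fun y =>
      (⟨a ^ i y, i y, rfl⟩, ⟨b ^ j y, j y, rfl⟩, ⟨c ^ l y, l y, rfl⟩)
    have hφ : Function.Injective φ := fun y z hyz => by
      simp only [φ, Prod.mk.injEq] at hyz
      obtain ⟨h1, h2, h3⟩ := hyz
      rw [h y, h z, show a ^ i y = a ^ i z from congrArg Subtype.val h1,
        show b ^ j y = b ^ j z from congrArg Subtype.val h2,
        show c ^ l y = c ^ l z from congrArg Subtype.val h3]
    refine (Nat.card_le_card_of_injective φ hφ).trans ?_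
    rw [Nat.card_prod, Nat.card_prod, Nat.card_zpowers, Nat.card_zpowers, Nat.card_zpowers,
      pow_three]
    exact Nat.mul_le_mul le_rfl (Nat.mul_le_mul hba hca)
  have hka : Nat.card B * orderOf a ≤ p ^ blockDefect p B * p ^ blockDefect p B := by
    calc Nat.card B * orderOf a
        ≤ p ^ blockDefect p B * p ^ blockDefect p Bb * orderOf a :=
          Nat.mul_le_mul_right _ (hk.trans (Nat.mul_le_mul_left _ (hl.trans hkb)))
      _ = _ := by rw [mul_assoc, mul_comm (p ^ blockDefect p Bb), ← h7]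
  refine Nat.le_of_mul_le_mul_right ?_ (pow_pos hp.out.pos (blockDefect p B))
  calc Nat.card B ^ 3 * p ^ blockDefect p B ≤ Nat.card B ^ 3 * orderOf a ^ 3 :=
        Nat.mul_le_mul_left _ h3
    _ = (Nat.card B * orderOf a) ^ 3 := (mul_pow _ _ _).symm
    _ ≤ (p ^ blockDefect p B * p ^ blockDefect p B) ^ 3 := Nat.pow_le_pow_left hka 3
    _ = p ^ (5 * blockDefect p B) * p ^ blockDefect p B := by ring

end H19.RankTwoThree
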