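import Cfsg.Agent.H19.FieldPerm
import Cfsg.Agent.H12.Orth
import Cfsg.Agent.H13.PermutationLemma
import Cfsg.Agent.H20.GroupAlg
import Cfsg.Agent.H22.ValueMod

set_option autoImplicit false
set_option linter.unusedSectionVars false

/-!
Fixed real characters and fixed real classes for coprime actions of p-groups.
-/

open Cfsg
open scoped ComplexConjugate

namespace H19

universe u

/-- The two orthogonality relations as matrix identities. -/
theorem class_table {K : Type u} [Group K] [Fintype K] [Fintype (ConjClasses K)]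
    [DecidableEq (ConjClasses K)] [DecidableEq (IrrCharacter K)] (r : ConjClasses K → K)
    (hr : ∀ C, ConjClasses.mk (r C) = C) :
    (∀ χ ψ : IrrCharacter K, ∑ C, (χ : K → ℂ) (r C) *
        ((Subgroup.centralizer ({r C} : Set K)).index * conj ((ψ : K → ℂ) (r C))) =
        if χ = ψ then (Nat.card K : ℂ) else 0) ∧
      ∀ C D : ConjClasses K, ∑ χ : IrrCharacter K,
        ((Subgroup.centralizer ({r C} : Set K)).index * conj ((χ : K → ℂ) (r C))) * (χ : K → ℂ) (r D) =
        if C = D then (Nat.card K : ℂ) else 0 := by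
  classical
  constructor
  · intro χ ψ
    have h : ∑ g : K, (χ : K → ℂ) g * conj ((ψ : K → ℂ) g) = if χ = ψ then (Nat.card K : ℂ) else 0 := by
      rw [H12.sum_mul_conj_eq_card_mul, H12.classInner_irr]
      split_ifs <;> simp
    rw [← h]
    conv_rhs => rw [← Finset.sum_fiberwise Finset.univ (fun g => ConjClasses.mk g)]
    refine Finset.sum_congr rfl fun C _ => ?_
    have hval : ∀ g ∈ Finset.univ.filter (fun g => ConjClasses.mk g = C),
        (χ : K → ℂ) g * conj ((ψ : K → ℂ) g) = (χ : K → ℂ) (r C) * conj ((ψ : K → ℂ) (r C)) := by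
      intro g hg
      have hc : IsConj g (r C) := by
        rw [← ConjClasses.mk_eq_mk_iff_isConj, hr]
        exact (Finset.mem_filter.mp hg).2
      rw [H12.IsClassFunction.of_isConj (H12.irr_isClassFunction χ) hc,
        H12.IsClassFunction.of_isConj (H12.irr_isClassFunction ψ) hc]
    rw [Finset.sum_congr rfl hval, Finset.sum_const, nsmul_eq_mul]
    have hsize : (Finset.univ.filter fun g => ConjClasses.mk g = C).card =
        (Subgroup.centralizer ({r C} : Set K)).index := by
      have h1 := H12.card_conjClass_mul_card_centralizer (r C)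
      have h2 := Subgroup.index_mul_card (Subgroup.centralizer ({r C} : Set K))
      have h3 : (Finset.univ.filter fun g => ConjClasses.mk g = C) = ({x : K | IsConj (r C) x} : Finset K) := by
        ext g
        simp only [Finset.mem_filter, Finset.mem_univ, true_and]
        constructor
        · intro hg; rw [← ConjClasses.mk_eq_mk_iff_isConj, hr, hg]
        · intro hg; rw [← hr C]; exact (ConjClasses.mk_eq_mk_iff_isConj.mpr hg).symm
      rw [h3]
      exact Nat.eq_of_mul_eq_mul_right Nat.card_pos (h1.trans h2.symm)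
    rw [hsize]
    ring
  · intro C D
    have h := H12.column_orthogonality (r D) (r C)
    simp only [mul_assoc, ← Finset.mul_sum]
    rw [Finset.sum_congr rfl (fun (χ : IrrCharacter K) _ => mul_comm (conj ((χ : K → ℂ) (r C))) ((χ : K → ℂ) (r D))), h]
    have hiff : IsConj (r D) (r C) ↔ C = D := by rw [← ConjClasses.mk_eq_mk_iff_isConj, hr, hr, eq_comm]
    by_cases hCD : C = D
    · rw [if_pos hCD, if_pos (hiff.mpr hCD), hCD]
      have := Subgroup.index_mul_card (Subgroup.centralizer ({r D} : Set K))
      rw [← Nat.cast_mul, this]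
    · rw [if_neg hCD, if_neg (fun h' => hCD (hiff.mp h')), mul_zero]

theorem isConj_inv_iff {K : Type*} [Group K] {a b : K} : IsConj a⁻¹ b⁻¹ ↔ IsConj a b := by
  simp only [isConj_iff]
  refine exists_congr fun c => ?_
  rw [← inv_inj, ← conj_inv, inv_inv, inv_inv]

theorem conj_irr_pair {K : Type*} [Group K] [Finite K] (χ : IrrCharacter K) {g g' : K}
    (h : IsConj g' g⁻¹) : conj ((χ : K → ℂ) g') = (χ : K → ℂ) g := by
  rw [H12.IsClassFunction.of_isConj (H12.irr_isClassFunction χ) h, H12.irr_inv, Complex.conj_conj]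

theorem centralizer_index_congr {K : Type*} [Group K] [Finite K] (α : K ≃* K) (a : K) :
    (Subgroup.centralizer ({α a} : Set K)).index = (Subgroup.centralizer ({a} : Set K)).index := by
  rw [← Subgroup.index_map_equiv (Subgroup.centralizer ({a} : Set K)) α]
  congr 1
  ext x
  rw [Subgroup.mem_centralizer_singleton_iff]
  constructor
  · intro h
    refine ⟨α.symm x, Subgroup.mem_centralizer_singleton_iff.mpr (α.injective ?_), α.apply_symm_apply x⟩
    rw [map_mul, map_mul, α.apply_symm_apply]
    exact h
  · rintro ⟨y, hy, rfl⟩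
    show α y * α a = α a * α y
    rw [← map_mul, Subgroup.mem_centralizer_singleton_iff.mp hy, map_mul]

theorem centralizer_index_isConj {K : Type*} [Group K] [Finite K] {a b : K} (h : IsConj a b) :
    (Subgroup.centralizer ({a} : Set K)).index = (Subgroup.centralizer ({b} : Set K)).index := by
  obtain ⟨c, rfl⟩ := isConj_iff.mp h
  exact (centralizer_index_congr (MulAut.conj c) a).symm

variable {K : Type u} [Group K] [Fintype K] {P : Type*} [Group P]

/-- Number of real irreducible characters fixed by a coprime p-group = number of real classes fixed by it. -/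
theorem card_real_fixed {p : ℕ} [hp : Fact p.Prime] (hP : IsPGroup p P) (hK : ¬ p ∣ Nat.card K)
    (φ : P →* MulAut K) :
    Nat.card {χ : IrrCharacter K // (∀ k, conj ((χ : K → ℂ) k) = (χ : K → ℂ) k) ∧
        ∀ u k, (χ : K → ℂ) (φ u k) = (χ : K → ℂ) k} =
      Nat.card {C : ConjClasses K // (∀ k, ConjClasses.mk k = C → IsConj k k⁻¹) ∧
        ∀ u k, ConjClasses.mk k = C → ConjClasses.mk (φ u k) = C} := by
  classical
  haveI := Fintype.ofFinite (ConjClasses K)
  obtain ⟨M, hM⟩ := H22.exists_isPModular p hp.out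
  haveI := hM.2.1
  letI : Field (AlgInt ⧸ M) := Ideal.Quotient.field M
  let red : AlgInt →+* AlgInt ⧸ M := Ideal.Quotient.mk M
  have hpF : (p : AlgInt ⧸ M) = 0 := by
    rw [← map_natCast red]
    exact (Ideal.Quotient.eq_zero_iff_mem).mpr hM.2.2
  have hnF : (Nat.card K : AlgInt ⧸ M) ≠ 0 := by
    intro h
    haveI : CharP (AlgInt ⧸ M) p := (CharP.charP_iff_prime_eq_zero hp.out).mpr hpF
    exact hK ((CharP.cast_eq_zero_iff (AlgInt ⧸ M) p _).mp h)
  let r : ConjClasses K → K := H13.classRep
  have hr : ∀ C, ConjClasses.mk (r C) = C := H13.mk_classRep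
  obtain ⟨hT1, hT2⟩ := class_table r hr
  have hval : ∀ (χ : IrrCharacter K) (k : K), IsIntegral ℤ ((χ : K → ℂ) k) := fun χ k =>
    H12.IsCharacter.isIntegral (H12.isCharacter_irr χ) k
  let A0 : IrrCharacter K → ConjClasses K → AlgInt := fun χ C => ⟨(χ : K → ℂ) (r C), hval χ _⟩
  let B0 : ConjClasses K → IrrCharacter K → AlgInt := fun C χ =>
    ((Subgroup.centralizer ({r C} : Set K)).index : AlgInt) *
      ⟨conj ((χ : K → ℂ) (r C)), hval (H12.conjIrr χ) _⟩
  have hAB : ∀ χ ψ, ∑ C, A0 χ C * B0 C ψ = if χ = ψ then (Nat.card K : AlgInt) else 0 := by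
    intro χ ψ
    apply Subtype.ext
    have := hT1 χ ψ
    push_cast [A0, B0]
    rw [this]
    split_ifs <;> simp
  have hBA : ∀ C D, ∑ χ, B0 C χ * A0 χ D = if C = D then (Nat.card K : AlgInt) else 0 := by
    intro C D
    apply Subtype.ext
    have := hT2 C D
    push_cast [A0, B0]
    rw [this]
    split_ifs <;> simp
  -- actions
  letI actI : MulAction P (IrrCharacter K) :=
    { smul := fun u χ => ⟨(χ : K → ℂ) ∘ (φ u⁻¹ : MulAut K),
        H12.IsIrrCharacter.comp_surjective χ.2 (f := (φ u⁻¹ : MulAut K).toMonoidHom) (φ u⁻¹).surjective⟩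
      one_smul := fun χ => by
        apply Subtype.ext; funext k
        show (χ : K → ℂ) (φ (1 : P)⁻¹ k) = _
        simp
      mul_smul := fun u v χ => by
        apply Subtype.ext; funext k
        show (χ : K → ℂ) (φ (u * v)⁻¹ k) = (χ : K → ℂ) (φ v⁻¹ (φ u⁻¹ k))
        rw [mul_inv_rev, map_mul]
        rfl }
  letI actJ : MulAction P (ConjClasses K) :=
    { smul := fun u => ConjClasses.map (φ u : MulAut K).toMonoidHom
      one_smul := fun C => by
        obtain ⟨k, rfl⟩ := ConjClasses.mk_surjective C
        show ConjClasses.mk (φ (1 : P) k) = _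
        rw [map_one, MulAut.one_apply]
      mul_smul := fun u v C => by
        obtain ⟨k, rfl⟩ := ConjClasses.mk_surjective C
        show ConjClasses.mk (φ (u * v) k) = ConjClasses.mk (φ u (φ v k))
        rw [map_mul, MulAut.mul_apply] }
  have hsmulI : ∀ (u : P) (χ : IrrCharacter K) k, ((u • χ : IrrCharacter K) : K → ℂ) k = (χ : K → ℂ) (φ u⁻¹ k) :=
    fun _ _ _ => rfl
  have hsmulJ : ∀ (u : P) (C : ConjClasses K), IsConj (r (u • C)) (φ u (r C)) := by
    intro u C
    rw [← ConjClasses.mk_eq_mk_iff_isConj, hr]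
    conv_lhs => rw [← hr C]
    rfl
  have hAeq : ∀ (u : P) χ C, A0 (u • χ) (u • C) = A0 χ C := by
    intro u χ C
    apply Subtype.ext
    show ((u • χ : IrrCharacter K) : K → ℂ) (r (u • C)) = (χ : K → ℂ) (r C)
    rw [H12.IsClassFunction.of_isConj (H12.irr_isClassFunction _) (hsmulJ u C), hsmulI,
      ← MulAut.mul_apply, ← map_mul, inv_mul_cancel, map_one, MulAut.one_apply]
  have hBeq : ∀ (u : P) χ C, B0 (u • C) (u • χ) = B0 C χ := by
    intro u χ C
    have hc := hsmulJ u C
    apply Subtype.ext
    show ((Subgroup.centralizer ({r (u • C)} : Set K)).index : ℂ) *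
        conj (((u • χ : IrrCharacter K) : K → ℂ) (r (u • C))) =
      ((Subgroup.centralizer ({r C} : Set K)).index : ℂ) * conj ((χ : K → ℂ) (r C))
    rw [H12.IsClassFunction.of_isConj (H12.irr_isClassFunction _) hc, centralizer_index_isConj hc,
      centralizer_index_congr (φ u) (r C), hsmulI,
      ← MulAut.mul_apply, ← map_mul, inv_mul_cancel, map_one, MulAut.one_apply]
  let a : MulAction.fixedPoints P (IrrCharacter K) → MulAction.fixedPoints P (ConjClasses K) → AlgInt ⧸ M :=
    fun χ C => red (A0 χ C)
  let b : MulAction.fixedPoints P (ConjClasses K) → MulAction.fixedPoints P (IrrCharacter K) → AlgInt ⧸ M :=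
    fun C χ => red (B0 C χ)
  have hp0 : ∀ x : AlgInt ⧸ M, p • x = 0 := fun x => by rw [nsmul_eq_mul, hpF, zero_mul]
  haveI := Fintype.ofFinite (MulAction.fixedPoints P (IrrCharacter K))
  haveI := Fintype.ofFinite (MulAction.fixedPoints P (ConjClasses K))
  have hab : ∀ i i', ∑ j, a i j * b j i' = if i = i' then (Nat.card K : AlgInt ⧸ M) else 0 := by
    intro i i'
    have h := congrArg red (hAB i.1 i'.1)
    rw [map_sum, H20.sum_eq_sum_fixedPoints hP hp0 (fun C => red (A0 i.1 C * B0 C i'.1)) (fun u C => by
      have e1 := hAeq u i.1 C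
      have e2 := hBeq u i'.1 C
      rw [i.2 u] at e1
      rw [i'.2 u] at e2
      rw [e1, e2]),
      Finset.sum_subtype (p := fun C => C ∈ MulAction.fixedPoints P (ConjClasses K)) _
        (fun x => by simp)] at h
    simp only [map_mul] at h
    refine h.trans ?_
    by_cases hii : i = i'
    · rw [if_pos hii, if_pos (congrArg Subtype.val hii), map_natCast]
    · rw [if_neg hii, if_neg (fun h' => hii (Subtype.ext h')), map_zero]
  have hba : ∀ j j', ∑ i, b j i * a i j' = if j = j' then (Nat.card K : AlgInt ⧸ M) else 0 := by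
    intro j j'
    have h := congrArg red (hBA j.1 j'.1)
    rw [map_sum, H20.sum_eq_sum_fixedPoints hP hp0 (fun χ => red (B0 j.1 χ * A0 χ j'.1)) (fun u χ => by
      have e1 := hAeq u χ j'.1
      have e2 := hBeq u χ j.1
      rw [j'.2 u] at e1
      rw [j.2 u] at e2
      rw [e1, e2]),
      Finset.sum_subtype (p := fun χ => χ ∈ MulAction.fixedPoints P (IrrCharacter K)) _
        (fun x => by simp)] at h
    simp only [map_mul] at h
    refine h.trans ?_
    by_cases hii : j = j'
    · rw [if_pos hii, if_pos (congrArg Subtype.val hii), map_natCast]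
    · rw [if_neg hii, if_neg (fun h' => hii (Subtype.ext h')), map_zero]
  let invC : ConjClasses K → ConjClasses K := fun C => ConjClasses.mk (r C)⁻¹
  have hinvmk : ∀ k : K, invC (ConjClasses.mk k) = ConjClasses.mk k⁻¹ := fun k => by
    apply ConjClasses.mk_eq_mk_iff_isConj.mpr
    exact isConj_inv_iff.mpr (ConjClasses.mk_eq_mk_iff_isConj.mp (hr (ConjClasses.mk k)))
  let σ : MulAction.fixedPoints P (IrrCharacter K) → MulAction.fixedPoints P (IrrCharacter K) :=
    fun χ => ⟨H12.conjIrr χ.1, fun u => by
      apply Subtype.ext; funext k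
      rw [hsmulI, H12.conjIrr_apply, H12.conjIrr_apply]
      congr 1
      have := congrFun (congrArg Subtype.val (χ.2 u)) k
      rwa [hsmulI] at this⟩
  let τ : MulAction.fixedPoints P (ConjClasses K) → MulAction.fixedPoints P (ConjClasses K) :=
    fun C => ⟨invC C.1, fun u => by
      obtain ⟨k, hk⟩ := ConjClasses.mk_surjective C.1
      have h1 : ConjClasses.mk (φ u k) = ConjClasses.mk k := by
        have := C.2 u
        rw [← hk] at this
        exact this
      rw [← hk, hinvmk]
      show ConjClasses.mk (φ u k⁻¹) = _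
      rw [map_inv, ConjClasses.mk_eq_mk_iff_isConj]
      exact isConj_inv_iff.mpr (ConjClasses.mk_eq_mk_iff_isConj.mp h1)⟩
  have hfin := card_fixed_eq_of_matrices a b (Nat.card K : AlgInt ⧸ M) hnF hab hba σ τ
    (fun χ => Subtype.ext (H12.conjIrr_conjIrr _))
    (fun C => Subtype.ext (by
      obtain ⟨k, hk⟩ := ConjClasses.mk_surjective C.1
      show invC (invC C.1) = C.1
      rw [← hk]
      exact ((congrArg invC (hinvmk k)).trans (hinvmk k⁻¹)).trans (by rw [inv_inv])))
    (fun χ C => by
      show red _ = red _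
      congr 1
      apply Subtype.ext
      show (H12.conjIrr χ.1 : K → ℂ) (r (invC C.1)) = (χ.1 : K → ℂ) (r C.1)
      rw [H12.conjIrr_apply]
      exact conj_irr_pair χ.1 (ConjClasses.mk_eq_mk_iff_isConj.mp (hr (invC C.1))))
  refine Eq.trans ?_ (hfin.trans ?_)
  · refine Nat.card_congr
      { toFun := fun χ => ⟨⟨χ.1, fun u => Subtype.ext (funext fun k => by
          rw [hsmulI]; exact χ.2.2 u⁻¹ k)⟩, Subtype.ext (Subtype.ext (funext fun k => χ.2.1 k))⟩
        invFun := fun χ => ⟨χ.1.1, fun k => congrFun (congrArg (fun z => ((z : MulAction.fixedPoints P (IrrCharacter K)).1 : K → ℂ)) χ.2) k,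
          fun u k => by
            have := congrFun (congrArg Subtype.val (χ.1.2 u⁻¹)) k
            rwa [hsmulI, inv_inv] at this⟩
        left_inv := fun χ => rfl
        right_inv := fun χ => rfl }
  · refine Nat.card_congr
      { toFun := fun C => ⟨C.1.1, fun k hk => ?_, fun u k hk => ?_⟩
        invFun := fun C => ⟨⟨C.1, fun u => ?_⟩, ?_⟩
        left_inv := fun C => rfl
        right_inv := fun C => rfl }
    · have := congrArg Subtype.val C.2
      simp only [τ, ← hk, hinvmk] at this
      exact (ConjClasses.mk_eq_mk_iff_isConj.mp this).symm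
    · rw [← hk]
      have := C.1.2 u
      rw [← hk] at this
      exact this
    · obtain ⟨k, hk⟩ := ConjClasses.mk_surjective C.1
      rw [← hk]
      exact (C.2.2 u k hk).trans hk.symm
    · apply Subtype.ext
      obtain ⟨k, hk⟩ := ConjClasses.mk_surjective C.1
      show invC C.1 = C.1
      rw [← hk, hinvmk, ConjClasses.mk_eq_mk_iff_isConj]
      exact (C.2.1 k hk).symm

end H19
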