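import Cfsg.Agent.H12.Orth
import Cfsg.Agent.H13.PermutationLemma

set_option autoImplicit false
set_option linter.unusedSectionVars false

/-!
Orbits on real characters and real classes of a normal subgroup of odd index.
-/

open Cfsg
open scoped ComplexConjugate

namespace H19

universe u

theorem card_quot_eq_orbits {G α : Type*} [Group G] [MulAction G α] (r : α → α → Prop)
    (hr : ∀ x y, r x y ↔ ∃ g : G, g • x = y) :
    Nat.card (Quot r) = Nat.card (Quotient (MulAction.orbitRel G α)) := by
  refine Nat.card_congr (Quot.congr (Equiv.refl α) fun x y => ?_)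
  show r x y ↔ x ∈ MulAction.orbit G y
  rw [hr]
  constructor
  · rintro ⟨g, rfl⟩
    exact ⟨g⁻¹, inv_smul_smul g x⟩
  · rintro ⟨g, rfl⟩
    exact ⟨g⁻¹, inv_smul_smul g y⟩

/-- Fixed points of a map of odd order up to trivial action: fixed by the square means fixed. -/
theorem apply_eq_of_sq {α : Type*} (f : α → α) (x : α) {k : ℕ} (hk : Odd k)
    (hpow : f^[k] x = x) (hsq : f^[2] x = x) : f x = x := by
  obtain ⟨m, rfl⟩ := hk
  rwa [Nat.add_comm, Function.iterate_add_apply, Function.iterate_mul,
    Function.iterate_fixed hsq, Function.iterate_one] at hpow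

variable {G : Type u} [Group G] [Finite G] (K : Subgroup G) [K.Normal]

theorem card_real_orbits (hodd : Odd K.index) :
    Nat.card (Quot (fun θ η : {θ : IrrCharacter ↥K // (∀ k : ↥K, ((θ : ↥K → ℂ) k).im = 0)} =>
      ∃ g : G, ∀ k k' : ↥K, (k' : G) = g * (k : G) * g⁻¹ → (η.1 : ↥K → ℂ) k' = (θ.1 : ↥K → ℂ) k)) =
      Nat.card (Quot (fun x y : {x : ↥K // IsConj x x⁻¹} => ∃ g : G, (y.1 : G) = g * x.1 * g⁻¹)) := by
  classical
  haveI := Fintype.ofFinite G
  haveI := Fintype.ofFinite K
  let φ : G →* MulAut K := MulAut.conjNormal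
  have hφ : ∀ (g : G) (k : K), ((φ g k : K) : G) = g * k * g⁻¹ := fun g k => MulAut.conjNormal_apply g k
  let cmap : G → ConjClasses K → ConjClasses K := fun g => ConjClasses.map (φ g : MulAut K).toMonoidHom
  have cmap_mk : ∀ g k, cmap g (ConjClasses.mk k) = ConjClasses.mk (φ g k) := fun g k => rfl
  let RC := {C : ConjClasses K // ∀ k, ConjClasses.mk k = C → IsConj k k⁻¹}
  let RI := {θ : IrrCharacter ↥K // (∀ k : ↥K, ((θ : ↥K → ℂ) k).im = 0)}
  letI actI : MulAction G RI :=
    { smul := fun g θ => ⟨⟨(θ.1 : K → ℂ) ∘ (φ g⁻¹ : MulAut K),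
        H12.IsIrrCharacter.comp_surjective θ.1.2 (f := (φ g⁻¹ : MulAut K).toMonoidHom) (φ g⁻¹).surjective⟩,
        fun k => θ.2 _⟩
      one_smul := fun θ => Subtype.ext (Subtype.ext (funext fun k => by
        show (θ.1 : K → ℂ) (φ (1 : G)⁻¹ k) = _
        simp))
      mul_smul := fun u v θ => Subtype.ext (Subtype.ext (funext fun k => by
        show (θ.1 : K → ℂ) (φ (u * v)⁻¹ k) = (θ.1 : K → ℂ) (φ v⁻¹ (φ u⁻¹ k))
        rw [mul_inv_rev, map_mul]
        rfl)) }
  have hRCc : ∀ (g : G) (C : RC) k, ConjClasses.mk k = cmap g C.1 → IsConj k k⁻¹ := by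
    intro g C k hk
    obtain ⟨a, ha⟩ := ConjClasses.mk_surjective C.1
    rw [← ha, cmap_mk] at hk
    have h1 := ConjClasses.mk_eq_mk_iff_isConj.mp hk
    have h2 : IsConj (φ g a) (φ g a)⁻¹ := by
      rw [← map_inv]
      exact (φ g).toMonoidHom.map_isConj (C.2 a ha)
    obtain ⟨c, hc⟩ := isConj_iff.mp h1
    exact h1.trans (h2.trans (isConj_iff.mpr ⟨c⁻¹, by rw [← hc]; group⟩))
  letI actC : MulAction G RC :=
    { smul := fun g C => ⟨cmap g C.1, hRCc g C⟩
      one_smul := fun C => Subtype.ext (by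
        obtain ⟨a, ha⟩ := ConjClasses.mk_surjective C.1
        show cmap 1 C.1 = C.1
        rw [← ha, cmap_mk, map_one, MulAut.one_apply])
      mul_smul := fun u v C => Subtype.ext (by
        obtain ⟨a, ha⟩ := ConjClasses.mk_surjective C.1
        show cmap (u * v) C.1 = cmap u (cmap v C.1)
        rw [← ha, cmap_mk, cmap_mk, cmap_mk, map_mul, MulAut.mul_apply]) }
  have hI : ∀ x y : RI, (∃ g : G, ∀ k k' : ↥K, (k' : G) = g * (k : G) * g⁻¹ → (y.1 : ↥K → ℂ) k' = (x.1 : ↥K → ℂ) k) ↔
      ∃ g : G, g • x = y := by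
    intro x y
    refine exists_congr fun g => ⟨fun h => Subtype.ext (Subtype.ext (funext fun k => ?_)), fun h k k' e => ?_⟩
    · show (x.1 : K → ℂ) (φ g⁻¹ k) = (y.1 : K → ℂ) k
      refine (h (φ g⁻¹ k) k ?_).symm
      rw [hφ]; group
    · rw [← h]
      show (x.1 : K → ℂ) (φ g⁻¹ k') = _
      refine congrArg _ (Subtype.ext ?_)
      rw [hφ, e]; group
  rw [card_quot_eq_orbits _ hI]
  have hCls : Nat.card (Quot (fun x y : {x : ↥K // IsConj x x⁻¹} => ∃ g : G, (y.1 : G) = g * x.1 * g⁻¹)) =
      Nat.card (Quotient (MulAction.orbitRel G RC)) := by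
    let toRC : {x : ↥K // IsConj x x⁻¹} → RC := fun x => ⟨ConjClasses.mk x.1, fun k hk => by
      obtain ⟨c, hc⟩ := isConj_iff.mp (ConjClasses.mk_eq_mk_iff_isConj.mp hk)
      exact ((ConjClasses.mk_eq_mk_iff_isConj.mp hk).trans x.2).trans
        (isConj_iff.mpr ⟨c⁻¹, by rw [← hc]; group⟩)⟩
    refine Nat.card_eq_of_bijective
      (Quot.lift (fun x => Quotient.mk (MulAction.orbitRel G RC) (toRC x)) ?_) ⟨?_, ?_⟩
    · rintro x y ⟨g, hg⟩
      refine Quotient.sound ⟨g⁻¹, ?_⟩
      apply Subtype.ext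
      show cmap g⁻¹ (ConjClasses.mk y.1) = ConjClasses.mk x.1
      rw [cmap_mk]
      congr 1
      apply Subtype.ext
      rw [hφ, hg]; group
    · rintro ⟨x⟩ ⟨y⟩ h
      obtain ⟨g, hg⟩ := Quotient.exact h
      have h' : ConjClasses.mk (φ g y.1) = ConjClasses.mk x.1 := congrArg Subtype.val hg
      obtain ⟨c, hc⟩ := isConj_iff.mp (ConjClasses.mk_eq_mk_iff_isConj.mp h')
      have hc' : ((c : G) * (g * (y.1 : G) * g⁻¹) * (c : G)⁻¹) = (x.1 : G) := by
        rw [← hφ]; exact congrArg Subtype.val hc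
      exact Quot.sound ⟨((c : G) * g)⁻¹, by rw [← hc']; group⟩
    · intro q
      induction q using Quotient.inductionOn with
      | _ C =>
        obtain ⟨a, ha⟩ := ConjClasses.mk_surjective C.1
        refine ⟨Quot.mk _ ⟨a, C.2 a ha⟩, ?_⟩
        show Quotient.mk _ _ = _
        congr 1
        exact Subtype.ext ha
  rw [hCls]
  haveI : Fintype RI := Fintype.ofFinite _
  haveI : Fintype RC := Fintype.ofFinite _
  have hfix : ∀ g : G, Fintype.card (MulAction.fixedBy RI g) = Fintype.card (MulAction.fixedBy RC g) := by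
    intro g
    have htriv : ∀ k : K, φ (g ^ K.index) k = ⟨g ^ K.index, Subgroup.pow_index_mem K g⟩ * k *
        ⟨g ^ K.index, Subgroup.pow_index_mem K g⟩⁻¹ := fun k => Subtype.ext (by rw [hφ]; rfl)
    have hinvc : ∀ x y : K, IsConj x y → IsConj x⁻¹ y⁻¹ := fun x y h => by
      obtain ⟨c, rfl⟩ := isConj_iff.mp h
      exact isConj_iff.mpr ⟨c, by group⟩
    let τ : K → K := fun k => (φ g k)⁻¹
    have hτ : ∀ a b, IsConj a b → IsConj (τ a) (τ b) := by
      intro a b h
      obtain ⟨c, rfl⟩ := isConj_iff.mp h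
      exact isConj_iff.mpr ⟨φ g c, by simp [τ, mul_assoc]⟩
    have hirr : ∀ χ : IrrCharacter K, IsIrrCharacter K ((χ : K → ℂ) ∘ τ) := fun χ => by
      have : (χ : K → ℂ) ∘ τ = fun k => conj (((χ : K → ℂ) ∘ (φ g : MulAut K)) k) :=
        funext fun k => H12.irr_inv χ _
      rw [this]
      exact H12.isIrrCharacter_conj
        (H12.IsIrrCharacter.comp_surjective χ.2 (f := (φ g : MulAut K).toMonoidHom) (φ g).surjective)
    have key := H13.card_fixed_irr_eq τ hτ hirr
    rw [← Nat.card_eq_fintype_card, ← Nat.card_eq_fintype_card]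
    refine Eq.trans ?_ (key.trans ?_)
    · -- real characters fixed by g = characters fixed by τ
      have hfwd : ∀ χ : IrrCharacter K, (χ : K → ℂ) ∘ τ = (χ : K → ℂ) →
          (χ : K → ℂ) ∘ (φ g : MulAut K) = (χ : K → ℂ) := by
        intro χ h
        have h1 : ∀ k, (χ : K → ℂ) (φ g k) = conj ((χ : K → ℂ) k) := fun k => by
          have := congrFun h k
          simp only [Function.comp_apply, τ, H12.irr_inv] at this
          rw [← this, Complex.conj_conj]
        let f : (K → ℂ) → (K → ℂ) := fun θ => θ ∘ (φ g : MulAut K)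
        have hit : ∀ n, f^[n] (χ : K → ℂ) = (χ : K → ℂ) ∘ (φ (g ^ n) : MulAut K) := by
          intro n
          induction n with
          | zero => funext k; simp
          | succ n ih =>
            rw [Function.iterate_succ_apply', ih]
            funext k
            simp only [f, Function.comp_apply, pow_succ, map_mul, MulAut.mul_apply]
        refine apply_eq_of_sq f _ hodd ?_ ?_
        · rw [hit]; funext k
          simp only [Function.comp_apply, htriv]
          exact H12.irr_isClassFunction χ _ _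
        · rw [hit]; funext k
          simp only [Function.comp_apply, pow_two, map_mul, MulAut.mul_apply, h1, Complex.conj_conj]
      have hg : ∀ k, φ g⁻¹ (φ g k) = k := fun k => by
        rw [← MulAut.mul_apply, ← map_mul, inv_mul_cancel, map_one, MulAut.one_apply]
      refine Nat.card_congr
        { toFun := fun θ => ⟨θ.1.1, ?_⟩
          invFun := fun χ => ⟨⟨χ.1, ?_⟩, ?_⟩
          left_inv := fun θ => rfl
          right_inv := fun χ => rfl }
      · funext k
        have := congrFun (congrArg (fun z : RI => (z.1 : K → ℂ)) θ.2) (φ g k)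
        change (θ.1.1 : K → ℂ) (φ g⁻¹ (φ g k)) = (θ.1.1 : K → ℂ) (φ g k) at this
        rw [hg] at this
        simp only [Function.comp_apply, τ, H12.irr_inv]
        rw [← this]
        exact Complex.conj_eq_iff_im.mpr (θ.1.2 k)
      · intro k
        have h1 := congrFun χ.2 k
        have h2 := congrFun (hfwd χ.1 χ.2) k
        simp only [Function.comp_apply, τ, H12.irr_inv] at h1 h2
        rw [h2] at h1
        exact Complex.conj_eq_iff_im.mp h1
      · apply Subtype.ext; apply Subtype.ext; funext k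
        have h2 := congrFun (hfwd χ.1 χ.2) (φ g⁻¹ k)
        simp only [Function.comp_apply] at h2
        rw [← MulAut.mul_apply, ← map_mul, mul_inv_cancel, map_one, MulAut.one_apply] at h2
        exact h2.symm
    · -- classes
      have hfwd : ∀ a : K, IsConj (τ a) a → ConjClasses.mk (φ g a) = ConjClasses.mk a := by
        intro a h
        have h' : ConjClasses.mk (φ g a)⁻¹ = ConjClasses.mk a := ConjClasses.mk_eq_mk_iff_isConj.mpr h
        have hinv : ∀ x y : K, ConjClasses.mk x = ConjClasses.mk y →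
            ConjClasses.mk x⁻¹ = ConjClasses.mk y⁻¹ := by
          intro x y hxy
          obtain ⟨c, rfl⟩ := isConj_iff.mp (ConjClasses.mk_eq_mk_iff_isConj.mp hxy)
          exact ConjClasses.mk_eq_mk_iff_isConj.mpr (isConj_iff.mpr ⟨c, by group⟩)
        have h1 : cmap g (ConjClasses.mk a) = ConjClasses.mk a⁻¹ := by
          rw [cmap_mk, ← hinv _ _ h', inv_inv]
        have h2 : cmap g (ConjClasses.mk a⁻¹) = ConjClasses.mk a := by rw [cmap_mk, map_inv, h']
        have hit : ∀ n, (cmap g)^[n] (ConjClasses.mk a) = ConjClasses.mk (φ (g ^ n) a) := by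
          intro n
          induction n with
          | zero => simp
          | succ n ih => rw [Function.iterate_succ_apply', ih, cmap_mk, pow_succ', map_mul, MulAut.mul_apply]
        rw [← cmap_mk]
        refine apply_eq_of_sq (cmap g) _ hodd ?_ ?_
        · rw [hit, htriv]
          exact (ConjClasses.mk_eq_mk_iff_isConj.mpr (isConj_iff.mpr ⟨_, rfl⟩)).symm
        · rw [Function.iterate_succ_apply', Function.iterate_one, h1, h2]
      refine Nat.card_congr
        { toFun := fun C => ⟨⟨C.1, ?_⟩, ?_⟩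
          invFun := fun C => ⟨C.1.1, ?_⟩
          left_inv := fun C => rfl
          right_inv := fun C => rfl }
      · intro k hk
        set a := H13.classRep C.1 with ha
        have hm : ConjClasses.mk a = C.1 := H13.mk_classRep C.1
        have h' := hfwd a C.2
        have hτa : IsConj (φ g a)⁻¹ a := C.2
        obtain ⟨c, hc⟩ := isConj_iff.mp (ConjClasses.mk_eq_mk_iff_isConj.mp h')
        have : IsConj (φ g a)⁻¹ a⁻¹ := hinvc _ _ (isConj_iff.mpr ⟨c, hc⟩)
        have hreal : IsConj a a⁻¹ := hτa.symm.trans this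
        obtain ⟨d, hd⟩ := isConj_iff.mp (ConjClasses.mk_eq_mk_iff_isConj.mp (hk.trans hm.symm))
        exact ((ConjClasses.mk_eq_mk_iff_isConj.mp (hk.trans hm.symm)).trans hreal).trans
          (isConj_iff.mpr ⟨d⁻¹, by rw [← hd]; group⟩)
      · apply Subtype.ext
        show cmap g C.1 = C.1
        conv_lhs => rw [← H13.mk_classRep C.1, cmap_mk, hfwd _ C.2]
        exact H13.mk_classRep C.1
      · have h := congrArg Subtype.val C.2
        change cmap g C.1.1 = C.1.1 at h
        rw [← H13.mk_classRep C.1.1, cmap_mk, ConjClasses.mk_eq_mk_iff_isConj] at h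
        obtain ⟨c, hc⟩ := isConj_iff.mp h
        have : IsConj (φ g (H13.classRep C.1.1))⁻¹ (H13.classRep C.1.1)⁻¹ :=
          hinvc _ _ (isConj_iff.mpr ⟨c, hc⟩)
        exact this.trans (C.1.2 _ (H13.mk_classRep C.1.1)).symm
  have h1 := MulAction.sum_card_fixedBy_eq_card_orbits_mul_card_group G RI
  have h2 := MulAction.sum_card_fixedBy_eq_card_orbits_mul_card_group G RC
  rw [Finset.sum_congr rfl (fun g _ => hfix g), h2] at h1
  rw [Nat.card_eq_fintype_card, Nat.card_eq_fintype_card]
  exact (Nat.eq_of_mul_eq_mul_right Fintype.card_pos h1).symm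

end H19
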