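import Cfsg.Agent.H19.SplitChars
import Mathlib

set_option autoImplicit false

/-!
Centralisers of mixed commuting products in a coprime split extension.
-/

namespace H19

variable {X : Type*} [Group X] [Finite X]

/-- Centraliser of `v^j h` for `v` in the abelian kernel and `h` a coprime element fixing `v`. -/
theorem card_centralizer_mul (V : Subgroup X) [V.Normal] (G : Subgroup X)
    (hGV : Subgroup.IsComplement' V G) (habV : ∀ a ∈ V, ∀ b ∈ V, a * b = b * a) (v : X) (hv : v ∈ V)
    {p : ℕ} [Fact p.Prime] (hvp : v ^ p = 1) {j : ℕ} (hj : p.Coprime j)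
    {H : Subgroup X} (hHdef : H = G ⊓ Subgroup.centralizer ({v} : Set X))
    (hn : ¬ p ∣ Nat.card H) (h : H) :
    Nat.card ↥(Subgroup.centralizer ({v ^ j * (h : X)} : Set X)) =
      Nat.card ↥(V ⊓ Subgroup.centralizer ({(h : X)} : Set X)) *
        Nat.card {g : H // h * g = g * h} := by
  have hHmem : ∀ g : X, g ∈ H ↔ g ∈ G ∧ Commute g v := fun g => by
    rw [hHdef, Subgroup.mem_inf, Subgroup.mem_centralizer_singleton_iff]
    rfl
  have hG : ∀ g : H, (g : X) ∈ G := fun g => ((hHmem _).mp g.2).1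
  have hC : ∀ g : H, Commute (g : X) v := fun g => ((hHmem _).mp g.2).2
  have hvh : Commute v (h : X) := (hC h).symm
  have hcopH : (Nat.card H).Coprime p := ((Fact.out : p.Prime).coprime_iff_not_dvd.mpr hn).symm
  have hmem : ∀ x, x ∈ Subgroup.centralizer ({v ^ j * (h : X)} : Set X) ↔
      Commute x v ∧ Commute x (h : X) := by
    intro x
    rw [Subgroup.mem_centralizer_singleton_iff]
    constructor
    · intro hx
      have hx1 : Commute x ((v ^ j * (h : X)) ^ Nat.card H) := (show Commute x _ from hx).pow_right _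
      have hhN : (h : X) ^ Nat.card H = 1 := by
        have : h ^ Nat.card H = 1 := pow_card_eq_one'
        exact congrArg Subtype.val this
      rw [(hvh.pow_left j).mul_pow, hhN, mul_one, ← pow_mul] at hx1
      obtain ⟨m', hm'⟩ := exists_pow_eq_self_of_coprime (x := v) (n := j * Nat.card H)
        ((Nat.Coprime.mul_left hj.symm hcopH).coprime_dvd_right (orderOf_dvd_of_pow_eq_one hvp))
      have hxv : Commute x v := hm' ▸ hx1.pow_right m'
      refine ⟨hxv, ?_⟩
      have := (hxv.pow_right j).inv_right.mul_right (show Commute x (v ^ j * (h : X)) from hx)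
      rwa [inv_mul_cancel_left] at this
    · rintro ⟨h1, h2⟩
      exact (h1.pow_right j).mul_right h2
  rw [← Nat.card_prod]
  symm
  refine Nat.card_eq_of_bijective (fun q => ⟨(q.1 : X) * ((q.2 : H) : X), ?_⟩) ⟨?_, ?_⟩
  · have hq : Commute ((q.2 : H) : X) v := hC q.2
    refine (hmem _).mpr ⟨?_, ?_⟩
    · exact (show Commute (q.1 : X) v from habV _ q.1.2.1 _ hv).mul_left hq
    · exact (show Commute (q.1 : X) (h : X) from Subgroup.mem_centralizer_singleton_iff.mp q.1.2.2).mul_left
        (congrArg Subtype.val q.2.2).symm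
  · rintro ⟨a, g⟩ ⟨b, g'⟩ he
    have := hGV.1 (a₁ := ((⟨a, a.2.1⟩ : V), (⟨(g : H), hG g⟩ : G)))
      (a₂ := ((⟨b, b.2.1⟩ : V), (⟨(g' : H), hG g'⟩ : G))) (congrArg Subtype.val he)
    simp only [Prod.mk.injEq, Subtype.mk.injEq] at this
    exact Prod.ext (Subtype.ext this.1) (Subtype.ext (Subtype.ext this.2))
  · rintro ⟨x, hx⟩
    obtain ⟨⟨a, g⟩, rfl⟩ := (splitEquiv V G hGV).surjective x
    obtain ⟨h1, h2⟩ := (hmem _).mp hx
    rw [splitEquiv_apply] at h1 h2
    have hgv : Commute (g : X) v := by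
      have := (show Commute (a : X) v from habV _ a.2 _ hv).inv_left.mul_left h1
      rwa [inv_mul_cancel_left] at this
    have hgH : (g : X) ∈ H := (hHmem _).mpr ⟨g.2, hgv⟩
    have hah : Commute (a : X) (h : X) ∧ Commute (g : X) (h : X) := by
      have hhg : (h : X) * g * (h : X)⁻¹ ∈ G := G.mul_mem (G.mul_mem (hG h) g.2) (G.inv_mem (hG h))
      have hha : (h : X) * a * (h : X)⁻¹ ∈ V := ‹V.Normal›.conj_mem _ a.2 _
      have e : (h : X) * a * (h : X)⁻¹ * ((h : X) * g * (h : X)⁻¹) = (a : X) * g := by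
        rw [show (h : X) * a * (h : X)⁻¹ * ((h : X) * g * (h : X)⁻¹) = (h : X) * ((a : X) * g) * (h : X)⁻¹ by group,
          ← h2.eq, mul_inv_cancel_right]
      have := hGV.1 (a₁ := ((⟨_, hha⟩ : V), (⟨_, hhg⟩ : G))) (a₂ := (a, g)) e
      simp only [Prod.ext_iff, Subtype.ext_iff] at this
      exact ⟨(mul_inv_eq_iff_eq_mul.mp this.1).symm, (mul_inv_eq_iff_eq_mul.mp this.2).symm⟩
    exact ⟨(⟨a, a.2, Subgroup.mem_centralizer_singleton_iff.mpr hah.1⟩,
      ⟨⟨g, hgH⟩, Subtype.ext hah.2.symm⟩), rfl⟩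

end H19
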