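import Cfsg.Agent.H12.Glauberman
import Cfsg.Agent.H13.Induced
import Cfsg.Agent.H17.CharTools
import Mathlib

set_option autoImplicit false
set_option linter.unusedSectionVars false

/-!
`p`-regular elements with congruent character values modulo `p` are conjugate, and
`χ(x) ^ p ^ a ≡ χ(x ^ p ^ a)` modulo `p`.
-/

open Cfsg H12.Glauberman

namespace H19.RegCong

universe u

variable {G : Type u} [Group G] [Finite G] {p : ℕ} [hp : Fact p.Prime]

theorem cong_add_pow (a b : ℂ) (ha : IsIntegral ℤ a) (hb : IsIntegral ℤ b) (n : ℕ) :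
    Cong p ((a + b) ^ p ^ n) (a ^ p ^ n + b ^ p ^ n) := by
  obtain ⟨r, hr⟩ := exists_add_pow_prime_pow_eq (R := integralClosure ℤ ℂ) hp.out
    ⟨a, ha⟩ ⟨b, hb⟩ n
  have hr' : (a + b) ^ p ^ n = a ^ p ^ n + b ^ p ^ n + (p : ℂ) * a * b * (r : ℂ) := by
    simpa using congrArg Subtype.val hr
  have hp0 : (p : ℂ) ≠ 0 := by exact_mod_cast hp.out.ne_zero
  rw [Cong, hr', show (a ^ p ^ n + b ^ p ^ n + (p : ℂ) * a * b * (r : ℂ) -
    (a ^ p ^ n + b ^ p ^ n)) / (p : ℂ) = a * b * (r : ℂ) by field_simp; ring]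
  exact (ha.mul hb).mul r.2

theorem cong_sum_pow {ι : Type*} (s : Finset ι) (f : ι → ℂ) (hf : ∀ i ∈ s, IsIntegral ℤ (f i))
    (n : ℕ) : Cong p ((∑ i ∈ s, f i) ^ p ^ n) (∑ i ∈ s, f i ^ p ^ n) := by
  classical
  induction s using Finset.induction with
  | empty => simpa [zero_pow (pow_ne_zero n hp.out.ne_zero)] using Cong.refl (p := p) (0 : ℂ)
  | @insert a t hat ih =>
    rw [Finset.sum_insert hat, Finset.sum_insert hat]
    refine (cong_add_pow _ _ (hf a (Finset.mem_insert_self _ _))
      (IsIntegral.sum _ fun i hi => hf i (Finset.mem_insert_of_mem hi)) n).trans ?_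
    have h := ih fun i hi => hf i (Finset.mem_insert_of_mem hi)
    unfold Cong at h ⊢
    rw [show (f a ^ p ^ n + (∑ i ∈ t, f i) ^ p ^ n - (f a ^ p ^ n + ∑ i ∈ t, f i ^ p ^ n)) / (p : ℂ) =
      ((∑ i ∈ t, f i) ^ p ^ n - ∑ i ∈ t, f i ^ p ^ n) / (p : ℂ) by ring]
    exact h

theorem cong_char_pow {χ : G → ℂ} (hχ : IsCharacter G χ) (g : G) (n : ℕ) :
    Cong p (χ g ^ p ^ n) (χ (g ^ p ^ n)) := by
  obtain ⟨m, ρ, rfl⟩ := hχ
  obtain ⟨μ, h1, h2, -⟩ := H12.exists_char_eigenvalues ρ g
  have hg : ρ.character g = ∑ i, μ i := by simpa using h2 1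
  rw [hg, h2]
  refine cong_sum_pow _ _ (fun i _ => ?_) n
  exact ⟨Polynomial.X ^ orderOf g - Polynomial.C (1 : ℤ),
    Polynomial.monic_X_pow_sub_C (1 : ℤ) (orderOf_pos g).ne', by simp [h1 i]⟩

theorem eq_of_pow_eq {u v : G} (hu : ¬ p ∣ orderOf u) (hv : ¬ p ∣ orderOf v) {n : ℕ}
    (h : u ^ p ^ n = v ^ p ^ n) : u = v := by
  have hcop : (p ^ n).Coprime (orderOf ((u, v) : G × G)) := by
    rw [Prod.orderOf]
    refine Nat.Coprime.pow_left n ?_
    exact Nat.Coprime.coprime_dvd_right (Nat.lcm_dvd_mul _ _)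
      (Nat.Coprime.mul_right ((Nat.Prime.coprime_iff_not_dvd hp.out).mpr hu)
        ((Nat.Prime.coprime_iff_not_dvd hp.out).mpr hv))
  obtain ⟨m, hm⟩ := exists_pow_eq_self_of_coprime hcop
  have h1 : (u ^ p ^ n) ^ m = u := congrArg Prod.fst hm
  have h2 : (v ^ p ^ n) ^ m = v := congrArg Prod.snd hm
  rw [← h1, ← h2, h]

open scoped Classical ComplexConjugate in
/-- `p`-regular elements at which all irreducible characters agree modulo `p` are conjugate. -/
theorem isConj_of_cong {u v : G} (hu : ¬ p ∣ orderOf u) (hv : ¬ p ∣ orderOf v)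
    (h : ∀ χ : IrrCharacter G, Cong p ((χ : G → ℂ) u) ((χ : G → ℂ) v)) : IsConj u v := by
  haveI := Fintype.ofFinite G
  by_contra hne
  let C := Subgroup.centralizer ({u} : Set G)
  let Q : Sylow p C := default
  let U := Subgroup.zpowers u
  letI : CommGroup U := { (inferInstance : Group U) with mul_comm := fun a b => (IsMulCommutative.is_comm (M := U)).comm a b }
  haveI : Fintype U := Fintype.ofFinite U
  let j : (Q : Subgroup C) →* G := C.subtype.comp (Q : Subgroup C).subtype
  have hcomm : ∀ (a : U) (b : (Q : Subgroup C)), Commute (U.subtype a) (j b) := by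
    rintro ⟨a, ha⟩ b
    obtain ⟨k, rfl⟩ := Subgroup.mem_zpowers_iff.mp ha
    have hb : Commute u ((b : C) : G) :=
      (Subgroup.mem_centralizer_singleton_iff.mp (b : C).2).symm
    exact hb.zpow_left k
  let f : U × (Q : Subgroup C) →* G := MonoidHom.noncommCoprod U.subtype j hcomm
  have hf_apply : ∀ (a : U) (b : (Q : Subgroup C)), f (a, b) = (a : G) * ((b : C) : G) :=
    fun a b => rfl
  have hordj : ∀ b : (Q : Subgroup C), orderOf ((b : C) : G) = orderOf b := fun b =>
    orderOf_injective j (C.subtype_injective.comp (Q : Subgroup C).subtype_injective) b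
  have hbpow : ∀ b : (Q : Subgroup C), ∃ k, orderOf ((b : C) : G) = p ^ k := fun b => by
    rw [hordj]; exact IsPGroup.iff_orderOf.mp Q.isPGroup' b
  have hUcop : ∀ a : U, ¬ p ∣ orderOf (a : G) := fun a hd => hu (hd.trans (by
    obtain ⟨k, hk⟩ := Subgroup.mem_zpowers_iff.mp a.2
    rw [← hk]; exact orderOf_dvd_of_pow_eq_one (by
      rw [← zpow_natCast, ← zpow_mul, mul_comm, zpow_mul, zpow_natCast, pow_orderOf_eq_one, one_zpow])))
  have hone : ∀ (a : U) (b : (Q : Subgroup C)), ¬ p ∣ orderOf (f (a, b)) → b = 1 := by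
    intro a b hd
    obtain ⟨k, hk⟩ := hbpow b
    rcases Nat.eq_zero_or_pos k with rfl | hk0
    · rw [pow_zero, orderOf_eq_one_iff] at hk
      exact Subtype.ext (Subtype.ext hk)
    · exfalso
      refine hd ?_
      have hc' : Commute (a : G) ((b : C) : G) := hcomm a b
      rw [hf_apply, hc'.orderOf_mul_eq_mul_orderOf_of_coprime]
      · exact dvd_mul_of_dvd_right (hk ▸ dvd_pow_self p hk0.ne') _
      · change (orderOf (a : G)).Coprime (orderOf ((b : C) : G))
        rw [hk]
        exact Nat.Coprime.pow_right k ((Nat.Prime.coprime_iff_not_dvd hp.out).mpr (hUcop a)).symm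
  have hfinj : Function.Injective f := by
    rw [injective_iff_map_eq_one]
    rintro ⟨a, b⟩ hab
    have hb : b = 1 := hone a b (by rw [hab, orderOf_one, Nat.dvd_one]; exact hp.out.ne_one)
    subst hb
    rw [hf_apply, OneMemClass.coe_one, OneMemClass.coe_one, mul_one] at hab
    exact Prod.ext (Subtype.ext hab) rfl
  let E := f.range
  let e : U × (Q : Subgroup C) ≃* E := MonoidHom.ofInjective hfinj
  have he : ∀ z, ((e z : E) : G) = f z := fun z => rfl
  let u₀ : U := ⟨u, Subgroup.mem_zpowers u⟩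
  let lin : (U →* ℂˣ) → E → ℂ := fun l z => (l (e.symm z).1 : ℂ)
  have hlin : ∀ l, IsCharacter E (lin l) := fun l => by
    have := H12.isCharacter_monoidHom (G := E)
      (l.comp ((MonoidHom.fst U (Q : Subgroup C)).comp e.symm.toMonoidHom))
    exact this
  let φ : G → ℂ := fun g => ∑ l : U →* ℂˣ, conj (l u₀ : ℂ) * indFun E (lin l) g
  -- congruence of the values
  have hcong : Cong p (φ u) (φ v) := by
    refine Cong.sum _ fun l _ => Cong.mul_left ?_ ?_
    · refine ⟨Polynomial.X ^ Fintype.card U - Polynomial.C (1 : ℤ),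
        Polynomial.monic_X_pow_sub_C (1 : ℤ) Fintype.card_ne_zero, ?_⟩
      simp [← map_pow, ← Units.val_pow_eq_pow_val, pow_card_eq_one]
    · obtain ⟨m, hm⟩ := H12.IsCharacter.exists_mult (H13.isCharacter_indFun E (hlin l))
      rw [hm, Finset.sum_apply, Finset.sum_apply]
      refine Cong.sum _ fun χ _ => ?_
      simp only [Pi.smul_apply, smul_eq_mul]
      exact Cong.mul_left (isIntegral_nat _) (h χ)
  -- evaluation at `p`-regular elements
  have hev : ∀ g : G, ¬ p ∣ orderOf g → φ g = (Nat.card E : ℂ)⁻¹ *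
      ((Fintype.card U : ℂ) * ((Finset.univ.filter fun x : G => x⁻¹ * g * x = u).card : ℂ)) := by
    intro g hg
    have hpt : ∀ x : G, ∑ l : U →* ℂˣ, conj (l u₀ : ℂ) * extendByZero E (lin l) (x⁻¹ * g * x) =
        if x⁻¹ * g * x = u then (Fintype.card U : ℂ) else 0 := by
      intro x
      by_cases hx : x⁻¹ * g * x ∈ E
      · obtain ⟨⟨a, b⟩, hab⟩ := id hx
        have hord : orderOf (x⁻¹ * g * x) = orderOf g := by
          rw [show x⁻¹ * g * x = MulAut.conj x⁻¹ g by simp, MulEquiv.orderOf_eq]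
        have hb : b = 1 := hone a b (by rw [hab, hord]; exact hg)
        subst hb
        have hz : (⟨x⁻¹ * g * x, hx⟩ : E) = e (a, 1) := Subtype.ext (by rw [he, hab])
        have hl : ∀ l, extendByZero E (lin l) (x⁻¹ * g * x) = (l a : ℂ) := fun l => by
          rw [H13.extendByZero_mem E _ hx, hz]
          simp [lin]
        simp only [hl]
        rw [Finset.sum_congr rfl (fun l _ => mul_comm _ _)]
        refine (H17.sum_dual_mul_conj (X := U) a u₀).trans ?_
        rw [← hab, hf_apply, OneMemClass.coe_one, OneMemClass.coe_one, mul_one]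
        by_cases hau : a = u₀
        · rw [if_pos hau, if_pos (show (a : G) = u by rw [hau])]
        · rw [if_neg hau, if_neg (show (a : G) ≠ u from fun h => hau (Subtype.ext h))]
      · have hne' : x⁻¹ * g * x ≠ u := fun h => hx ⟨(u₀, 1), by
          rw [hf_apply, h, OneMemClass.coe_one, OneMemClass.coe_one, mul_one]⟩
        rw [if_neg hne']
        exact Finset.sum_eq_zero fun l _ => by rw [H13.extendByZero_notMem E _ hx, mul_zero]
    simp only [φ, indFun]
    simp only [mul_left_comm _ ((Nat.card E : ℂ)⁻¹), Finset.mul_sum]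
    rw [Finset.sum_comm]
    have hsplit : ∀ x : G, ∑ l : U →* ℂˣ,
        (Nat.card E : ℂ)⁻¹ * (conj (l u₀ : ℂ) * extendByZero E (lin l) (x⁻¹ * g * x)) =
        (Nat.card E : ℂ)⁻¹ * if x⁻¹ * g * x = u then (Fintype.card U : ℂ) else 0 := fun x => by
      rw [← Finset.mul_sum, hpt]
    rw [Finset.sum_congr rfl fun x _ => hsplit x, ← Finset.mul_sum, ← Finset.sum_filter,
      Finset.sum_const, nsmul_eq_mul]
    ring
  have hφv : φ v = 0 := by
    rw [hev v hv, Finset.filter_eq_empty_iff.mpr fun x _ hx => hne (isConj_iff.mpr ⟨x⁻¹, by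
      rw [inv_inv]; exact hx⟩).symm]
    simp
  have hφu : φ u = ((Q : Subgroup C).index : ℂ) := by
    have hcount : (Finset.univ.filter fun x : G => x⁻¹ * u * x = u).card = Nat.card C := by
      rw [Nat.card_eq_fintype_card, Fintype.card_subtype]
      congr 1
      ext x
      simp only [Finset.mem_filter, Finset.mem_univ, true_and]
      change x⁻¹ * u * x = u ↔ x ∈ Subgroup.centralizer ({u} : Set G)
      rw [Subgroup.mem_centralizer_singleton_iff, mul_assoc, inv_mul_eq_iff_eq_mul]
      exact eq_comm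
    have hE : Nat.card E = Fintype.card U * Nat.card (Q : Subgroup C) := by
      rw [← Nat.card_congr e.toEquiv, Nat.card_prod, Nat.card_eq_fintype_card]
    rw [hev u hu, hcount, hE, ← (Q : Subgroup C).card_mul_index]
    have h1 : (Fintype.card U : ℂ) ≠ 0 := Nat.cast_ne_zero.mpr Fintype.card_ne_zero
    have h2 : (Nat.card (Q : Subgroup C) : ℂ) ≠ 0 := Nat.cast_ne_zero.mpr Nat.card_pos.ne'
    push_cast
    field_simp
  rw [hφu, hφv] at hcong
  have hz := Cong.zmod_eq_nat (m := (Q : Subgroup C).index) (n := 0) (by exact_mod_cast hcong)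
  rw [Nat.cast_zero, ZMod.natCast_eq_zero_iff] at hz
  exact Q.not_dvd_index hz

end H19.RegCong
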