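import Cfsg.Agent.H21.SelfCentralBlock
import Cfsg.Agent.H20.SecondMainApps
import Cfsg.Agent.H24.CharBasic

set_option autoImplicit false
set_option linter.unusedSectionVars false

/-!
The members of a block with defect group `P` in `G = P C(P)`, listed by the characters of `P`.
-/

open Cfsg

namespace H19.SelfCentral

universe u

variable {G : Type u} [Group G] [Fintype G] {p : ℕ} [hp : Fact p.Prime]
  {M : Ideal AlgInt} [M.IsPrime] {P : Subgroup G} {B : Set (IrrCharacter G)}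

theorem normal_of_sup (hG : P ⊔ Subgroup.centralizer (P : Set G) = ⊤) : P.Normal :=
  Subgroup.normalizer_eq_top_iff.1 (top_le_iff.1
    (hG ▸ sup_le Subgroup.le_normalizer (Subgroup.centralizer_le_normalizer (P : Set G))))

theorem pPart_notMem_vanish (hM : IsPModular p M) (hG : P ⊔ Subgroup.centralizer (P : Set G) = ⊤)
    (hB : IsPBlock M B) (hD : IsDefectGroup p M B P) {θ : IrrCharacter G} (hθ : θ ∈ B) {g : G}
    (hg : H20.pPart p g ∉ P) : (θ : G → ℂ) g = 0 := by
  haveI := normal_of_sup hG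
  refine H20.irr_eq_zero_of_pPart_notMem hM θ fun D hD' => ?_
  rw [← H20.block_eq_blockOf hB hθ] at hD'
  obtain ⟨x, rfl⟩ := H20.defectGroup_conj hM hB hD hD'
  rintro ⟨u, hu, hux⟩
  exact hg (by rw [← hux]; exact Subgroup.Normal.conj_mem inferInstance u hu x)

theorem translate_eq {θ : IrrCharacter G} (hθP : ∀ x ∈ P, (θ : G → ℂ) x = (θ : G → ℂ) 1) :
    ∀ u ∈ P, ∀ g, (θ : G → ℂ) (u * g) = (θ : G → ℂ) g := by
  intro u hu g
  have h1 : g⁻¹ * u * g ∈ H24.kerChar θ := by
    rw [H24.mem_kerChar]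
    have hc := H12.IsClassFunction.of_isConj (H12.irr_isClassFunction θ)
      (isConj_iff.mpr ⟨g, (show g * (g⁻¹ * u * g) * g⁻¹ = u by group)⟩)
    rw [hc]
    exact hθP u hu
  have h2 := H24.irr_mul_of_mem_ker θ g _ h1
  rwa [show g * (g⁻¹ * u * g) = u * g by group] at h2

theorem secFun_mem (hM : IsPModular p M) (hB : IsPBlock M B) {θ χ : IrrCharacter G} (hθ : θ ∈ B)
    (φ : IrrCharacter P) (hχ : ∀ g, (χ : G → ℂ) g = H21.secFun p P (φ : P → ℂ) (θ : G → ℂ) g) :
    χ ∈ B := by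
  classical
  haveI := Fintype.ofFinite (ConjClasses G)
  have hω : ∀ g : G, ¬ p ∣ orderOf g →
      centralChar (χ : G → ℂ) g = centralChar (θ : G → ℂ) g := by
    intro g hg
    have h0 := H12.irr_apply_one_ne_zero φ
    have h1 := H12.irr_apply_one_ne_zero θ
    rw [centralChar, centralChar, hχ, hχ, H21.secFun_regular P _ _ hg,
      H21.secFun_regular P _ _ (by rw [orderOf_one]; exact hp.out.not_dvd_one)]
    field_simp
  have heq : H20.lam M χ (H20.eRed M B) = H20.lam M θ (H20.eRed M B) := by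
    rw [H20.lam_eq_sum, H20.lam_eq_sum]
    refine Finset.sum_congr rfl fun C _ => ?_
    rcases eq_or_ne ((H20.eRed M B).coeff C.out) 0 with h0 | h0
    · rw [h0, zero_mul, zero_mul]
    · rw [hω _ (H20.regular_of_coeff_ne_zero hM hB h0)]
  rw [H20.lam_eRed hB, H20.lam_eRed hB, if_pos hθ] at heq
  by_contra hne
  rw [if_neg hne] at heq
  exact zero_ne_one heq

theorem list_block (hM : IsPModular p M) (hP : IsPGroup p P)
    (hG : P ⊔ Subgroup.centralizer (P : Set G) = ⊤) (hB : IsPBlock M B)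
    (hD : IsDefectGroup p M B P) {θ : IrrCharacter G} (hθ : θ ∈ B)
    (hθP : ∀ x ∈ P, (θ : G → ℂ) x = (θ : G → ℂ) 1) :
    (∀ φ : IrrCharacter P, ∃ χ ∈ B,
        ∀ g, (χ : G → ℂ) g = H21.secFun p P (φ : P → ℂ) (θ : G → ℂ) g) ∧
      ∀ χ ∈ B, ∃ φ : IrrCharacter P,
        ∀ g, (χ : G → ℂ) g = H21.secFun p P (φ : P → ℂ) (θ : G → ℂ) g := by
  classical
  haveI := Fintype.ofFinite P
  haveI := normal_of_sup hG
  have htr := translate_eq hθP
  have hvan : ∀ g, H20.pPart p g ∉ P → (θ : G → ℂ) g = 0 := fun g hg =>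
    pPart_notMem_vanish hM hG hB hD hθ hg
  let X : IrrCharacter P → B := fun φ =>
    ⟨⟨_, H21.isIrrCharacter_secFun hP hG φ θ htr hvan⟩, secFun_mem hM hB hθ φ fun _ => rfl⟩
  have hinj : Function.Injective X := by
    intro φ φ' h
    refine Subtype.ext (funext fun u => ?_)
    have h' := congrArg (fun χ : B => ((χ : IrrCharacter G) : G → ℂ) u) h
    change H21.secFun p P (φ : P → ℂ) (θ : G → ℂ) u = H21.secFun p P (φ' : P → ℂ) (θ : G → ℂ) u at h'
    have hval : ∀ f : P → ℂ, H21.secFun p P f (θ : G → ℂ) u = f u * (θ : G → ℂ) u := fun f => by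
      have h := H21.secFun_mul hP f (θ : G → ℂ) u (Commute.one_right _)
        (by rw [orderOf_one]; exact hp.out.not_dvd_one)
      rwa [mul_one] at h
    rw [hval, hval, hθP u u.2] at h'
    exact mul_right_cancel₀ (H12.irr_apply_one_ne_zero θ) h'
  have hbij : Function.Bijective X := by
    refine (Nat.bijective_iff_injective_and_card X).mpr ⟨hinj, ?_⟩
    rw [H12.card_irrCharacter, (H21.self_central_block hM hP hG hB hD).2.2]
  refine ⟨fun φ => ⟨(X φ : IrrCharacter G), (X φ).2, fun g => rfl⟩, fun χ hχ => ?_⟩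
  obtain ⟨φ, hφ⟩ := hbij.2 ⟨χ, hχ⟩
  exact ⟨φ, fun g => by rw [show χ = (X φ : IrrCharacter G) from congrArg Subtype.val hφ.symm]⟩

/-- a function of the form `secFun` is characterised by the two conditions of the section formula -/
theorem eq_secFun_iff (hP : IsPGroup p P) (hG : P ⊔ Subgroup.centralizer (P : Set G) = ⊤)
    (f : P → ℂ) {θ : IrrCharacter G} (hθP : ∀ x ∈ P, (θ : G → ℂ) x = (θ : G → ℂ) 1) (F : G → ℂ) :
    ((∀ (y : P) (x : G), ¬ p ∣ orderOf x → Commute (y : G) x → F ((y : G) * x) = f y * (θ : G → ℂ) x) ∧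
      (∀ z : G, (∀ y : G, IsPPart p z y → y ∉ P) → F z = 0)) ↔
    ∀ g, F g = H21.secFun p P f (θ : G → ℂ) g := by
  have htr := translate_eq hθP
  constructor
  · rintro ⟨h1, h2⟩ g
    by_cases hg : H20.pPart p g ∈ P
    · rw [H21.secFun, dif_pos hg]
      have h := h1 ⟨H20.pPart p g, hg⟩ (H20.qPart p g) (H20.not_dvd_orderOf_qPart g)
        (H20.commute_pPart_qPart g)
      rw [H20.pPart_mul_qPart] at h
      have h' := htr _ hg (H20.qPart p g)
      rw [H20.pPart_mul_qPart] at h'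
      rw [h, h']
    · rw [H21.secFun, dif_neg hg]
      exact h2 g fun y hy => by rw [H20.isPPart_iff.mp hy]; exact hg
  · intro h
    refine ⟨fun y x hx hc => ?_, fun z hz => ?_⟩
    · rw [h, H21.secFun_mul hP f (θ : G → ℂ) y hc hx, htr _ y.2]
    · rw [h, H21.secFun, dif_neg (hz _ (H20.isPPart_pPart z))]

end H19.SelfCentral
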