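import Mathlib

set_option autoImplicit false

/-!
A coprime representation with a nondegenerate invariant bilinear form is an orthogonal
sum of an alternating one and a symmetric one.
-/

namespace H19.SelfDual

variable {F : Type*} [Field F] {G : Type*} [Group G] {V : Type*} [AddCommGroup V] [Module F V]
variable (ρ : Representation F G V)

/-- Invariance of a submodule. -/
def Inv (W : Submodule F V) : Prop := ∀ g : G, ∀ w ∈ W, ρ g w ∈ W

/-- Left nondegeneracy of a form on a submodule. -/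
def Nondeg (B : LinearMap.BilinForm F V) (W : Submodule F V) : Prop :=
  ∀ x ∈ W, (∀ y ∈ W, B x y = 0) → x = 0

/-- Invariance of a form on a submodule. -/
def InvForm (B : LinearMap.BilinForm F V) (W : Submodule F V) : Prop :=
  ∀ g : G, ∀ x ∈ W, ∀ y ∈ W, B (ρ g x) (ρ g y) = B x y

/-- A minimal nonzero invariant submodule. -/
def Simple (X : Submodule F V) : Prop :=
  Inv ρ X ∧ X ≠ ⊥ ∧ ∀ K : Submodule F V, Inv ρ K → K ≤ X → K = ⊥ ∨ K = X

/-- The decomposition to be constructed inside `Z`. -/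
def Good (p : ℕ) (Z : Submodule F V) : Prop :=
  ∃ U W : Submodule F V, U ⊓ W = ⊥ ∧ U ⊔ W = Z ∧ Inv ρ U ∧ Inv ρ W ∧
    (∃ A : LinearMap.BilinForm F V, (∀ x, A x x = 0) ∧ InvForm ρ A U ∧ Nondeg A U) ∧
    (∃ S : LinearMap.BilinForm F V, (∀ x y, S x y = S y x) ∧ InvForm ρ S W ∧ Nondeg S W) ∧
    (p = 2 → ∀ g : G, ∀ w ∈ W, ρ g w = w)

variable {ρ}

theorem Inv.sup {U W : Submodule F V} (hU : Inv ρ U) (hW : Inv ρ W) : Inv ρ (U ⊔ W) := by
  intro g w hw
  obtain ⟨u, hu, v, hv, rfl⟩ := Submodule.mem_sup.mp hw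
  rw [map_add]
  exact Submodule.add_mem_sup (hU g u hu) (hW g v hv)

theorem Inv.inf {U W : Submodule F V} (hU : Inv ρ U) (hW : Inv ρ W) : Inv ρ (U ⊓ W) :=
  fun g w hw => ⟨hU g w hw.1, hW g w hw.2⟩

theorem apply_inv_apply (g : G) (v : V) : ρ g (ρ g⁻¹ v) = v := by
  rw [← Module.End.mul_apply, ← map_mul, mul_inv_cancel, map_one, Module.End.one_apply]

theorem inv_apply_apply (g : G) (v : V) : ρ g⁻¹ (ρ g v) = v := by
  rw [← Module.End.mul_apply, ← map_mul, inv_mul_cancel, map_one, Module.End.one_apply]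

/-- Maschke, relative to a subspace. -/
theorem exists_compl [Finite G] (hcard : (Nat.card G : F) ≠ 0) {L Z : Submodule F V} (hL : Inv ρ L)
    (hZ : Inv ρ Z) (hLZ : L ≤ Z) : ∃ C : Submodule F V, Inv ρ C ∧ C ⊓ L = ⊥ ∧ C ⊔ L = Z := by
  classical
  haveI := Fintype.ofFinite G
  obtain ⟨K, hK⟩ := Submodule.exists_isCompl L
  set π : V →ₗ[F] V := L.subtype ∘ₗ L.projectionOnto K hK with hπ
  have hπL : ∀ v, π v ∈ L := fun v => (L.projectionOnto K hK v).2
  have hπid : ∀ v ∈ L, π v = v := fun v hv => by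
    have := Submodule.projectionOnto_apply_left hK ⟨v, hv⟩
    exact congrArg Subtype.val this
  set T : V →ₗ[F] V := (Nat.card G : F)⁻¹ • ∑ g : G, ρ g ∘ₗ π ∘ₗ ρ g⁻¹ with hT
  have hTL : ∀ v, T v ∈ L := fun v => by
    simp only [hT, LinearMap.smul_apply, LinearMap.coe_sum, Finset.sum_apply, LinearMap.coe_comp,
      Function.comp_apply]
    exact L.smul_mem _ (L.sum_mem fun g _ => hL g _ (hπL _))
  have hTid : ∀ v ∈ L, T v = v := fun v hv => by
    simp only [hT, LinearMap.smul_apply, LinearMap.coe_sum, Finset.sum_apply, LinearMap.coe_comp,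
      Function.comp_apply]
    rw [Finset.sum_congr rfl (fun g _ => by rw [hπid _ (hL g⁻¹ v hv), apply_inv_apply]),
      Finset.sum_const, Finset.card_univ, ← Nat.card_eq_fintype_card, ← Nat.cast_smul_eq_nsmul F,
      smul_smul, inv_mul_cancel₀ hcard, one_smul]
  have hTeq : ∀ h v, T (ρ h v) = ρ h (T v) := fun h v => by
    simp only [hT, LinearMap.smul_apply, LinearMap.coe_sum, Finset.sum_apply, LinearMap.coe_comp,
      Function.comp_apply, map_smul, map_sum]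
    congr 1
    refine Fintype.sum_equiv (Equiv.mulLeft h⁻¹) _ _ (fun g => ?_)
    have hcomp : ∀ (x y : G) (w : V), ρ x (ρ y w) = ρ (x * y) w := fun x y w => by
      rw [map_mul, Module.End.mul_apply]
    rw [Equiv.coe_mulLeft, mul_inv_rev, inv_inv, hcomp, hcomp, mul_inv_cancel_left]
  refine ⟨Z ⊓ LinearMap.ker T, ?_, ?_, ?_⟩
  · intro g w hw
    exact ⟨hZ g w hw.1, by
      simp only [SetLike.mem_coe, LinearMap.mem_ker] at *
      rw [hTeq, hw.2, map_zero]⟩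
  · rw [eq_bot_iff]
    rintro w ⟨⟨_, hw⟩, hwL⟩
    rw [SetLike.mem_coe, LinearMap.mem_ker, hTid w hwL] at hw
    exact hw
  · refine le_antisymm (sup_le inf_le_left hLZ) (fun z hz => ?_)
    rw [← sub_add_cancel z (T z)]
    refine Submodule.add_mem_sup ⟨Z.sub_mem hz (hLZ (hTL z)), ?_⟩ (hTL z)
    rw [SetLike.mem_coe, LinearMap.mem_ker, map_sub, hTid _ (hTL z), sub_self]

section proj

variable (ρ)

/-- Projections adapted to two disjoint subspaces. -/
theorem exists_proj {Z₁ Z₂ : Submodule F V} (h : Z₁ ⊓ Z₂ = ⊥) :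
    ∃ π : V →ₗ[F] V, (∀ z ∈ Z₁, π z = z) ∧ (∀ z ∈ Z₂, π z = 0) := by
  obtain ⟨K, hK⟩ := Submodule.exists_isCompl (Z₁ ⊔ Z₂)
  have hc : IsCompl Z₁ (Z₂ ⊔ K) := by
    constructor
    · exact Disjoint.disjoint_sup_right_of_disjoint_sup_left (disjoint_iff.mpr h) hK.disjoint
    · rw [codisjoint_iff, ← sup_assoc]
      exact hK.sup_eq_top
  refine ⟨Z₁.subtype ∘ₗ Z₁.projectionOnto (Z₂ ⊔ K) hc, fun z hz => ?_, fun z hz => ?_⟩
  · exact congrArg Subtype.val (Submodule.projectionOnto_apply_left hc ⟨z, hz⟩)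
  · exact congrArg Subtype.val (Submodule.projectionOnto_apply_right hc
      ⟨z, Submodule.mem_sup_left hz⟩)

theorem good_bot (p : ℕ) : Good ρ p (⊥ : Submodule F V) :=
  ⟨⊥, ⊥, by simp, by simp, by intro g w hw; simp [(Submodule.mem_bot F).mp hw],
    by intro g w hw; simp [(Submodule.mem_bot F).mp hw],
    ⟨0, fun _ => rfl, fun _ _ _ _ _ => rfl, fun x hx _ => (Submodule.mem_bot F).mp hx⟩,
    ⟨0, fun _ _ => rfl, fun _ _ _ _ _ => rfl, fun x hx _ => (Submodule.mem_bot F).mp hx⟩,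
    fun _ g w hw => by simp [(Submodule.mem_bot F).mp hw]⟩

theorem merge_form {U₁ U₂ : Submodule F V} (hU₁ : Inv ρ U₁) (hU₂ : Inv ρ U₂) (π₁ π₂ : V →ₗ[F] V)
    (h11 : ∀ z ∈ U₁, π₁ z = z) (h12 : ∀ z ∈ U₂, π₁ z = 0) (h21 : ∀ z ∈ U₁, π₂ z = 0)
    (h22 : ∀ z ∈ U₂, π₂ z = z) {A₁ A₂ : LinearMap.BilinForm F V} (i₁ : InvForm ρ A₁ U₁)
    (i₂ : InvForm ρ A₂ U₂) (n₁ : Nondeg A₁ U₁) (n₂ : Nondeg A₂ U₂) :
    InvForm ρ (A₁.compl₁₂ π₁ π₁ + A₂.compl₁₂ π₂ π₂) (U₁ ⊔ U₂) ∧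
      Nondeg (A₁.compl₁₂ π₁ π₁ + A₂.compl₁₂ π₂ π₂) (U₁ ⊔ U₂) := by
  constructor
  · intro g x hx y hy
    obtain ⟨a, ha, b, hb, rfl⟩ := Submodule.mem_sup.mp hx
    obtain ⟨c, hc, d, hd, rfl⟩ := Submodule.mem_sup.mp hy
    simp [h11 _ (hU₁ g a ha), h21 _ (hU₁ g a ha), h12 _ (hU₂ g b hb), h22 _ (hU₂ g b hb),
      h11 _ (hU₁ g c hc), h21 _ (hU₁ g c hc), h12 _ (hU₂ g d hd), h22 _ (hU₂ g d hd),
      h11 _ ha, h21 _ ha, h12 _ hb, h22 _ hb, h11 _ hc, h21 _ hc, h12 _ hd, h22 _ hd,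
      i₁ g a ha c hc, i₂ g b hb d hd]
  · intro x hx h
    obtain ⟨a, ha, b, hb, rfl⟩ := Submodule.mem_sup.mp hx
    have ha0 : a = 0 := n₁ a ha fun c hc => by
      have := h c (Submodule.mem_sup_left hc)
      simpa [h11 _ ha, h21 _ ha, h12 _ hb, h22 _ hb, h11 _ hc, h21 _ hc] using this
    have hb0 : b = 0 := n₂ b hb fun c hc => by
      have := h c (Submodule.mem_sup_right hc)
      simpa [h11 _ ha, h21 _ ha, h12 _ hb, h22 _ hb, h12 _ hc, h22 _ hc] using this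
    rw [ha0, hb0, add_zero]

theorem good_merge {p : ℕ} {Z₁ Z₂ : Submodule F V} (h : Z₁ ⊓ Z₂ = ⊥) (g₁ : Good ρ p Z₁)
    (g₂ : Good ρ p Z₂) : Good ρ p (Z₁ ⊔ Z₂) := by
  obtain ⟨U₁, W₁, d₁, rfl, iU₁, iW₁, ⟨A₁, a₁, ai₁, an₁⟩, ⟨S₁, s₁, si₁, sn₁⟩, t₁⟩ := g₁
  obtain ⟨U₂, W₂, d₂, rfl, iU₂, iW₂, ⟨A₂, a₂, ai₂, an₂⟩, ⟨S₂, s₂, si₂, sn₂⟩, t₂⟩ := g₂
  obtain ⟨π₁, h11, h12⟩ := exists_proj h
  obtain ⟨π₂, h22, h21⟩ := exists_proj ((inf_comm _ _).trans h)
  refine ⟨U₁ ⊔ U₂, W₁ ⊔ W₂, ?_, ?_, iU₁.sup iU₂, iW₁.sup iW₂,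
    ⟨A₁.compl₁₂ π₁ π₁ + A₂.compl₁₂ π₂ π₂, fun x => by simp [a₁, a₂], ?_⟩,
    ⟨S₁.compl₁₂ π₁ π₁ + S₂.compl₁₂ π₂ π₂, fun x y => by simp [s₁ (π₁ x), s₂ (π₂ x)], ?_⟩, ?_⟩
  · rw [eq_bot_iff]
    rintro x ⟨hxU, hxW⟩
    obtain ⟨a, ha, b, hb, rfl⟩ := Submodule.mem_sup.mp hxU
    obtain ⟨c, hc, d, hd, he⟩ := Submodule.mem_sup.mp hxW
    have h1 : c = a := by
      have := congrArg π₁ he
      simpa [h11 _ (Submodule.mem_sup_left ha), h12 _ (Submodule.mem_sup_left hb),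
        h11 _ (Submodule.mem_sup_right hc), h12 _ (Submodule.mem_sup_right hd)] using this
    have h2 : d = b := by
      have := congrArg π₂ he
      simpa [h21 _ (Submodule.mem_sup_left ha), h22 _ (Submodule.mem_sup_left hb),
        h21 _ (Submodule.mem_sup_right hc), h22 _ (Submodule.mem_sup_right hd)] using this
    subst h1 h2
    have e1 : c = 0 := (Submodule.eq_bot_iff _).mp d₁ c ⟨ha, hc⟩
    have e2 : d = 0 := (Submodule.eq_bot_iff _).mp d₂ d ⟨hb, hd⟩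
    simp [e1, e2]
  · rw [sup_sup_sup_comm]
  · exact merge_form ρ iU₁ iU₂ π₁ π₂ (fun z hz => h11 z (Submodule.mem_sup_left hz))
      (fun z hz => h12 z (Submodule.mem_sup_left hz)) (fun z hz => h21 z (Submodule.mem_sup_left hz))
      (fun z hz => h22 z (Submodule.mem_sup_left hz)) ai₁ ai₂ an₁ an₂
  · exact merge_form ρ iW₁ iW₂ π₁ π₂ (fun z hz => h11 z (Submodule.mem_sup_right hz))
      (fun z hz => h12 z (Submodule.mem_sup_right hz)) (fun z hz => h21 z (Submodule.mem_sup_right hz))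
      (fun z hz => h22 z (Submodule.mem_sup_right hz)) si₁ si₂ sn₁ sn₂
  · intro hp g w hw
    obtain ⟨a, ha, b, hb, rfl⟩ := Submodule.mem_sup.mp hw
    rw [map_add, t₁ hp g a ha, t₂ hp g b hb]

end proj

/-- A simple subspace on which the form is nonzero. -/
theorem good_simple {p : ℕ} [CharP F p] {B : LinearMap.BilinForm F V} {X : Submodule F V} (hX : Simple ρ X)
    (hB : InvForm ρ B X) (hnd : Nondeg B X) : Good ρ p X := by
  obtain ⟨hXi, hX0, hXs⟩ := hX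
  have hbot : Inv ρ (⊥ : Submodule F V) := fun g w hw => by simp [(Submodule.mem_bot F).mp hw]
  have hzero : ∀ g : G, ∀ w ∈ (⊥ : Submodule F V), ρ g w = w := fun g w hw => by
    simp [(Submodule.mem_bot F).mp hw]
  have z0 : ∀ {C : LinearMap.BilinForm F V}, Nondeg C (⊥ : Submodule F V) :=
    fun x hx _ => (Submodule.mem_bot F).mp hx
  have mkU : ∀ A : LinearMap.BilinForm F V, (∀ x, A x x = 0) → InvForm ρ A X → Nondeg A X →
      Good ρ p X := fun A h1 h2 h3 =>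
    ⟨X, ⊥, by simp, by simp, hXi, hbot, ⟨A, h1, h2, h3⟩,
      ⟨0, fun _ _ => rfl, fun _ _ _ _ _ => rfl, z0⟩, fun _ => hzero⟩
  set A₀ : LinearMap.BilinForm F V := B - B.flip with hA₀
  have hA₀i : InvForm ρ A₀ X := fun g x hx y hy => by simp [hA₀, hB g x hx y hy, hB g y hy x hx]
  by_cases hsym : ∀ x ∈ X, ∀ y ∈ X, B x y = B y x
  swap
  · refine mkU A₀ (fun x => by simp [hA₀]) hA₀i ?_
    let K : Submodule F V :=
      { carrier := {x | x ∈ X ∧ ∀ y ∈ X, A₀ x y = 0}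
        zero_mem' := ⟨X.zero_mem, by simp⟩
        add_mem' := fun {a b} ha hb => ⟨X.add_mem ha.1 hb.1, fun y hy => by
          rw [map_add, LinearMap.add_apply, ha.2 y hy, hb.2 y hy, add_zero]⟩
        smul_mem' := fun c a ha => ⟨X.smul_mem c ha.1, fun y hy => by
          rw [map_smul, LinearMap.smul_apply, ha.2 y hy, smul_zero]⟩ }
    have hKi : Inv ρ K := fun g x hx => ⟨hXi g x hx.1, fun y hy => by
      rw [← apply_inv_apply (ρ := ρ) g y, hA₀i g x hx.1 _ (hXi g⁻¹ y hy)]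
      exact hx.2 _ (hXi g⁻¹ y hy)⟩
    rcases hXs K hKi (fun x hx => hx.1) with hK | hK
    · intro x hx h
      exact (Submodule.eq_bot_iff K).mp hK x ⟨hx, h⟩
    · exact absurd (fun x hx y hy => sub_eq_zero.mp (by
        have hxK : x ∈ K := hK ▸ hx
        simpa [hA₀] using hxK.2 y hy)) hsym
  obtain ⟨π, hπ, -⟩ := exists_proj (Z₁ := X) (Z₂ := ⊥) (by simp)
  obtain ⟨K, hK⟩ := Submodule.exists_isCompl X
  set P : V →ₗ[F] V := X.subtype ∘ₗ X.projectionOnto K hK with hP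
  have hPX : ∀ v, P v ∈ X := fun v => (X.projectionOnto K hK v).2
  have hPid : ∀ v ∈ X, P v = v := fun v hv =>
    congrArg Subtype.val (Submodule.projectionOnto_apply_left hK ⟨v, hv⟩)
  have hBP : InvForm ρ (B.compl₁₂ P P) X ∧ Nondeg (B.compl₁₂ P P) X := by
    refine ⟨fun g x hx y hy => ?_, fun x hx h => hnd x hx fun y hy => ?_⟩
    · simp [hPid _ hx, hPid _ hy, hPid _ (hXi g x hx), hPid _ (hXi g y hy), hB g x hx y hy]
    · simpa [hPid _ hx, hPid _ hy] using h y hy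
  by_cases halt : ∀ x ∈ X, B x x = 0
  · exact mkU _ (fun x => by simpa using halt _ (hPX x)) hBP.1 hBP.2
  refine ⟨⊥, X, by simp, by simp, hbot, hXi, ⟨0, fun _ => rfl, fun _ _ _ _ _ => rfl, z0⟩,
    ⟨B.compl₁₂ P P, fun x y => by simpa using hsym _ (hPX x) _ (hPX y), hBP.1, hBP.2⟩, ?_⟩
  intro hp
  subst hp
  let K : Submodule F V :=
    { carrier := {x | x ∈ X ∧ B x x = 0}
      zero_mem' := ⟨X.zero_mem, by simp⟩
      add_mem' := fun {a b} ha hb => ⟨X.add_mem ha.1 hb.1, by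
        simp only [map_add, LinearMap.add_apply, ha.2, hb.2, zero_add, add_zero, hsym b hb.1 a ha.1]
        exact CharTwo.add_self_eq_zero _⟩
      smul_mem' := fun c a ha => ⟨X.smul_mem c ha.1, by simp [ha.2]⟩ }
  have hKi : Inv ρ K := fun g x hx => ⟨hXi g x hx.1, by rw [hB g x hx.1 x hx.1]; exact hx.2⟩
  rcases hXs K hKi (fun x hx => hx.1) with hKb | hKt
  · intro g x hx
    refine sub_eq_zero.mp ((Submodule.eq_bot_iff K).mp hKb _ ⟨X.sub_mem (hXi g x hx) hx, ?_⟩)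
    simp only [map_sub, LinearMap.sub_apply, hB g x hx x hx, hsym (ρ g x) (hXi g x hx) x hx,
      CharTwo.sub_eq_add]
    rw [add_comm (B x x) (B x (ρ g x)), add_comm (B x (ρ g x)) (B x x)]
    exact CharTwo.add_self_eq_zero _
  · exact absurd (fun x hx => ((hKt ▸ hx : x ∈ K)).2) halt

/-- Orthogonal splitting off a nondegenerate subspace. -/
theorem exists_orth [FiniteDimensional F V] {B : LinearMap.BilinForm F V} {Y Z : Submodule F V}
    (hY : Inv ρ Y) (hZ : Inv ρ Z) (hYZ : Y ≤ Z) (hB : InvForm ρ B Z) (hndY : Nondeg B Y)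
    (hndZ : Nondeg B Z) :
    ∃ Z' : Submodule F V, Inv ρ Z' ∧ Y ⊓ Z' = ⊥ ∧ Y ⊔ Z' = Z ∧ InvForm ρ B Z' ∧ Nondeg B Z' := by
  let Z' : Submodule F V := Z ⊓
    { carrier := {z | ∀ y ∈ Y, B y z = 0}
      zero_mem' := by simp
      add_mem' := fun {a b} ha hb y hy => by rw [map_add, ha y hy, hb y hy, add_zero]
      smul_mem' := fun c a ha y hy => by rw [map_smul, ha y hy, smul_zero] }
  let BY : LinearMap.BilinForm F Y := B.compl₁₂ Y.subtype Y.subtype
  have hsep : BY.Nondegenerate := by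
    rw [LinearMap.BilinForm.nondegenerate_iff_ker_eq_bot, LinearMap.ker_eq_bot']
    intro x hx
    exact Subtype.ext (hndY x x.2 fun y hy => LinearMap.congr_fun hx ⟨y, hy⟩)
  have hrep : ∀ f : Module.Dual F Y, ∃ y : Y, ∀ x : Y, B x y = f x := fun f =>
    ⟨((BY.flip).toDual (LinearMap.BilinForm.nondegenerate_flip_iff.mpr hsep)).symm f, fun x =>
      LinearMap.BilinForm.apply_toDual_symm_apply (B := BY.flip) (hB :=
        LinearMap.BilinForm.nondegenerate_flip_iff.mpr hsep) f x⟩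
  have hrepl : ∀ f : Module.Dual F Y, ∃ y : Y, ∀ x : Y, B y x = f x := fun f =>
    ⟨(BY.toDual hsep).symm f, fun x =>
      LinearMap.BilinForm.apply_toDual_symm_apply (B := BY) (hB := hsep) f x⟩
  refine ⟨Z', ?_, ?_, ?_, fun g x hx y hy => hB g x hx.1 y hy.1, ?_⟩
  · intro g z hz
    refine ⟨hZ g z hz.1, fun y hy => ?_⟩
    rw [← apply_inv_apply (ρ := ρ) g y, hB g _ (hYZ (hY g⁻¹ y hy)) z hz.1]
    exact hz.2 _ (hY g⁻¹ y hy)
  · rw [eq_bot_iff]
    rintro z ⟨hzY, -, hz⟩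
    have := hsep.2 ⟨z, hzY⟩ fun x => hz x x.2
    exact congrArg Subtype.val this
  · refine le_antisymm (sup_le hYZ inf_le_left) fun z hz => ?_
    obtain ⟨y, hy⟩ := hrep ((B.flip z).comp Y.subtype)
    rw [← add_sub_cancel (y : V) z]
    refine Submodule.add_mem_sup y.2 ⟨Z.sub_mem hz (hYZ y.2), fun x hx => ?_⟩
    have := hy ⟨x, hx⟩
    simp only [LinearMap.coe_comp, Function.comp_apply, Submodule.subtype_apply, LinearMap.BilinForm.flip_apply,
      LinearMap.flip_apply] at this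
    rw [map_sub, this, sub_self]
  · intro z hz h
    obtain ⟨y, hy⟩ := hrepl (-((B z).comp Y.subtype))
    have h0 : z + (y : V) = 0 := by
      refine hndZ _ (Z.add_mem hz.1 (hYZ y.2)) fun v hv => ?_
      have hY' : ∀ a ∈ Y, B (z + (y : V)) a = 0 := fun a ha => by
        have := hy ⟨a, ha⟩
        simp only [LinearMap.neg_apply, LinearMap.coe_comp, Function.comp_apply,
          Submodule.subtype_apply] at this
        rw [map_add, LinearMap.add_apply, this, add_neg_cancel]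
      obtain ⟨w, hw⟩ := hrep ((B.flip v).comp Y.subtype)
      have hw' : v - (w : V) ∈ Z' := ⟨Z.sub_mem hv (hYZ w.2), fun x hx => by
        have := hw ⟨x, hx⟩
        simp only [LinearMap.coe_comp, Function.comp_apply, Submodule.subtype_apply,
          LinearMap.BilinForm.flip_apply, LinearMap.flip_apply] at this
        rw [map_sub, this, sub_self]⟩
      rw [← add_sub_cancel (w : V) v, map_add, hY' _ w.2, zero_add, map_add, LinearMap.add_apply,
        h _ hw', hw'.2 _ y.2, add_zero]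
    have hzY : z ∈ Y := by rw [eq_neg_of_add_eq_zero_left h0]; exact Y.neg_mem y.2
    have := hsep.2 ⟨z, hzY⟩ fun x => hz.2 x x.2
    exact congrArg Subtype.val this

/-- An invariant partner for an isotropic simple subspace. -/
theorem exists_partner [Finite G] [FiniteDimensional F V] (hcard : (Nat.card G : F) ≠ 0)
    {B : LinearMap.BilinForm F V} {X Z : Submodule F V} (hX : Simple ρ X) (hZ : Inv ρ Z) (hXZ : X ≤ Z)
    (hB : InvForm ρ B Z) (hndZ : Nondeg B Z) (hiso : ∀ x ∈ X, ∀ y ∈ X, B x y = 0) :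
    ∃ M : Submodule F V, Inv ρ M ∧ M ≤ Z ∧ (∀ m ∈ M, (∀ x ∈ X, B m x = 0) → m = 0) ∧
      ∃ x ∈ X, ∃ m ∈ M, B x m ≠ 0 := by
  obtain ⟨hXi, hX0, hXs⟩ := hX
  let L : Submodule F V := Z ⊓
    { carrier := {z | ∀ x ∈ X, B x z = 0}
      zero_mem' := by simp
      add_mem' := fun {a b} ha hb y hy => by rw [map_add, ha y hy, hb y hy, add_zero]
      smul_mem' := fun c a ha y hy => by rw [map_smul, ha y hy, smul_zero] }
  let R : Submodule F V := Z ⊓
    { carrier := {z | ∀ x ∈ X, B z x = 0}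
      zero_mem' := by simp
      add_mem' := fun {a b} ha hb y hy => by
        rw [map_add, LinearMap.add_apply, ha y hy, hb y hy, add_zero]
      smul_mem' := fun c a ha y hy => by rw [map_smul, LinearMap.smul_apply, ha y hy, smul_zero] }
  have hLi : Inv ρ L := fun g z hz => ⟨hZ g z hz.1, fun x hx => by
    rw [← apply_inv_apply (ρ := ρ) g x, hB g _ (hXZ (hXi g⁻¹ x hx)) z hz.1]
    exact hz.2 _ (hXi g⁻¹ x hx)⟩
  have hRi : Inv ρ R := fun g z hz => ⟨hZ g z hz.1, fun x hx => by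
    rw [← apply_inv_apply (ρ := ρ) g x, hB g z hz.1 _ (hXZ (hXi g⁻¹ x hx))]
    exact hz.2 _ (hXi g⁻¹ x hx)⟩
  obtain ⟨C, hCi, hCL, hCLZ⟩ := exists_compl hcard hLi hZ inf_le_left
  obtain ⟨M, hMi, hMR, hMRZ⟩ := exists_compl hcard hRi hZ inf_le_left
  have hCZ : C ≤ Z := hCLZ ▸ le_sup_left
  have hMZ : M ≤ Z := hMRZ ▸ le_sup_left
  have hCnd : ∀ m ∈ C, (∀ x ∈ X, B x m = 0) → m = 0 := fun m hm h =>
    (Submodule.eq_bot_iff _).mp hCL m ⟨hm, hCZ hm, h⟩
  have hMnd : ∀ m ∈ M, (∀ x ∈ X, B m x = 0) → m = 0 := fun m hm h =>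
    (Submodule.eq_bot_iff _).mp hMR m ⟨hm, hMZ hm, h⟩
  by_cases hML : ∃ x ∈ X, ∃ m ∈ M, B x m ≠ 0
  · exact ⟨M, hMi, hMZ, hMnd, hML⟩
  push Not at hML
  have hCne : C ≠ ⊥ := by
    rintro rfl
    rw [bot_sup_eq] at hCLZ
    obtain ⟨x, hx, hx0⟩ := (Submodule.ne_bot_iff X).mp hX0
    refine hx0 (hndZ x (hXZ hx) fun z hz => ?_)
    have hz' : z ∈ L := hCLZ ▸ hz
    exact hz'.2 x hx
  have hCne' : ∃ x ∈ X, ∃ m ∈ C, B x m ≠ 0 := by
    obtain ⟨m, hm, hm0⟩ := (Submodule.ne_bot_iff C).mp hCne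
    by_contra h
    push Not at h
    exact hm0 (hCnd m hm fun x hx => h x hx m hm)
  by_cases hCR : C ⊓ R = ⊥
  · exact ⟨C, hCi, hCZ, fun m hm h => (Submodule.eq_bot_iff _).mp hCR m ⟨hm, hCZ hm, h⟩, hCne'⟩
  let φ : ↥(C ⊓ R) →ₗ[F] Module.Dual F X :=
    LinearMap.mk₂ F (fun (c : ↥(C ⊓ R)) (x : X) => B x c) (fun a b x => by simp) (fun c a x => by simp)
      (fun a x y => by simp) (fun c a x => by simp)
  let ψ : ↥M →ₗ[F] Module.Dual F X :=
    LinearMap.mk₂ F (fun (c : ↥M) (x : X) => B c x) (fun a b x => by simp) (fun c a x => by simp)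
      (fun a x y => by simp) (fun c a x => by simp)
  have hφinj : Function.Injective φ := by
    rw [← LinearMap.ker_eq_bot, LinearMap.ker_eq_bot']
    intro c hc
    exact Subtype.ext (hCnd c c.2.1 fun x hx => LinearMap.congr_fun hc ⟨x, hx⟩)
  have hφsurj : Function.Surjective φ := by
    let A : Submodule F V :=
      { carrier := {x | x ∈ X ∧ ∀ c ∈ C ⊓ R, B x c = 0}
        zero_mem' := ⟨X.zero_mem, by simp⟩
        add_mem' := fun {a b} ha hb => ⟨X.add_mem ha.1 hb.1, fun y hy => by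
          rw [map_add, LinearMap.add_apply, ha.2 y hy, hb.2 y hy, add_zero]⟩
        smul_mem' := fun c a ha => ⟨X.smul_mem c ha.1, fun y hy => by
          rw [map_smul, LinearMap.smul_apply, ha.2 y hy, smul_zero]⟩ }
    have hCRi : Inv ρ (C ⊓ R) := hCi.inf hRi
    have hAi : Inv ρ A := fun g x hx => ⟨hXi g x hx.1, fun c hc => by
      rw [← apply_inv_apply (ρ := ρ) g c, hB g x (hXZ hx.1) _ (hCRi g⁻¹ c hc).2.1]
      exact hx.2 _ (hCRi g⁻¹ c hc)⟩
    have hA : A = ⊥ := by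
      rcases hXs A hAi (fun x hx => hx.1) with h | h
      · exact h
      · obtain ⟨c, hc, hc0⟩ := (Submodule.ne_bot_iff _).mp hCR
        exact absurd (hCnd c hc.1 fun x hx => ((h ▸ hx : x ∈ A)).2 c hc) hc0
    have hflip : Function.Injective φ.flip := by
      rw [← LinearMap.ker_eq_bot, LinearMap.ker_eq_bot']
      intro x hx
      exact Subtype.ext ((Submodule.eq_bot_iff A).mp hA x
        ⟨x.2, fun c hc => LinearMap.congr_fun hx ⟨c, hc⟩⟩)
    have h1 := LinearMap.finrank_le_finrank_of_injective hflip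
    have h2 := LinearMap.finrank_le_finrank_of_injective hφinj
    rw [Subspace.dual_finrank_eq] at h1 h2
    exact (LinearMap.injective_iff_surjective_of_finrank_eq_finrank
      (by rw [Subspace.dual_finrank_eq]; omega)).mp hφinj
  let e : ↥(C ⊓ R) ≃ₗ[F] Module.Dual F X := LinearEquiv.ofBijective φ ⟨hφinj, hφsurj⟩
  let h : ↥M →ₗ[F] V := (C ⊓ R).subtype ∘ₗ e.symm.toLinearMap ∘ₗ ψ
  have hh : ∀ m : M, h m ∈ C ⊓ R := fun m => (e.symm (ψ m)).2
  have hhB : ∀ (m : M) (x : V), x ∈ X → B x (h m) = B m x := fun m x hx => by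
    have := LinearMap.congr_fun (e.apply_symm_apply (ψ m)) ⟨x, hx⟩
    exact this
  have hCRi : Inv ρ (C ⊓ R) := hCi.inf hRi
  have heq : ∀ (g : G) (m : M), ρ g (h m) = h ⟨ρ g m, hMi g m m.2⟩ := fun g m => by
    have hd : ρ g (h m) - h ⟨ρ g m, hMi g m m.2⟩ ∈ C ⊓ R :=
      (C ⊓ R).sub_mem (hCRi g _ (hh m)) (hh _)
    refine sub_eq_zero.mp (hCnd _ hd.1 fun x hx => ?_)
    rw [map_sub, hhB _ x hx, sub_eq_zero]
    conv_lhs => rw [← apply_inv_apply (ρ := ρ) g x]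
    rw [hB g _ (hXZ (hXi g⁻¹ x hx)) _ (hh m).2.1, hhB m _ (hXi g⁻¹ x hx)]
    conv_rhs => rw [← apply_inv_apply (ρ := ρ) g x]
    exact (hB g m (hMZ m.2) _ (hXZ (hXi g⁻¹ x hx))).symm
  refine ⟨LinearMap.range (M.subtype + h), ?_, ?_, ?_, ?_⟩
  · rintro g _ ⟨m, rfl⟩
    exact ⟨⟨ρ g m, hMi g m m.2⟩, by simp [heq]⟩
  · rintro _ ⟨m, rfl⟩
    exact Z.add_mem (hMZ m.2) (hh m).2.1
  · rintro _ ⟨m, rfl⟩ hm
    have hm0 : (m : V) = 0 := hMnd m m.2 fun x hx => by
      have := hm x hx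
      rw [LinearMap.add_apply, map_add, LinearMap.add_apply, (hh m).2.2 x hx, add_zero] at this
      simpa using this
    have : m = 0 := Subtype.ext hm0
    simp [this]
  · obtain ⟨x, hx, hx0⟩ := (Submodule.ne_bot_iff X).mp hX0
    have : ∃ m : M, ∃ y ∈ X, B m y ≠ 0 := by
      have hMne : M ≠ ⊥ := by
        rintro rfl
        rw [bot_sup_eq] at hMRZ
        let T : Submodule F V :=
          { carrier := {y | y ∈ X ∧ ∀ z ∈ Z, B z y = 0}
            zero_mem' := ⟨X.zero_mem, by simp⟩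
            add_mem' := fun {a b} ha hb => ⟨X.add_mem ha.1 hb.1, fun y hy => by
              rw [map_add, ha.2 y hy, hb.2 y hy, add_zero]⟩
            smul_mem' := fun c a ha => ⟨X.smul_mem c ha.1, fun y hy => by
              rw [map_smul, ha.2 y hy, smul_zero]⟩ }
        let BZ : LinearMap.BilinForm F Z := B.compl₁₂ Z.subtype Z.subtype
        have hsep : BZ.Nondegenerate := by
          rw [LinearMap.BilinForm.nondegenerate_iff_ker_eq_bot, LinearMap.ker_eq_bot']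
          intro z hz
          exact Subtype.ext (hndZ z z.2 fun y hy => LinearMap.congr_fun hz ⟨y, hy⟩)
        exact hx0 (congrArg Subtype.val (hsep.2 ⟨x, hXZ hx⟩ fun z => by
          have hz : (z : V) ∈ R := by rw [hMRZ]; exact z.2
          exact hz.2 x hx))
      obtain ⟨m, hm, hm0⟩ := (Submodule.ne_bot_iff M).mp hMne
      by_contra hcon
      push Not at hcon
      exact hm0 (hMnd m hm fun y hy => hcon ⟨m, hm⟩ y hy)
    obtain ⟨m, y, hy, hmy⟩ := this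
    refine ⟨y, hy, _, ⟨m, rfl⟩, ?_⟩
    rw [LinearMap.add_apply, map_add, Submodule.subtype_apply, hML y hy m m.2, zero_add, hhB m y hy]
    exact hmy

/-- Main decomposition. -/
theorem good_all [Finite G] [FiniteDimensional F V] {p : ℕ} [CharP F p] (hcard : (Nat.card G : F) ≠ 0)
    {B : LinearMap.BilinForm F V} (Z : Submodule F V) (hZ : Inv ρ Z) (hB : InvForm ρ B Z)
    (hnd : Nondeg B Z) : Good ρ p Z := by
  induction Z using WellFoundedLT.induction with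
  | ind Z ih =>
  by_cases hZ0 : Z = ⊥
  · exact hZ0 ▸ good_bot ρ p
  obtain ⟨X, ⟨hXi, hX0, hXZ⟩, hXmin⟩ :=
    wellFounded_lt.has_min {K : Submodule F V | Inv ρ K ∧ K ≠ ⊥ ∧ K ≤ Z} ⟨Z, hZ, hZ0, le_rfl⟩
  have hXs : Simple ρ X := ⟨hXi, hX0, fun K hKi hKX => by
    rcases eq_or_ne K ⊥ with h | h
    · exact Or.inl h
    · exact Or.inr ((eq_or_lt_of_le hKX).resolve_right fun hlt => hXmin K ⟨hKi, h, hKX.trans hXZ⟩ hlt)⟩
  have finish : ∀ Y : Submodule F V, Inv ρ Y → Y ≤ Z → Y ≠ ⊥ → Nondeg B Y → Good ρ p Y →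
      Good ρ p Z := by
    intro Y hYi hYZ hY0 hYn hYg
    obtain ⟨Z', hZ'i, hd, hs, hB', hn'⟩ := exists_orth hYi hZ hYZ hB hYn hnd
    rw [← hs]
    refine good_merge ρ hd hYg (ih Z' ?_ hZ'i hB' hn')
    refine lt_of_le_of_ne (hs ▸ le_sup_right) fun he => hY0 ?_
    rw [he] at hd
    rwa [inf_eq_left.mpr hYZ] at hd
  by_cases hiso : ∀ x ∈ X, ∀ y ∈ X, B x y = 0
  swap
  · have hXn : Nondeg B X := by
      let K : Submodule F V :=
        { carrier := {x | x ∈ X ∧ ∀ y ∈ X, B x y = 0}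
          zero_mem' := ⟨X.zero_mem, by simp⟩
          add_mem' := fun {a b} ha hb => ⟨X.add_mem ha.1 hb.1, fun y hy => by
            rw [map_add, LinearMap.add_apply, ha.2 y hy, hb.2 y hy, add_zero]⟩
          smul_mem' := fun c a ha => ⟨X.smul_mem c ha.1, fun y hy => by
            rw [map_smul, LinearMap.smul_apply, ha.2 y hy, smul_zero]⟩ }
      have hKi : Inv ρ K := fun g x hx => ⟨hXi g x hx.1, fun y hy => by
        rw [← apply_inv_apply (ρ := ρ) g y, hB g x (hXZ hx.1) _ (hXZ (hXi g⁻¹ y hy))]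
        exact hx.2 _ (hXi g⁻¹ y hy)⟩
      rcases hXs.2.2 K hKi (fun x hx => hx.1) with h | h
      · exact fun x hx hh => (Submodule.eq_bot_iff K).mp h x ⟨hx, hh⟩
      · exact absurd (fun x hx => ((h ▸ hx : x ∈ K)).2) hiso
    exact finish X hXi hXZ hX0 hXn
      (good_simple hXs (fun g x hx y hy => hB g x (hXZ hx) y (hXZ hy)) hXn)
  obtain ⟨M, hMi, hMZ, hMnd, x₀, hx₀, m₀, hm₀, hne⟩ := exists_partner hcard hXs hZ hXZ hB hnd hiso
  have hXM : X ⊓ M = ⊥ := (Submodule.eq_bot_iff _).mpr fun v hv => hMnd v hv.2 (hiso v hv.1)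
  have hMX' : ∀ x ∈ X, (∀ m ∈ M, B x m = 0) → x = 0 := by
    let K : Submodule F V :=
      { carrier := {x | x ∈ X ∧ ∀ y ∈ M, B x y = 0}
        zero_mem' := ⟨X.zero_mem, by simp⟩
        add_mem' := fun {a b} ha hb => ⟨X.add_mem ha.1 hb.1, fun y hy => by
          rw [map_add, LinearMap.add_apply, ha.2 y hy, hb.2 y hy, add_zero]⟩
        smul_mem' := fun c a ha => ⟨X.smul_mem c ha.1, fun y hy => by
          rw [map_smul, LinearMap.smul_apply, ha.2 y hy, smul_zero]⟩ }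
    have hKi : Inv ρ K := fun g x hx => ⟨hXi g x hx.1, fun y hy => by
      rw [← apply_inv_apply (ρ := ρ) g y, hB g x (hXZ hx.1) _ (hMZ (hMi g⁻¹ y hy))]
      exact hx.2 _ (hMi g⁻¹ y hy)⟩
    rcases hXs.2.2 K hKi (fun x hx => hx.1) with h | h
    · exact fun x hx hh => (Submodule.eq_bot_iff K).mp h x ⟨hx, hh⟩
    · exact absurd (((h ▸ hx₀ : x₀ ∈ K)).2 m₀ hm₀) hne
  have hMX : ∀ x ∈ X, (∀ m ∈ M, B m x = 0) → x = 0 := by
    let K : Submodule F V :=
      { carrier := {x | x ∈ X ∧ ∀ y ∈ M, B y x = 0}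
        zero_mem' := ⟨X.zero_mem, by simp⟩
        add_mem' := fun {a b} ha hb => ⟨X.add_mem ha.1 hb.1, fun y hy => by
          rw [map_add, ha.2 y hy, hb.2 y hy, add_zero]⟩
        smul_mem' := fun c a ha => ⟨X.smul_mem c ha.1, fun y hy => by
          rw [map_smul, ha.2 y hy, smul_zero]⟩ }
    have hKi : Inv ρ K := fun g x hx => ⟨hXi g x hx.1, fun y hy => by
      rw [← apply_inv_apply (ρ := ρ) g y, hB g _ (hMZ (hMi g⁻¹ y hy)) x (hXZ hx.1)]
      exact hx.2 _ (hMi g⁻¹ y hy)⟩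
    rcases hXs.2.2 K hKi (fun x hx => hx.1) with h | h
    · exact fun x hx hh => (Submodule.eq_bot_iff K).mp h x ⟨hx, hh⟩
    · refine absurd ?_ hne
      rw [hMnd m₀ hm₀ fun x hx => ((h ▸ hx : x ∈ K)).2 m₀ hm₀, map_zero]
  obtain ⟨π₁, h11, h12⟩ := exists_proj hXM
  obtain ⟨π₂, h22, h21⟩ := exists_proj ((inf_comm _ _).trans hXM)
  refine finish (X ⊔ M) (hXi.sup hMi) (sup_le hXZ hMZ)
    (fun h => hX0 (eq_bot_iff.mpr (h ▸ le_sup_left))) ?_ ?_
  · intro v hv hv0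
    obtain ⟨x, hx, m, hm, rfl⟩ := Submodule.mem_sup.mp hv
    have hm' : m = 0 := hMnd m hm fun y hy => by
      have := hv0 y (Submodule.mem_sup_left hy)
      rwa [map_add, LinearMap.add_apply, hiso x hx y hy, zero_add] at this
    subst hm'
    rw [add_zero] at hv0 ⊢
    exact hMX' x hx fun y hy => hv0 y (Submodule.mem_sup_right hy)
  refine ⟨X ⊔ M, ⊥, by simp, by simp, hXi.sup hMi,
    fun g w hw => by simp [(Submodule.mem_bot F).mp hw],
    ⟨(B.compl₁₂ π₂ π₁) - (B.compl₁₂ π₂ π₁).flip, fun v => by simp, ?_, ?_⟩,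
    ⟨0, fun _ _ => rfl, fun _ _ _ _ _ => rfl, fun x hx _ => (Submodule.mem_bot F).mp hx⟩,
    fun _ g w hw => by simp [(Submodule.mem_bot F).mp hw]⟩
  · intro g v hv w hw
    obtain ⟨a, ha, b, hb, rfl⟩ := Submodule.mem_sup.mp hv
    obtain ⟨c, hc, d, hd, rfl⟩ := Submodule.mem_sup.mp hw
    simp [h11 _ (hXi g a ha), h21 _ (hXi g a ha), h12 _ (hMi g b hb), h22 _ (hMi g b hb),
      h11 _ (hXi g c hc), h21 _ (hXi g c hc), h12 _ (hMi g d hd), h22 _ (hMi g d hd),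
      h11 _ ha, h21 _ ha, h12 _ hb, h22 _ hb, h11 _ hc, h21 _ hc, h12 _ hd, h22 _ hd,
      hB g b (hMZ hb) c (hXZ hc), hB g d (hMZ hd) a (hXZ ha)]
  · intro v hv hv0
    obtain ⟨x, hx, m, hm, rfl⟩ := Submodule.mem_sup.mp hv
    have hm' : m = 0 := hMnd m hm fun y hy => by
      have := hv0 y (Submodule.mem_sup_left hy)
      simpa [h11 _ hx, h21 _ hx, h12 _ hm, h22 _ hm, h11 _ hy, h21 _ hy] using this
    have hx' : x = 0 := hMX x hx fun y hy => by
      have := hv0 y (Submodule.mem_sup_right hy)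
      simpa [h11 _ hx, h21 _ hx, h12 _ hm, h22 _ hm, h12 _ hy, h22 _ hy] using this
    rw [hx', hm', add_zero]

end H19.SelfDual
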