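import Cfsg.Agent.H19.AbelianNormal
import Cfsg.Agent.H19.CommPairs

set_option autoImplicit false

/-!
Characters and centralisers in a split extension.
-/

open Cfsg
open scoped ComplexConjugate

namespace H19

variable {X : Type*} [Group X] [Finite X] (V : Subgroup X) [V.Normal] (G : Subgroup X)

/-- Coordinates in a split extension. -/
noncomputable def splitEquiv (hGV : Subgroup.IsComplement' V G) : V × G ≃ X := Equiv.ofBijective (fun p => (p.1 : X) * p.2) hGV

theorem splitEquiv_apply (hGV : Subgroup.IsComplement' V G) (v : V) (g : G) : splitEquiv V G hGV (v, g) = (v : X) * g := rfl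

/-- Projection onto the complement. -/
noncomputable def splitProj (hGV : Subgroup.IsComplement' V G) : X →* G :=
  MonoidHom.mk' (fun x => ((splitEquiv V G hGV).symm x).2) fun x y => by
    obtain ⟨⟨v, g⟩, rfl⟩ := (splitEquiv V G hGV).surjective x
    obtain ⟨⟨w, h⟩, rfl⟩ := (splitEquiv V G hGV).surjective y
    have : splitEquiv V G hGV (v, g) * splitEquiv V G hGV (w, h) =
        splitEquiv V G hGV (v * (MulAut.conjNormal (g : X) : MulAut V) w, g * h) := by
      simp only [splitEquiv_apply, Subgroup.coe_mul, MulAut.conjNormal_apply]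
      group
    simp only [this, Equiv.symm_apply_apply]

theorem splitProj_apply (hGV : Subgroup.IsComplement' V G) (v : V) (g : G) : splitProj V G hGV ((v : X) * g) = g := by
  show ((splitEquiv V G hGV).symm (splitEquiv V G hGV (v, g))).2 = g
  rw [Equiv.symm_apply_apply]

theorem splitProj_surjective (hGV : Subgroup.IsComplement' V G) : Function.Surjective (splitProj V G hGV) := fun g =>
  ⟨g, by simpa using splitProj_apply V G hGV 1 g⟩

variable [Fintype X] [Fintype G]

/-- Irreducible characters trivial on `V`. -/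
theorem card_trivial_irr (hGV : Subgroup.IsComplement' V G) :
    Nat.card {χ : IrrCharacter X // ∀ a ∈ V, (χ : X → ℂ) a = (χ : X → ℂ) 1} = Nat.card (ConjClasses G) := by
  classical
  rw [← H12.card_irrCharacter]
  symm
  refine Nat.card_eq_of_bijective (fun ψ => ⟨⟨(ψ : G → ℂ) ∘ splitProj V G hGV,
    H12.IsIrrCharacter.comp_surjective ψ.2 (splitProj_surjective V G hGV)⟩, fun a ha => ?_⟩) ⟨?_, ?_⟩
  · show (ψ : G → ℂ) (splitProj V G hGV a) = (ψ : G → ℂ) (splitProj V G hGV 1)
    have := splitProj_apply V G hGV ⟨a, ha⟩ 1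
    simp only [Subgroup.coe_one, mul_one] at this
    rw [this, map_one]
  · intro ψ φ h
    apply Subtype.ext
    funext g
    have h' := congrFun (congrArg Subtype.val (congrArg Subtype.val h)) g
    obtain ⟨x, hx⟩ := splitProj_surjective V G hGV g
    have h'' := congrFun (congrArg Subtype.val (congrArg Subtype.val h)) x
    simpa [hx] using h''
  · rintro ⟨χ, hχ⟩
    have hval : ∀ (v : V) (g : G), (χ : X → ℂ) ((v : X) * g) = (χ : X → ℂ) g := fun v g =>
      apply_mul_of_trivial (H12.isCharacter_irr χ) (hχ v v.2) g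
    have hsum : classInner (χ : X → ℂ) χ =
        classInner (fun g : G => (χ : X → ℂ) g) (fun g : G => (χ : X → ℂ) g) := by
      unfold classInner
      haveI := Fintype.ofFinite V
      rw [← Equiv.sum_comp (splitEquiv V G hGV), Fintype.sum_prod_type]
      simp only [splitEquiv_apply, hval]
      rw [Finset.sum_const, Finset.card_univ, nsmul_eq_mul, ← Nat.card_eq_fintype_card, ← mul_assoc]
      congr 1
      rw [← Nat.card_congr (splitEquiv V G hGV), Nat.card_prod, Nat.cast_mul, mul_inv_rev, mul_assoc,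
        inv_mul_cancel₀ H12.card_ne_zero', mul_one]
    rw [H12.classInner_irr_self] at hsum
    refine ⟨⟨fun g : G => (χ : X → ℂ) g, H12.isIrrCharacter_of_classInner_self_eq_one
      (H12.IsCharacter.res (H12.isCharacter_irr χ) G) hsum.symm⟩, ?_⟩
    apply Subtype.ext
    apply Subtype.ext
    funext x
    obtain ⟨⟨v, g⟩, rfl⟩ := (splitEquiv V G hGV).surjective x
    show (χ : X → ℂ) ((splitProj V G hGV ((v : X) * g) : G) : X) = (χ : X → ℂ) ((v : X) * g)
    rw [splitProj_apply, hval]

omit [Fintype X] [Fintype G] in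
/-- Centraliser of an element of abelian `V` in the split extension. -/
theorem card_centralizer_mem (hGV : Subgroup.IsComplement' V G) (hab : ∀ a ∈ V, ∀ b ∈ V, a * b = b * a) (v : X) (hv : v ∈ V) :
    Nat.card ↥(Subgroup.centralizer ({v} : Set X)) =
      Nat.card V * Nat.card ↥(G ⊓ Subgroup.centralizer ({v} : Set X)) := by
  rw [← Nat.card_prod]
  symm
  refine Nat.card_eq_of_bijective (fun p => ⟨(p.1 : X) * p.2, ?_⟩) ⟨?_, ?_⟩
  · rw [Subgroup.mem_centralizer_singleton_iff]
    have h := Subgroup.mem_centralizer_singleton_iff.mp p.2.2.2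
    rw [mul_assoc, h, ← mul_assoc, hab _ p.1.2 _ hv, mul_assoc]
  · rintro ⟨a, g⟩ ⟨b, h⟩ he
    have := hGV.1 (a₁ := (a, ⟨g, g.2.1⟩)) (a₂ := (b, ⟨h, h.2.1⟩)) (congrArg Subtype.val he)
    simp only [Prod.mk.injEq, Subtype.mk.injEq] at this
    exact Prod.ext this.1 (Subtype.ext this.2)
  · rintro ⟨x, hx⟩
    obtain ⟨⟨a, g⟩, rfl⟩ := (splitEquiv V G hGV).surjective x
    rw [splitEquiv_apply, Subgroup.mem_centralizer_singleton_iff] at hx
    refine ⟨(a, ⟨g, g.2, ?_⟩), rfl⟩
    show (g : X) ∈ Subgroup.centralizer ({v} : Set X)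
    rw [Subgroup.mem_centralizer_singleton_iff]
    rw [mul_assoc, ← mul_assoc v, ← hab _ a.2 _ hv, mul_assoc] at hx
    exact mul_left_cancel hx

/-- The refined bound `k(X) + |G| ≤ |C_G(v)| |V| + k(G)`. -/
theorem classes_add_card_le {p : ℕ} [Fact p.Prime] (hVp : IsPGroup p V) (hidx : ¬ p ∣ V.index)
    (hab : ∀ a ∈ V, ∀ b ∈ V, a * b = b * a) (hGV : Subgroup.IsComplement' V G) (v : X) (hv : v ∈ V) :
    Nat.card (ConjClasses X) + Nat.card G ≤
      Nat.card ↥(G ⊓ Subgroup.centralizer ({v} : Set X)) * Nat.card V + Nat.card (ConjClasses G) := by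
  classical
  haveI := Fintype.ofFinite V
  have hn : 0 < Nat.card V := Nat.card_pos
  set n := Nat.card V with hndef
  have habV : ∀ a b : V, a * b = b * a := fun a b => Subtype.ext (hab a a.2 b b.2)
  have hvn : v ^ n = 1 := by
    have : (⟨v, hv⟩ : V) ^ n = 1 := pow_card_eq_one'
    exact congrArg Subtype.val this
  set A := Finset.univ.filter fun χ : IrrCharacter X => ∀ a ∈ V, (χ : X → ℂ) a = (χ : X → ℂ) 1 with hA
  have hAc : A.card = Nat.card (ConjClasses G) := by
    rw [← card_trivial_irr V G hGV, Nat.card_eq_fintype_card, Fintype.card_subtype]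
  have hA2 : ∑ χ ∈ A, ‖(χ : X → ℂ) 1‖ ^ 2 = (Nat.card G : ℝ) := by
    have hcol := H12.sum_degree_sq (G := G)
    have hre : ∑ ψ : IrrCharacter G, ‖(ψ : G → ℂ) 1‖ ^ 2 = (Nat.card G : ℝ) := by
      have h2 := H12.sum_degree_sq_nat (G := G)
      simp only [H12.irr_apply_one, Complex.norm_natCast]
      exact_mod_cast h2
    rw [← hre]
    symm
    refine Finset.sum_bij (fun ψ _ => (⟨(ψ : G → ℂ) ∘ splitProj V G hGV,
      H12.IsIrrCharacter.comp_surjective ψ.2 (splitProj_surjective V G hGV)⟩ : IrrCharacter X)) ?_ ?_ ?_ ?_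
    · intro ψ _
      simp only [hA, Finset.mem_filter, Finset.mem_univ, true_and, Function.comp_apply]
      intro a ha
      have := splitProj_apply V G hGV ⟨a, ha⟩ 1
      simp only [Subgroup.coe_one, mul_one] at this
      rw [this, map_one]
    · intro ψ _ φ _ h
      apply Subtype.ext
      funext g
      obtain ⟨x, hx⟩ := splitProj_surjective V G hGV g
      have h'' := congrFun (congrArg Subtype.val h) x
      simpa [hx] using h''
    · intro χ hχ
      simp only [hA, Finset.mem_filter, Finset.mem_univ, true_and] at hχ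
      have hval : ∀ (a : V) (g : G), (χ : X → ℂ) ((a : X) * g) = (χ : X → ℂ) g := fun a g =>
        apply_mul_of_trivial (H12.isCharacter_irr χ) (hχ a a.2) g
      have hsum : classInner (χ : X → ℂ) χ =
          classInner (fun g : G => (χ : X → ℂ) g) (fun g : G => (χ : X → ℂ) g) := by
        unfold classInner
        rw [← Equiv.sum_comp (splitEquiv V G hGV), Fintype.sum_prod_type]
        simp only [splitEquiv_apply, hval]
        rw [Finset.sum_const, Finset.card_univ, nsmul_eq_mul, ← Nat.card_eq_fintype_card, ← mul_assoc]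
        congr 1
        rw [← Nat.card_congr (splitEquiv V G hGV), Nat.card_prod, Nat.cast_mul, mul_inv_rev, mul_assoc,
          inv_mul_cancel₀ H12.card_ne_zero', mul_one]
      rw [H12.classInner_irr_self] at hsum
      refine ⟨⟨fun g : G => (χ : X → ℂ) g, H12.isIrrCharacter_of_classInner_self_eq_one
        (H12.IsCharacter.res (H12.isCharacter_irr χ) G) hsum.symm⟩, Finset.mem_univ _, ?_⟩
      apply Subtype.ext
      funext x
      obtain ⟨⟨a, g⟩, rfl⟩ := (splitEquiv V G hGV).surjective x
      show (χ : X → ℂ) ((splitProj V G hGV ((a : X) * g) : G) : X) = (χ : X → ℂ) ((a : X) * g)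
      rw [splitProj_apply, hval]
    · intro ψ _; simp
  have hcol : ∀ j ∈ units' n, ∑ χ : IrrCharacter X, ‖(χ : X → ℂ) (v ^ j)‖ ^ 2 =
      (Nat.card V * Nat.card ↥(G ⊓ Subgroup.centralizer ({v} : Set X)) : ℝ) := by
    intro j hj
    have h := H12.column_orthogonality (v ^ j) (v ^ j)
    rw [if_pos (IsConj.refl _)] at h
    have hC : Subgroup.centralizer ({v ^ j} : Set X) = Subgroup.centralizer ({v} : Set X) := by
      ext x
      simp only [Subgroup.mem_centralizer_singleton_iff]
      constructor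
      · intro hx
        obtain ⟨m, hm⟩ := exists_pow_eq_self_of_coprime (x := v)
          ((mem_units'.mp hj).2.symm.coprime_dvd_right (orderOf_dvd_of_pow_eq_one hvn))
        rw [← hm]
        exact (show Commute x (v ^ j) from hx).pow_right m
      · exact fun hx => (show Commute x v from hx).pow_right j
    rw [hC, card_centralizer_mem V G hGV hab v hv] at h
    have := congrArg Complex.re h
    simp only [Complex.re_sum, Complex.mul_conj, Complex.ofReal_re, Complex.natCast_re] at this
    simpa [Complex.sq_norm] using this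
  have hrest : ∀ χ ∈ Finset.univ.filter (fun χ : IrrCharacter X => ¬ ∀ a ∈ V, (χ : X → ℂ) a = (χ : X → ℂ) 1),
      (n.totient : ℝ) ≤ ∑ j ∈ units' n, ‖(χ : X → ℂ) (v ^ j)‖ ^ 2 := fun χ _ =>
    totient_le_sum_char (H12.isCharacter_irr χ) hn v hvn (char_apply_ne_zero V hVp hidx habV χ ⟨v, hv⟩)
  have htriv : ∀ χ ∈ A, ∑ j ∈ units' n, ‖(χ : X → ℂ) (v ^ j)‖ ^ 2 = (n.totient : ℝ) * ‖(χ : X → ℂ) 1‖ ^ 2 := by
    intro χ hχ
    simp only [hA, Finset.mem_filter, Finset.mem_univ, true_and] at hχ
    rw [Finset.sum_congr rfl (fun j _ => by rw [hχ _ (V.pow_mem hv j)]), Finset.sum_const, card_units',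
      nsmul_eq_mul]
  have htot : ∑ χ : IrrCharacter X, ∑ j ∈ units' n, ‖(χ : X → ℂ) (v ^ j)‖ ^ 2 =
      (n.totient : ℝ) * (Nat.card V * Nat.card ↥(G ⊓ Subgroup.centralizer ({v} : Set X))) := by
    rw [Finset.sum_comm, Finset.sum_congr rfl hcol, Finset.sum_const, card_units', nsmul_eq_mul]
  rw [← Finset.sum_filter_add_sum_filter_not Finset.univ
    (fun χ : IrrCharacter X => ∀ a ∈ V, (χ : X → ℂ) a = (χ : X → ℂ) 1),
    Finset.sum_congr rfl htriv, ← Finset.mul_sum, hA2] at htot
  have hlow := Finset.sum_le_sum hrest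
  rw [Finset.sum_const, nsmul_eq_mul] at hlow
  have hcnt : A.card + (Finset.univ.filter
      (fun χ : IrrCharacter X => ¬ ∀ a ∈ V, (χ : X → ℂ) a = (χ : X → ℂ) 1)).card = Nat.card (ConjClasses X) := by
    rw [hA, Finset.card_filter_add_card_filter_not, Finset.card_univ, ← Nat.card_eq_fintype_card,
      H12.card_irrCharacter]
  set r := (Finset.univ.filter
      (fun χ : IrrCharacter X => ¬ ∀ a ∈ V, (χ : X → ℂ) a = (χ : X → ℂ) 1)).card
  have hmain : (n.totient : ℝ) * ((Nat.card G : ℝ) + r) ≤
      (n.totient : ℝ) * (Nat.card V * Nat.card ↥(G ⊓ Subgroup.centralizer ({v} : Set X))) := by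
    nlinarith
  have h2 := le_of_mul_le_mul_left hmain (by exact_mod_cast Nat.totient_pos.mpr hn)
  have h3 : Nat.card G + r ≤ n * Nat.card ↥(G ⊓ Subgroup.centralizer ({v} : Set X)) := by
    exact_mod_cast h2
  rw [Nat.mul_comm (Nat.card ↥(G ⊓ Subgroup.centralizer ({v} : Set X)))]
  omega

end H19
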