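import Cfsg.Prelude.Def_Blocks
import Cfsg.Agent.H13.Clifford
import Cfsg.Agent.H13.Kernel
import Cfsg.Agent.H21.Laradji
import Cfsg.Agent.H19.CosetVanish
import Cfsg.Agent.H19.UniqueSingular
import Cfsg.Agent.H27.ConjUnion
import Cfsg.Agent.H24.CharBasic
import Cfsg.Agent.H14.GaloisKernel

/-!
Zeros of irreducible characters at mixed elements of a group with a normal `p`-complement:
non-central elements of `p`-groups are zeros, and a coset `N * u` consists of common zeros of some
irreducible character unless `u` acts trivially on the normal `p'`-subgroup `N`.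
-/

set_option autoImplicit false

open Cfsg

namespace H19.VanPP

universe v

/-- A central element has nonzero value at every irreducible character. -/
theorem irr_center_ne_zero {G : Type v} [Group G] [Fintype G] (χ : IrrCharacter G) {z : G}
    (hz : z ∈ Subgroup.center G) : (χ : G → ℂ) z ≠ 0 := by
  intro h0
  have h := H21.apply_central_mul χ hz z⁻¹
  rw [mul_inv_cancel, h0, zero_div, zero_mul] at h
  exact H12.irr_apply_one_ne_zero χ h

/-- In a finite `p`-group every noncentral element is a zero of some irreducible character. -/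
theorem exists_zero_of_notMem_center {p : ℕ} [Fact p.Prime] : ∀ (m : ℕ) {Q : Type v} [Group Q]
    [Finite Q], Nat.card Q = m → IsPGroup p Q → ∀ x : Q, x ∉ Subgroup.center Q →
      ∃ χ : IrrCharacter Q, (χ : Q → ℂ) x = 0 := by
  intro m
  induction m using Nat.strong_induction_on with
  | _ m IH =>
    intro Q _ _ hm hQ x hx
    classical
    haveI := Fintype.ofFinite Q
    haveI : Nontrivial Q := ⟨⟨x, 1, fun e => hx (e ▸ one_mem _)⟩⟩
    haveI := IsPGroup.center_nontrivial hQ
    by_cases hc : (x : Q ⧸ Subgroup.center Q) ∈ Subgroup.center (Q ⧸ Subgroup.center Q)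
    · obtain ⟨h, hh⟩ : ∃ h : Q, h * x * h⁻¹ ≠ x := by
        by_contra hn
        push Not at hn
        exact hx (Subgroup.mem_center_iff.2 fun g => by
          have := hn g
          calc g * x = g * x * g⁻¹ * g := by group
            _ = x * g := by rw [this])
      have hcz : h * x * h⁻¹ * x⁻¹ ∈ Subgroup.center Q := by
        rw [← QuotientGroup.eq_one_iff]
        simp only [QuotientGroup.mk_mul, QuotientGroup.mk_inv]
        rw [Subgroup.mem_center_iff.1 hc (h : Q ⧸ Subgroup.center Q)]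
        group
      obtain ⟨χ, hχ⟩ : ∃ χ : IrrCharacter Q,
          (χ : Q → ℂ) (h * x * h⁻¹ * x⁻¹) ≠ (χ : Q → ℂ) 1 := by
        by_contra hn
        push Not at hn
        have := isConj_one_left.1 ((H12.isConj_iff_irr _ _).2 hn)
        exact hh (by rwa [mul_inv_eq_one] at this)
      refine ⟨χ, ?_⟩
      have h1 := H21.apply_central_mul χ hcz x
      rw [inv_mul_cancel_right,
        H12.IsClassFunction.of_isConj (H12.irr_isClassFunction χ)
          (isConj_iff.2 ⟨h, rfl⟩ : IsConj x (h * x * h⁻¹)).symm] at h1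
      by_contra h0
      apply hχ
      have hne := H12.irr_apply_one_ne_zero χ
      have h2 := mul_right_cancel₀ h0 (h1.symm.trans (one_mul _).symm)
      exact (div_eq_one_iff_eq hne).1 h2
    · have hlt : Nat.card (Q ⧸ Subgroup.center Q) < m := by
        rw [← hm, Subgroup.card_eq_card_quotient_mul_card_subgroup (Subgroup.center Q)]
        exact lt_mul_of_one_lt_right Nat.card_pos Finite.one_lt_card
      obtain ⟨χ, hχ⟩ := IH _ hlt rfl (hQ.to_quotient _) _ hc
      exact ⟨H13.inflateIrr _ χ, hχ⟩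

variable {G : Type v} [Group G] [Finite G] {p : ℕ} [hp : Fact p.Prime]

/-- An automorphism of `p`-power order of a `p'`-group that fixes every class is trivial. -/
theorem commute_of_class_fixed (N : Subgroup G) [N.Normal] (hN : ¬ p ∣ Nat.card N) (u : G) {k : ℕ}
    (hu : u ^ p ^ k = 1) (hfix : ∀ x : N, IsConj x (MulAut.conjNormal u x)) :
    ∀ n ∈ N, u * n = n * u := by
  classical
  haveI := Fintype.ofFinite N
  let H : Subgroup N := (Subgroup.centralizer ({u} : Set G)).subgroupOf N
  have hH : H = ⊤ := H27.eq_top_of_forall_conj_mem H fun x => by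
    let f : Equiv.Perm N := (MulAut.conjNormal u : MulAut N).toEquiv
    have hf : ∀ y : N, IsConj x (f y) ↔ IsConj x y := fun y =>
      ⟨fun h => (h.trans (hfix y).symm), fun h => h.trans (hfix y)⟩
    have hpow : ∀ (j : ℕ) (y : N), (((f ^ j) y : N) : G) = u ^ j * y * (u ^ j)⁻¹ := by
      intro j
      induction j with
      | zero => simp
      | succ j ih =>
        intro y
        rw [pow_succ', Equiv.Perm.mul_apply]
        show ((MulAut.conjNormal u ((f ^ j) y) : N) : G) = _
        rw [MulAut.conjNormal_apply, ih, pow_succ']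
        group
    have hσ : (f.subtypePerm hf : Equiv.Perm {y : N // IsConj x y}) ^ p ^ k = 1 := by
      rw [Equiv.Perm.subtypePerm_pow]
      refine Equiv.ext fun y => Subtype.ext (Subtype.ext ?_)
      show (((f ^ p ^ k) y.1 : N) : G) = y.1
      rw [hpow, hu]
      simp
    have hdvd : ¬ p ∣ Fintype.card {y : N // IsConj x y} := by
      intro hd
      apply hN
      rw [← H12.card_conjClass_mul_card_centralizer x, ← Fintype.card_subtype]
      exact dvd_mul_of_dvd_left hd _
    obtain ⟨y, hy⟩ := Equiv.Perm.exists_fixed_point_of_prime hdvd hσ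
    have hy' : u * ((y.1 : N) : G) * u⁻¹ = ((y.1 : N) : G) := by
      have h1 := hpow 1 y.1
      rw [pow_one, pow_one] at h1
      rw [← h1]
      exact congrArg (fun w : {y : N // IsConj x y} => ((w.1 : N) : G)) hy
    obtain ⟨c, hc⟩ := isConj_iff.1 y.2
    refine ⟨c⁻¹, ?_⟩
    rw [inv_inv, hc]
    refine Subgroup.mem_subgroupOf.2 (Subgroup.mem_centralizer_singleton_iff.2 ?_)
    exact (mul_inv_eq_iff_eq_mul.1 hy').symm
  intro n hn
  have := Subgroup.mem_subgroupOf.1 (hH.symm ▸ Subgroup.mem_top (⟨n, hn⟩ : N) : (⟨n, hn⟩ : N) ∈ H)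
  exact (Subgroup.mem_centralizer_singleton_iff.1 this).symm

/-- A power of an exponent prime to the order lying in a prescribed residue class. -/
theorem exists_coprime_modEq (i k n : ℕ) (hn : n ≠ 0) (hi : ¬ p ∣ i) :
    ∃ t : ℕ, t ≡ i [MOD p ^ k] ∧ n.Coprime t := by
  have hpp := hp.out
  rcases Nat.eq_zero_or_pos k with rfl | hk
  · exact ⟨1, by simp [Nat.modEq_one], Nat.coprime_one_right n⟩
  have hco : (p ^ k).Coprime (ordCompl[p] n) := (Nat.coprime_ordCompl hpp hn).pow_left k
  obtain ⟨t, ht1, ht2⟩ := Nat.chineseRemainder hco i 1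
  refine ⟨t, ht1, ?_⟩
  have htp : ¬ p ∣ t := fun h =>
    hi ((ht1.dvd_iff (dvd_pow_self p hk.ne')).1 h)
  have h2 : (ordCompl[p] n).Coprime t := by
    rw [Nat.coprime_comm, Nat.Coprime, ht2.gcd_eq]
    exact Nat.gcd_one_left _
  conv => arg 1; rw [← Nat.ordProj_mul_ordCompl_eq_self n p]
  exact Nat.Coprime.mul_left (((Nat.Prime.coprime_iff_not_dvd hpp).2 htp).pow_left _) h2

/-- The key zero: `u` is central modulo `N`, its `p`-th power centralises `N` and `u` does not. -/
theorem exists_zero_coset (N : Subgroup G) [N.Normal] (hN : ¬ p ∣ Nat.card N) (u : G) {k : ℕ}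
    (hpow : u ^ p ^ k = 1) (hu : ∀ g : G, g * u * g⁻¹ * u⁻¹ ∈ N)
    (hup : ∀ n ∈ N, u ^ p * n = n * u ^ p) (hne : ∃ n ∈ N, u * n ≠ n * u) :
    ∃ χ : IrrCharacter G, ∀ n ∈ N, (χ : G → ℂ) (n * u) = 0 := by
  classical
  haveI := Fintype.ofFinite G
  let M : Subgroup G := (Subgroup.zpowers (u : G ⧸ N)).comap (QuotientGroup.mk' N)
  have hcen : (u : G ⧸ N) ∈ Subgroup.center (G ⧸ N) := Subgroup.mem_center_iff.2 fun q => by
    obtain ⟨g, rfl⟩ := QuotientGroup.mk_surjective q
    have h := (QuotientGroup.eq_one_iff _).2 (hu g)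
    simp only [QuotientGroup.mk_mul, QuotientGroup.mk_inv] at h
    rw [mul_inv_eq_one, mul_inv_eq_iff_eq_mul] at h
    exact h
  haveI hM : M.Normal := by
    constructor
    intro x hx g
    rw [Subgroup.mem_comap, QuotientGroup.mk'_apply] at hx ⊢
    simp only [QuotientGroup.mk_mul, QuotientGroup.mk_inv]
    rw [Subgroup.mem_center_iff.1 ((Subgroup.zpowers_le.2 hcen) hx) (g : G ⧸ N),
      mul_inv_cancel_right]
    exact hx
  haveI : Fintype M := Fintype.ofFinite M
  have hNM : N ≤ M := fun n hn => by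
    rw [Subgroup.mem_comap, QuotientGroup.mk'_apply, (QuotientGroup.eq_one_iff n).2 hn]
    exact one_mem _
  have huM : u ∈ M := Subgroup.mem_zpowers _
  have hmem : ∀ x ∈ M, ∃ i : ℕ, ∃ n ∈ N, x = n * u ^ i := by
    intro x hx
    rw [Subgroup.mem_comap, QuotientGroup.mk'_apply, ← mem_powers_iff_mem_zpowers] at hx
    obtain ⟨i, hi⟩ := hx
    refine ⟨i, x * (u ^ i)⁻¹, ?_, by group⟩
    rw [← QuotientGroup.eq_one_iff]
    simp only [QuotientGroup.mk_mul, QuotientGroup.mk_inv, QuotientGroup.mk_pow]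
    rw [← hi]
    exact mul_inv_cancel _
  let N' : Subgroup M := N.subgroupOf M
  haveI : Fintype N' := Fintype.ofFinite N'
  let uM : M := ⟨u, huM⟩
  obtain ⟨ψ, hψ⟩ : ∃ ψ : IrrCharacter M,
      ¬ IsIrrCharacter N' (fun n : N' => (ψ : M → ℂ) n) := by
    by_contra hall
    push Not at hall
    obtain ⟨n₀, hn₀, hne₀⟩ := hne
    refine hne₀ (commute_of_class_fixed N hN u hpow (fun x => ?_) n₀ hn₀)
    let e : N' ≃* N := Subgroup.subgroupOfEquivOfLe hNM
    have key : IsConj (e.symm x) (e.symm (MulAut.conjNormal u x)) := by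
      rw [H12.isConj_iff_irr]
      intro θ
      obtain ⟨φ, hφ, -⟩ := H19.UniqueSingular.exists_over N' θ
      have hθ : (θ : N' → ℂ) = fun n : N' => (φ : M → ℂ) n := by
        by_contra hd
        exact hφ (H12.classInner_irr_ne (χ := (⟨_, hall φ⟩ : IrrCharacter N'))
          (fun he => hd (congrArg Subtype.val he).symm))
      rw [hθ]
      refine (H12.IsClassFunction.of_isConj (H12.irr_isClassFunction φ)
        (isConj_iff.2 ⟨uM, ?_⟩))
      apply Subtype.ext
      rfl
    simpa using e.toMonoidHom.map_isConj key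
  obtain ⟨x, hx⟩ := (H19.not_irr_iff_vanish N' ψ).1 hψ
  obtain ⟨i, n₀, hn₀, hxi⟩ := hmem x.1 x.2
  have hcoset : ∀ (n : G) (hn : n * u ^ i ∈ M), n ∈ N → (ψ : M → ℂ) ⟨n * u ^ i, hn⟩ = 0 := by
    intro n hn hnN
    have := hx ⟨⟨n * n₀⁻¹, hNM (mul_mem hnN (inv_mem hn₀))⟩, mul_mem hnN (inv_mem hn₀)⟩
    convert this using 2
    apply Subtype.ext
    show n * u ^ i = n * n₀⁻¹ * x.1
    rw [hxi]; group
  have hpi : ¬ p ∣ i := by
    rintro ⟨j, rfl⟩
    have hm : (1 : G) * u ^ (p * j) ∈ M := by rw [one_mul]; exact pow_mem huM _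
    refine irr_center_ne_zero ψ (Subgroup.mem_center_iff.2 fun g => ?_) (hcoset 1 hm (one_mem _))
    apply Subtype.ext
    show g.1 * (1 * u ^ (p * j)) = 1 * u ^ (p * j) * g.1
    obtain ⟨l, n, hn, hg⟩ := hmem g.1 g.2
    have hc : Commute n (u ^ (p * j)) := by
      rw [pow_mul]
      exact (Commute.pow_left (hup n hn) j).symm
    rw [one_mul, hg]
    exact (Commute.mul_left hc ((Commute.refl u).pow_pow _ _)).eq
  obtain ⟨t, ht, htc⟩ := exists_coprime_modEq (p := p) i k (Nat.card M) Nat.card_pos.ne' hpi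
  have hψu : ∀ (n : G) (hn : n * u ∈ M), n ∈ N → (ψ : M → ℂ) ⟨n * u, hn⟩ = 0 := by
    intro n hn hnN
    by_contra h0
    have hne' := H19.char_pow_ne_zero (H12.isCharacter_irr ψ) (Nat.card_pos (α := M)) ⟨n * u, hn⟩
      pow_card_eq_one' htc h0
    apply hne'
    have huti : u ^ t = u ^ i := pow_eq_pow_iff_modEq.2
      (ht.of_dvd (orderOf_dvd_of_pow_eq_one hpow))
    have hN1 : (n * u) ^ t * (u ^ t)⁻¹ ∈ N := by
      rw [← QuotientGroup.eq_one_iff]
      simp only [QuotientGroup.mk_mul, QuotientGroup.mk_inv, QuotientGroup.mk_pow,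
        (QuotientGroup.eq_one_iff n).2 hnN, one_mul, mul_inv_cancel]
    have hM1 : (n * u) ^ t * (u ^ t)⁻¹ * u ^ i ∈ M :=
      mul_mem (hNM hN1) (pow_mem huM _)
    convert hcoset _ hM1 hN1 using 2
    apply Subtype.ext
    show (n * u) ^ t = (n * u) ^ t * (u ^ t)⁻¹ * u ^ i
    rw [← huti, inv_mul_cancel_right]
  obtain ⟨χ, hχ, -⟩ := H19.UniqueSingular.exists_over M ψ
  refine ⟨χ, fun n hn => ?_⟩
  have hres := H12.classFunction_apply_eq_sum (H12.IsCharacter.isClassFunction
    (H12.IsCharacter.res (H12.isCharacter_irr χ) M)) (⟨n * u, mul_mem (hNM hn) huM⟩ : M)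
  rw [show (χ : G → ℂ) (n * u) = _ from hres]
  refine Finset.sum_eq_zero fun φ _ => ?_
  by_cases hc : ∃ g : G, H13.twist M g (ψ : M → ℂ) = φ
  · obtain ⟨g, hg⟩ := hc
    rw [← hg, H13.twist_apply]
    have hnM : g * n * g⁻¹ * (g * u * g⁻¹ * u⁻¹) ∈ N :=
      mul_mem ((inferInstance : N.Normal).conj_mem n hn g) (hu g)
    have hz := hψu _ (mul_mem (hNM hnM) huM) hnM
    have he : (⟨g * (n * u) * g⁻¹, hM.conj_mem _ (mul_mem (hNM hn) huM) g⟩ : M)
        = ⟨g * n * g⁻¹ * (g * u * g⁻¹ * u⁻¹) * u, mul_mem (hNM hnM) huM⟩ :=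
      Subtype.ext (by show g * (n * u) * g⁻¹ = g * n * g⁻¹ * (g * u * g⁻¹ * u⁻¹) * u; group)
    rw [show (⟨g * (n * u) * g⁻¹, _⟩ : M) = _ from he, hz, mul_zero]
  · rw [H13.classInner_res_eq_zero_of_not_conj M χ.2 ψ.2 φ.2 hχ
      (fun g hg => hc ⟨g, hg⟩), zero_mul]

/-- An irreducible character of degree other than one vanishes somewhere. -/
theorem exists_zero [Fintype G] (χ : IrrCharacter G) (h : charDegree (χ : G → ℂ) ≠ 1) :
    ∃ g : G, (χ : G → ℂ) g = 0 := by
  classical
  by_contra hn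
  simp only [not_exists] at hn
  have hle := H19.card_le_sum_normSq (H12.isCharacter_irr χ) (Finset.univ.erase 1)
    (fun j hj g hg => Finset.mem_erase.2 ⟨fun e => Finset.ne_of_mem_erase hg
      ((powCoprime hj).injective (by simpa using e)), Finset.mem_univ _⟩) (fun g _ => hn g)
  have hs := H19.sum_normSq_irr χ (H12.classInner_irr_self χ)
  rw [← Finset.add_sum_erase _ _ (Finset.mem_univ (1 : G)), H24.irr_one, Complex.norm_natCast] at hs
  rw [Finset.card_erase_of_mem (Finset.mem_univ _), Finset.card_univ, ← Nat.card_eq_fintype_card,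
    Nat.cast_sub (Nat.one_le_iff_ne_zero.2 Nat.card_pos.ne'), Nat.cast_one] at hle
  have hd : 2 ≤ charDegree (χ : G → ℂ) := by have := H24.irr_pos χ; omega
  have h2 : (2 : ℝ) ≤ (charDegree (χ : G → ℂ) : ℝ) := by exact_mod_cast hd
  nlinarith

/-- A group all of whose irreducible characters are linear is abelian. -/
theorem commute_of_linear [Fintype G] (h : ∀ χ : IrrCharacter G, charDegree (χ : G → ℂ) = 1)
    (a b : G) : a * b = b * a := by
  have hc : IsConj (1 : G) (a * b * a⁻¹ * b⁻¹) := by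
    rw [H12.isConj_iff_irr]
    intro χ
    have h1 := H24.irr_one χ
    rw [h χ, Nat.cast_one] at h1
    rw [H13.linear_commutator (H12.isCharacter_irr χ) h1 a b, h1]
  have := isConj_one_right.1 hc
  rwa [mul_inv_eq_one, mul_inv_eq_iff_eq_mul] at this

end H19.VanPP
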