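import Cfsg.Agent.H19.Heis
import Cfsg.Agent.H12.Integral

set_option autoImplicit false
set_option linter.unusedSectionVars false

/-!
The canonical character of a coprime group of symplectic transformations.
-/

open Cfsg
open scoped ComplexConjugate

namespace H19

variable {p : ℕ} [Fact p.Prime] {U : Type*} [AddCommGroup U] [Module (ZMod p) U] [Finite U]
variable {H : Type*} [Group H] [Fintype H]

/-- Fixed vectors of an element. -/
def fixVec (ρ : Representation (ZMod p) H U) (h : H) : Submodule (ZMod p) U where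
  carrier := {u | ρ h u = u}
  zero_mem' := map_zero _
  add_mem' := fun {a b} (ha : _ = _) (hb : _ = _) => by show _ = _; rw [map_add, ha, hb]
  smul_mem' := fun c a (ha : _ = _) => by show _ = _; rw [map_smul, ha]

theorem mem_fixVec {ρ : Representation (ZMod p) H U} {h : H} {u : U} :
    u ∈ fixVec ρ h ↔ ρ h u = u := Iff.rfl

theorem natCast_ne_zero_of_coprime (hH : ¬ p ∣ Nat.card H) : (Nat.card H : ZMod p) ≠ 0 :=
  fun h => hH ((ZMod.natCast_eq_zero_iff _ p).mp h)

/-- An invariant form which is nondegenerate stays so on fixed vectors. -/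
theorem nondeg_fix (hH : ¬ p ∣ Nat.card H) (ρ : Representation (ZMod p) H U)
    (B : LinearMap.BilinForm (ZMod p) U) (hinv : ∀ h x y, B (ρ h x) (ρ h y) = B x y)
    (hnd : ∀ x, (∀ y, B x y = 0) → x = 0) (h : H) (x : U) (hx : x ∈ fixVec ρ h)
    (hz : ∀ y ∈ fixVec ρ h, B x y = 0) : x = 0 := by
  refine hnd x fun y => ?_
  set o := orderOf h with ho
  have hxk : ∀ k : ℕ, ρ (h ^ k) x = x := fun k => by
    induction k with
    | zero => simp
    | succ k ih => rw [pow_succ, map_mul, Module.End.mul_apply, mem_fixVec.mp hx, ih]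
  have hmem : ∑ i ∈ Finset.range o, ρ (h ^ i) y ∈ fixVec ρ h := by
    rw [mem_fixVec, map_sum]
    have hstep : ∀ i, ρ h (ρ (h ^ i) y) = ρ (h ^ (i + 1)) y := fun i => by
      rw [pow_succ', map_mul, Module.End.mul_apply]
    simp only [hstep]
    have e1 := Finset.sum_range_succ (fun i => ρ (h ^ i) y) o
    have e2 := Finset.sum_range_succ' (fun i => ρ (h ^ i) y) o
    rw [ho, pow_orderOf_eq_one] at e1
    rw [e1] at e2
    simp only [pow_zero] at e2
    exact (add_right_cancel e2).symm
  have h1 := hz _ hmem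
  have hterm : ∀ i : ℕ, B x (ρ (h ^ i) y) = B x y := fun i => by
    calc B x (ρ (h ^ i) y) = B (ρ (h ^ i) x) (ρ (h ^ i) y) := by rw [hxk]
      _ = B x y := hinv _ _ _
  rw [map_sum, Finset.sum_congr rfl (fun i _ => hterm i), Finset.sum_const, Finset.card_range,
    nsmul_eq_mul, mul_eq_zero] at h1
  refine h1.resolve_left fun hz' => hH ?_
  exact ((ZMod.natCast_eq_zero_iff _ p).mp hz').trans (orderOf_dvd_natCard h)

/-- An alternating invariant form is the skew part of an invariant bilinear form. -/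
theorem exists_invariant_half (hH : ¬ p ∣ Nat.card H) (ρ : Representation (ZMod p) H U)
    (A : LinearMap.BilinForm (ZMod p) U) (halt : ∀ x, A x x = 0)
    (hinv : ∀ h x y, A (ρ h x) (ρ h y) = A x y) :
    ∃ β : LinearMap.BilinForm (ZMod p) U,
      (∀ h x y, β (ρ h x) (ρ h y) = β x y) ∧ ∀ x y, β x y - β y x = A x y := by
  classical
  haveI : Module.Finite (ZMod p) U := Module.Finite.of_finite
  let b := Module.finBasis (ZMod p) U
  let β₀ : LinearMap.BilinForm (ZMod p) U :=
    Matrix.toBilin b (Matrix.of fun i j => if i < j then A (b i) (b j) else 0)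
  have hskew : ∀ x y, A y x = - A x y := fun x y => by
    have := halt (x + y)
    simp only [map_add, LinearMap.add_apply, halt, zero_add, add_zero] at this
    linear_combination this
  have hβ₀ : β₀ - β₀.flip = A := by
    refine LinearMap.BilinForm.ext_basis b fun i j => ?_
    have hM : ∀ k l, β₀ (b k) (b l) = if k < l then A (b k) (b l) else 0 := fun k l => by
      rw [← LinearMap.BilinForm.toMatrix_apply b β₀, ← Matrix.of_apply (fun i j => if i < j then A (b i) (b j) else 0)]
      exact congrFun (congrFun ((LinearMap.BilinForm.toMatrix b).apply_symm_apply _) k) l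
    simp only [LinearMap.sub_apply, LinearMap.BilinForm.flip_apply, hM]
    rcases lt_trichotomy i j with hij | rfl | hij
    · rw [if_pos hij, if_neg hij.asymm, sub_zero]
    · simp [halt]
    · rw [if_pos hij, if_neg hij.asymm, zero_sub, hskew (b j) (b i)]
  refine ⟨(Nat.card H : ZMod p)⁻¹ • ∑ h : H, β₀.compl₁₂ (ρ h) (ρ h), ?_, ?_⟩
  · intro g x y
    simp only [LinearMap.smul_apply, LinearMap.coe_sum, Finset.sum_apply, LinearMap.compl₁₂_apply]
    congr 1
    refine Fintype.sum_equiv (Equiv.mulRight g) _ _ fun h => ?_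
    simp [map_mul, Module.End.mul_apply]
  · intro x y
    simp only [LinearMap.smul_apply, LinearMap.coe_sum, Finset.sum_apply, LinearMap.compl₁₂_apply,
      ← smul_sub, ← Finset.sum_sub_distrib]
    have : ∀ h, β₀ (ρ h x) (ρ h y) - β₀ (ρ h y) (ρ h x) = A x y := fun h => by
      rw [← hinv h x y, ← hβ₀]; rfl
    simp only [this, Finset.sum_const, Finset.card_univ, ← Nat.card_eq_fintype_card, nsmul_eq_mul,
      smul_eq_mul]
    rw [← mul_assoc, inv_mul_cancel₀ (natCast_ne_zero_of_coprime hH), one_mul]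

/-- Twisted averages on a direct product give characters of the first factor. -/
theorem twistAvg_isCharacter' {Z K : Type*} [Group Z] [Group K] [Fintype Z] [Fintype K]
    {Φ : Z × K → ℂ} (hΦ : IsCharacter (Z × K) Φ) {μ : K → ℂ}
    (hμ : IsCharacter K μ) :
    IsCharacter Z (fun z => (Nat.card K : ℂ)⁻¹ * ∑ k, Φ (z, k) * conj (μ k)) := by
  rw [H12.isCharacter_iff]
  refine ⟨fun a b => ?_, fun ψ => ?_⟩
  · show _ * _ = _ * _
    congr 1
    refine Finset.sum_congr rfl fun k _ => ?_
    have := H12.IsCharacter.isClassFunction hΦ (a, k) (b, 1)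
    simp only [Prod.mk_mul_mk, Prod.inv_mk, one_mul, inv_one, mul_one] at this
    rw [this]
  obtain ⟨k, hk⟩ := H12.IsCharacter.classInner_nat hΦ
    (H12.IsCharacter.mul (H12.IsCharacter.comp (H12.isCharacter_irr ψ) (MonoidHom.fst Z K))
      (H12.IsCharacter.comp hμ (MonoidHom.snd Z K)))
  refine ⟨k, ?_⟩
  rw [← hk]
  simp only [classInner, Fintype.sum_prod_type, Nat.card_prod, Nat.cast_mul, Finset.mul_sum, Finset.sum_mul,
    Pi.mul_apply, Function.comp_apply, MonoidHom.coe_fst, MonoidHom.coe_snd, map_mul]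
  refine Finset.sum_congr rfl fun z _ => Finset.sum_congr rfl fun h _ => ?_
  rw [mul_inv_rev]
  ring

/-- The canonical character of a coprime symplectic group. -/
theorem exists_weil (hH : ¬ p ∣ Nat.card H) (ρ : Representation (ZMod p) H U)
    (A : LinearMap.BilinForm (ZMod p) U) (halt : ∀ x, A x x = 0)
    (hinv : ∀ h x y, A (ρ h x) (ρ h y) = A x y) (hnd : ∀ x, (∀ y, A x y = 0) → x = 0) :
    ∃ θ : H → ℂ, IsCharacter H θ ∧ (∃ d : ℕ, d ^ 2 = Nat.card U ∧ θ 1 = d) ∧
      ∀ h, θ h * conj (θ h) = (Nat.card (fixVec ρ h) : ℂ) ∧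
        ∃ (dC : ℕ) (t : ℂ), IsIntegral ℤ t ∧ dC ^ 2 = Nat.card (fixVec ρ h) ∧ θ h = (dC : ℂ) * t := by
  classical
  haveI := Fintype.ofFinite U
  obtain ⟨β, hβi, hβA⟩ := exists_invariant_half hH ρ A halt hinv
  have hndβ : ∀ u, (∀ w, β w u - β u w = 0) → u = 0 := fun u hu => hnd u fun w => by
    rw [← hβA, ← neg_sub, hu, neg_zero]
  haveI : Fintype (Heis β) := Fintype.ofFinite _
  -- a faithful central character
  obtain ⟨ψ, c, hcp, hc, hψ⟩ : ∃ (ψ : IrrCharacter (Heis β)) (c : ℂ), c ^ p = 1 ∧ c ≠ 1 ∧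
      ∀ x, (ψ : Heis β → ℂ) (Heis.gen * x) = c * (ψ : Heis β → ℂ) x := by
    by_contra hcon
    push Not at hcon
    refine Heis.gen_ne_one (β := β) (isConj_one_left.mp (IsConj.symm ?_))
    rw [H12.isConj_iff_irr]
    intro ψ
    obtain ⟨c, hcp, hcx⟩ := Heis.char_gen_mul ψ
    by_cases hc : c = 1
    · have := hcx 1
      rw [mul_one, hc, one_mul] at this
      exact this.symm
    · obtain ⟨x, hx⟩ := hcon ψ c hcp hc
      exact absurd (hcx x) hx
  obtain ⟨hvan, hdeg⟩ := Heis.irr_structure hndβ ψ hcp hc hψ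
  obtain ⟨d, π, hπ, hπψ⟩ := ψ.2
  haveI := hπ
  have hd1 : (ψ : Heis β → ℂ) 1 = (d : ℂ) := by
    rw [← hπψ, Representation.char_one, Module.finrank_fin_fun]
  have hd : d ^ 2 = Nat.card U := by
    rw [← hdeg]
    congr 1
    have := H12.irr_apply_one ψ
    rw [hd1] at this
    exact_mod_cast this
  have hd0 : 0 < d := by
    rcases Nat.eq_zero_or_pos d with h | h
    · rw [h, zero_pow two_ne_zero] at hd; exact absurd hd.symm (Nat.card_pos (α := U)).ne'
    · exact h
  -- automorphisms
  let α : H → (Heis β →* Heis β) := fun h =>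
    MonoidHom.mk' (fun x => ⟨ρ h x.vec, x.cen⟩) fun x y => by
      ext
      · simp
      · simp [hβi]
  have hαχ : ∀ h x, (ψ : Heis β → ℂ) (α h x) = (ψ : Heis β → ℂ) x := by
    intro h x
    rw [hvan x, hvan (α h x)]
    have : (α h x).vec = 0 ↔ x.vec = 0 := by
      show ρ h x.vec = 0 ↔ x.vec = 0
      refine ⟨fun he => ?_, fun he => by rw [he, map_zero]⟩
      have := congrArg (ρ h⁻¹) he
      rwa [← Module.End.mul_apply, ← map_mul, inv_mul_cancel, map_one, Module.End.one_apply, map_zero] at this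
    simp only [this]
    rfl
  have hT : ∀ h, ∃ T : (Module.End ℂ (Fin d → ℂ))ˣ, (∀ x, (T : Module.End ℂ (Fin d → ℂ)) * π x = π (α h x) * T) ∧
      LinearMap.det (T : Module.End ℂ (Fin d → ℂ)) = 1 := by
    intro h
    let σ : Representation ℂ (Heis β) (Fin d → ℂ) := π.comp (α h)
    have hchar : σ.character = π.character := funext fun x => by
      show π.character (α h x) = π.character x
      rw [hπψ]; exact hαχ h x
    have h1 : (Module.finrank ℂ (π.IntertwiningMap σ) : ℂ) = 1 := by
      rw [← H12.classInner_character σ π, hchar, H12.classInner_character_self π]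
    have h1' : 0 < Module.finrank ℂ (π.IntertwiningMap σ) := by
      have h1'' : Module.finrank ℂ (π.IntertwiningMap σ) = 1 := by exact_mod_cast h1
      omega
    haveI := Module.nontrivial_of_finrank_pos h1'
    obtain ⟨F, hF⟩ := exists_ne (0 : π.IntertwiningMap σ)
    let T₀ : Module.End ℂ (Fin d → ℂ) := F.toLinearMap
    have hcomm : ∀ x, T₀ * π x = π (α h x) * T₀ := fun x => F.isIntertwining' x
    have hker : LinearMap.ker T₀ = ⊥ := by
      by_contra hne
      have htop := H13.eq_top_of_irreducible π (LinearMap.ker T₀) (fun x v hv => by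
        rw [LinearMap.mem_ker] at hv ⊢
        rw [← Module.End.mul_apply, hcomm, Module.End.mul_apply, hv, map_zero]) hne
      exact hF (Representation.IntertwiningMap.toLinearMap_injective π σ
        (LinearMap.ker_eq_top.mp htop))
    have hu : IsUnit T₀ := (LinearMap.isUnit_iff_ker_eq_bot _).mpr hker
    have hdet : LinearMap.det T₀ ≠ 0 := (hu.map LinearMap.det).ne_zero
    obtain ⟨r, hr⟩ := IsAlgClosed.exists_pow_nat_eq (LinearMap.det T₀)⁻¹ hd0
    have hr0 : r ≠ 0 := fun h0 => by
      rw [h0, zero_pow hd0.ne'] at hr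
      exact inv_ne_zero hdet hr.symm
    refine ⟨(hu.unit).map (MonoidHom.id _) * (Units.map (algebraMap ℂ (Module.End ℂ (Fin d → ℂ))).toMonoidHom
      (Units.mk0 r hr0)), fun x => ?_, ?_⟩
    · show T₀ * algebraMap ℂ _ r * π x = π (α h x) * (T₀ * algebraMap ℂ _ r)
      rw [mul_assoc, Algebra.commutes, ← mul_assoc, hcomm, mul_assoc]
    · show LinearMap.det (T₀ * algebraMap ℂ _ r) = 1
      rw [map_mul, Algebra.algebraMap_eq_smul_one, LinearMap.det_smul, map_one, mul_one,
        Module.finrank_fin_fun, hr, mul_inv_cancel₀ hdet]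
  choose T hTπ hTdet using hT
  haveI : Nonempty (Fin d) := ⟨⟨0, hd0⟩⟩
  have hTne : ∀ g, ((T g : Module.End ℂ (Fin d → ℂ))) ≠ 0 := fun g h0 => by
    have := hTdet g
    rw [h0, LinearMap.det_zero'' ] at this
    · exact zero_ne_one this
  have hcex : ∀ g h, ∃ c : ℂ, (T g : Module.End ℂ (Fin d → ℂ)) * T h = c • (T (g * h) : Module.End ℂ (Fin d → ℂ)) ∧
      c ^ d = 1 := by
    intro g h
    have hα : ∀ x, α g (α h x) = α (g * h) x := fun x => by
      ext
      · show ρ g (ρ h x.vec) = ρ (g * h) x.vec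
        rw [map_mul, Module.End.mul_apply]
      · rfl
    set S : Module.End ℂ (Fin d → ℂ) := ((T (g * h))⁻¹ : (Module.End ℂ (Fin d → ℂ))ˣ) * (T g * T h : Module.End ℂ (Fin d → ℂ))
    obtain ⟨c, hcS⟩ := H12.exists_scalar_of_commute π S (fun x => by
      have h1 : (((T (g * h))⁻¹ : (Module.End ℂ (Fin d → ℂ))ˣ) : Module.End ℂ (Fin d → ℂ)) * π (α (g * h) x) =
          π x * (((T (g * h))⁻¹ : (Module.End ℂ (Fin d → ℂ))ˣ) : Module.End ℂ (Fin d → ℂ)) := by
        rw [Units.inv_mul_eq_iff_eq_mul, ← mul_assoc, hTπ, mul_assoc, Units.mul_inv, mul_one]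
      calc S * π x = ((T (g * h))⁻¹ : (Module.End ℂ (Fin d → ℂ))ˣ) * (T g * (T h * π x) : Module.End ℂ (Fin d → ℂ)) := by
            simp only [S, mul_assoc]
        _ = ((T (g * h))⁻¹ : (Module.End ℂ (Fin d → ℂ))ˣ) * (π (α (g * h) x) * (T g * T h) : Module.End ℂ (Fin d → ℂ)) := by
            rw [hTπ, ← mul_assoc (T g : Module.End ℂ (Fin d → ℂ)), hTπ, hα, mul_assoc]
        _ = π x * S := by rw [← mul_assoc, h1, mul_assoc])
    have heq : (T g : Module.End ℂ (Fin d → ℂ)) * T h = c • (T (g * h) : Module.End ℂ (Fin d → ℂ)) := by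
      have := congrArg (fun z => (T (g * h) : Module.End ℂ (Fin d → ℂ)) * z) hcS
      simpa [S, mul_smul_comm] using this
    refine ⟨c, heq, ?_⟩
    have := congrArg LinearMap.det heq
    rw [map_mul, hTdet, hTdet, LinearMap.det_smul, hTdet, Module.finrank_fin_fun] at this
    simpa using this.symm
  choose cc hcc hccd using hcex
  have hcoc : ∀ g h k, cc g h * cc (g * h) k = cc g (h * k) * cc h k := by
    intro g h k
    have h1 : (T g * T h : Module.End ℂ (Fin d → ℂ)) * T k = T g * (T h * T k : Module.End ℂ (Fin d → ℂ)) :=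
      mul_assoc _ _ _
    rw [hcc, hcc h k, smul_mul_assoc, hcc, mul_smul_comm, hcc, smul_smul, smul_smul, mul_assoc g h k] at h1
    have := smul_left_injective ℂ (hTne (g * (h * k))) h1
    rw [this, mul_comm]
  let b : H → ℂ := fun g => ∏ k, cc g k
  have hb : ∀ g h, cc g h ^ Nat.card H * b (g * h) = b g * b h := by
    intro g h
    have e1 : ∏ k, cc g (h * k) = b g := Fintype.prod_equiv (Equiv.mulLeft h) _ _ fun k => rfl
    calc cc g h ^ Nat.card H * b (g * h) = ∏ k, cc g h * cc (g * h) k := by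
          rw [Finset.prod_mul_distrib, Finset.prod_const, Finset.card_univ, Nat.card_eq_fintype_card]
      _ = _ := by simp only [hcoc, Finset.prod_mul_distrib, e1, b]
  have hdn : (Nat.card H).Coprime d := by
    haveI : Module.Finite (ZMod p) U := Module.Finite.of_finite
    have hU : Nat.card U = p ^ Module.finrank (ZMod p) U := by
      rw [Module.natCard_eq_pow_finrank (K := ZMod p), Nat.card_zmod]
    have : (Nat.card H).Coprime (d ^ 2) := by
      rw [hd, hU]
      exact (((Fact.out : p.Prime).coprime_iff_not_dvd.mpr hH).symm).pow_right _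
    exact this.coprime_dvd_right (dvd_pow_self d two_ne_zero)
  obtain ⟨a, ha⟩ : ∃ a : ℕ, ∀ z : ℂ, z ^ d = 1 → z ^ (Nat.card H * a) = z := by
    obtain ⟨ω, hω⟩ : ∃ ω : ℂ, IsPrimitiveRoot ω d := ⟨_, Complex.isPrimitiveRoot_exp d hd0.ne'⟩
    obtain ⟨a, ha⟩ := exists_pow_eq_self_of_coprime (x := ω) (n := Nat.card H)
      (by rw [← hω.eq_orderOf]; exact hdn)
    refine ⟨a, fun z hz => ?_⟩
    haveI : NeZero d := ⟨hd0.ne'⟩
    obtain ⟨i, -, rfl⟩ := hω.eq_pow_of_pow_eq_one hz
    rw [← pow_mul, mul_comm i, pow_mul, pow_mul, ha]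
  have hb0 : ∀ g, b g ≠ 0 := fun g => Finset.prod_ne_zero_iff.mpr fun k _ h0 => by
    have := hccd g k
    rw [h0, zero_pow hd0.ne'] at this
    exact zero_ne_one this
  let τ : H →* (Module.End ℂ (Fin d → ℂ))ˣ := MonoidHom.mk'
    (fun g => Units.map (algebraMap ℂ (Module.End ℂ (Fin d → ℂ))).toMonoidHom
      (Units.mk0 ((b g ^ a)⁻¹) (inv_ne_zero (pow_ne_zero _ (hb0 g)))) * T g)
    (fun g h => by
      apply Units.ext
      show algebraMap ℂ _ ((b (g * h) ^ a)⁻¹) * (T (g * h) : Module.End ℂ (Fin d → ℂ)) =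
        algebraMap ℂ _ ((b g ^ a)⁻¹) * (T g : Module.End ℂ (Fin d → ℂ)) *
          (algebraMap ℂ _ ((b h ^ a)⁻¹) * (T h : Module.End ℂ (Fin d → ℂ)))
      simp only [Algebra.algebraMap_eq_smul_one, smul_mul_assoc, one_mul, mul_smul_comm, smul_smul, hcc]
      congr 1
      have h1 : cc g h * b (g * h) ^ a = (b g * b h) ^ a := by
        rw [← hb, mul_pow, ← pow_mul, ha _ (hccd g h)]
      have := hb0 g
      have := hb0 h
      have := hb0 (g * h)
      rw [mul_pow] at h1
      field_simp
      linear_combination -h1)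
  have hτπ : ∀ g x, (τ g : Module.End ℂ (Fin d → ℂ)) * π x = π (α g x) * τ g := fun g x => by
    show algebraMap ℂ _ _ * (T g : Module.End ℂ (Fin d → ℂ)) * π x = _ * (algebraMap ℂ _ _ * _)
    rw [mul_assoc, hTπ, ← mul_assoc, Algebra.commutes, mul_assoc]
  let W : Representation ℂ H (Fin d → ℂ) := (Units.coeHom _).comp τ
  refine ⟨W.character, H12.isCharacter_character W, ⟨d, hd, by rw [Representation.char_one, Module.finrank_fin_fun]⟩,
    fun h => ?_⟩
  constructor
  · -- absolute value
    set S : Module.End ℂ (Fin d → ℂ) := ∑ e : Heis β, π e * W h * π e⁻¹ with hS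
    obtain ⟨c', hc'⟩ := H12.exists_scalar_of_commute π S (fun y => by
      rw [hS, Finset.sum_mul, Finset.mul_sum]
      refine (Fintype.sum_equiv (Equiv.mulLeft y) _ _ fun e => ?_).symm
      rw [Equiv.coe_mulLeft, mul_inv_rev, map_mul, map_mul]
      simp only [mul_assoc]
      rw [← map_mul π y⁻¹ y, inv_mul_cancel, map_one, mul_one])
    have htrS : LinearMap.trace ℂ (Fin d → ℂ) S = (Nat.card (Heis β) : ℂ) * W.character h := by
      rw [hS, map_sum, Finset.sum_congr rfl (fun e _ => by
        rw [LinearMap.trace_mul_comm, ← mul_assoc, ← map_mul, inv_mul_cancel, map_one, one_mul]),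
        Finset.sum_const, Finset.card_univ, nsmul_eq_mul, Nat.card_eq_fintype_card]
      rfl
    rw [hc', map_smul, LinearMap.trace_one, Module.finrank_fin_fun, smul_eq_mul] at htrS
    have h2 : LinearMap.trace ℂ (Fin d → ℂ) (S * W h⁻¹) = c' * W.character h⁻¹ := by
      rw [hc', smul_mul_assoc, one_mul, map_smul, smul_eq_mul]; rfl
    have h3 : LinearMap.trace ℂ (Fin d → ℂ) (S * W h⁻¹) =
        (p : ℂ) * (Nat.card (fixVec ρ h) : ℂ) * d := by
      rw [hS, Finset.sum_mul, map_sum]
      have hterm : ∀ e : Heis β, LinearMap.trace ℂ (Fin d → ℂ) (π e * W h * π e⁻¹ * W h⁻¹) =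
          if ρ h e.vec = e.vec then (d : ℂ) else 0 := by
        intro e
        have : π e * W h * π e⁻¹ * W h⁻¹ = π (e * α h e⁻¹) := by
          have e1 : W h * π e⁻¹ = π (α h e⁻¹) * W h := hτπ h e⁻¹
          calc π e * W h * π e⁻¹ * W h⁻¹ = π e * (W h * π e⁻¹) * W h⁻¹ := by simp only [mul_assoc]
            _ = π e * π (α h e⁻¹) * (W h * W h⁻¹) := by rw [e1]; simp only [mul_assoc]
            _ = _ := by rw [← map_mul W, mul_inv_cancel, map_one, mul_one, ← map_mul]
        rw [this]
        show π.character _ = _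
        rw [hπψ]
        have hv : (e * α h e⁻¹).vec = e.vec - ρ h e.vec := by
          show e.vec + ρ h (-e.vec) = _
          rw [map_neg, sub_eq_add_neg]
        by_cases hfix : ρ h e.vec = e.vec
        · rw [if_pos hfix]
          have : e * α h e⁻¹ = 1 := by
            ext
            · rw [hv, hfix, sub_self]; rfl
            · show e.cen + (-e.cen + β e.vec e.vec) + β e.vec (ρ h (-e.vec)) = 0
              rw [map_neg, map_neg, hfix]
              ring
          rw [this, hd1]
        · rw [if_neg hfix, hvan, if_neg]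
          rw [hv, sub_eq_zero]
          exact fun h0 => hfix h0.symm
      simp only [hterm]
      rw [← Equiv.sum_comp (Heis.toProd (β := β)).symm, Fintype.sum_prod_type]
      have hv2 : ∀ u : U, ∀ a : ZMod p, ((Heis.toProd (β := β)).symm (u, a)).vec = u := fun _ _ => rfl
      simp only [hv2, Finset.sum_const, Finset.card_univ, ZMod.card, nsmul_eq_mul]
      rw [← Finset.mul_sum, ← Finset.sum_filter, Finset.sum_const, nsmul_eq_mul]
      rw [show (Nat.card (fixVec ρ h)) = (Finset.univ.filter fun u : U => ρ h u = u).card by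
        rw [Nat.card_eq_fintype_card, Fintype.card_subtype]; rfl]
      ring
    rw [h2, H12.character_inv] at h3
    have hd' : (d : ℂ) ≠ 0 := Nat.cast_ne_zero.mpr hd0.ne'
    have hp' : (p : ℂ) ≠ 0 := Nat.cast_ne_zero.mpr (Fact.out : p.Prime).ne_zero
    rw [Heis.card, ← hd, Nat.cast_mul, Nat.cast_pow] at htrS
    apply mul_left_cancel₀ (mul_ne_zero (mul_ne_zero hd' hd') hp')
    linear_combination (d : ℂ) * h3 - (conj (W.character h)) * htrS
  · -- divisibility
    let C : Submodule (ZMod p) U := fixVec ρ h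
    let βC : LinearMap.BilinForm (ZMod p) C := β.compl₁₂ C.subtype C.subtype
    have hndC : ∀ u : C, (∀ w : C, βC w u - βC u w = 0) → u = 0 := by
      intro u hu
      apply Subtype.ext
      refine nondeg_fix hH ρ A hinv hnd h u u.2 fun y hy => ?_
      have := hu ⟨y, hy⟩
      simp only [βC, LinearMap.compl₁₂_apply, Submodule.subtype_apply, hβA] at this
      rw [← hβA, ← neg_sub, hβA, this, neg_zero]
    haveI : Fintype (Heis βC) := Fintype.ofFinite _
    let ι : Heis βC →* Heis β := MonoidHom.mk' (fun x => ⟨(x.vec : U), x.cen⟩) fun x y => by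
      ext <;> simp [βC]
    let K := Subgroup.zpowers h
    haveI : Fintype K := Fintype.ofFinite _
    have hKfix : ∀ k : K, ∀ u ∈ C, ρ (k : H) u = u := by
      rintro ⟨k, hk⟩ u hu
      obtain ⟨n, rfl⟩ := mem_zpowers_iff_mem_range_orderOf.mp hk |> Finset.mem_image.mp |>
        fun ⟨i, _, hi⟩ => (⟨i, hi⟩ : ∃ i : ℕ, h ^ i = k)
      show ρ (h ^ n) u = u
      induction n with
      | zero => simp
      | succ n ih => rw [pow_succ, map_mul, Module.End.mul_apply, mem_fixVec.mp hu, ih (Subgroup.pow_mem _ (Subgroup.mem_zpowers h) n)]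
    let R : Representation ℂ (Heis βC × K) (Fin d → ℂ) :=
      { toFun := fun q => π (ι q.1) * W q.2
        map_one' := by simp
        map_mul' := fun q r => by
          have hc' : W q.2 * π (ι r.1) = π (ι r.1) * W q.2 := by
            have := hτπ (q.2 : H) (ι r.1)
            rw [show α (q.2 : H) (ι r.1) = ι r.1 from Heis.ext (hKfix q.2 _ r.1.vec.2) rfl] at this
            exact this
          simp only [Prod.fst_mul, Prod.snd_mul, map_mul, Subgroup.coe_mul]
          simp only [mul_assoc]
          rw [← mul_assoc (W q.2), hc', mul_assoc] }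
    have hΦ := H12.isCharacter_character R
    have hRgen : ∀ (x : Heis βC) (k : K), R.character (Heis.gen * x, k) = c * R.character (x, k) := by
      intro x k
      have hgen : ι (Heis.gen (β := βC)) = Heis.gen := by ext <;> simp [ι, Heis.gen]
      obtain ⟨c₀, hc₀⟩ := H12.exists_scalar_of_commute π (π Heis.gen) (fun e => by rw [← map_mul, Heis.gen_comm, map_mul])
      have hcc₀ : c₀ = c := by
        have := hψ 1
        rw [mul_one, ← hπψ] at this
        simp only [Representation.character, hc₀, map_smul, map_one, LinearMap.trace_one, smul_eq_mul,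
          Module.finrank_fin_fun] at this
        exact mul_right_cancel₀ (Nat.cast_ne_zero.mpr hd0.ne') this
      show LinearMap.trace ℂ _ (π (ι (Heis.gen * x)) * W k) = c * LinearMap.trace ℂ _ (π (ι x) * W k)
      rw [map_mul ι, hgen, map_mul π, hc₀, hcc₀, smul_mul_assoc, one_mul, smul_mul_assoc, map_smul, smul_eq_mul]
    have hex : ∀ μ : IrrCharacter K, ∃ z : ℤ, ∀ dC : ℕ, dC ^ 2 = Nat.card C →
        (Nat.card K : ℂ)⁻¹ * ∑ k, R.character (1, k) * conj ((μ : K → ℂ) k) = (dC : ℂ) * z := by
      intro μ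
      have hF := twistAvg_isCharacter' hΦ (H12.isCharacter_irr μ)
      set Fμ : Heis βC → ℂ := fun x => (Nat.card K : ℂ)⁻¹ * ∑ k, R.character (x, k) * conj ((μ : K → ℂ) k) with hFμ
      have hFgen : ∀ x, Fμ (Heis.gen * x) = c * Fμ x := fun x => by
        simp only [hFμ, hRgen, Finset.mul_sum]
        exact Finset.sum_congr rfl fun k _ => by ring
      have hdegs : ∀ χ : IrrCharacter (Heis βC), classInner Fμ χ ≠ 0 →
          (H12.degree (χ : Heis βC → ℂ)) ^ 2 = Nat.card C := by
        intro χ hne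
        obtain ⟨c₁, hc₁p, hc₁⟩ := Heis.char_gen_mul χ
        have heq : classInner Fμ χ = c * conj c₁ * classInner Fμ χ := by
          conv_lhs => rw [H12.classInner_def, ← Equiv.sum_comp (Equiv.mulLeft (Heis.gen (β := βC)))]
          rw [H12.classInner_def, Finset.mul_sum, Finset.mul_sum, Finset.mul_sum]
          refine Finset.sum_congr rfl fun x _ => ?_
          rw [Equiv.coe_mulLeft, hFgen, hc₁, map_mul]
          ring
        have hone : c * conj c₁ = 1 := mul_right_cancel₀ hne (by rw [one_mul]; exact heq.symm)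
        have hcc₁ : c₁ = c := by
          rw [H12.conj_eq_inv_of_pow_eq_one (Fact.out : p.Prime).ne_zero hc₁p] at hone
          have : c₁ ≠ 0 := fun h0 => by rw [h0] at hone; simp at hone
          field_simp at hone
          exact hone.symm
        exact (Heis.irr_structure hndC χ hc₁p (hcc₁ ▸ hc) hc₁).2
      choose m hm using fun χ : IrrCharacter (Heis βC) =>
        H12.IsCharacter.classInner_nat hF (H12.isCharacter_irr χ)
      refine ⟨(∑ χ : IrrCharacter (Heis βC), m χ : ℕ), fun dC hdC => ?_⟩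
      show Fμ 1 = _
      rw [H12.classFunction_apply_eq_sum (H12.IsCharacter.isClassFunction hF) 1, Int.cast_natCast,
        Nat.cast_sum, Finset.mul_sum]
      refine Finset.sum_congr rfl fun χ _ => ?_
      rw [hm χ, H12.irr_apply_one]
      rcases Nat.eq_zero_or_pos (m χ) with h0 | h0
      · simp [h0]
      · have := hdegs χ (by rw [hm χ]; exact_mod_cast h0.ne')
        rw [← hdC] at this
        rw [Nat.pow_left_injective two_ne_zero this]
        ring
    choose z hz using hex
    obtain ⟨ψC, -⟩ : ∃ x : IrrCharacter K, True := ⟨H12.oneIrr _, trivial⟩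
    -- a square root of the order
    obtain ⟨dC, hdC⟩ : ∃ dC : ℕ, dC ^ 2 = Nat.card C := by
      by_contra hcon
      push Not at hcon
      have hall : ∀ χ : IrrCharacter (Heis βC), (χ : Heis βC → ℂ) Heis.gen = (χ : Heis βC → ℂ) 1 := by
        intro χ
        obtain ⟨c₁, hc₁p, hc₁⟩ := Heis.char_gen_mul χ
        have : c₁ = 1 := by
          by_contra h1
          exact hcon _ (Heis.irr_structure hndC χ hc₁p h1 hc₁).2
        simpa [this] using hc₁ 1
      exact Heis.gen_ne_one (isConj_one_left.mp ((H12.isConj_iff_irr _ _).mpr hall))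
    refine ⟨dC, ∑ μ : IrrCharacter K, (z μ : ℂ) * (μ : K → ℂ) ⟨h, Subgroup.mem_zpowers h⟩, ?_, hdC, ?_⟩
    · refine IsIntegral.sum _ fun μ _ => IsIntegral.mul ?_ (H12.IsCharacter.isIntegral (H12.isCharacter_irr μ) _)
      exact isIntegral_algebraMap (R := ℤ) (A := ℂ) (x := z μ)
    · have hres : IsClassFunction K (fun k : K => R.character (1, k)) :=
        fun a b => by
          have := H12.IsCharacter.isClassFunction hΦ (1, a) (1, b)
          simpa using this
      have := H12.classFunction_apply_eq_sum hres ⟨h, Subgroup.mem_zpowers h⟩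
      rw [show R.character ((1 : Heis βC), (⟨h, Subgroup.mem_zpowers h⟩ : K)) = W.character h by
        show LinearMap.trace ℂ _ (π (ι 1) * W h) = _
        rw [map_one, map_one, one_mul]; rfl] at this
      rw [this, Finset.mul_sum]
      refine Finset.sum_congr rfl fun μ _ => ?_
      rw [show classInner (fun k : K => R.character (1, k)) (μ : K → ℂ) = (dC : ℂ) * z μ from hz μ dC hdC]
      ring

end H19
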