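import Cfsg.Agent.H19.CycloFam
import Cfsg.Agent.H19.WeilChar
import Cfsg.Agent.H19.SelfDual
import Cfsg.Agent.H13.PermChar
import Cfsg.Agent.H20.LocalRing

set_option autoImplicit false
set_option linter.unusedSectionVars false

/-!
Weight functions of a coprime group of isometries over a prime field.
-/

open Cfsg Polynomial
open scoped ComplexConjugate

namespace H19

universe u

variable {p : ℕ} [Fact p.Prime] {H : Type u} [Group H] [Fintype H]
variable {U : Type*} [AddCommGroup U] [Module (ZMod p) U] [Finite U]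

/-- Weight functions with squared absolute value `[U : C_U h]`. -/
def GoodWeight (ζ : ℂ) (M : Ideal AlgInt) (ρ : Representation (ZMod p) H U) : Prop :=
  ∃ (ψ : ℕ → H → ℂ) (z : ℤ), z ≠ 0 ∧ z.natAbs.Coprime (Nat.card H) ∧
    CFam ζ (fun j => (z : ℂ) • ψ j) ∧
    (∀ j, p.Coprime j → ∀ h, ‖ψ j h‖ ^ 2 * (Nat.card (fixVec ρ h) : ℝ) = (Nat.card U : ℝ)) ∧
    (∀ h, IsIntegral ℤ (ψ 1 h)) ∧ ψ 1 1 = 1 ∧
    ∀ h, ρ h ≠ 1 → MemLocalIdeal M (ψ 1 h)

theorem exists_card_eq_pow (W : Submodule (ZMod p) U) :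
    ∃ a ≤ Module.finrank (ZMod p) U, Nat.card W = p ^ a := by
  haveI : Module.Finite (ZMod p) U := Module.Finite.of_finite
  exact ⟨Module.finrank (ZMod p) W, Submodule.finrank_le W,
    by rw [Module.natCard_eq_pow_finrank (K := ZMod p), Nat.card_zmod]⟩

/-- Powers of `p` up to a bound. -/
def powSet (p m : ℕ) : Finset ℤ := (Finset.range (m + 1)).image fun a => (p : ℤ) ^ a

theorem powSet_prod (m : ℕ) (hH : ¬ p ∣ Nat.card H) :
    (∏ a ∈ powSet p m, a) ≠ 0 ∧ (∏ a ∈ powSet p m, a).natAbs.Coprime (Nat.card H) := by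
  refine ⟨Finset.prod_ne_zero_iff.mpr fun a ha => ?_, ?_⟩
  · obtain ⟨b, -, rfl⟩ := Finset.mem_image.mp ha
    exact pow_ne_zero _ (Nat.cast_ne_zero.mpr (Fact.out : p.Prime).ne_zero)
  · refine Finset.prod_induction _ (fun a : ℤ => a.natAbs.Coprime (Nat.card H))
      (fun a b ha hb => by rw [Int.natAbs_mul]; exact ha.mul_left hb) (Nat.coprime_one_left _) fun a ha => ?_
    obtain ⟨b, -, rfl⟩ := Finset.mem_image.mp ha
    rw [Int.natAbs_pow, Int.natAbs_natCast]
    exact (((Fact.out : p.Prime).coprime_iff_not_dvd.mpr hH)).pow_left _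

theorem fixVec_one (ρ : Representation (ZMod p) H U) : fixVec ρ 1 = ⊤ := by
  ext u
  simp [mem_fixVec]

theorem eq_top_iff_fix (ρ : Representation (ZMod p) H U) (h : H) : fixVec ρ h = ⊤ ↔ ρ h = 1 :=
  ⟨fun e => LinearMap.ext fun u => mem_fixVec.mp (e ▸ Submodule.mem_top),
    fun e => eq_top_iff.mpr fun u _ => mem_fixVec.mpr (by rw [e, Module.End.one_apply])⟩

/-- Trivial actions. -/
theorem goodWeight_trivial (ζ : ℂ) (M : Ideal AlgInt) (ρ : Representation (ZMod p) H U)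
    (h : ∀ g, ρ g = 1) : GoodWeight ζ M ρ := by
  refine ⟨fun _ _ => 1, 1, one_ne_zero, Nat.coprime_one_left _,
    (CFam.const (1 : ℤ)).ext' fun j x => by simp, fun j _ g => ?_, fun _ => isIntegral_one, rfl,
    fun g hg => absurd (h g) hg⟩
  rw [(eq_top_iff_fix ρ g).mpr (h g), Nat.card_congr (Submodule.topEquiv).toEquiv]
  simp

/-- Symplectic actions. -/
theorem goodWeight_alt (hH : ¬ p ∣ Nat.card H) {M : Ideal AlgInt} (hM : IsPModular p M) (ζ : ℂ)
    (ρ : Representation (ZMod p) H U) (A : LinearMap.BilinForm (ZMod p) U) (halt : ∀ x, A x x = 0)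
    (hinv : ∀ h x y, A (ρ h x) (ρ h y) = A x y) (hnd : ∀ x, (∀ y, A x y = 0) → x = 0) :
    GoodWeight ζ M ρ := by
  haveI : M.IsPrime := H20.isPrime_of_modular hM
  haveI : Module.Finite (ZMod p) U := Module.Finite.of_finite
  have hp : p.Prime := Fact.out
  obtain ⟨θ, hθ, ⟨d, hd, hθ1⟩, hθh⟩ := exists_weil hH ρ A halt hinv hnd
  choose hnorm dC t ht hdC hθt using hθh
  set m := Module.finrank (ZMod p) U
  set z : ℤ := ∏ a ∈ powSet p m, a with hz
  obtain ⟨hz0, hzc⟩ := powSet_prod (p := p) (H := H) m hH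
  have hθc := H12.IsCharacter.star hθ
  have hF : CFam ζ (fun _ (h : H) => ((Nat.card (fixVec ρ h) : ℕ) : ℂ)) :=
    (CFam.of_char (H12.IsCharacter.mul hθ hθc)).ext' fun _ h => hnorm h
  obtain ⟨E, hE, hEF⟩ := hF.exists_inverse (powSet p m) fun _ h => by
    obtain ⟨a, ha, hc⟩ := exists_card_eq_pow (fixVec ρ h)
    exact ⟨(p : ℤ) ^ a, Finset.mem_image.mpr ⟨a, Finset.mem_range.mpr (Nat.lt_succ_of_le ha), rfl⟩,
      by rw [hc]; push_cast; rfl⟩
  have hC0 : ∀ h, ((Nat.card (fixVec ρ h) : ℕ) : ℂ) ≠ 0 := fun h =>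
    Nat.cast_ne_zero.mpr Nat.card_pos.ne'
  have hdvd : ∀ h, dC h ∣ d := fun h => by
    obtain ⟨a, ha, hc⟩ := exists_card_eq_pow (fixVec ρ h)
    refine (Nat.pow_dvd_pow_iff two_ne_zero).mp ?_
    rw [hdC, hd, hc, Module.natCard_eq_pow_finrank (K := ZMod p) (V := U), Nat.card_zmod]
    exact Nat.pow_dvd_pow _ ha
  have hψeq : ∀ h, (d : ℂ) * conj (θ h) / (Nat.card (fixVec ρ h) : ℂ) =
      ((d / dC h : ℕ) : ℂ) * conj (t h) := fun h => by
    have hdC0 : (dC h : ℂ) ≠ 0 := fun h0 => hC0 h (by rw [← hdC h]; simp [h0])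
    rw [hθt h, map_mul, Complex.conj_natCast, ← hdC h, Nat.cast_div (hdvd h) hdC0]
    push_cast
    field_simp
  refine ⟨fun _ h => (d : ℂ) * conj (θ h) / (Nat.card (fixVec ρ h) : ℂ), z, hz0, hzc, ?_,
    fun j _ h => ?_, fun h => ?_, ?_, fun h hh => ?_⟩
  · refine (((CFam.of_char hθc).mul hE).intMul (d : ℤ)).ext' fun j h => ?_
    simp only [Pi.smul_apply, Pi.mul_apply, smul_eq_mul, Int.cast_natCast]
    rw [← hEF j h]
    field_simp [hC0 h]
  · have h1 : ‖θ h‖ ^ 2 = (Nat.card (fixVec ρ h) : ℝ) := by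
      have := congrArg Complex.re (hnorm h)
      simpa [Complex.sq_norm, Complex.normSq_apply] using this
    have hC : (Nat.card (fixVec ρ h) : ℝ) ≠ 0 := Nat.cast_ne_zero.mpr Nat.card_pos.ne'
    rw [norm_div, norm_mul, Complex.norm_conj, Complex.norm_natCast, Complex.norm_natCast, div_pow,
      mul_pow, h1, ← hd]
    push_cast
    field_simp
  · beta_reduce
    rw [hψeq]
    have h' := isIntegral_algebraMap (R := ℤ) (A := ℂ) (x := ((d / dC h : ℕ) : ℤ))
    rw [eq_intCast, Int.cast_natCast] at h'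
    exact h'.mul ((ht h).map (Complex.conjAe.toAlgHom.restrictScalars ℤ))
  · show (d : ℂ) * conj (θ 1) / (Nat.card (fixVec ρ 1) : ℂ) = 1
    rw [hθ1, fixVec_one, Nat.card_congr (Submodule.topEquiv).toEquiv, Complex.conj_natCast, ← hd]
    push_cast
    rw [← sq]
    exact div_self (pow_ne_zero _ fun h0 => (Nat.card_pos (α := U)).ne' (by
      rw [← hd, Nat.cast_eq_zero.mp h0]; rfl))
  · beta_reduce
    rw [hψeq, mul_comm]
    refine H20.memIdeal_mul
      (H20.memRing_of_isIntegral ((ht h).map (Complex.conjAe.toAlgHom.restrictScalars ℤ))) ?_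
    rw [H20.natCast_memIdeal_iff hM]
    obtain ⟨a, ha, hc⟩ := exists_card_eq_pow (fixVec ρ h)
    have ham : a ≠ m := fun e => hh ((eq_top_iff_fix ρ h).mp
      (Submodule.eq_top_of_finrank_eq (Nat.pow_right_injective hp.two_le (by
        show p ^ Module.finrank (ZMod p) (fixVec ρ h) = p ^ m
        rw [← e, ← hc, Module.natCard_eq_pow_finrank (K := ZMod p), Nat.card_zmod]))))
    have hlt : a < m := lt_of_le_of_ne ha ham
    have hsq : (d / dC h) ^ 2 = p ^ (m - a) := by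
      rw [Nat.div_pow (hdvd h), hdC, hd, hc, Module.natCard_eq_pow_finrank (K := ZMod p) (V := U),
        Nat.card_zmod, Nat.pow_div hlt.le hp.pos]
    exact hp.dvd_of_dvd_pow (hsq ▸ dvd_pow_self p (Nat.sub_ne_zero_of_lt hlt))

section Gauss

/-- The additive character given by a power of `ζ`. -/
noncomputable def addCh {ζ : ℂ} (hζ : ζ ^ p = 1) (j : ℕ) : AddChar (ZMod p) ℂ :=
  AddChar.zmodChar p (ζ := ζ ^ j) (by rw [← pow_mul, mul_comm, pow_mul, hζ, one_pow])

theorem addCh_apply {ζ : ℂ} (hζ : ζ ^ p = 1) (j : ℕ) (a : ZMod p) :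
    addCh hζ j a = (ζ ^ j) ^ a.val := AddChar.zmodChar_apply _ _

theorem conj_addCh {ζ : ℂ} (hζ : ζ ^ p = 1) (j : ℕ) (a : ZMod p) :
    conj (addCh hζ j a) = addCh hζ j (-a) := by
  rw [AddChar.map_neg_eq_inv]
  refine H12.conj_eq_inv_of_pow_eq_one (Fact.out : p.Prime).ne_zero ?_
  rw [addCh_apply, pow_right_comm, pow_right_comm ζ j p, hζ, one_pow, one_pow]

theorem addCh_eq_one {ζ : ℂ} (hζ : IsPrimitiveRoot ζ p) {j : ℕ} (hj : p.Coprime j) {a : ZMod p}
    (h : addCh hζ.pow_eq_one j a = 1) : a = 0 := by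
  rw [addCh_apply, ← pow_mul, hζ.pow_eq_one_iff_dvd] at h
  have := Nat.eq_zero_of_dvd_of_lt (hj.dvd_of_dvd_mul_left h) (ZMod.val_lt a)
  exact (ZMod.val_eq_zero a).mp this

/-- A Gauss sum of a nondegenerate symmetric form has squared absolute value the order. -/
theorem gauss_normSq (hp2 : p ≠ 2) {W : Type*} [AddCommGroup W] [Module (ZMod p) W] [Fintype W]
    (B : LinearMap.BilinForm (ZMod p) W) (hs : ∀ x y, B x y = B y x)
    (hnd : ∀ x, (∀ y, B x y = 0) → x = 0) (e : AddChar (ZMod p) ℂ) (he : ∀ a, e a = 1 → a = 0)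
    (hec : ∀ a, conj (e a) = e (-a)) :
    (∑ x, e (B x x)) * conj (∑ x, e (B x x)) = (Fintype.card W : ℂ) := by
  classical
  have h2 : (2 : ZMod p) ≠ 0 := by
    intro h
    have : ((2 : ℕ) : ZMod p) = 0 := by exact_mod_cast h
    exact hp2 ((Nat.prime_dvd_prime_iff_eq Fact.out Nat.prime_two).mp
      ((ZMod.natCast_eq_zero_iff 2 p).mp this))
  rw [map_sum, Finset.mul_sum]
  have step : ∀ y, (∑ x, e (B x x)) * conj (e (B y y)) = ∑ d, e (B d d) * e (2 * B d y) := by
    intro y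
    rw [Finset.sum_mul, hec]
    refine (Fintype.sum_equiv (Equiv.addRight y) _ _ fun d => ?_).symm
    rw [Equiv.coe_addRight, ← AddChar.map_add_eq_mul, ← AddChar.map_add_eq_mul]
    congr 1
    simp only [map_add, LinearMap.add_apply, hs y d]
    ring
  simp only [step]
  rw [Finset.sum_comm, Finset.sum_eq_single (0 : W)]
  · simp
  · intro d _ hd
    rw [← Finset.mul_sum]
    have hne : e.compAddMonoidHom ((2 : ZMod p) • B d).toAddMonoidHom ≠ 0 := by
      rw [AddChar.ne_zero_iff]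
      obtain ⟨y, hy⟩ := not_forall.mp (mt (hnd d) hd)
      refine ⟨y, fun h => hy ?_⟩
      have := he _ h
      simpa [h2] using this
    have hsum := AddChar.sum_eq_ite (e.compAddMonoidHom ((2 : ZMod p) • B d).toAddMonoidHom)
    rw [if_neg hne] at hsum
    have : ∑ y, e (2 * B d y) = 0 := by
      rw [← hsum]; rfl
    rw [this, mul_zero]
  · simp

open scoped Classical in
/-- Partial Gauss sums over fixed vectors. -/
noncomputable def gaussFix (ρ : Representation (ZMod p) H U) {ζ : ℂ} (hζ : ζ ^ p = 1)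
    (S : LinearMap.BilinForm (ZMod p) U) (j : ℕ) (h : H) : ℂ :=
  haveI := Fintype.ofFinite (fixVec ρ h)
  ∑ x : fixVec ρ h, addCh hζ j (S x x)

theorem gaussFix_def (ρ : Representation (ZMod p) H U) {ζ : ℂ} (hζ : ζ ^ p = 1)
    (S : LinearMap.BilinForm (ZMod p) U) (j : ℕ) (h : H) [inst : Fintype (fixVec ρ h)] :
    gaussFix ρ hζ S j h = ∑ x : fixVec ρ h, addCh hζ j (S x x) := by
  cases Subsingleton.elim inst (Fintype.ofFinite _)
  rfl

/-- Number of fixed vectors on a level set. -/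
noncomputable def levelCount (ρ : Representation (ZMod p) H U) (S : LinearMap.BilinForm (ZMod p) U)
    (t : ZMod p) (h : H) : ℕ :=
  Nat.card {w : U // S w w = t ∧ ρ h w = w}

theorem levelCount_isCharacter (ρ : Representation (ZMod p) H U) (S : LinearMap.BilinForm (ZMod p) U)
    (hinv : ∀ h x y, S (ρ h x) (ρ h y) = S x y) (t : ZMod p) :
    IsCharacter H (fun h => (levelCount ρ S t h : ℂ)) := by
  classical
  letI : MulAction H {w : U // S w w = t} :=
    { smul := fun h w => ⟨ρ h w.1, by rw [hinv]; exact w.2⟩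
      one_smul := fun w => Subtype.ext (by show ρ 1 w.1 = w.1; rw [map_one]; rfl)
      mul_smul := fun a b w => Subtype.ext (by
        show ρ (a * b) w.1 = ρ a (ρ b w.1)
        rw [map_mul]; rfl) }
  haveI := Fintype.ofFinite {w : U // S w w = t}
  have := H12.isCharacter_character (permRep ℂ H {w : U // S w w = t})
  rw [← H13.permChar_eq] at this
  refine (congrArg (IsCharacter H) (funext fun h => ?_)).mp this
  rw [Nat.cast_inj]
  exact Nat.card_congr
    { toFun := fun w => ⟨w.1.1, w.1.2, congrArg Subtype.val w.2⟩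
      invFun := fun w => ⟨⟨w.1, w.2.1⟩, Subtype.ext w.2.2⟩
      left_inv := fun w => rfl
      right_inv := fun w => rfl }

theorem gaussFix_eq_sum (ρ : Representation (ZMod p) H U) {ζ : ℂ} (hζ : ζ ^ p = 1)
    (S : LinearMap.BilinForm (ZMod p) U) (j : ℕ) (h : H) :
    gaussFix ρ hζ S j h = ∑ t : ZMod p, (ζ ^ j) ^ t.val * (levelCount ρ S t h : ℂ) := by
  classical
  haveI := Fintype.ofFinite U
  rw [gaussFix_def, ← Finset.sum_fiberwise Finset.univ (fun x : fixVec ρ h => S (x : U) x)]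
  refine Finset.sum_congr rfl fun t _ => ?_
  rw [Finset.sum_congr rfl fun x hx => by rw [(Finset.mem_filter.mp hx).2, addCh_apply],
    Finset.sum_const, nsmul_eq_mul, mul_comm]
  congr 2
  rw [levelCount, ← Fintype.card_subtype, ← Nat.card_eq_fintype_card]
  exact Nat.card_congr
    { toFun := fun x => ⟨x.1.1, x.2, x.1.2⟩
      invFun := fun w => ⟨⟨w.1, w.2.2⟩, w.2.1⟩
      left_inv := fun x => rfl
      right_inv := fun x => rfl }

theorem gaussFix_cfam (ρ : Representation (ZMod p) H U) {ζ : ℂ} (hζ : ζ ^ p = 1)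
    (S : LinearMap.BilinForm (ZMod p) U) (hinv : ∀ h x y, S (ρ h x) (ρ h y) = S x y) :
    CFam ζ (fun j => gaussFix ρ hζ S j) :=
  (CFam.sum Finset.univ fun t (_ : t ∈ Finset.univ) =>
    (CFam.of_char (levelCount_isCharacter ρ S hinv t)).rootMul t.val).ext' fun j h => by
      simp [gaussFix_eq_sum]

theorem gaussFix_one_cfam (ρ : Representation (ZMod p) H U) {ζ : ℂ} (hζ : ζ ^ p = 1)
    (S : LinearMap.BilinForm (ZMod p) U) :
    CFam ζ (fun j (_ : H) => gaussFix ρ hζ S j 1) :=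
  (CFam.sum Finset.univ fun t (_ : t ∈ Finset.univ) =>
    (CFam.const (H := H) (ζ := ζ) (levelCount ρ S t 1 : ℤ)).rootMul t.val).ext' fun j h => by
      simp [gaussFix_eq_sum]

theorem conj_gaussFix (ρ : Representation (ZMod p) H U) {ζ : ℂ} (hζ : ζ ^ p = 1)
    (S : LinearMap.BilinForm (ZMod p) U) (j : ℕ) (h : H) :
    conj (gaussFix ρ hζ S j h) = gaussFix ρ hζ (-S) j h := by
  simp only [gaussFix, map_sum, conj_addCh, LinearMap.neg_apply]

/-- Orthogonal actions in odd characteristic. -/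
theorem goodWeight_symm (hH : ¬ p ∣ Nat.card H) (hp2 : p ≠ 2) {M : Ideal AlgInt}
    (hM : IsPModular p M) {ζ : ℂ} (hζ : IsPrimitiveRoot ζ p)
    (ρ : Representation (ZMod p) H U) (S : LinearMap.BilinForm (ZMod p) U)
    (hs : ∀ x y, S x y = S y x) (hinv : ∀ h x y, S (ρ h x) (ρ h y) = S x y)
    (hnd : ∀ x, (∀ y, S x y = 0) → x = 0) : GoodWeight ζ M ρ := by
  classical
  haveI : M.IsPrime := H20.isPrime_of_modular hM
  haveI : Module.Finite (ZMod p) U := Module.Finite.of_finite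
  haveI := Fintype.ofFinite U
  have hp : p.Prime := Fact.out
  let D : H → Submodule (ZMod p) U := fun h => S.orthogonal (fixVec ρ h)
  have hDmem : ∀ h y, y ∈ D h ↔ ∀ c ∈ fixVec ρ h, S c y = 0 := fun h y => Iff.rfl
  have hcompl : ∀ h, IsCompl (fixVec ρ h) (D h) := fun h => by
    refine LinearMap.BilinForm.isCompl_orthogonal_of_restrict_nondegenerate
      (fun x y hxy => by rwa [hs]) ?_
    have hsep : ∀ x : fixVec ρ h, (∀ y : fixVec ρ h, S x y = 0) → x = 0 := fun x hx =>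
      Subtype.ext (nondeg_fix hH ρ S hinv hnd h x x.2 fun y hy => hx ⟨y, hy⟩)
    exact ⟨fun x hx => hsep x hx, fun y hy => hsep y fun x => (hs _ _).trans (hy x)⟩
  let ψ : ℕ → H → ℂ := fun j h => ∑ y : D h, addCh hζ.pow_eq_one j (S y y)
  have hdec : ∀ j h, gaussFix ρ hζ.pow_eq_one S j 1 = gaussFix ρ hζ.pow_eq_one S j h * ψ j h := by
    intro j h
    rw [gaussFix_def, gaussFix_def, Finset.sum_mul_sum, ← Fintype.sum_prod_type']
    refine (Fintype.sum_equiv ((Submodule.prodEquivOfIsCompl _ _ (hcompl h)).trans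
      ((LinearEquiv.ofEq _ _ (fixVec_one ρ)).trans Submodule.topEquiv).symm).toEquiv _ _ fun q => ?_).symm
    rw [← AddChar.map_add_eq_mul]
    congr 1
    have hzero : S (q.1 : U) (q.2 : U) = 0 := (hDmem h _).mp q.2.2 _ q.1.2
    show S (q.1 : U) q.1 + S (q.2 : U) q.2 = S ((q.1 : U) + q.2) ((q.1 : U) + q.2)
    simp only [map_add, LinearMap.add_apply, hzero, hs (q.2 : U) q.1]
    ring
  have hG : ∀ j, p.Coprime j → ∀ h, gaussFix ρ hζ.pow_eq_one S j h * conj (gaussFix ρ hζ.pow_eq_one S j h) =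
      (Nat.card (fixVec ρ h) : ℂ) := fun j hj h => by
    rw [Nat.card_eq_fintype_card, gaussFix_def]
    exact gauss_normSq hp2 (S.compl₁₂ (fixVec ρ h).subtype (fixVec ρ h).subtype) (fun x y => hs _ _)
      (fun x hx => Subtype.ext (nondeg_fix hH ρ S hinv hnd h x x.2 fun y hy => hx ⟨y, hy⟩))
      _ (fun a => addCh_eq_one hζ hj) (conj_addCh _ _)
  have hψn : ∀ j, p.Coprime j → ∀ h, ψ j h * conj (ψ j h) = (Nat.card (D h) : ℂ) := fun j hj h => by
    rw [Nat.card_eq_fintype_card]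
    refine gauss_normSq hp2 (S.compl₁₂ (D h).subtype (D h).subtype) (fun x y => hs _ _) ?_
      _ (fun a => addCh_eq_one hζ hj) (conj_addCh _ _)
    intro x hx
    apply Subtype.ext
    refine hnd x fun w => ?_
    obtain ⟨c, hc, y, hy, rfl⟩ := Submodule.mem_sup.mp ((hcompl h).sup_eq_top ▸ Submodule.mem_top (x := w))
    rw [map_add, hs, (hDmem h _).mp x.2 c hc, zero_add]
    exact hx ⟨y, hy⟩
  set m := Module.finrank (ZMod p) U
  set G : ℕ → H → ℂ := gaussFix ρ hζ.pow_eq_one S with hGdef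
  have hGc := gaussFix_cfam ρ hζ.pow_eq_one S hinv
  have hGc' : CFam ζ (fun j h => conj (G j h)) :=
    (gaussFix_cfam ρ hζ.pow_eq_one (-S) (fun h x y => by simp [hinv])).ext' fun j h =>
      (conj_gaussFix ρ hζ.pow_eq_one S j h).symm
  obtain ⟨E, hE, hEF⟩ := (hGc.mul hGc').exists_inverse (powSet p (2 * m)) fun j h => by
    obtain ⟨a, ha, hc⟩ := exists_card_eq_pow (fixVec ρ h)
    by_cases hj : p.Coprime j
    · refine ⟨(p : ℤ) ^ a, Finset.mem_image.mpr ⟨a, Finset.mem_range.mpr (by omega), rfl⟩, ?_⟩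
      rw [Pi.mul_apply, hG j hj h, hc]
      push_cast
      rfl
    · refine ⟨(p : ℤ) ^ (2 * a), Finset.mem_image.mpr ⟨2 * a, Finset.mem_range.mpr (by omega), rfl⟩, ?_⟩
      obtain ⟨k, rfl⟩ : p ∣ j := by
        by_contra hn
        exact hj (hp.coprime_iff_not_dvd.mpr hn)
      have hone : ∀ a, addCh hζ.pow_eq_one (p * k) a = 1 := fun a => by
        rw [addCh_apply, pow_mul, hζ.pow_eq_one, one_pow, one_pow]
      simp only [Pi.mul_apply, gaussFix_def, hGdef, hone, map_sum, map_one, Finset.sum_const,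
        Finset.card_univ, nsmul_eq_mul, mul_one, ← Nat.card_eq_fintype_card, hc]
      push_cast
      rw [map_pow, Complex.conj_natCast]
      ring
  obtain ⟨hz0, hzc⟩ := powSet_prod (p := p) (H := H) (2 * m) hH
  refine ⟨ψ, _, hz0, hzc, ?_, fun j hj h => ?_, fun h => ?_, ?_, fun h hh => ?_⟩
  · refine (((gaussFix_one_cfam ρ hζ.pow_eq_one S).mul hGc').mul hE).ext' fun j h => ?_
    have e1 := hEF j h
    have e2 := hdec j h
    simp only [Pi.mul_apply, hGdef] at e1 e2
    simp only [Pi.smul_apply, Pi.mul_apply, smul_eq_mul, hGdef]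
    rw [← e1, e2]
    ring
  · have h1 : ‖ψ j h‖ ^ 2 = (Nat.card (D h) : ℝ) := by
      have := congrArg Complex.re (hψn j hj h)
      simpa [Complex.sq_norm, Complex.normSq_apply] using this
    rw [h1, ← Nat.cast_mul, mul_comm, ← Nat.card_prod,
      Nat.card_congr (Submodule.prodEquivOfIsCompl _ _ (hcompl h)).toEquiv]
  · refine IsIntegral.sum _ fun y _ => ?_
    rw [addCh_apply]
    exact ((hζ.isIntegral hp.pos).pow 1).pow _
  · show ∑ y : D 1, addCh hζ.pow_eq_one 1 (S y y) = 1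
    have hbot : D 1 = ⊥ := by
      have := (hcompl 1).inf_eq_bot
      rwa [fixVec_one, top_inf_eq] at this
    haveI : Subsingleton (D 1) := by rw [hbot]; infer_instance
    rw [Fintype.sum_subsingleton _ 0]
    simp
  · have hcardD : p ∣ Nat.card (D h) := by
      obtain ⟨a, ha, hc⟩ := exists_card_eq_pow (D h)
      rw [hc]
      refine dvd_pow_self p fun ha0 => hh ((eq_top_iff_fix ρ h).mp ?_)
      rw [ha0, pow_zero] at hc
      have hbot : D h = ⊥ := by
        haveI := (Nat.card_eq_one_iff_unique.mp hc).1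
        exact Submodule.eq_bot_of_subsingleton
      have := (hcompl h).sup_eq_top
      rwa [hbot, sup_bot_eq] at this
    have hsum : MemLocalIdeal M (∑ y : D h, (addCh hζ.pow_eq_one 1 (S y y) - 1)) := by
      refine Finset.sum_induction _ (MemLocalIdeal M) (fun _ _ => H20.memIdeal_add) H20.memIdeal_zero
        fun y _ => ?_
      have hint : MemLocalRing M (addCh hζ.pow_eq_one 1 (S y y)) :=
        H20.memRing_of_isIntegral (by rw [addCh_apply]; exact ((hζ.isIntegral hp.pos).pow 1).pow _)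
      have h1 := H20.red_eq_one_of_pow_p_pow hM
        (w := (⟨addCh hζ.pow_eq_one 1 (S y y), hint⟩ : H20.O M)) (j := 1)
        (Subtype.ext (by
          show addCh hζ.pow_eq_one 1 (S y y) ^ p ^ 1 = 1
          rw [pow_one, addCh_apply, pow_one, ← pow_mul, mul_comm, pow_mul, hζ.pow_eq_one, one_pow]))
      rw [← map_one (H20.red M), H20.red_eq_red_iff] at h1
      exact h1
    have := H20.memIdeal_add hsum ((H20.natCast_memIdeal_iff hM (Nat.card (D h))).mpr hcardD)
    rw [Finset.sum_sub_distrib, Finset.sum_const, Finset.card_univ, nsmul_eq_mul, mul_one,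
      Nat.card_eq_fintype_card, sub_add_cancel] at this
    exact this

end Gauss

section Sum

/-- Restriction to an invariant subspace. -/
def subRep (ρ : Representation (ZMod p) H U) (W : Submodule (ZMod p) U) (hW : SelfDual.Inv ρ W) :
    Representation (ZMod p) H W where
  toFun h := (ρ h).restrict (hW h)
  map_one' := LinearMap.ext fun w => Subtype.ext (by show ρ 1 (w : U) = w; simp)
  map_mul' a b := LinearMap.ext fun w => Subtype.ext (by
    show ρ (a * b) (w : U) = ρ a (ρ b (w : U)); simp)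

theorem subRep_apply (ρ : Representation (ZMod p) H U) (W : Submodule (ZMod p) U)
    (hW : SelfDual.Inv ρ W) (h : H) (w : W) : ((subRep ρ W hW h w : W) : U) = ρ h w := rfl

theorem card_fix_sum (ρ : Representation (ZMod p) H U) {U₁ U₂ : Submodule (ZMod p) U}
    (h₁ : SelfDual.Inv ρ U₁) (h₂ : SelfDual.Inv ρ U₂) (hc : IsCompl U₁ U₂) (h : H) :
    Nat.card (fixVec (subRep ρ U₁ h₁) h) * Nat.card (fixVec (subRep ρ U₂ h₂) h) =
      Nat.card (fixVec ρ h) := by
  rw [← Nat.card_prod]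
  have hfix : ∀ a : U₁, ∀ b : U₂, ρ h ((a : U) + b) = (a : U) + b →
      subRep ρ U₁ h₁ h a = a ∧ subRep ρ U₂ h₂ h b = b := by
    intro a b he
    have h' : Submodule.prodEquivOfIsCompl _ _ hc (subRep ρ U₁ h₁ h a, subRep ρ U₂ h₂ h b) =
        Submodule.prodEquivOfIsCompl _ _ hc (a, b) := by
      simp only [Submodule.coe_prodEquivOfIsCompl', subRep_apply]
      rw [← map_add, he]
    exact Prod.ext_iff.mp ((Submodule.prodEquivOfIsCompl _ _ hc).injective h')
  refine Nat.card_eq_of_bijective (fun q => ⟨(q.1.1 : U) + (q.2.1 : U), ?_⟩) ⟨?_, ?_⟩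
  · rw [mem_fixVec, map_add, ← subRep_apply ρ U₁ h₁, ← subRep_apply ρ U₂ h₂, mem_fixVec.mp q.1.2,
      mem_fixVec.mp q.2.2]
  · rintro ⟨a, b⟩ ⟨a', b'⟩ he
    have h' : Submodule.prodEquivOfIsCompl _ _ hc (a.1, b.1) =
        Submodule.prodEquivOfIsCompl _ _ hc (a'.1, b'.1) := by
      simp only [Submodule.coe_prodEquivOfIsCompl']
      exact congrArg Subtype.val he
    have := Prod.ext_iff.mp ((Submodule.prodEquivOfIsCompl _ _ hc).injective h')
    exact Prod.ext (Subtype.ext this.1) (Subtype.ext this.2)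
  · rintro ⟨w, hw⟩
    obtain ⟨a, ha, b, hb, rfl⟩ := Submodule.mem_sup.mp (hc.sup_eq_top ▸ Submodule.mem_top (x := w))
    obtain ⟨e1, e2⟩ := hfix ⟨a, ha⟩ ⟨b, hb⟩ hw
    exact ⟨(⟨⟨a, ha⟩, e1⟩, ⟨⟨b, hb⟩, e2⟩), rfl⟩

/-- Weights multiply over invariant decompositions. -/
theorem goodWeight_sum {ζ : ℂ} {M : Ideal AlgInt} (hM : IsPModular p M)
    (ρ : Representation (ZMod p) H U) {U₁ U₂ : Submodule (ZMod p) U}
    (h₁ : SelfDual.Inv ρ U₁) (h₂ : SelfDual.Inv ρ U₂) (hc : IsCompl U₁ U₂)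
    (g₁ : GoodWeight ζ M (subRep ρ U₁ h₁)) (g₂ : GoodWeight ζ M (subRep ρ U₂ h₂)) :
    GoodWeight ζ M ρ := by
  haveI : M.IsPrime := H20.isPrime_of_modular hM
  obtain ⟨ψ₁, z₁, hz₁, hzc₁, hF₁, hn₁, hi₁, ho₁, hm₁⟩ := g₁
  obtain ⟨ψ₂, z₂, hz₂, hzc₂, hF₂, hn₂, hi₂, ho₂, hm₂⟩ := g₂
  refine ⟨fun j h => ψ₁ j h * ψ₂ j h, z₁ * z₂, mul_ne_zero hz₁ hz₂,
    by rw [Int.natAbs_mul]; exact hzc₁.mul_left hzc₂,
    (hF₁.mul hF₂).ext' fun j h => by simp; ring, fun j hj h => ?_, fun h => (hi₁ h).mul (hi₂ h),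
    by simp [ho₁, ho₂], fun h hh => ?_⟩
  · rw [← card_fix_sum ρ h₁ h₂ hc h, ← Nat.card_congr (Submodule.prodEquivOfIsCompl _ _ hc).toEquiv,
      Nat.card_prod, norm_mul, mul_pow]
    push_cast
    rw [← hn₁ j hj h, ← hn₂ j hj h]
    ring
  · by_cases e1 : subRep ρ U₁ h₁ h = 1
    · have e2 : subRep ρ U₂ h₂ h ≠ 1 := by
        intro e2
        refine hh (LinearMap.ext fun w => ?_)
        obtain ⟨a, ha, b, hb, rfl⟩ := Submodule.mem_sup.mp (hc.sup_eq_top ▸ Submodule.mem_top (x := w))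
        rw [map_add, Module.End.one_apply, show ρ h a = a from
            congrArg Subtype.val (LinearMap.congr_fun e1 ⟨a, ha⟩),
          show ρ h b = b from congrArg Subtype.val (LinearMap.congr_fun e2 ⟨b, hb⟩)]
      exact H20.memIdeal_mul (H20.memRing_of_isIntegral (hi₁ h)) (hm₂ h e2)
    · show MemLocalIdeal M (ψ₁ 1 h * ψ₂ 1 h)
      rw [mul_comm]
      exact H20.memIdeal_mul (H20.memRing_of_isIntegral (hi₂ h)) (hm₁ h e1)

/-- Every coprime self-dual module has weight functions. -/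
theorem exists_goodWeight (hH : ¬ p ∣ Nat.card H) {M : Ideal AlgInt} (hM : IsPModular p M) {ζ : ℂ}
    (hζ : IsPrimitiveRoot ζ p) (ρ : Representation (ZMod p) H U)
    (B : LinearMap.BilinForm (ZMod p) U) (hinv : ∀ h x y, B (ρ h x) (ρ h y) = B x y)
    (hnd : ∀ x, (∀ y, B x y = 0) → x = 0) : GoodWeight ζ M ρ := by
  haveI : Module.Finite (ZMod p) U := Module.Finite.of_finite
  obtain ⟨U₁, U₂, hinf, hsup, h₁, h₂, ⟨A, halt, hAi, hAn⟩, ⟨S, hs, hSi, hSn⟩, htriv⟩ :=
    SelfDual.good_all (p := p) (ρ := ρ) (B := B) (natCast_ne_zero_of_coprime hH) ⊤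
      (fun g w _ => Submodule.mem_top) (fun g x _ y _ => hinv g x y)
      (fun x _ hx => hnd x fun y => hx y Submodule.mem_top)
  have hc : IsCompl U₁ U₂ := ⟨disjoint_iff.mpr hinf, codisjoint_iff.mpr hsup⟩
  refine goodWeight_sum hM ρ h₁ h₂ hc
    (goodWeight_alt hH hM ζ _ (A.compl₁₂ U₁.subtype U₁.subtype) (fun x => halt _)
      (fun h x y => hAi h x x.2 y y.2)
      (fun x hx => Subtype.ext (hAn x x.2 fun y hy => hx ⟨y, hy⟩))) ?_
  by_cases hp2 : p = 2
  · exact goodWeight_trivial ζ M _ fun g => LinearMap.ext fun w => Subtype.ext (htriv hp2 g w w.2)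
  · exact goodWeight_symm hH hp2 hM hζ _ (S.compl₁₂ U₂.subtype U₂.subtype) (fun x y => hs _ _)
      (fun h x y => hSi h x x.2 y y.2)
      (fun x hx => Subtype.ext (hSn x x.2 fun y hy => hx ⟨y, hy⟩))

end Sum

end H19
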